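/-
Hall's theorem 5.8.1: a 4-transitive group with four-point stabiliser of odd order is S4, S5, A6, A7 or M11.
First part: tools, and the four-group.
-/
import Cfsg.Agent.Perm.HallKP2
import Cfsg.Agent.Spor.Sharp4

set_option autoImplicit false

namespace CL.Perm

open Equiv MulAction Pointwise CL.Spor

theorem conj_of_odd_mul {X : Type*} [Group X] {t t' : X} (ht : t * t = 1) (ht' : t' * t' = 1)
    (h : Odd (orderOf (t' * t))) : ∃ e ∈ Subgroup.zpowers (t' * t), t' = e * t * e⁻¹ := by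
  obtain ⟨k, hk⟩ := h
  have h1 : t * (t' * t)⁻¹ * t⁻¹ = t' * t := by
    rw [mul_inv_rev, inv_eq_of_mul_eq_one_right ht, inv_eq_of_mul_eq_one_right ht', ← mul_assoc, ht, one_mul]
  refine ⟨(t' * t) ^ (k + 1), Subgroup.npow_mem_zpowers _ _, ?_⟩
  have h2 : t * ((t' * t) ^ (k + 1))⁻¹ = (t' * t) ^ (k + 1) * t := by
    have h3 : t * (t' * t)⁻¹ ^ (k + 1) * t⁻¹ = (t' * t) ^ (k + 1) := by rw [← conj_pow, h1]
    rw [← inv_pow, ← h3, inv_mul_cancel_right]
  rw [mul_assoc, h2, ← mul_assoc, ← pow_add, show k + 1 + (k + 1) = (2 * k + 1) + 1 by ring, pow_succ, ← hk,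
    pow_orderOf_eq_one, one_mul, mul_assoc, ht, mul_one]

theorem inv_of_centralizer_trivial {X : Type*} [Group X] {H : Subgroup X} {a : X} (ha : a * a = 1)
    (hn : ∀ h ∈ H, a * h * a⁻¹ ∈ H) (hodd : ∀ h ∈ H, Odd (orderOf h)) (hc : ∀ h ∈ H, a * h = h * a → h = 1)
    {h : X} (hh : h ∈ H) : a * h * a⁻¹ = h⁻¹ := by
  have hai : a⁻¹ = a := inv_eq_of_mul_eq_one_right ha
  have hy : h⁻¹ * (a * h * a⁻¹) ∈ H := H.mul_mem (H.inv_mem hh) (hn h hh)
  obtain ⟨k, hk⟩ := hodd _ hy
  set y := h⁻¹ * (a * h * a⁻¹) with hyd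
  have h1 : a * y * a⁻¹ = y⁻¹ := by
    rw [hyd, hai]
    calc a * (h⁻¹ * (a * h * a)) * a = a * h⁻¹ * a * h * (a * a) := by group
      _ = (h⁻¹ * (a * h * a))⁻¹ := by rw [ha]; simp [mul_assoc, hai]
  have h2 : a * y ^ (k + 1) * a⁻¹ = (y ^ (k + 1))⁻¹ := by rw [← conj_pow, h1, inv_pow]
  have h3 : y ^ (k + 1) * y ^ (k + 1) = y := by
    rw [← pow_add, show k + 1 + (k + 1) = (2 * k + 1) + 1 by ring, pow_succ, ← hk, pow_orderOf_eq_one, one_mul]
  have h4 : h * y ^ (k + 1) = 1 := by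
    refine hc _ (H.mul_mem hh (H.pow_mem hy _)) ?_
    have : a * (h * y ^ (k + 1)) * a⁻¹ = h * y ^ (k + 1) := by
      calc a * (h * y ^ (k + 1)) * a⁻¹ = h * (h⁻¹ * (a * h * a⁻¹)) * (a * y ^ (k + 1) * a⁻¹) := by group
        _ = h * (y ^ (k + 1) * y ^ (k + 1)) * (y ^ (k + 1))⁻¹ := by rw [h2, h3]
        _ = _ := by group
    exact mul_inv_eq_iff_eq_mul.1 this
  have h5 : h = (y ^ (k + 1))⁻¹ := eq_inv_of_mul_eq_one_left h4
  calc a * h * a⁻¹ = (a * y ^ (k + 1) * a⁻¹)⁻¹ := by rw [h5]; group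
    _ = h⁻¹ := by rw [h2, ← h5]

variable {α : Type*} [Fintype α] [DecidableEq α]

omit [Fintype α] [DecidableEq α] in
theorem pow_odd_apply {g : Perm α} {m : ℕ} (hm : Odd m) {a : α} (h : g (g a) = a) : (g ^ m) a = g a := by
  obtain ⟨k, rfl⟩ := hm
  rw [pow_succ', Perm.mul_apply, pow_mul, Perm.pow_apply_eq_self_of_apply_eq_self (by simpa [pow_two] using h)]

omit [Fintype α] [DecidableEq α] in
theorem fix_of_odd {g : Perm α} (hg : Odd (orderOf g)) {a : α} (h : g (g a) = a) : g a = a := by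
  rw [← pow_odd_apply hg h, pow_orderOf_eq_one, Perm.one_apply]

omit [DecidableEq α] in
/-- Witt: the normaliser of a Sylow subgroup `P` of the pointwise stabiliser of `A` carries `A` to any tuple of fixed
points of `P` to which the group carries it. -/
theorem exists_normalizer_eq_on {G : Subgroup (Perm α)} {A : Finset α} {p : ℕ} [Fact p.Prime]
    {P : Subgroup (Perm α)} (hP : CL.Grp.IsSylowIn p P (fixIn G A)) {g : Perm α} (hg : g ∈ G)
    (h : ∀ a ∈ A, ∀ y ∈ P, y (g a) = g a) :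
    ∃ k ∈ G, k ∈ Subgroup.normalizer (P : Set (Perm α)) ∧ ∀ a ∈ A, k a = g a := by
  have h1 : MulAut.conj g⁻¹ • P ≤ fixIn G A := by
    rw [CL.Grp.conj_smul_le_iff]
    intro y hy
    refine ⟨G.mul_mem (G.mul_mem (G.inv_mem hg) (hP.le hy).1) (G.inv_mem (G.inv_mem hg)), fun a ha => ?_⟩
    simp [h a ha y hy]
  have h2 := hP.of_card_le (CL.Grp.IsPGroup.conj_smul hP.isPGroup g⁻¹) h1 (CL.Grp.card_conj_smul _ _).ge
  obtain ⟨k, hk, e⟩ := h2.exists_conj_eq hP
  rw [CL.Grp.conj_smul_conj_smul, CL.Grp.conj_smul_eq_self_iff] at e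
  refine ⟨(k * g⁻¹)⁻¹, G.inv_mem (G.mul_mem hk.1 (G.inv_mem hg)), Subgroup.inv_mem _ e, fun a ha => ?_⟩
  rw [Perm.inv_eq_iff_eq]
  simp [hk.2 a ha]

theorem alternating_le_of_four_six_seven {X : Subgroup (Perm α)} (hX : IsMultiplyPretransitive X α 4)
    (h : Fintype.card α = 6 ∨ Fintype.card α = 7) : alternatingGroup α ≤ X := by
  rcases h with h | h
  · have : IsMultiplyPretransitive X α (Nat.card α - 2) := by rw [Nat.card_eq_fintype_card, h]; exact hX
    exact IsMultiplyPretransitive.alternatingGroup_le α X this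
  · have h1 : (Fintype.card α).descFactorial 4 ∣ Nat.card X := by
      obtain ⟨x⟩ : Nonempty (Fin 4 ↪ α) := Function.Embedding.nonempty_of_card_le (by simp [h])
      have h2 := @index_stabilizer_of_transitive X (Fin 4 ↪ α) _ _ x ⟨hX.exists_smul_eq⟩
      rw [Nat.card_eq_fintype_card, Fintype.card_embedding_eq, Fintype.card_fin] at h2
      rw [← h2]
      exact Subgroup.index_dvd_card _
    have h5 : 5 ∣ Nat.card X := (show 5 ∣ (Fintype.card α).descFactorial 4 by rw [h]; decide).trans h1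
    have := Fact.mk Nat.prime_five
    obtain ⟨g, hg⟩ := exists_prime_orderOf_dvd_card' 5 h5
    have hg' : orderOf (g : Perm α) = 5 := by rw [Subgroup.orderOf_coe, hg]
    have hc := Perm.isCycle_of_prime_order' (σ := (g : Perm α)) (by rw [hg']; norm_num) (by rw [hg', h]; norm_num)
    refine (Cfsg.Agent.S0711.result X (k := 4) (by norm_num) (by omega) hX g g.2 hc.ne_one ?_).2
    rw [← hc.orderOf, hg']
    norm_num

/-- A 4-transitive group in which every element fixing four points has odd order. -/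
structure Hall4 (G : Subgroup (Perm α)) : Prop where
  trans : IsMultiplyPretransitive G α 4
  odd : ∀ g ∈ G, ∀ a b c d : α, Dist4 a b c d → g a = a → g b = b → g c = c → g d = d → Odd (orderOf g)

namespace Hall4

variable {G : Subgroup (Perm α)} (S : Hall4 G)
include S

omit [Fintype α] [DecidableEq α] in
theorem exists_map {a b c d a' b' c' d' : α} (h1 : Dist4 a b c d) (h2 : Dist4 a' b' c' d') :
    ∃ g ∈ G, g a = a' ∧ g b = b' ∧ g c = c' ∧ g d = d' := by
  obtain ⟨g, h⟩ := exists_smul4 S.trans h1 h2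
  exact ⟨g, g.2, h⟩

omit [Fintype α] [DecidableEq α] in
theorem eq_one {g : Perm α} (hg : g ∈ G) (h2 : g * g = 1) {a b c d : α} (h : Dist4 a b c d) (ha : g a = a)
    (hb : g b = b) (hc : g c = c) (hd : g d = d) : g = 1 := by
  ext x
  exact fix_of_odd (S.odd g hg a b c d h ha hb hc hd) (by rw [← Perm.mul_apply, h2]; rfl)

omit [Fintype α] [DecidableEq α] in
/-- An element whose square fixes four points has an odd power that is an involution. -/
theorem exists_invol {g : Perm α} (hg : g ∈ G) {a b c d : α} (h : Dist4 a b c d) (ha : g (g a) = a)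
    (hb : g (g b) = b) (hc : g (g c) = c) (hd : g (g d) = d) : ∃ m : ℕ, Odd m ∧ g ^ m * g ^ m = 1 := by
  refine ⟨_, S.odd (g * g) (G.mul_mem hg hg) a b c d h ha hb hc hd, ?_⟩
  rw [← (Commute.refl g).mul_pow, pow_orderOf_eq_one]

omit [Fintype α] [DecidableEq α] in
/-- An involution swapping `a, b` and fixing `c, d` that commutes with a given involution `(a b)(c d)⋯`. -/
theorem exists_comm {x : Perm α} (hx : x ∈ G) (hxx : x * x = 1) {a b c d : α} (h : Dist4 a b c d) (ha : x a = b)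
    (hc : x c = d) : ∃ z ∈ G, z * z = 1 ∧ z * x = x * z ∧ z a = b ∧ z b = a ∧ z c = c ∧ z d = d := by
  have hxi : ∀ u, x (x u) = u := fun u => by rw [← Perm.mul_apply, hxx]; rfl
  have hb : x b = a := by rw [← ha, hxi]
  have hd : x d = c := by rw [← hc, hxi]
  obtain ⟨g, hg, g1, g2, g3, g4⟩ := S.exists_map h
    (⟨h.1, h.2.2.1, h.2.1, h.2.2.2.2.1, h.2.2.2.1, h.2.2.2.2.2.symm⟩ : Dist4 a b d c)
  obtain ⟨m, hm, hmm⟩ := S.exists_invol hg h (by rw [g1, g1]) (by rw [g2, g2]) (by rw [g3, g4]) (by rw [g4, g3])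
  set t := g ^ m with ht
  have t1 : t a = a := by rw [ht, pow_odd_apply hm (by rw [g1, g1]), g1]
  have t2 : t b = b := by rw [ht, pow_odd_apply hm (by rw [g2, g2]), g2]
  have t3 : t c = d := by rw [ht, pow_odd_apply hm (by rw [g3, g4]), g3]
  have t4 : t d = c := by rw [ht, pow_odd_apply hm (by rw [g4, g3]), g4]
  have hy : t * x ∈ G := G.mul_mem (G.pow_mem hg m) hx
  have y1 : (t * x) a = b := by rw [Perm.mul_apply, ha, t2]
  have y2 : (t * x) b = a := by rw [Perm.mul_apply, hb, t1]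
  have y3 : (t * x) c = c := by rw [Perm.mul_apply, hc, t4]
  have y4 : (t * x) d = d := by rw [Perm.mul_apply, hd, t3]
  obtain ⟨l, hl, hll⟩ := S.exists_invol hy h (by rw [y1, y2]) (by rw [y2, y1]) (by rw [y3, y3]) (by rw [y4, y4])
  refine ⟨(t * x) ^ l, G.pow_mem hy l, hll, ?_, by rw [pow_odd_apply hl (by rw [y1, y2]), y1],
    by rw [pow_odd_apply hl (by rw [y2, y1]), y2], by rw [pow_odd_apply hl (by rw [y3, y3]), y3],
    by rw [pow_odd_apply hl (by rw [y4, y4]), y4]⟩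
  have h1 : x * (t * x) * x⁻¹ = (t * x)⁻¹ := by
    rw [mul_inv_rev, inv_eq_of_mul_eq_one_right hxx, inv_eq_of_mul_eq_one_right hmm, mul_assoc, mul_assoc, hxx,
      mul_one]
  have h2 : x * (t * x) ^ l * x⁻¹ = (t * x) ^ l := by
    rw [← conj_pow, h1, inv_pow, inv_eq_of_mul_eq_one_right hll]
  rw [← h2, mul_assoc, inv_mul_cancel, mul_one, h2]

omit [Fintype α] [DecidableEq α] in
/-- Points fixed by one involution and moved by a commuting element. -/
theorem pair_fix {a b : Perm α} (ha : a ∈ G) (haa : a * a = 1) (ha1 : a ≠ 1) (hab : a * b = b * a) {u v : α}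
    (huv : u ≠ v) (hu : a u = u) (hv : a v = v) (hbu : b u = v) (hbv : b v = u) {x : α} (hx : a x = x)
    (hbx : b x ≠ x) : x = u ∨ x = v := by
  by_contra hcon
  push Not at hcon
  refine ha1 (S.eq_one ha haa (a := u) (b := v) (c := x) (d := b x) ⟨huv, hcon.1.symm, ?_, hcon.2.symm, ?_,
    hbx.symm⟩ hu hv hx ?_)
  · intro e; exact hcon.2 (b.injective (by rw [← e, hbv]))
  · intro e; exact hcon.1 (b.injective (by rw [← e, hbu]))
  · rw [← Perm.mul_apply, hab, Perm.mul_apply, hx]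

end Hall4

end CL.Perm
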