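/-
The normalizer `3 ^ 3 : S₄` in `A₉` of the group generated by three disjoint `3`-cycles: explicit facts.
-/
import Cfsg.Agent.Perm.Nine6
import Cfsg.Agent.Odd.RelBasic

set_option autoImplicit false

namespace CL.Perm.A9N

open Subgroup Equiv

/-- the code of a permutation -/
def cd (p : Perm (Fin 9)) : ℕ := (p 0).1 + 16 * ((p 1).1 + 16 * ((p 2).1 + 16 * ((p 3).1 + 16 * ((p 4).1 +
  16 * ((p 5).1 + 16 * ((p 6).1 + 16 * ((p 7).1 + 16 * (p 8).1)))))))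

/-- a digit of a code -/
def ap (a i : ℕ) : ℕ := a / 16 ^ i % 16

/-- the product of codes -/
def mc (a b : ℕ) : ℕ := ap a (ap b 0) + 16 * (ap a (ap b 1) + 16 * (ap a (ap b 2) + 16 * (ap a (ap b 3) +
  16 * (ap a (ap b 4) + 16 * (ap a (ap b 5) + 16 * (ap a (ap b 6) + 16 * (ap a (ap b 7) + 16 * ap a (ap b 8))))))))

theorem ap_cd (p : Perm (Fin 9)) (i : Fin 9) : ap (cd p) i = p i := by
  have := (p 0).2; have := (p 1).2; have := (p 2).2; have := (p 3).2; have := (p 4).2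
  have := (p 5).2; have := (p 6).2; have := (p 7).2; have := (p 8).2
  fin_cases i <;> simp [ap, cd] <;> omega

theorem cd_inj {p q : Perm (Fin 9)} : cd p = cd q ↔ p = q :=
  ⟨fun h => Equiv.ext fun i => Fin.ext (by rw [← ap_cd, h, ap_cd]), congrArg cd⟩

theorem cd_mul (p q : Perm (Fin 9)) : cd (p * q) = mc (cd p) (cd q) := by
  have h : ∀ i : Fin 9, ap (cd p) (ap (cd q) i) = (p * q) i := fun i => by rw [ap_cd, ap_cd]; rfl
  rw [cd, ← h, ← h, ← h, ← h, ← h, ← h, ← h, ← h, ← h]; rfl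

/-- the generators -/
def gn : Fin 4 → Perm (Fin 9) := ![swap 0 1 * swap 1 2,
  swap 0 3 * swap 3 6 * (swap 1 4 * swap 4 7) * (swap 2 5 * swap 5 8), swap 0 1 * swap 3 4,
  swap 0 3 * swap 1 4 * swap 2 5 * swap 6 7]

/-- the elements of `3 ^ 3` -/
def cJ : List ℕ := [36344967696, 36344967201, 36342940176, 28040245776, 36344967426, 36342939681, 28040245281,
  36343861776, 28038218256, 31815119376, 36342939906, 28040245506, 36343861281, 28038217761, 31815118881,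
  28039139856, 31813091856, 36343861506, 28038217986, 31815119106, 28039139361, 31813091361, 31814013456,
  28039139586, 31813091586, 31814012961, 31814013186]

/-- the elements of the complement `S₄` -/
def cW : List ℕ := [36344967696, 8867243331, 36344906241, 36089955651, 22601074806, 8867181876, 8612231286,
  8615585076, 36089894196, 22607720976, 22601013351, 22356124176, 22349416551, 8612169831, 36341552451, 22349355126,
  8615523651, 8863828086, 22356062721, 8863889511, 22607782401, 36093309441, 36093248016, 36341613876]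

/-- words for the elements of `cJ` and `cW` -/
def wJW : List (List (Fin 4)) := [[], [0], [3, 0, 3], [1, 1, 0, 1], [0, 0], [0, 3, 0, 3], [0, 1, 1, 0, 1], [3, 0, 0,
  3], [1, 0, 1, 0, 1], [1, 1, 0, 0, 1], [0, 0, 3, 0, 3], [0, 0, 1, 1, 0, 1], [0, 3, 0, 0, 3], [0, 1, 0, 1, 0, 1],
  [0, 1, 1, 0, 0, 1], [1, 0, 0, 1, 0, 1], [1, 0, 1, 0, 0, 1], [0, 0, 3, 0, 0, 3], [0, 0, 1, 0, 1, 0, 1], [0, 0, 1,
  1, 0, 0, 1], [0, 1, 0, 0, 1, 0, 1], [0, 1, 0, 1, 0, 0, 1], [1, 0, 0, 1, 0, 0, 1], [0, 0, 1, 0, 0, 1, 0, 1], [0, 0,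
  1, 0, 1, 0, 0, 1], [0, 1, 0, 0, 1, 0, 0, 1], [0, 0, 1, 0, 0, 1, 0, 0, 1], [], [1], [2], [3], [1, 1], [1, 2], [1,
  3], [2, 1], [2, 3], [3, 1], [1, 1, 2], [1, 1, 3], [1, 2, 1], [1, 2, 3], [1, 3, 1], [2, 1, 1], [2, 1, 2], [2, 1,
  3], [2, 3, 1], [3, 1, 1], [3, 1, 2], [1, 1, 2, 1], [1, 2, 1, 1], [1, 3, 1, 2]]

/-- the code of `1` -/
def c1 : ℕ := 36344967696

/-- the codes of the generators -/
def gc : Fin 4 → ℕ := ![36344967201, 8867243331, 36344906241, 36089955651]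

/-- the code of a word -/
def cw : List (Fin 4) → ℕ
  | [] => c1
  | i :: l => mc (gc i) (cw l)

/-- powers of codes -/
def pc (a : ℕ) : ℕ → ℕ
  | 0 => c1
  | n + 1 => mc (pc a n) a

theorem cd_gn : cd 1 = c1 ∧ ∀ i, cd (gn i) = gc i := by decide +kernel

theorem words : cJ ++ cW = wJW.map cw := by decide +kernel

theorem cJ_mul : ∀ a ∈ cJ, mc a (mc a a) = c1 ∧ ∀ b ∈ cJ, mc a b ∈ cJ ∧ mc a b = mc b a := by decide +kernel

theorem cW_conj : ∀ w ∈ cW, ∀ a ∈ cJ, ∃ b ∈ cJ, mc w a = mc b w := by decide +kernel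

theorem cW_mul : ∀ v ∈ cW, ∀ w ∈ cW, mc v w ∈ cW := by decide +kernel

theorem d2 : ∀ w ∈ cW, mc (cw [0]) w = mc w (cw [0]) → mc (cw [1, 1, 0, 1]) w = mc w (cw [1, 1, 0, 1]) →
    w = c1 := by decide +kernel

theorem d3 : ∀ w ∈ cW, w = c1 ∨ ∃ u ∈ cW, u ≠ c1 ∧ mc u u = c1 ∧ ∃ v ∈ cW, mc v w = mc w (mc u v) := by
  decide +kernel

theorem d4 : ∀ j ∈ cJ, ∀ w ∈ cW, mc w j = mc j w → j = c1 ∨ (∃ v ∈ cW, mc v (cw [1, 1, 0, 1]) = mc j v) ∨
    ∀ i ∈ cJ, pc (mc i w) 18 = c1 := by decide +kernel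

theorem d5 : ∀ w ∈ cW, mc w (cw [1, 1, 0, 1]) = mc (cw [1, 1, 0, 1]) w → ∀ j ∈ cJ, pc (mc j w) 3 = c1 → w = c1 := by
  decide +kernel

theorem d6 : ∀ y ∈ [[1], [1, 0], [1, 0, 0]], (∀ j ∈ cJ, ∀ w ∈ cW, mc (mc j w) (cw y) = mc (cw y) (mc j w) →
    ∃ i l : Fin 3, mc (pc (cw y) i) (pc (cw [0, 1, 0, 1, 0, 1]) l) = mc j w) ∧
    (∀ i l i' l' : Fin 3, mc (pc (cw y) i) (pc (cw [0, 1, 0, 1, 0, 1]) l) =
      mc (pc (cw y) i') (pc (cw [0, 1, 0, 1, 0, 1]) l') → i = i' ∧ l = l') ∧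
    mc (cw [0, 1, 0, 1, 0, 1]) (cw y) = mc (cw y) (cw [0, 1, 0, 1, 0, 1]) ∧ cw y ∉ cJ ∧ pc (cw y) 9 = c1 ∧
    ∃ v ∈ [[2, 3], [1, 3, 0, 2], [0, 2, 3, 0]], mc (cw v) (cw y) = mc (pc (cw y) 2) (cw v) := by decide +kernel

theorem d7 : ∀ j ∈ cJ, ∀ w ∈ cW, mc (mc j w) (cw [1, 0]) ≠ mc (cw [1, 0, 0]) (mc j w) := by decide +kernel

theorem d8 : ∀ w ∈ cW, (w = c1 ∨ w = cw [1, 2, 1, 1] ∨ w = cw [1, 1, 2, 1] ∨
    w = mc (cw [1, 2, 1, 1]) (cw [1, 1, 2, 1])) ∨ ∃ v ∈ cW, ∃ a ∈ cW, mc v w = mc a v ∧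
      ∃ v' ∈ cW, mc (cw [1]) v' = mc a (mc v' w) := by decide +kernel

theorem d9 : ∀ j ∈ cJ, ∃ i l m : Fin 3, j = mc (mc (pc (cw [0]) i) (pc (cw [3, 0, 3]) l))
    (pc (cw [1, 1, 0, 1]) m) := by decide +kernel

/-- the group -/
abbrev K0 : Subgroup (Perm (Fin 9)) := closure {swap 0 1 * swap 1 2,
  swap 0 3 * swap 3 6 * (swap 1 4 * swap 4 7) * (swap 2 5 * swap 5 8), swap 0 1 * swap 3 4,
  swap 0 3 * swap 1 4 * swap 2 5 * swap 6 7}

/-- the generators as elements of the group -/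
def ge (i : Fin 4) : K0 := ⟨gn i, subset_closure (by fin_cases i <;> simp [gn])⟩

/-- the value of a word -/
def wd (l : List (Fin 4)) : K0 := (l.map ge).prod

/-- the code of an element -/
def ck (k : K0) : ℕ := cd k

theorem ck_inj {p q : K0} : p = q ↔ ck p = ck q := Subtype.ext_iff.trans cd_inj.symm

theorem ck_mul (p q : K0) : ck (p * q) = mc (ck p) (ck q) := cd_mul _ _

theorem ck_one : ck 1 = c1 := cd_gn.1

theorem ck_pow (p : K0) (n : ℕ) : ck (p ^ n) = pc (ck p) n := by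
  induction n with
  | zero => rw [pow_zero, ck_one]; rfl
  | succ n ih => rw [pow_succ, ck_mul, ih]; rfl

theorem ck_wd (l : List (Fin 4)) : ck (wd l) = cw l := by
  induction l with
  | nil => exact ck_one
  | cons i l ih => rw [cw, ← ih, ← cd_gn.2]; exact cd_mul _ _

theorem exJ {c : ℕ} (h : c ∈ cJ) : ∃ k, ck k = c := by
  obtain ⟨l, -, e⟩ := List.mem_map.1 (words ▸ List.mem_append_left cW h)
  exact ⟨wd l, (ck_wd l).trans e⟩

theorem exW {c : ℕ} (h : c ∈ cW) : ∃ k, ck k = c := by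
  obtain ⟨l, -, e⟩ := List.mem_map.1 (words ▸ List.mem_append_right cJ h)
  exact ⟨wd l, (ck_wd l).trans e⟩

/-- a finite submonoid is a subgroup -/
def sub (L : List ℕ) (h1 : c1 ∈ L) (h : ∀ a ∈ L, ∀ b ∈ L, mc a b ∈ L) : Subgroup K0 where
  carrier := {k | ck k ∈ L}
  one_mem' := show ck 1 ∈ L from ck_one ▸ h1
  mul_mem' := fun {a b} ha hb => show ck (a * b) ∈ L from ck_mul a b ▸ h _ ha _ hb
  inv_mem' := fun {a} ha => by
    obtain ⟨n, e⟩ := (isOfFinOrder_of_finite a).mem_powers_iff_mem_zpowers.2 (inv_mem (mem_zpowers a))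
    rw [← e]
    clear e
    induction n with
    | zero => exact show ck 1 ∈ L from ck_one ▸ h1
    | succ n ih => exact show ck (a ^ (n + 1)) ∈ L from pow_succ a n ▸ ck_mul _ a ▸ h _ ih _ ha

/-- `3 ^ 3` -/
def J0 : Subgroup K0 := sub cJ (by decide) fun a ha b hb => ((cJ_mul a ha).2 b hb).1

/-- `S₄` -/
def W0 : Subgroup K0 := sub cW (by decide) cW_mul

theorem mem_J0 {k : K0} : k ∈ J0 ↔ ck k ∈ cJ := Iff.rfl

theorem J0_cube {j : K0} (h : j ∈ J0) : j ^ 3 = 1 := by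
  rw [pow_three, ck_inj, ck_mul, ck_mul, ck_one]; exact (cJ_mul _ h).1

theorem J0_comm {i j : K0} (hi : i ∈ J0) (h : j ∈ J0) : Commute i j := by
  rw [Commute, SemiconjBy, ck_inj, ck_mul, ck_mul]; exact ((cJ_mul _ hi).2 _ h).2

theorem W0_le : W0 ≤ normalizer (J0 : Set K0) := CL.Odd.le_norm_iff.2 fun w hw a ha => by
  obtain ⟨_, hb, e⟩ := cW_conj _ hw _ ha
  obtain ⟨b, rfl⟩ := exJ hb
  rw [← ck_mul, ← ck_mul, ← ck_inj] at e
  rwa [e, mul_inv_cancel_right]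

theorem dec (k : K0) : ∃ j ∈ J0, ∃ w ∈ W0, k = j * w := by
  refine (CL.Odd.mem_sup_norm W0_le).1 ?_
  obtain ⟨k, hk⟩ := k
  induction hk using closure_induction with
  | mem x hx =>
    have h0 : ge 0 ∈ J0 := show cd (gn 0) ∈ cJ by rw [cd_gn.2]; decide
    have h1 : ∀ i, i ≠ 0 → ge i ∈ W0 := fun i => show _ → cd (gn i) ∈ cW by rw [cd_gn.2]; revert i; decide
    rcases hx with rfl | rfl | rfl | rfl
    exacts [mem_sup_left h0, mem_sup_right (h1 1 (by decide)), mem_sup_right (h1 2 (by decide)),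
      mem_sup_right (h1 3 (by decide))]
  | one => exact one_mem _
  | mul x y _ _ h1 h2 => exact mul_mem h1 h2
  | inv x _ h => exact inv_mem h

instance J0_normal : J0.Normal := normalizer_eq_top_iff.1 (eq_top_iff.2 fun k _ => by
  obtain ⟨j, hj, w, hw, rfl⟩ := dec k
  exact mul_mem (le_normalizer hj) (W0_le hw))

theorem J0_three : IsPGroup 3 J0 := fun j => ⟨1, Subtype.ext (J0_cube j.2)⟩

theorem comm_of {i j w : K0} (hi : i ∈ J0) (hj : j ∈ J0) (h : Commute (i * w) j) : Commute w j := by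
  simpa using (J0_comm hi hj).inv_left.mul_left h

theorem k2 {k : K0} (h1 : Commute k (wd [0])) (h2 : Commute k (wd [1, 1, 0, 1])) : k ∈ J0 := by
  obtain ⟨j, hj, w, hw, rfl⟩ := dec k
  have e1 := (comm_of hj (by rw [mem_J0, ck_wd]; decide +kernel) h1).symm.eq
  have e2 := (comm_of hj (by rw [mem_J0, ck_wd]; decide +kernel) h2).symm.eq
  rw [ck_inj, ck_mul, ck_mul, ck_wd] at e1 e2
  rwa [ck_inj.2 ((d2 _ hw e1 e2).trans ck_one.symm), mul_one]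

theorem k3 : Cfsg.pCore 3 K0 = J0 := by
  have h := CL.Grp.le_pCore J0_three
  refine le_antisymm (fun k hk => ?_) h
  obtain ⟨j, hj, w, hw, rfl⟩ := dec k
  have h1 := (mul_mem_cancel_left (h hj)).1 hk
  rcases d3 _ hw with e | ⟨_, hu, u1, u2, _, hv, e⟩
  · rwa [ck_inj.2 (e.trans ck_one.symm), mul_one]
  obtain ⟨u, rfl⟩ := exW hu
  obtain ⟨v, rfl⟩ := exW hv
  simp only [← ck_mul, ← ck_one, ← ck_inj, ne_eq] at u1 u2 e
  have h2 := (inferInstance : (Cfsg.pCore 3 K0).Normal).conj_mem w h1 v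
  rw [e, ← mul_assoc, mul_inv_cancel_right, mul_mem_cancel_left h1] at h2
  obtain ⟨n, hn⟩ := CL.Grp.pCore_isPGroup 3 K0 ⟨u, h2⟩
  exact absurd (orderOf_eq_one_iff.1 (Nat.eq_one_of_dvd_coprimes ((Nat.coprime_pow_primes 1 n Nat.prime_two
    Nat.prime_three (by decide))) (orderOf_dvd_of_pow_eq_one (by rwa [pow_one, pow_two]))
    (orderOf_dvd_of_pow_eq_one (congrArg Subtype.val hn)))) u1

theorem k4 {j k : K0} (hj : j ∈ J0) (j1 : j ≠ 1) (h : Commute k j) (hk : k ^ 18 ≠ 1) :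
    ∃ v, v * wd [1, 1, 0, 1] * v⁻¹ = j := by
  obtain ⟨i, hi, w, hw, rfl⟩ := dec k
  have e := (comm_of hi hj h).eq
  rw [ck_inj, ck_mul, ck_mul] at e
  rcases d4 _ hj _ hw e with e | ⟨_, hv, e⟩ | e
  · exact absurd (ck_inj.2 (e.trans ck_one.symm)) j1
  · obtain ⟨v, rfl⟩ := exW hv
    rw [← ck_wd, ← ck_mul, ← ck_mul, ← ck_inj] at e
    exact ⟨v, by rw [e, mul_inv_cancel_right]⟩
  · exact absurd (by rw [ck_inj, ck_pow, ck_mul, ck_one, e _ hi]) hk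

theorem k5 {k : K0} (h : Commute k (wd [1, 1, 0, 1])) (h3 : k ^ 3 = 1) : k ∈ J0 := by
  obtain ⟨j, hj, w, hw, rfl⟩ := dec k
  have e := (comm_of hj (by rw [mem_J0, ck_wd]; decide +kernel) h).eq
  rw [ck_inj, ck_mul, ck_mul, ck_wd] at e
  rw [ck_inj, ck_pow, ck_mul, ck_one] at h3
  rwa [ck_inj.2 ((d5 _ hw e _ hj h3).trans ck_one.symm), mul_one]

theorem k6 {y : List (Fin 4)} (hy : y ∈ [[1], [1, 0], [1, 0, 0]]) : wd y ∉ J0 ∧ wd y ^ 9 = 1 ∧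
    IsConj (wd y) (wd y ^ 2) ∧ Nat.card (centralizer ({wd y} : Set K0)) = 9 ∧
    wd [0, 1, 0, 1, 0, 1] * wd y = wd y * wd [0, 1, 0, 1, 0, 1] := by
  obtain ⟨h1, h2, h3, h4, h5, v, -, h6⟩ := d6 y hy
  simp only [← ck_wd, ← ck_pow, ← ck_mul, ← ck_one, ← ck_inj] at h2 h3 h4 h5 h6
  refine ⟨h4, h5, isConj_iff.2 ⟨wd v, by rw [h6, mul_inv_cancel_right]⟩, ?_, h3⟩
  refine (Nat.card_eq_of_bijective (fun p : Fin 3 × Fin 3 => (⟨wd y ^ p.1.1 * wd [0, 1, 0, 1, 0, 1] ^ p.2.1,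
    mul_mem (pow_mem (mem_centralizer_singleton_iff.2 rfl) _) (pow_mem (mem_centralizer_singleton_iff.2 h3) _)⟩ :
      centralizer ({wd y} : Set K0))) ⟨fun p q e => ?_, fun k => ?_⟩).symm.trans (by simp)
  · exact Prod.ext_iff.2 (h2 _ _ _ _ (congrArg Subtype.val e))
  · obtain ⟨j, hj, w, hw, e⟩ := dec k
    have h7 := mem_centralizer_singleton_iff.1 k.2
    rw [e, ck_inj, ck_mul, ck_mul, ck_mul, ck_mul, ck_wd] at h7
    obtain ⟨i, l, h8⟩ := h1 _ hj _ hw h7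
    simp only [← ck_wd, ← ck_pow, ← ck_mul, ← ck_inj] at h8
    exact ⟨(i, l), Subtype.ext (h8.trans e.symm)⟩

theorem k7 (k : K0) : k * wd [1, 0] * k⁻¹ ≠ wd [1, 0, 0] := fun e => by
  obtain ⟨j, hj, w, hw, rfl⟩ := dec k
  rw [mul_inv_eq_iff_eq_mul, ck_inj, ck_mul, ck_mul, ck_mul, ck_mul, ck_wd, ck_wd] at e
  exact d7 _ hj _ hw e

theorem k9 {j : K0} (hj : j ∈ J0) : ∃ i l m : ℤ, j = wd [0] ^ i * wd [3, 0, 3] ^ l * wd [1, 1, 0, 1] ^ m := by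
  obtain ⟨i, l, m, e⟩ := d9 _ hj
  simp only [← ck_wd, ← ck_pow, ← ck_mul, ← ck_inj] at e
  exact ⟨i.1, l.1, m.1, by simpa using e⟩

/-- the four-group -/
def V0 : Subgroup K0 := sub [c1, cw [1, 2, 1, 1], cw [1, 1, 2, 1], mc (cw [1, 2, 1, 1]) (cw [1, 1, 2, 1])]
  (by simp) (by decide +kernel)

theorem mem_V0' {w : K0} : w ∈ V0 ↔ ck w = c1 ∨ ck w = cw [1, 2, 1, 1] ∨ ck w = cw [1, 1, 2, 1] ∨
    ck w = mc (cw [1, 2, 1, 1]) (cw [1, 1, 2, 1]) := by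
  rw [← List.mem_singleton (b := mc _ _), ← List.mem_cons, ← List.mem_cons, ← List.mem_cons]; rfl

theorem mem_V0 : wd [1, 2, 1, 1] ∈ V0 ∧ wd [1, 1, 2, 1] ∈ V0 := by simp [mem_V0', ck_wd]

theorem k10 {k : K0} (h : k ∈ J0 ⊔ V0) : ∃ j ∈ J0, k = j ∨ k = j * wd [1, 2, 1, 1] ∨ k = j * wd [1, 1, 2, 1] ∨
    k = j * (wd [1, 2, 1, 1] * wd [1, 1, 2, 1]) := by
  obtain ⟨j, hj, w, hw, rfl⟩ := (CL.Odd.mem_sup_norm (by rw [normalizer_eq_top]; exact le_top)).1 h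
  have e := mem_V0'.1 hw
  simp only [← ck_wd, ← ck_mul, ← ck_one, ← ck_inj] at e
  exact ⟨j, hj, by simpa using e⟩

theorem k8 {N : Subgroup K0} [hN : N.Normal] (h1 : wd [1, 1, 0, 1] ∈ N) (h2 : wd [1] ∉ N) :
    J0 ≤ N ∧ N ≤ J0 ⊔ V0 := by
  have hJ : J0 ≤ N := fun j hj => by
    obtain ⟨i, l, m, rfl⟩ := k9 hj
    have a := hN.conj_mem _ h1 (wd [1])
    have b := hN.conj_mem _ h1 (wd [1, 1])
    rw [mul_inv_eq_iff_eq_mul.2 (show _ = wd [0] * _ by simp only [ck_inj, ck_mul, ck_wd]; decide +kernel)] at a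
    rw [mul_inv_eq_iff_eq_mul.2 (show _ = wd [3, 0, 3] * _ by
      simp only [ck_inj, ck_mul, ck_wd]; decide +kernel)] at b
    exact mul_mem (mul_mem (zpow_mem a _) (zpow_mem b _)) (zpow_mem h1 _)
  refine ⟨hJ, fun k hk => ?_⟩
  obtain ⟨j, hj, w, hw, rfl⟩ := dec k
  have h3 := (mul_mem_cancel_left (hJ hj)).1 hk
  rcases d8 _ hw with e | ⟨_, hv, _, ha, e, _, hv', e'⟩
  · exact mul_mem_sup hj (mem_V0'.2 e)
  obtain ⟨v, rfl⟩ := exW hv
  obtain ⟨a, rfl⟩ := exW ha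
  obtain ⟨v', rfl⟩ := exW hv'
  simp only [← ck_wd, ← ck_mul, ← ck_inj] at e e'
  have := mul_mem (hN.conj_mem w h3 v) (hN.conj_mem w h3 v')
  rw [e, mul_inv_cancel_right, ← mul_assoc, ← e', mul_inv_cancel_right] at this
  exact absurd this h2

end CL.Perm.A9N
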