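/-
Spectrum toolkit: Mazurov's lemma on covers of Frobenius groups with cyclic complement.
-/
import Cfsg.Agent.Perm.SpecThree
import Cfsg.Agent.Grp.Coprime2

namespace CL.Perm

open Cfsg CL.Grp

/-- If the powers of `h` act without fixed points on `R` and the norm of `h` vanishes in a
representation, then the norm of `R` is multiplication by `|R|`. -/
theorem card_eq_sum_of_norm_eq_zero {A S : Type*} [Group A] [Ring S] (φ : A →* S) (R : Subgroup A)
    [Fintype R] {h : A} (hn : h ∈ Subgroup.normalizer (R : Set A)) {m : ℕ} (hm : 0 < m)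
    (hf : ∀ i, 0 < i → i < m → ∀ x ∈ R, x * h ^ i = h ^ i * x → x = 1)
    (h0 : ∑ i ∈ Finset.range m, φ h ^ i = 0) : (Fintype.card R : S) = ∑ r : R, φ r := by
  have h1 : ∀ i, 0 < i → i < m →
      ∑ x : R, φ x * φ h ^ i * φ (x : A)⁻¹ = (∑ r : R, φ r) * φ h ^ i := by
    intro i hi him
    have hni := pow_mem hn i
    let f : R → R := fun x => ⟨x * (h ^ i * (x : A)⁻¹ * (h ^ i)⁻¹),
      mul_mem x.2 ((Subgroup.mem_normalizer_iff.1 hni _).1 (inv_mem x.2))⟩
    have hinj : Function.Injective f := by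
      intro x y hxy
      have e : (x : A) * (h ^ i * (x : A)⁻¹ * (h ^ i)⁻¹) = y * (h ^ i * (y : A)⁻¹ * (h ^ i)⁻¹) :=
        congrArg Subtype.val hxy
      have h2 := hf i hi him ((y : A)⁻¹ * x) (mul_mem (inv_mem y.2) x.2) (by
        calc (y : A)⁻¹ * x * h ^ i = (y : A)⁻¹ * (x * (h ^ i * (x : A)⁻¹ * (h ^ i)⁻¹)) * h ^ i * x := by group
          _ = _ := by rw [e]; group)
      exact Subtype.ext (inv_mul_eq_one.1 h2).symm
    rw [← (Finite.injective_iff_bijective.1 hinj).sum_comp (fun r : R => φ r), Finset.sum_mul]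
    refine Finset.sum_congr rfl fun x _ => ?_
    rw [← map_pow, ← map_mul, ← map_mul, ← map_mul]
    congr 1
    simp only [f]
    group
  have h2 : ∑ i ∈ Finset.range m, ∑ x : R, φ x * φ h ^ i * φ (x : A)⁻¹ = 0 := by
    rw [Finset.sum_comm]
    refine Finset.sum_eq_zero fun x _ => ?_
    rw [← Finset.sum_mul, ← Finset.mul_sum, h0, mul_zero, zero_mul]
  obtain ⟨k, rfl⟩ := Nat.exists_eq_succ_of_ne_zero hm.ne'
  rw [Finset.sum_range_succ'] at h0 h2
  rw [Finset.sum_congr rfl fun i hi => h1 (i + 1) i.succ_pos (by simpa using hi), ← Finset.mul_sum,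
    eq_neg_of_add_eq_zero_left h0] at h2
  simp only [pow_zero, mul_one, ← map_mul, mul_inv_cancel, map_one, Finset.sum_const,
    Finset.card_univ, nsmul_eq_mul, mul_neg] at h2
  exact (neg_add_eq_zero.1 h2).symm

variable {G : Type*} [Group G]

/-- The action of `N_G(P)` on the abelianization of `P`. -/
def abelAct (P : Subgroup G) :
    Subgroup.normalizer (P : Set G) →* AddMonoid.End (Additive (Abelianization P)) where
  toFun g := MonoidHom.toAdditive (Abelianization.map (P.normalizerMonoidHom g).toMonoidHom)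
  map_one' := by
    ext x
    obtain ⟨y, rfl⟩ : ∃ y : P, Abelianization.of y = x := QuotientGroup.mk_surjective x
    rw [map_one]; rfl
  map_mul' g h := by
    ext x
    obtain ⟨y, rfl⟩ : ∃ y : P, Abelianization.of y = x := QuotientGroup.mk_surjective x
    rw [map_mul]; rfl

theorem abelAct_of (P : Subgroup G) (g : Subgroup.normalizer (P : Set G)) (y : P) :
    abelAct P g (Additive.ofMul (Abelianization.of y)) =
      Additive.ofMul (Abelianization.of (P.normalizerMonoidHom g y)) := rfl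

theorem sum_abelAct_pow (P : Subgroup G) (g : Subgroup.normalizer (P : Set G)) (y : P) (n : ℕ) :
    ∃ z : P, ((y : G) * g) ^ n = z * (g : G) ^ n ∧
      (∑ i ∈ Finset.range n, abelAct P g ^ i) (Additive.ofMul (Abelianization.of y)) =
        Additive.ofMul (Abelianization.of z) := by
  induction n with
  | zero => exact ⟨1, by simp, by simp⟩
  | succ n ih =>
    obtain ⟨z, h1, h2⟩ := ih
    refine ⟨z * P.normalizerMonoidHom (g ^ n) y, ?_, ?_⟩
    · rw [pow_succ, h1, pow_succ]
      change _ = (z : G) * ((g : G) ^ n * y * ((g : G) ^ n)⁻¹) * _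
      group
    · rw [Finset.sum_range_succ, map_mul, ofMul_mul, ← h2, ← abelAct_of, map_pow]; rfl

/-- A Frobenius group `R ⟨h⟩` normalizing a `p`-group `P` of order prime to `|R|`: if all elements of the
coset `P h` have order dividing `m = |h|` then `R` centralizes `P`. -/
theorem le_centralizer_of_coset_pow_eq_one [Finite G] {p : ℕ} [Fact p.Prime] {P R : Subgroup G}
    (hP : IsPGroup p P) (hRP : R ≤ Subgroup.normalizer (P : Set G))
    (hcop : (Nat.card R).Coprime (Nat.card P)) {h : G} (hhP : h ∈ Subgroup.normalizer (P : Set G))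
    (hhR : h ∈ Subgroup.normalizer (R : Set G)) {m : ℕ} (hm : 0 < m)
    (hf : ∀ i, 0 < i → i < m → ∀ x ∈ R, x * h ^ i = h ^ i * x → x = 1)
    (h0 : ∀ y ∈ P, (y * h) ^ m = 1) : R ≤ Subgroup.centralizer (P : Set G) := by
  set L := Subgroup.normalizer (P : Set G) with hL
  let _ := Fintype.ofFinite (R.subgroupOf L)
  have h1 : h ^ m = 1 := by simpa using h0 1 P.one_mem
  have h2 := card_eq_sum_of_norm_eq_zero (abelAct P) (R.subgroupOf L) (h := ⟨h, hhP⟩)
    (Subgroup.mem_normalizer_iff.2 fun x => Subgroup.mem_normalizer_iff.1 hhR x) hm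
    (fun i a b x hx e => Subtype.ext (hf i a b x hx (congrArg Subtype.val e))) (by
      ext x
      obtain ⟨y, rfl⟩ : ∃ y : P, Abelianization.of y = x := QuotientGroup.mk_surjective x
      obtain ⟨z, h3, h4⟩ := sum_abelAct_pow P ⟨h, hhP⟩ y m
      rw [h0 y y.2, h1, mul_one, eq_comm, OneMemClass.coe_eq_one] at h3
      rw [h3] at h4
      exact congrArg Additive.toMul h4)
  have h3 : ∀ (r : R.subgroupOf L) (v : Additive (Abelianization P)), abelAct P r v = v := by
    intro r v
    have h4 : abelAct P r * (Fintype.card (R.subgroupOf L) : AddMonoid.End (Additive (Abelianization P))) =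
        Fintype.card (R.subgroupOf L) := by
      rw [h2, Finset.mul_sum]
      conv_rhs => rw [← (Group.mulLeft_bijective r).sum_comp]
      refine Finset.sum_congr rfl fun x _ => ?_
      rw [← map_mul]; rfl
    have h5 : Fintype.card (R.subgroupOf L) • (abelAct P r v - v) = 0 := by
      have := DFunLike.congr_fun h4 v
      simp only [AddMonoid.End.coe_mul, Function.comp_apply, AddMonoid.End.natCast_apply,
        map_nsmul] at this
      rw [nsmul_sub, this, sub_self]
    have h6 : addOrderOf (abelAct P r v - v) ∣ Nat.card R := by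
      rw [← hall_card_subgroupOf hRP, Nat.card_eq_fintype_card]
      exact addOrderOf_dvd_of_nsmul_eq_zero h5
    have h7 : addOrderOf (abelAct P r v - v) ∣ Nat.card P :=
      (addOrderOf_dvd_natCard _).trans (Subgroup.card_quotient_dvd_card (commutator P))
    exact sub_eq_zero.1 (AddMonoid.addOrderOf_eq_one_iff.1 (Nat.eq_one_of_dvd_coprimes hcop h6 h7))
  refine le_centralizer_of_commutator_le_frattini hRP
    (hcop.coprime_dvd_right (Subgroup.card_subgroup_dvd_card _)) ?_
  rw [Subgroup.commutator_comm, Subgroup.commutator_le]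
  intro r hr y hy
  have h4 := h3 ⟨⟨r, hRP hr⟩, hr⟩ (Additive.ofMul (Abelianization.of ⟨y, hy⟩))
  rw [abelAct_of] at h4
  have h5 : P.normalizerMonoidHom ⟨r, hRP hr⟩ ⟨y, hy⟩ * (⟨y, hy⟩ : P)⁻¹ ∈ commutator P := by
    rw [← Abelianization.ker_of, MonoidHom.mem_ker, map_mul, map_inv, mul_inv_eq_one]
    exact Additive.ofMul.injective h4
  exact ⟨_, commutator_le_frattini hP h5, rfl⟩

theorem mul_mem_spec_of_pow_ne_one [Finite G] (N : Subgroup G) {x : G} {m : ℕ} (hm : m ∣ orderOf x)
    (h1 : x ^ m ∈ N) (h2 : x ^ m ≠ 1) : ∃ p : ℕ, p.Prime ∧ p ∣ Nat.card N ∧ p * m ∈ Spec G := by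
  obtain ⟨p, hp, hd⟩ := Nat.exists_prime_and_dvd (mt orderOf_eq_one_iff.1 h2)
  refine ⟨p, hp, hd.trans (N.orderOf_dvd_natCard h1), mem_spec_of_dvd_orderOf x ?_⟩
  rw [orderOf_pow, Nat.gcd_eq_right hm] at hd
  exact mul_comm m p ▸ Nat.mul_dvd_of_dvd_div hm hd

/-- **Mazurov's lemma**. -/
theorem exists_mul_mem_spec_of_frobenius_quotient [Finite G] (N : Subgroup G) [N.Normal]
    (Fb Hb : Subgroup (G ⧸ N)) [Fb.Normal] (hHb : IsMalnormal Hb)
    (hker : frobeniusKernel Hb = (Fb : Set (G ⧸ N))) (hcyc : IsCyclic Hb)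
    (hcop : (Nat.card Fb).Coprime (Nat.card N))
    (hnot : ¬ Fb ≤ (Subgroup.centralizer (N : Set G)).map (QuotientGroup.mk' N)) :
    ∃ p : ℕ, p.Prime ∧ p ∣ Nat.card N ∧ p * Nat.card Hb ∈ Spec G := by
  by_contra hcon
  set π := QuotientGroup.mk' N with hπ
  obtain ⟨hb, hhb⟩ := IsCyclic.exists_generator (α := Hb)
  have hord : orderOf (hb : G ⧸ N) = Nat.card Hb := by
    rw [Subgroup.orderOf_coe, orderOf_eq_card_of_forall_mem_zpowers hhb]
  have hc1 : (Nat.card Hb).Coprime (Nat.card Fb) := by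
    have h1 := hHb.card_kernel
    rw [hker] at h1
    exact (show Nat.card Fb = Hb.index from h1) ▸ hHb.coprime_card_index
  refine hnot (le_of_forall_exists_isSylowIn_le fun r hr hrF => ?_)
  have := Fact.mk hr
  obtain ⟨Rb, hRb, hHR⟩ := exists_isSylowIn_le_normalizer r (A := Hb) (K := Fb)
    Subgroup.le_normalizer_of_normal hc1 (Or.inl inferInstance)
  refine ⟨Rb, hRb, ?_⟩
  set K := Rb.comap π with hK
  obtain ⟨R, hR⟩ := exists_isSylowIn r K
  have hNK : N ≤ K := fun x hx => by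
    rw [hK, Subgroup.mem_comap, show π x = 1 from (QuotientGroup.eq_one_iff x).2 hx]
    exact one_mem _
  have hfac : ∀ k ∈ K, ∃ a ∈ R, ∃ n ∈ N, a * n = k := by
    obtain ⟨j, hj⟩ := IsPGroup.iff_card.1 hRb.isPGroup
    have h1 := hall_card_mul_relIndex hNK
    rw [hK, hall_card_comap_mk', hj] at h1
    intro k hk
    obtain ⟨n, hn, a, ha, e⟩ := hR.exists_mul_eq_of_relIndex_pow
      (Nat.eq_of_mul_eq_mul_left Nat.card_pos h1) (inv_mem hk)
    exact ⟨a⁻¹, inv_mem ha, n⁻¹, inv_mem hn, by rw [← mul_inv_rev, ← e, inv_inv]⟩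
  have hc2 : (Nat.card R).Coprime (Nat.card N) := by
    obtain ⟨j, hj⟩ := IsPGroup.iff_card.1 hR.isPGroup
    rw [hj]
    exact (Nat.Coprime.of_dvd_left hrF hcop).pow_left j
  suffices hRC : R ≤ Subgroup.centralizer (N : Set G) by
    intro x hx
    obtain ⟨k, rfl⟩ := QuotientGroup.mk'_surjective N x
    obtain ⟨a, ha, n, hn, rfl⟩ := hfac k hx
    refine ⟨a, hRC ha, ?_⟩
    rw [map_mul, show π n = 1 from (QuotientGroup.eq_one_iff n).2 hn, mul_one]
  rw [Subgroup.le_centralizer_iff]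
  refine le_of_forall_exists_isSylowIn_le fun p hp _ => ?_
  have := Fact.mk hp
  have := hR.isPGroup.isNilpotent
  obtain ⟨P, hP, hRP⟩ := exists_isSylowIn_le_normalizer p (A := R) (K := N)
    Subgroup.le_normalizer_of_normal hc2 (Or.inl inferInstance)
  refine ⟨P, hP, Subgroup.le_centralizer_iff.1 ?_⟩
  obtain ⟨g, hg⟩ := QuotientGroup.mk'_surjective N hb
  obtain ⟨n, hn, hng⟩ := hP.frattini (H := ⊤) Subgroup.le_normalizer_of_normal (Subgroup.mem_top g)
  have hn1 : ∀ n ∈ N, π n = 1 := fun n hn => (QuotientGroup.eq_one_iff n).2 hn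
  have hg1 : π (n * g) = hb := by rw [map_mul, hn1 n hn, one_mul, hg]
  have hgK : n * g ∈ Subgroup.normalizer (K : Set G) := by
    refine Subgroup.mem_normalizer_iff.2 fun x => ?_
    rw [hK, Subgroup.mem_comap, Subgroup.mem_comap, map_mul, map_mul, map_inv, hg1]
    exact Subgroup.mem_normalizer_iff.1 (hHR hb.2) _
  obtain ⟨k, hk, hkg⟩ := (hR.of_le (le_inf hR.le hRP) inf_le_left).frattini
    (H := Subgroup.zpowers (n * g)) (le_normalizer_inf' (Subgroup.zpowers_le.2 hgK)
      ((Subgroup.zpowers_le.2 hng).trans Subgroup.le_normalizer)) (Subgroup.mem_zpowers _)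
  obtain ⟨a, ha, n', hn', rfl⟩ := hfac k hk.1
  have e : n' * (n * g) = a⁻¹ * (a * n' * (n * g)) := by group
  have hh : π (n' * (n * g)) = hb := by rw [map_mul, hn1 n' hn', one_mul, hg1]
  refine le_centralizer_of_coset_pow_eq_one hP.isPGroup hRP
    (hc2.coprime_dvd_right (Subgroup.card_dvd_of_le hP.le)) (h := n' * (n * g))
    (e ▸ mul_mem (inv_mem (hRP ha)) (mul_mem hk.2 hng))
    (e ▸ mul_mem (inv_mem (Subgroup.le_normalizer ha)) hkg) (m := Nat.card Hb) Nat.card_pos
    (fun i hi him x hx hc => ?_) fun y hy => ?_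
  · have h1 : π x = 1 := by
      refine hHb.eq_one_of_commute (h := (hb : G ⧸ N) ^ i) (pow_mem hb.2 i)
        (pow_ne_one_of_lt_orderOf hi.ne' (hord ▸ him)) (hker ▸ hRb.le (hR.le hx)) ?_
      rw [← hh, ← map_pow, ← map_mul, hc, map_mul]
    have h2 : x ∈ R ⊓ N := ⟨hx, (QuotientGroup.eq_one_iff x).1 h1⟩
    rwa [disjoint_iff.1 (Subgroup.disjoint_of_coprime_natCard hc2), Subgroup.mem_bot] at h2
  · have h1 : π (y * (n' * (n * g))) = hb := by rw [map_mul, hn1 y (hP.le hy), one_mul, hh]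
    by_contra h2
    refine hcon (mul_mem_spec_of_pow_ne_one N ?_ ?_ h2)
    · rw [← hord, ← h1]; exact orderOf_map_dvd _ _
    · rw [← QuotientGroup.eq_one_iff]
      change π _ = 1
      rw [map_pow, h1, ← hord, pow_orderOf_eq_one]

end CL.Perm
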