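/-
Spectrum toolkit: primes dividing the order exactly once and pairwise nonadjacent lie in one
nonabelian simple chief factor.
-/
import Cfsg.Agent.Perm.SpecThree
import Cfsg.Agent.Grp.CoresPi
import Cfsg.Agent.Known.AltOrders

namespace CL.Perm

open Cfsg CL.Grp

variable {G : Type*} [Group G] [Finite G]

/-- An element of prime order `q` normalizing a subgroup of prime order `p`. -/
theorem mul_mem_spec_or_dvd_of_normalizer {p q : ℕ} (hp : p.Prime) (hq : q.Prime) (hpq : p ≠ q)
    {P : Subgroup G} (hP : Nat.card P = p) {x : G} (hx : orderOf x = q)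
    (hxP : x ∈ Subgroup.normalizer (P : Set G)) : p * q ∈ Spec G ∨ q ∣ p - 1 := by
  have := Fact.mk hp
  have hc : IsCyclic P := isCyclic_of_prime_card hP
  set a := P.normalizerMonoidHom ⟨x, hxP⟩ with ha
  have h1 : orderOf a ∣ q := by
    rw [← hx, ← Subgroup.orderOf_mk x hxP]; exact orderOf_map_dvd _ _
  rcases (Nat.dvd_prime hq).1 h1 with h2 | h2
  · left
    obtain ⟨y, hy⟩ := exists_prime_orderOf_dvd_card' (G := P) p (hP ▸ dvd_rfl)
    have h3 : a y = y := by rw [orderOf_eq_one_iff.1 h2]; rfl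
    have h4 : x * y * x⁻¹ = y := congrArg Subtype.val h3
    exact mul_mem_spec_of_commute_of_dvd (v := (y : G)) (a := x) (mul_inv_eq_iff_eq_mul.1 h4).symm
      ((Nat.coprime_primes hp hq).2 hpq) (by rw [Subgroup.orderOf_coe, hy]) (hx ▸ dvd_rfl)
  · right
    rw [← h2, ← Nat.totient_prime hp, ← hP, ← IsCyclic.card_mulAut]
    exact orderOf_dvd_natCard a

theorem mul_mem_spec_or_dvd_of_normal (K : Subgroup G) [K.Normal] {p q : ℕ} (hp : p.Prime)
    (hq : q.Prime) (hpq : p ≠ q) (h1 : p ∣ Nat.card K) (h2 : ¬ p ^ 2 ∣ Nat.card K)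
    (h3 : q ∣ K.index) : p * q ∈ Spec G ∨ q ∣ p - 1 := by
  have := Fact.mk hp
  have := Fact.mk hq
  obtain ⟨P, hP⟩ := exists_isSylowIn (p := p) K
  have hc : Nat.card P = p := by
    obtain ⟨k, hk⟩ := IsPGroup.iff_card.1 hP.isPGroup
    have h4 : k ≠ 0 := fun h => IsSylowIn_ne_bot hP h1 (Subgroup.card_eq_one.1 (by rw [hk, h, pow_zero]))
    have h5 : ¬ 2 ≤ k := fun h =>
      h2 ((pow_dvd_pow p h).trans (hk ▸ Subgroup.card_dvd_of_le hP.le))
    rw [hk, show k = 1 by omega, pow_one]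
  rw [← Subgroup.relIndex_top_right,
    ← relIndex_inf_normalizer_eq hP le_rfl le_top Subgroup.le_normalizer_of_normal, top_inf_eq] at h3
  obtain ⟨x, hx⟩ := exists_prime_orderOf_dvd_card' q (h3.trans (Subgroup.relIndex_dvd_card _ _))
  exact mul_mem_spec_or_dvd_of_normalizer hp hq hpq hc (by rw [Subgroup.orderOf_coe, hx]) x.2

/-- A minimal normal subgroup whose order is divisible by a prime exactly once is simple. -/
theorem isSimpleGroup_of_isMinNormal_of_not_sq_dvd {M : Subgroup G} (hM : IsMinNormal M) {p : ℕ}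
    (hp : p.Prime) (h1 : p ∣ Nat.card M) (h2 : ¬ p ^ 2 ∣ Nat.card M) : IsSimpleGroup M := by
  have := Fact.mk hp
  have := hM.nontrivial
  refine ⟨fun L hL => ?_⟩
  by_cases h3 : p ∣ Nat.card L
  · right
    have hc : (Subgroup.closure {x : M | orderOf x = p}).Characteristic := by
      rw [Subgroup.characteristic_iff_map_le]
      intro φ
      rw [MonoidHom.map_closure]
      refine Subgroup.closure_mono ?_
      rintro _ ⟨x, hx, rfl⟩
      exact (φ.orderOf_eq x).trans hx
    obtain ⟨y, hy⟩ := exists_prime_orderOf_dvd_card' p h1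
    rcases hM.eq_bot_or_top_of_characteristic (Subgroup.closure {x : M | orderOf x = p}) with h | h
    · have h4 : y ∈ Subgroup.closure {x : M | orderOf x = p} := Subgroup.subset_closure hy
      rw [h, Subgroup.mem_bot] at h4
      rw [h4, orderOf_one] at hy
      exact absurd hy.symm hp.one_lt.ne'
    · rw [eq_top_iff, ← h, Subgroup.closure_le]
      intro x hx
      have h4 : ¬ p ∣ L.index := fun h5 => h2 (by
        rw [← L.card_mul_index, sq]; exact Nat.mul_dvd_mul h3 h5)
      obtain ⟨k, hk⟩ := exists_pow_eq_self_of_coprime (x := x) (n := L.index)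
        (by rw [show orderOf x = p from hx]; exact ((Nat.Prime.coprime_iff_not_dvd hp).2 h4).symm)
      rw [SetLike.mem_coe, ← hk]
      exact pow_mem (L.pow_index_mem x) k
  · left
    have h4 : L ≤ piCore {p}ᶜ M := le_piCore ((isPiSubgroup_compl_singleton_iff hp).2
      ((Nat.Prime.coprime_iff_not_dvd hp).2 h3).symm)
    rcases hM.eq_bot_or_top_of_characteristic (piCore {p}ᶜ M) with h | h
    · exact eq_bot_iff.2 (h ▸ h4)
    · have h5 := piCore_isPiSubgroup {p}ᶜ M
      rw [h] at h5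
      exact absurd rfl (h5 p hp (by rwa [Subgroup.card_top]))

/-- Primes dividing `|G|` exactly once, pairwise nonadjacent and not dividing `p - 1` for each other,
all divide one nonabelian simple chief factor, provided there are two of them. -/
theorem exists_simple_chief_of_primes (S : ℕ → Prop)
    (h1 : ∀ p, S p → p.Prime ∧ p ∣ Nat.card G ∧ ¬ p ^ 2 ∣ Nat.card G)
    (h2 : ∀ p q, S p → S q → p ≠ q → p * q ∉ Spec G ∧ ¬ q ∣ p - 1)
    {p q : ℕ} (hp : S p) (hq : S q) (hpq : p ≠ q) :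
    ∃ (N H : Subgroup G) (_ : N.Normal), H.Normal ∧ N < H ∧
      IsSimpleGroup (H ⧸ N.subgroupOf H) ∧ ¬ IsMulCommutative (H ⧸ N.subgroupOf H) ∧
      ∀ r, S r → r ∣ Nat.card (H ⧸ N.subgroupOf H) := by
  have key : ∀ (K : Subgroup G) [K.Normal] (a b : ℕ), S a → S b → a ≠ b → a ∣ Nat.card K →
      b ∣ Nat.card K := by
    intro K _ a b ha hb hab h
    have h3 := (h1 b hb).2.1
    rw [← K.card_mul_index, Nat.Prime.dvd_mul (h1 b hb).1] at h3
    refine h3.resolve_right fun h4 => ?_
    exact (mul_mem_spec_or_dvd_of_normal K (h1 a ha).1 (h1 b hb).1 hab h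
      (fun h5 => (h1 a ha).2.2 (h5.trans K.card_subgroup_dvd_card)) h4).elim (h2 a b ha hb hab).1
      (h2 a b ha hb hab).2
  obtain ⟨pp, hpG, hp2⟩ := h1 p hp
  set N := piCore {p}ᶜ G with hN
  have hpN : ¬ p ∣ Nat.card N := (Nat.Prime.coprime_iff_not_dvd pp).1
    ((isPiSubgroup_compl_singleton_iff pp).1 (piCore_isPiSubgroup _ G)).symm
  have hnt : Nontrivial (G ⧸ N) := by
    rw [QuotientGroup.nontrivial_iff]
    intro h
    rw [h, Subgroup.card_top] at hpN
    exact hpN hpG
  obtain ⟨M, hM⟩ := exists_isMinNormal (G ⧸ N)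
  have := hM.normal
  have hpM : p ∣ Nat.card M := by
    by_contra h
    have h3 : M ≤ piCore {p}ᶜ (G ⧸ N) := le_piCore ((isPiSubgroup_compl_singleton_iff pp).2
      ((Nat.Prime.coprime_iff_not_dvd pp).2 h).symm)
    rw [piCore_quotient_piCore] at h3
    exact hM.ne_bot (eq_bot_iff.2 h3)
  set H := M.comap (QuotientGroup.mk' N) with hH
  have hc : Nat.card H = Nat.card N * Nat.card M := by
    rw [hH, hall_card_comap_mk', mul_comm]
  have hall : ∀ r, S r → r ∣ Nat.card M := by
    intro r hr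
    by_cases h : r = p
    · exact h ▸ hpM
    have h3 := key H p r hp hr (Ne.symm h) (hc ▸ hpM.mul_left _)
    rw [hc, Nat.Prime.dvd_mul (h1 r hr).1] at h3
    exact h3.resolve_left fun h4 => hpN (key N r p hr hp h h4)
  have e : (H ⧸ N.subgroupOf H) ≃* M := (quotientSubgroupOfEquivMap H N).trans
    (MulEquiv.subgroupCongr (Subgroup.map_comap_eq_self_of_surjective (QuotientGroup.mk'_surjective N) M))
  have hs : IsSimpleGroup M := isSimpleGroup_of_isMinNormal_of_not_sq_dvd hM pp hpM fun h =>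
    hp2 (h.trans (M.card_subgroup_dvd_card.trans (N.card_quotient_dvd_card)))
  have hle : N ≤ H := fun x hx => by
    simp [hH, (QuotientGroup.eq_one_iff x).2 hx]
  refine ⟨N, H, inferInstance, inferInstance, lt_of_le_of_ne hle fun h => hpN ?_, e.isSimpleGroup,
    fun hcomm => (h2 p q hp hq hpq).1 ?_, fun r hr => ?_⟩
  · rw [h, hc]; exact hpM.mul_left _
  · obtain ⟨x, hx⟩ := (prime_mem_spec_iff pp).2 hpM
    obtain ⟨y, hy⟩ := (prime_mem_spec_iff (h1 q hq).1).2 (hall q hq)
    refine spec_quotient_subset N (spec_subgroup_subset M ?_)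
    refine (exists_orderOf_mul_iff ((Nat.coprime_primes pp (h1 q hq).1).2 hpq)).2 ⟨x, y, hx, hy, ?_⟩
    apply e.symm.injective
    rw [map_mul, map_mul, mul_comm']
  · rw [Nat.card_congr e.toEquiv]; exact hall r hr

/-- Distinct primes with sum above `n` are not adjacent in `S_n`. -/
theorem mul_not_mem_spec_perm {α : Type*} [Fintype α] [DecidableEq α] {p q : ℕ} (hp : p.Prime)
    (hq : q.Prime) (hpq : p ≠ q) (h : Fintype.card α < p + q) : p * q ∉ Spec (Equiv.Perm α) := by
  intro h0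
  obtain ⟨m, h1, h2, h3⟩ := (CL.Known.mem_range_orderOf_perm_iff _).1 h0
  obtain ⟨a, ha, hpa⟩ := CL.Known.prime_dvd_multiset_lcm hp m (h3 ▸ Dvd.intro _ rfl)
  obtain ⟨b, hb, hqb⟩ := CL.Known.prime_dvd_multiset_lcm hq m (h3 ▸ Dvd.intro_left _ rfl)
  have ha0 : 0 < a := by have := h2 a ha; omega
  have hb0 : 0 < b := by have := h2 b hb; omega
  by_cases hab : a = b
  · subst hab
    have h4 := Nat.le_of_dvd ha0 (((Nat.coprime_primes hp hq).2 hpq).mul_dvd_of_dvd_of_dvd hpa hqb)
    have h5 := Multiset.single_le_sum (s := m) (fun _ _ => Nat.zero_le _) a ha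
    have := hp.two_le
    have := hq.two_le
    nlinarith
  · have h4 := CL.Known.add_le_sum_of_mem_erase ha ((Multiset.mem_erase_of_ne (Ne.symm hab)).2 hb)
    have := Nat.le_of_dvd ha0 hpa
    have := Nat.le_of_dvd hb0 hqb
    omega

theorem not_sq_dvd_factorial {p n : ℕ} (hp : p.Prime) (h : n < 2 * p) : ¬ p ^ 2 ∣ n.factorial := by
  have h1 : Nat.log p n < 2 := by
    rcases Nat.eq_zero_or_pos n with rfl | hn
    · simp
    · refine Nat.log_lt_of_lt_pow hn.ne' ?_
      have := hp.two_le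
      nlinarith
  rw [hp.pow_dvd_factorial_iff h1]
  have h2 : n / p < 2 := (Nat.div_lt_iff_lt_mul hp.pos).2 h
  simp only [Nat.Ico_succ_singleton, Finset.sum_singleton, pow_one]
  omega

/-- A group with the order and spectrum of `A_n`, given two primes in `(n / 2, n]`. -/
theorem exists_simple_chief_of_alt {n : ℕ} (hn : 5 ≤ n)
    (hcard : Nat.card G = Nat.card (alternatingGroup (Fin n)))
    (hspec : Spec G = Spec (alternatingGroup (Fin n))) {p q : ℕ} (hp : p.Prime) (hq : q.Prime)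
    (hpq : p < q) (h1 : n < 2 * p) (h2 : q ≤ n) :
    ∃ (N H : Subgroup G) (_ : N.Normal), H.Normal ∧ N < H ∧
      IsSimpleGroup (H ⧸ N.subgroupOf H) ∧ ¬ IsMulCommutative (H ⧸ N.subgroupOf H) ∧
      ∀ r, r.Prime → n < 2 * r → r ≤ n → r ∣ Nat.card (H ⧸ N.subgroupOf H) := by
  have : Nontrivial (Fin n) := Fin.nontrivial_iff_two_le.2 (by omega)
  have hf : 2 * Nat.card G = n.factorial := by
    rw [hcard, two_mul_nat_card_alternatingGroup, Nat.card_perm, Nat.card_eq_fintype_card,
      Fintype.card_fin]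
  refine Exists.elim (exists_simple_chief_of_primes (G := G)
    (fun r => r.Prime ∧ n < 2 * r ∧ r ≤ n) (fun r ⟨hr, h3, h4⟩ => ⟨hr, ?_, fun h => ?_⟩)
    (fun r s ⟨hr, h3, h4⟩ ⟨hs, h5, h6⟩ hrs => ⟨fun h => ?_, fun h => ?_⟩) (p := p) (q := q)
    ⟨hp, h1, by omega⟩ ⟨hq, by omega, h2⟩ hpq.ne)
    fun N ⟨H, i, a, b, c, d, e⟩ => ⟨N, H, i, a, b, c, d, fun r hr h3 h4 => e r ⟨hr, h3, h4⟩⟩
  · have h5 := hr.dvd_factorial.2 h4
    rw [← hf, hr.dvd_mul] at h5
    refine h5.resolve_left fun h6 => ?_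
    have := Nat.le_of_dvd two_pos h6
    omega
  · exact not_sq_dvd_factorial hr h3 (hf ▸ h.mul_left 2)
  · rw [hspec] at h
    exact mul_not_mem_spec_perm hr hs hrs (by rw [Fintype.card_fin]; omega)
      (spec_subgroup_subset _ h)
  · obtain ⟨k, hk⟩ := h
    have h7 := hr.two_le
    have h8 : k = 1 := by
      rcases k with _ | _ | k
      · omega
      · rfl
      · nlinarith [Nat.sub_add_cancel hr.one_le]
    rw [h8, mul_one] at hk
    rcases hs.eq_two_or_odd with h | h
    · omega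
    · rcases hr.eq_two_or_odd with h' | h' <;> omega

omit [Finite G] in
theorem not_isSolvable_of_simple_section {N H : Subgroup G} [N.Normal]
    (h1 : IsSimpleGroup (H ⧸ N.subgroupOf H)) (h2 : ¬ IsMulCommutative (H ⧸ N.subgroupOf H)) :
    ¬ Group.IsSolvable G := fun _ =>
  h2 ⟨⟨IsSimpleGroup.comm_iff_isSolvable.2 inferInstance⟩⟩

end CL.Perm
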