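/-
Wong's theorem on primitive groups with a suborbit of length 3 (S3686), part A: generalities.
-/
import Cfsg.Agent.Even.Amb2
import Cfsg.Agent.Grp.NilpSub
import Cfsg.Agent.Grp.MinNormal
import Cfsg.Agent.Odd.FT
import Cfsg.Agent.Inv.MaxClass2
import Cfsg.Agent.S3224
import Cfsg.Agent.Transfer.Control

set_option autoImplicit false
open Cfsg Subgroup CL.Grp CL.Even CL.Inv

namespace CL.Sub3

universe u

variable {G : Type u} [Group G] [Finite G]

/-- A solvable core-free maximal subgroup of an insoluble group. -/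
structure Hyp (H : Subgroup G) : Prop where
  co : IsCoatom H
  core : ∀ M : Subgroup G, M.Normal → M ≤ H → M = ⊥
  solv : Group.IsSolvable H
  ns : ¬ Group.IsSolvable G

namespace Hyp

variable {H : Subgroup G} (h : Hyp H)
include h

omit [Finite G] in
theorem eq_or {K : Subgroup G} (hK : H ≤ K) : K = H ∨ K = ⊤ := by
  rcases hK.eq_or_lt with e | e
  · exact Or.inl e.symm
  · exact Or.inr (h.co.2 K e)

omit [Finite G] in
theorem norm_eq {X : Subgroup G} (hX : X ≤ H) (h1 : X ≠ ⊥) (hn : H ≤ 𝒩(X)) : 𝒩(X) = H :=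
  (h.eq_or hn).resolve_right fun e => h1 (h.core X (normalizer_eq_top_iff.1 e) hX)

omit [Finite G] in
theorem mem_of_comm {z : G} (hz : z ∈ H) (h1 : z ≠ 1) (hc : ∀ x ∈ H, x * z = z * x) {g : G} (hg : g * z = z * g) :
    g ∈ H := by
  rcases h.eq_or (K := centralizer {z}) fun x hx => mem_centralizer_singleton_iff.2 (hc x hx) with e | e
  · exact e ▸ mem_centralizer_singleton_iff.2 hg
  · have hz' : z ∈ center G := mem_center_iff.2 fun x => mem_centralizer_singleton_iff.1 (e ▸ mem_top x)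
    have := h.core (zpowers z) (normal_of_le_center' (zpowers_le.2 hz')) (zpowers_le.2 hz)
    exact absurd (zpowers_eq_bot.1 this) h1

omit [Finite G] in
theorem exists_mul {M : Subgroup G} [hM : M.Normal] (h1 : M ≠ ⊥) (g : G) : ∃ m ∈ M, ∃ x ∈ H, m * x = g := by
  have : M ⊔ H = ⊤ := (h.eq_or le_sup_right).resolve_left fun e => h1 (h.core M hM (e ▸ le_sup_left))
  exact (mem_sup_nl (by rw [normalizer_eq_top]; exact le_top)).1 (this ▸ mem_top g)

omit [Finite G] in
theorem not_solv {M : Subgroup G} [hM : M.Normal] (h1 : M ≠ ⊥) : ¬ Group.IsSolvable M := fun hs => by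
  have := h.solv
  have hsur : Function.Surjective ((QuotientGroup.mk' M).comp H.subtype) := fun q => by
    obtain ⟨g, rfl⟩ := QuotientGroup.mk_surjective q
    obtain ⟨m, hm, x, hx, rfl⟩ := h.exists_mul h1 g
    refine ⟨⟨x, hx⟩, ?_⟩
    simp [(QuotientGroup.eq_one_iff m).2 hm]
  have := Group.isSolvable_of_surjective hsur
  exact h.ns (Group.isSolvable_of_ker_le_range M.subtype (QuotientGroup.mk' M) (by simp))

omit [Finite G] in
/-- A normal subgroup containing `N ⊓ H` contains `N`. -/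
theorem le_of_inf_le {M N : Subgroup G} [hM : M.Normal] (h1 : M ≠ ⊥) (hMN : M ≤ N) (hle : ∀ x ∈ H, x ∈ N → x ∈ M) :
    M = N := by
  refine le_antisymm hMN fun g hg => ?_
  obtain ⟨m, hm, x, hx, rfl⟩ := h.exists_mul h1 g
  exact M.mul_mem hm (hle x hx ((N.mul_mem_cancel_left (hMN hm)).1 hg))

theorem exists_central {M S : Subgroup G} [hM : M.Normal] (h1 : M ≠ ⊥) (hS : IsSylowIn 2 S ⊤) :
    ∃ y ∈ M, y ∈ S ∧ y ≠ 1 ∧ ∀ s ∈ S, s * y = y * s := by
  have hn : S ≤ 𝒩(S ⊓ M) := le_norm_inf le_normalizer (by rw [normalizer_eq_top]; exact le_top)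
  have hs := hS.inf_of_normalized (N := M) le_top (by rw [normalizer_eq_top])
  have hne : S ⊓ M ≠ ⊥ := fun e => by
    have h2 := hs.not_dvd
    rw [e, relIndex_bot_left] at h2
    exact h.not_solv h1 (CL.Odd.feit_thompson (Nat.odd_iff.2 (by omega)))
  obtain ⟨y, hy, hy1, hc⟩ := exists_central_of_isNilpotent hS.isPGroup.isNilpotent inf_le_left hn hne
  exact ⟨y, hy.2, hy.1, hy1, fun s hs => mem_centralizer_singleton_iff.1 (hc hs)⟩

omit [Finite G] in
theorem isSimpleGroup (hs : ∀ M : Subgroup G, M.Normal → M ≠ ⊥ → M = ⊤) : IsSimpleGroup G := by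
  have : Nontrivial G := by
    by_contra hn
    rw [not_nontrivial_iff_subsingleton] at hn
    exact h.ns inferInstance
  exact ⟨fun M hM => (eq_or_ne M ⊥).imp_right (hs M hM)⟩

omit [Finite G] in
/-- A minimal normal subgroup of index 2 is simple. -/
theorem simple_of_min {N : Subgroup G} [hN : N.Normal] (hi : N.index = 2) {z : G} (hz : z * z = 1) (hzN : z ∉ N)
    (hc : ∀ g, g * z = z * g → g ∈ H) (hmin : ∀ M : Subgroup G, M.Normal → M ≠ ⊥ → M ≤ N → M = N) :
    IsSimpleGroup N ∧ ¬ IsMulCommutative N ∧ 𝒞(N) = ⊥ := by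
  have hN1 : N ≠ ⊥ := by
    rintro rfl
    rw [index_bot] at hi
    have : Fact (Nat.Prime 2) := ⟨Nat.prime_two⟩
    have := isCyclic_of_prime_card hi
    exact h.ns (Group.isSolvable_of_comm fun a b => IsCyclic.isMulCommutative.is_comm.comm a b)
  have hns := h.not_solv hN1
  have hout : ∀ g, g ∉ N → g * z ∈ N := fun g hg => (mul_mem_iff_of_index_two hi).2 (by tauto)
  have hz' : z⁻¹ = z := inv_eq_of_mul_eq_one_right hz
  refine ⟨?_, fun hc => hns (Group.isSolvable_of_comm fun a b => hc.is_comm.comm a b), ?_⟩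
  · have := (nontrivial_iff_ne_bot N).2 hN1
    refine ⟨fun K0 hK0 => ?_⟩
    by_contra hne
    push Not at hne
    set K := K0.map N.subtype with hK
    have hKN : K ≤ N := map_subtype_le _
    have hn : N ≤ 𝒩(K) := le_normalizer_map_subtype K0
    have hzz : cj z (cj z K) = K := by rw [← cj_mul, hz, cj_one]
    have hn' : N ≤ 𝒩(cj z K) := by
      rw [← cj_norm, le_cj_iff]
      exact (cj_le_of_le le_rfl (by rw [normalizer_eq_top]; trivial)).trans hn
    have hKN' : cj z K ≤ N := cj_le_of_le hKN (by rw [normalizer_eq_top]; trivial)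
    have hnorm : ∀ X : Subgroup G, N ≤ 𝒩(X) → cj z X = X → X.Normal := fun X h1 h2 => by
      rw [← normalizer_eq_top_iff, eq_top_iff]
      intro g _
      by_cases hg : g ∈ N
      · exact h1 hg
      · have := mul_mem (h1 (hout g hg)) (cj_eq_iff_mem.1 h2)
        rwa [mul_assoc, hz, mul_one] at this
    have hK1 : K ≠ ⊥ := fun e => hne.1 ((map_eq_bot_iff_of_injective _ N.subtype_injective).1 e)
    have hK2 : K ≠ N := fun e => hne.2 (map_injective N.subtype_injective (by rw [← hK, e, ← MonoidHom.range_eq_map, range_subtype]))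
    have h1 : K ⊓ cj z K = ⊥ := by
      by_contra e
      have := hmin _ (hnorm _ (le_norm_inf hn hn') (by rw [cj_inf, hzz, inf_comm])) e (inf_le_left.trans hKN)
      exact hK2 (le_antisymm hKN (this ▸ inf_le_left))
    have h2 : K ⊔ cj z K = N :=
      hmin _ (hnorm _ (le_norm_sup hn hn') (by rw [cj_sup, hzz, sup_comm])) (fun e => hK1 (eq_bot_iff.2
        (e ▸ le_sup_left))) (sup_le hKN hKN')
    have hcm : ∀ a ∈ K, ∀ b ∈ cj z K, a * b = b * a := fun a ha b hb => by
      have : a * b * a⁻¹ * b⁻¹ ∈ K ⊓ cj z K :=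
        ⟨by simpa [mul_assoc] using K.mul_mem ha (conj_mem (hn (hKN' hb)) (K.inv_mem ha)),
          (cj z K).mul_mem (conj_mem (hn' (hKN ha)) hb) ((cj z K).inv_mem hb)⟩
      rw [h1, mem_bot] at this
      calc a * b = (a * b * a⁻¹ * b⁻¹) * (b * a) := by group
        _ = b * a := by rw [this, one_mul]
    let f : K →* H :=
      { toFun := fun k => ⟨k * (z * k * z⁻¹), hc _ (by
          have h3 := hcm k k.2 _ (conj_mem_cj z k.2)
          rw [hz'] at h3 ⊢
          calc k * (z * k * z) * z = k * z * k * (z * z) := by group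
            _ = (z * z) * k * z * k := by rw [hz]; group
            _ = z * ((z * k * z) * k) := by group
            _ = _ := by rw [← h3])⟩
        map_one' := by simp
        map_mul' := fun a b => Subtype.ext (by
          have h3 := hcm b b.2 _ (conj_mem_cj z a.2)
          simp only [coe_mul]
          calc (a : G) * b * (z * (a * b) * z⁻¹) = a * (b * (z * a * z⁻¹)) * (z * b * z⁻¹) := by group
            _ = _ := by rw [h3]; group) }
    have hf : Function.Injective f := (injective_iff_map_eq_one f).2 fun k hk => by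
      have h3 : (k : G) * (z * k * z⁻¹) = 1 := congrArg Subtype.val hk
      have : (k : G) ∈ K ⊓ cj z K :=
        ⟨k.2, by rw [eq_inv_of_mul_eq_one_left h3]; exact (cj z K).inv_mem (conj_mem_cj z k.2)⟩
      rw [h1] at this
      exact Subtype.ext this
    have := h.solv
    have hs1 : Group.IsSolvable K := Group.isSolvable_of_isSolvable_injective hf
    have hs2 : Group.IsSolvable (cj z K) := isSolvable_map_of_isSolvable hs1 _
    let p := K.subtype.noncommCoprod (cj z K).subtype fun a b => hcm a a.2 b b.2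
    have hp : p.range = N :=
      (MonoidHom.noncommCoprod_range _ _ _).trans (by rw [range_subtype, range_subtype, h2])
    exact hns (hp ▸ Group.isSolvable_of_surjective p.rangeRestrict_surjective)
  · by_contra hne
    have h1 : 𝒞(N) ⊓ N = ⊥ := by
      by_contra e
      refine h.not_solv e (Group.isSolvable_of_comm fun a b => Subtype.ext ?_)
      exact (comm_of_mem a.2.1 b.2.2).symm
    refine h.not_solv hne (Group.isSolvable_of_comm fun a b => ?_)
    by_cases ha : (a : G) ∈ N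
    · rw [show a = 1 from Subtype.ext (h1.le ⟨a.2, ha⟩), one_mul, mul_one]
    by_cases hb : (b : G) ∈ N
    · rw [show b = 1 from Subtype.ext (h1.le ⟨b.2, hb⟩), one_mul, mul_one]
    have h2 : a * b = 1 := Subtype.ext (h1.le ⟨(a * b).2, (mul_mem_iff_of_index_two hi).2 (by tauto)⟩)
    rw [h2, eq_inv_of_mul_eq_one_left h2, mul_inv_cancel]

/-- An element outside `H` normalising a Sylow 2-subgroup of `H`. -/
theorem exists_norm {g : G} (hg : g ∉ H) (h3 : (H ⊓ cj g H).relIndex H = 3) {P : Subgroup G} (hP : IsSylowIn 2 P H) :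
    ∃ s ∈ 𝒩(P), s ∉ H := by
  obtain ⟨Q, hQ⟩ := exists_isSylowIn 2 (H ⊓ cj g H)
  have hQH : IsSylowIn 2 Q H := ⟨hQ.le.trans inf_le_left, hQ.isPGroup, by
    rw [← relIndex_mul_relIndex Q _ H hQ.le inf_le_left, h3]
    have := hQ.not_dvd
    omega⟩
  have hQ' : IsSylowIn 2 (cj g⁻¹ Q) H := hQH.of_card_le (isPGroup_cj hQ.isPGroup _)
    (le_cj_iff.1 (hQ.le.trans inf_le_right)) (card_cj _ _).ge
  obtain ⟨a, ha, e1⟩ := syl_conj hP hQH
  obtain ⟨b, hb, e2⟩ := syl_conj hP hQ'
  refine ⟨a⁻¹ * g * b, cj_eq_iff_mem.1 (by rw [cj_mul, cj_mul, e2, cj_cj_inv, ← e1, cj_inv_cj]), fun hs => hg ?_⟩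
  simpa [mul_assoc] using H.mul_mem (H.mul_mem ha hs) (H.inv_mem hb)

end Hyp

/-- A 2-group with a self-centralising four-group. -/
theorem mc_of_cent {S : Subgroup G} (hS : IsPGroup 2 S) {x : G} (hx : x ∈ S) (ho : orderOf x = 2)
    (hc : Nat.card (S ⊓ centralizer {x} : Subgroup G) = 4) (h4 : Nat.card S ≠ 4) :
    (∃ n, 2 ≤ n ∧ Nonempty (S ≃* DihedralGroup (2 ^ n))) ∨ IsQuasiDihedral S := by
  have h1 : Nat.card (centralizer {(⟨x, hx⟩ : S)}) = 4 := by
    rw [← hc, ← card_map_of_injective S.subtype_injective]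
    congr 2
    ext y
    simp only [mem_map, mem_centralizer_singleton_iff, mem_inf]
    exact ⟨fun ⟨a, ha, e⟩ => e ▸ ⟨a.2, congrArg Subtype.val ha⟩, fun ⟨a, b⟩ => ⟨⟨y, a⟩, Subtype.ext b, rfl⟩⟩
  rcases Cfsg.Agent.S3224.result hS ⟨x, hx⟩ (by rw [← orderOf_coe]; exact ho) h1 with ⟨m, ⟨e⟩⟩ | h2 | h2
  · obtain ⟨k, hk⟩ := hS.exists_card_eq
    have h2 := Nat.card_congr e.toEquiv
    rw [DihedralGroup.nat_card, hk] at h2
    have h3 : 4 ≤ Nat.card S := hc ▸ card_le_of_le inf_le_left
    obtain _ | _ | _ | k := k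
    · omega
    · omega
    · omega
    · obtain rfl : m = 2 ^ (k + 2) := by rw [pow_succ] at h2; omega
      exact Or.inl ⟨_, by omega, ⟨e⟩⟩
  · exact Or.inr h2
  · exact absurd h2 h4

omit [Finite G] in
theorem exists_mc {S : Subgroup G} (h : (∃ n, 2 ≤ n ∧ Nonempty (S ≃* DihedralGroup (2 ^ n))) ∨ IsQuasiDihedral S) :
    ∃ (n : ℕ) (e : ZMod (2 ^ n)), Nonempty (MC S n e 0) := by
  rcases h with ⟨n, hn, ⟨e⟩⟩ | h
  · exact ⟨n, 0, nonempty_MC_of_dihedral hn e⟩
  · obtain ⟨n, -, h⟩ := exists_MC_of_isQuasiDihedral_subgroup h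
    exact ⟨n, _, h⟩

end CL.Sub3
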