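import Cfsg.Agent.Perm.CKBasic
import Cfsg.Agent.Grp.FrobPartition

/-! Binary affine groups, I: consequences of the binary condition for the point stabiliser, counting lemmas. -/

set_option autoImplicit false

namespace CL.BinAff

variable {H : Type*} [Group H]

/-- Vectors fixed by `h`. -/
def Fx (V : Type*) [AddCommGroup V] [DistribMulAction H V] (h : H) : AddSubgroup V where
  carrier := {v | h • v = v}
  zero_mem' := smul_zero h
  add_mem' := fun {a b} ha hb => by
    change h • (a + b) = a + b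
    rw [smul_add, show h • a = a from ha, show h • b = b from hb]
  neg_mem' := fun {a} ha => by
    change h • (-a) = -a
    rw [smul_neg, show h • a = a from ha]

/-- Vectors negated by `h`. -/
def Ng (V : Type*) [AddCommGroup V] [DistribMulAction H V] (h : H) : AddSubgroup V where
  carrier := {v | h • v = -v}
  zero_mem' := by change h • (0 : V) = -0; rw [smul_zero, neg_zero]
  add_mem' := fun {a b} ha hb => by
    change h • (a + b) = -(a + b)
    rw [smul_add, show h • a = -a from ha, show h • b = -b from hb, neg_add]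
  neg_mem' := fun {a} ha => by
    change h • (-a) = -(-a)
    rw [smul_neg, show h • a = -a from ha]

/-- The binary condition for the affine group with point stabiliser `H`. -/
def Bin (H V : Type*) [Group H] [AddCommGroup V] [DistribMulAction H V] : Prop :=
  ∀ S : Set (V × V), (0, 0) ∈ S → (∀ p ∈ S, ∀ q ∈ S, ∃ h : H, h • (p.1 - q.1) = p.2 - q.2) →
    ∃ h : H, ∀ p ∈ S, h • p.1 = p.2

/-- The final configuration: `H` is generalised dihedral over an abelian group of order `q + 1`. -/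
def Dih (H V : Type*) [Group H] [AddCommGroup V] [DistribMulAction H V] : Prop :=
  ∃ (C : Subgroup H) (q : ℕ), 2 ≤ q ∧ Nat.card V = q ^ 2 ∧ Nat.card C = q + 1 ∧
    (∀ c ∈ C, ∀ d ∈ C, c * d = d * c) ∧ (∀ h, h ∉ C → h * h = 1 ∧ ∀ c ∈ C, h * c * h = c⁻¹) ∧
    (∀ h k, h ∉ C → k ∉ C → h * k ∈ C) ∧ ∀ u : V, ∃ j, j ∉ C ∧ j • u = u

variable {V : Type*} [AddCommGroup V] [DistribMulAction H V]

@[simp] theorem mem_Fx {h : H} {v : V} : v ∈ Fx V h ↔ h • v = v := Iff.rfl

@[simp] theorem mem_Ng {h : H} {v : V} : v ∈ Ng V h ↔ h • v = -v := Iff.rfl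

theorem inv_smul_of_fix {h : H} {v : V} (hv : h • v = v) : h⁻¹ • v = v := by
  rw [inv_smul_eq_iff, hv]

theorem smul_smul_of_sq {t : H} (ht : t * t = 1) (v : V) : t • t • v = v := by
  rw [← mul_smul, ht, one_smul]

theorem inv_of_sq {t : H} (ht : t * t = 1) : t⁻¹ = t := inv_eq_of_mul_eq_one_left ht

theorem comm_of_sq {s t : H} (hs : s * s = 1) (ht : t * t = 1) (h : s * t * (s * t) = 1) : s * t = t * s := by
  rw [← inv_of_sq h, mul_inv_rev, inv_of_sq hs, inv_of_sq ht]

theorem sq_of_comm {s t : H} (hs : s * s = 1) (ht : t * t = 1) (h : s * t = t * s) : s * t * (s * t) = 1 := by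
  rw [show s * t * (s * t) = s * (t * s) * t by group, ← h, show s * (s * t) * t = s * s * (t * t) by group, hs, ht,
    mul_one]

theorem smul_comm_of {s t : H} (h : s * t = t * s) (v : V) : s • t • v = t • s • v := by
  rw [← mul_smul, h, mul_smul]

theorem Fx_eq_top [FaithfulSMul H V] {h : H} (e : ∀ v : V, h • v = v) : h = 1 :=
  eq_of_smul_eq_smul (α := V) fun v => by rw [e, one_smul]

section bin

theorem Bin.swap (hb : Bin H V) (h : H) (u : V) : ∃ σ : H, σ • u = h • u ∧ σ • h • u = u := by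
  obtain ⟨σ, hσ⟩ := hb {(0, 0), (u, h • u), (u + h • u, u + h • u)} (by simp) (by
    have e1 : h⁻¹ • (u - (u + h • u)) = h • u - (u + h • u) := by
      rw [show u - (u + h • u) = -(h • u) by abel, smul_neg, inv_smul_smul]; abel
    have e2 : h⁻¹ • (u + h • u - u) = u + h • u - h • u := by
      rw [add_sub_cancel_left, inv_smul_smul, add_sub_cancel_right]
    rintro p (rfl | rfl | rfl) q (rfl | rfl | rfl)
    · exact ⟨1, by simp⟩
    · exact ⟨h, by simp⟩
    · exact ⟨1, by simp⟩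
    · exact ⟨h, by simp⟩
    · exact ⟨1, by simp⟩
    · exact ⟨h⁻¹, e1⟩
    · exact ⟨1, by simp⟩
    · exact ⟨h⁻¹, e2⟩
    · exact ⟨1, by simp⟩)
  have h1 : σ • u = h • u := hσ (u, h • u) (by simp)
  have h2 : σ • (u + h • u) = u + h • u := hσ (u + h • u, u + h • u) (by simp)
  refine ⟨σ, h1, ?_⟩
  rw [smul_add, h1, add_comm] at h2
  exact add_right_cancel h2

/-- A set of commuting elements is inverted on any vector, by an element fixing the common fixed points of the
squares. -/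
theorem Bin.ab (hb : Bin H V) (A : Set H) (hA : ∀ a ∈ A, ∀ b ∈ A, a * b = b * a) (Y : AddSubgroup V)
    (hY : ∀ a ∈ A, ∀ w ∈ Y, (a * a) • w = w) (u : V) :
    ∃ σ : H, (∀ w ∈ Y, σ • w = w) ∧ ∀ a ∈ A, σ • a • u = a⁻¹ • u := by
  obtain ⟨σ, hσ⟩ := hb ({p | ∃ w ∈ Y, p = (w, w)} ∪ {p | ∃ a ∈ A, p = (a • u, a⁻¹ • u)})
    (Or.inl ⟨0, Y.zero_mem, rfl⟩) (by
    have e1 : ∀ a ∈ A, ∀ w ∈ Y, (a * a)⁻¹ • (a • u - w) = a⁻¹ • u - w := fun a ha w hw => by
      rw [smul_sub, inv_smul_of_fix (hY a ha w hw), ← mul_smul]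
      congr 2; group
    rintro _ (⟨p, hp, rfl⟩ | ⟨a, ha, rfl⟩) _ (⟨q, hq, rfl⟩ | ⟨b, hb', rfl⟩)
    · exact ⟨1, by simp⟩
    · exact ⟨(b * b)⁻¹, by rw [← neg_sub, smul_neg, e1 b hb' _ hp, neg_sub]⟩
    · exact ⟨(a * a)⁻¹, e1 a ha _ hq⟩
    · obtain ⟨τ, h1, h2⟩ := hb.swap (b * a⁻¹) (a • u)
      rw [mul_smul, inv_smul_smul] at h1 h2
      refine ⟨(a * b)⁻¹ * τ, ?_⟩
      change ((a * b)⁻¹ * τ) • (a • u - b • u) = a⁻¹ • u - b⁻¹ • u
      rw [mul_smul, smul_sub, h1, h2, smul_sub, ← mul_smul, ← mul_smul]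
      congr 2
      · rw [hA a ha b hb']; group
      · group)
  exact ⟨σ, fun w hw => hσ (w, w) (Or.inl ⟨w, hw, rfl⟩), fun a ha => hσ _ (Or.inr ⟨a, ha, rfl⟩)⟩

theorem Bin.step (hb : Bin H V) (h : H) (u : V) :
    ∃ k : H, (∀ w : V, (h * h) • w = w → k • w = h • w) ∧ k • u = h • u ∧ k • h • u = u := by
  obtain ⟨σ, h1, h2⟩ := hb.ab {1, h} (by rintro a (rfl | rfl) b (rfl | rfl) <;> simp) (Fx V (h * h))
    (by rintro a (rfl | rfl) w hw; exacts [by simp, hw]) u
  refine ⟨h * σ, fun w hw => by rw [mul_smul, h1 w hw], ?_, ?_⟩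
  · have := h2 1 (by simp)
    rw [one_smul, inv_one, one_smul] at this
    rw [mul_smul, this]
  · rw [mul_smul, h2 h (by simp), smul_inv_smul]

variable [Finite V] [FaithfulSMul H V]

/-- Every element agrees with an involution on a given vector and on the fixed points of its square. -/
theorem Bin.inv (hb : Bin H V) (h : H) (u : V) :
    ∃ t : H, t * t = 1 ∧ (∀ w : V, (h * h) • w = w → t • w = h • w) ∧ t • u = h • u := by
  suffices key : ∀ n : ℕ, ∀ h : H, Nat.card V - Nat.card (Fx V (h * h)) ≤ n → ∀ u : V,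
      ∃ t : H, t * t = 1 ∧ (∀ w : V, (h * h) • w = w → t • w = h • w) ∧ t • u = h • u from key _ h le_rfl u
  intro n
  induction n using Nat.strong_induction_on with
  | _ n ih =>
  intro h hn u
  by_cases hh : ∀ v : V, (h * h) • v = v
  · exact ⟨h, Fx_eq_top hh, fun _ _ => rfl, rfl⟩
  suffices key : ∀ u : V, (h * h) • u ≠ u →
      ∃ t : H, t * t = 1 ∧ (∀ w : V, (h * h) • w = w → t • w = h • w) ∧ t • u = h • u by
    by_cases hu : (h * h) • u = u
    · push Not at hh
      obtain ⟨v, hv⟩ := hh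
      obtain ⟨t, h1, h2, -⟩ := key v hv
      exact ⟨t, h1, h2, h2 u hu⟩
    · exact key u hu
  intro u hu
  obtain ⟨k, h1, h2, h3⟩ := hb.step h u
  have hle : Fx V (h * h) ≤ Fx V (k * k) := fun w hw => by
    have hw' : (h * h) • h • w = h • w := by
      rw [← mul_smul, mul_assoc, mul_smul, show (h * h) • w = w from hw]
    rw [mem_Fx, mul_smul, h1 w hw, h1 _ hw', ← mul_smul]; exact hw
  have hu' : u ∈ Fx V (k * k) := by rw [mem_Fx, mul_smul, h2, h3]
  have hlt : Nat.card (Fx V (h * h)) < Nat.card (Fx V (k * k)) :=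
    lt_of_le_of_ne (AddSubgroup.card_le_of_le hle) fun e =>
      hu (show u ∈ Fx V (h * h) from (AddSubgroup.eq_of_le_of_card_ge hle e.ge).symm ▸ hu')
  have hc : Nat.card (Fx V (k * k)) ≤ Nat.card V := AddSubgroup.card_le_card_addGroup _
  obtain ⟨t, g1, g2, -⟩ := ih (Nat.card V - Nat.card (Fx V (k * k))) (by omega) k le_rfl u
  exact ⟨t, g1, fun w hw => by rw [g2 w (hle hw), h1 w hw], by rw [g2 u hu', h2]⟩

/-- `h` has no fixed points modulo the fixed points of `h ^ 2`. -/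
theorem Bin.q (hb : Bin H V) {h : H} {u : V} (hu : (h * h) • (h • u - u) = h • u - u) : (h * h) • u = u := by
  obtain ⟨t, h1, h2, h3⟩ := hb.inv h u
  have h4 := h2 _ hu
  rw [smul_sub, smul_sub, h3, ← h3, smul_smul_of_sq h1, h3] at h4
  rw [mul_smul]
  exact (sub_left_injective h4).symm

/-- `H` is generated by involutions. -/
theorem Bin.induction (hb : Bin H V) {P : H → Prop} (h1 : P 1) (hm : ∀ t h, t * t = 1 → P h → P (t * h)) (h : H) :
    P h := by
  suffices key : ∀ n : ℕ, ∀ h : H, Nat.card V - Nat.card (Fx V h) ≤ n → P h from key _ h le_rfl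
  intro n
  induction n using Nat.strong_induction_on with
  | _ n ih =>
  intro h hn
  by_cases hh : ∀ v : V, h • v = v
  · rw [Fx_eq_top hh]; exact h1
  push Not at hh
  obtain ⟨u, hu⟩ := hh
  obtain ⟨t, g1, g2, g3⟩ := hb.inv h u
  have hle : Fx V h ≤ Fx V (t * h) := fun w hw => by
    have hw : h • w = w := hw
    rw [mem_Fx, mul_smul, hw, g2 w (by rw [mul_smul, hw, hw]), hw]
  have hu' : u ∈ Fx V (t * h) := by rw [mem_Fx, mul_smul, ← g3, smul_smul_of_sq g1]
  have hlt : Nat.card (Fx V h) < Nat.card (Fx V (t * h)) :=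
    lt_of_le_of_ne (AddSubgroup.card_le_of_le hle) fun e =>
      hu (show u ∈ Fx V h from (AddSubgroup.eq_of_le_of_card_ge hle e.ge).symm ▸ hu')
  have hc : Nat.card (Fx V (t * h)) ≤ Nat.card V := AddSubgroup.card_le_card_addGroup _
  have := hm t _ g1 (ih (Nat.card V - Nat.card (Fx V (t * h))) (by omega) (t * h) le_rfl)
  rwa [← mul_assoc, g1, one_mul] at this

end bin

section count

omit [DistribMulAction H V]

theorem card_mul_le [Finite V] {A B W : AddSubgroup V} (hA : A ≤ W) (hB : B ≤ W) :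
    Nat.card A * Nat.card B ≤ Nat.card W * Nat.card (A ⊓ B : AddSubgroup V) := by
  rw [← CL.Perm.CK.card_sup_mul_card_inf]
  exact Nat.mul_le_mul_right _ (AddSubgroup.card_le_of_le (sup_le hA hB))

theorem card_sup_of_inf_eq_bot [Finite V] {A B : AddSubgroup V} (h : A ⊓ B = ⊥) :
    Nat.card (A ⊔ B : AddSubgroup V) = Nat.card A * Nat.card B := by
  rw [← CL.Perm.CK.card_sup_mul_card_inf, h, AddSubgroup.card_bot, mul_one]

theorem exists_ne_zero_of_one_lt {A : AddSubgroup V} (h : 1 < Nat.card A) : ∃ v ∈ A, v ≠ 0 := by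
  by_contra hc
  push Not at hc
  rw [(AddSubgroup.eq_bot_iff_forall A).2 hc, AddSubgroup.card_bot] at h
  exact lt_irrefl _ h

theorem spread_arith {y c w n : ℕ} (hy : 0 < y) (hyc : y ∣ c) (hw : c * c = w * y) (hyw : y < w)
    (hn : w - y = n * (c - y)) : ∃ q, 2 ≤ q ∧ c = q * y ∧ w = q ^ 2 * y ∧ n = q + 1 := by
  obtain ⟨q, rfl⟩ := hyc
  have h1 : w = q ^ 2 * y := Nat.eq_of_mul_eq_mul_right hy (by rw [← hw]; ring)
  have h2 : 2 ≤ q := by
    rcases q with _ | _ | q
    · simp at h1; omega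
    · simp at h1; omega
    · omega
  refine ⟨q, h2, mul_comm _ _, h1, ?_⟩
  obtain ⟨r, rfl⟩ : ∃ r, q = r + 1 := ⟨q - 1, by omega⟩
  have h3 : w - y = (r + 2) * (r * y) := by
    rw [h1]; exact Nat.sub_eq_of_eq_add (by ring)
  have h4 : y * (r + 1) - y = r * y := Nat.sub_eq_of_eq_add (by ring)
  rw [h3, h4] at hn
  exact (Nat.eq_of_mul_eq_mul_right (Nat.mul_pos (by omega) hy) hn).symm

/-- A group covered by large subgroups with a common pairwise intersection. -/
theorem spread [Finite V] {ι : Type*} [Finite ι] [Nontrivial ι] {W Y : AddSubgroup V} (C : ι → AddSubgroup V)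
    (hCW : ∀ i, C i ≤ W) (hYC : ∀ i, Y ≤ C i) (hinf : ∀ i j, i ≠ j → C i ⊓ C j ≤ Y)
    (hcov : ∀ w ∈ W, ∃ i, w ∈ C i) (hbig : ∀ i, Nat.card W * Nat.card Y ≤ Nat.card (C i) * Nat.card (C i))
    (hne : Y ≠ W) :
    ∃ q, 2 ≤ q ∧ (∀ i, Nat.card (C i) = q * Nat.card Y) ∧ Nat.card W = q ^ 2 * Nat.card Y ∧ Nat.card ι = q + 1 := by
  classical
  have hle : ∀ i j, i ≠ j → Nat.card (C i) * Nat.card (C j) ≤ Nat.card W * Nat.card Y := fun i j hij =>
    (card_mul_le (hCW i) (hCW j)).trans (Nat.mul_le_mul_left _ (AddSubgroup.card_le_of_le (hinf i j hij)))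
  have heq : ∀ i j, Nat.card (C i) = Nat.card (C j) := fun i j => by
    by_cases hij : i = j
    · rw [hij]
    have h1 := hle i j hij
    exact le_antisymm (Nat.le_of_mul_le_mul_right (h1.trans (hbig j)) Nat.card_pos)
      (Nat.le_of_mul_le_mul_left (h1.trans (hbig i)) Nat.card_pos)
  obtain ⟨i, j, hij⟩ := exists_pair_ne ι
  have hsq : Nat.card (C i) * Nat.card (C i) = Nat.card W * Nat.card Y :=
    le_antisymm (by have := hle i j hij; rwa [← heq i j] at this) (hbig i)
  have hYW : Y ≤ W := (hYC i).trans (hCW i)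
  have hlt : Nat.card Y < Nat.card W :=
    lt_of_le_of_ne (AddSubgroup.card_le_of_le hYW) fun e => hne (AddSubgroup.eq_of_le_of_card_ge hYW e.ge)
  have hcard : ∀ A : AddSubgroup V, Y ≤ A → ((A : Set V) \ Y).ncard = Nat.card A - Nat.card Y := fun A hA => by
    rw [Set.ncard_sdiff hA]; rfl
  have hU : ((W : Set V) \ Y) = ⋃ k, ((C k : Set V) \ Y) := by
    ext v
    simp only [Set.mem_sdiff, Set.mem_iUnion, SetLike.mem_coe]
    exact ⟨fun ⟨h1, h2⟩ => (hcov v h1).imp fun k hk => ⟨hk, h2⟩, fun ⟨k, h1, h2⟩ => ⟨hCW k h1, h2⟩⟩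
  have hn : Nat.card W - Nat.card Y = Nat.card ι * (Nat.card (C i) - Nat.card Y) := by
    have := Fintype.ofFinite ι
    rw [← hcard W hYW, hU, Set.ncard_iUnion_of_finite (fun _ => Set.toFinite _) (fun a b hab => by
      refine Set.disjoint_left.2 fun v h1 h2 => h1.2 (hinf a b hab ⟨h1.1, h2.1⟩)), finsum_eq_sum_of_fintype,
      Finset.sum_congr rfl fun k _ => (hcard (C k) (hYC k)).trans (by rw [heq k i])]
    simp
  obtain ⟨q, h1, h2, h3, h4⟩ := spread_arith Nat.card_pos (AddSubgroup.card_dvd_of_le (hYC i)) hsq hlt hn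
  exact ⟨q, h1, fun k => by rw [heq k i, h2], h3, h4⟩

end count

/-- An abelian group acting without fixed points on a nontrivial subgroup is cyclic. -/
theorem isCyclic_of_free [Finite H] [Finite V] (A : Subgroup H) (hA : ∀ a ∈ A, ∀ b ∈ A, a * b = b * a)
    (W : AddSubgroup V) (hW : W ≠ ⊥) (hinv : ∀ a ∈ A, ∀ w ∈ W, a • w ∈ W)
    (hfree : ∀ a ∈ A, a ≠ 1 → ∀ w ∈ W, a • w = w → w = 0) : IsCyclic A := by
  have : Nontrivial W := (AddSubgroup.nontrivial_iff_ne_bot W).2 hW
  have : IsMulCommutative A := ⟨⟨fun a b => Subtype.ext (hA a a.2 b b.2)⟩⟩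
  let _ : MulDistribMulAction A (Multiplicative W) :=
    { smul := fun a w => Multiplicative.ofAdd ⟨(a : H) • (w.toAdd : V), hinv a a.2 _ w.toAdd.2⟩
      one_smul := fun w => Subtype.ext (one_smul H (w.toAdd : V))
      mul_smul := fun a b w => Subtype.ext (mul_smul (a : H) (b : H) (w.toAdd : V))
      smul_one := fun a => Subtype.ext (smul_zero (a : H))
      smul_mul := fun a v w => Subtype.ext (smul_add (a : H) (v.toAdd : V) (w.toAdd : V)) }
  exact CL.Grp.isCyclic_of_comm_of_fpf_action (A := A) (V := Multiplicative W) fun a ha v hv =>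
    Subtype.ext (hfree a a.2 (fun e => ha (Subtype.ext e)) _ v.toAdd.2 (congrArg Subtype.val hv))

/-- The image of `h - 1`. -/
def Cm (V : Type*) [AddCommGroup V] [DistribMulAction H V] (h : H) : AddSubgroup V :=
  (DistribSMul.toAddMonoidHom V h - AddMonoidHom.id V).range

theorem mem_Cm {h : H} {w : V} : w ∈ Cm V h ↔ ∃ v, h • v - v = w := Iff.rfl

theorem Cm_inv {h k : H} (hk : k * h = h * k) {w : V} (hw : w ∈ Cm V h) : k • w ∈ Cm V h := by
  obtain ⟨v, rfl⟩ := mem_Cm.1 hw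
  exact mem_Cm.2 ⟨k • v, by rw [smul_sub, smul_comm_of hk]⟩

theorem Cm_ne_bot [FaithfulSMul H V] {h : H} (hh : h ≠ 1) : Cm V h ≠ ⊥ := fun e =>
  hh (Fx_eq_top (V := V) fun v => sub_eq_zero.1 ((AddSubgroup.eq_bot_iff_forall _).1 e _ (mem_Cm.2 ⟨v, rfl⟩)))

theorem card_Fx_conj (g h : H) : Nat.card (Fx V (g * h * g⁻¹)) = Nat.card (Fx V h) :=
  Nat.card_congr
    { toFun := fun v => ⟨g⁻¹ • (v : V), by
        have := v.2
        rw [mem_Fx, mul_smul, mul_smul, smul_eq_iff_eq_inv_smul] at this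
        exact this⟩
      invFun := fun v => ⟨g • (v : V), by rw [mem_Fx, mul_smul, mul_smul, inv_smul_smul, show h • (v : V) = v from v.2]⟩
      left_inv := fun v => Subtype.ext (smul_inv_smul g _)
      right_inv := fun v => Subtype.ext (inv_smul_smul g _) }

theorem card_Ng_conj (g h : H) : Nat.card (Ng V (g * h * g⁻¹)) = Nat.card (Ng V h) :=
  Nat.card_congr
    { toFun := fun v => ⟨g⁻¹ • (v : V), by
        have := v.2
        rw [mem_Ng, mul_smul, mul_smul, smul_eq_iff_eq_inv_smul, smul_neg] at this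
        exact this⟩
      invFun := fun v => ⟨g • (v : V), by
        rw [mem_Ng, mul_smul, mul_smul, inv_smul_smul, show h • (v : V) = -v from v.2, smul_neg]⟩
      left_inv := fun v => Subtype.ext (smul_inv_smul g _)
      right_inv := fun v => Subtype.ext (inv_smul_smul g _) }

end CL.BinAff
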