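import Cfsg.Agent.Base

/-! Two-transitive linear groups over the field with two elements, I: invariant pairings, the Fourier lemma,
annihilators, orbit lengths. -/

set_option autoImplicit false

namespace CL.Perm.CK

open MulAction ZModModule

/-- A perfect invariant pairing of two elementary abelian `2`-groups. -/
structure Pr (G V W : Type*) [Group G] [AddCommGroup V] [AddCommGroup W] [DistribMulAction G V]
    [DistribMulAction G W] where
  b : V →+ W →+ ZMod 2
  inv : ∀ (g : G) v w, b (g • v) (g • w) = b v w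
  ndL : ∀ v, v ≠ 0 → ∃ w, b v w = 1
  ndR : ∀ w, w ≠ 0 → ∃ v, b v w = 1

theorem z2 (a : ZMod 2) : a = 0 ∨ a = 1 := by revert a; decide

theorem z2_ne {a : ZMod 2} : a ≠ 0 ↔ a = 1 := by revert a; decide

theorem z2_ne' {a : ZMod 2} : a ≠ 1 ↔ a = 0 := by revert a; decide

/-- The sign character of `ZMod 2`. -/
def chi (a : ZMod 2) : ℤ := if a = 0 then 1 else -1

theorem chi_add (a c : ZMod 2) : chi (a + c) = chi a * chi c := by revert a c; decide

theorem chi_zero : chi 0 = 1 := rfl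

theorem chi_one : chi 1 = -1 := rfl

theorem exists_both {V : Type*} [AddCommGroup V] (p : V → Prop) (hp : ∀ u v, p u → p v → p (u + v))
    (f f' : V →+ ZMod 2) (h : ∃ s, p s ∧ f s = 1) (h' : ∃ s, p s ∧ f' s = 1) : ∃ s, p s ∧ f s = 1 ∧ f' s = 1 := by
  obtain ⟨s, h1, h2⟩ := h
  obtain ⟨t, h3, h4⟩ := h'
  rcases z2 (f' s) with e | e
  · rcases z2 (f t) with e' | e'
    · exact ⟨s + t, hp _ _ h1 h3, by rw [map_add, h2, e', add_zero], by rw [map_add, e, h4, zero_add]⟩
    · exact ⟨t, h3, e', h4⟩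
  · exact ⟨s, h1, h2, e⟩

theorem sum_chi_hom {V : Type*} [AddCommGroup V] [Fintype V] (f : V →+ ZMod 2) (h : ∃ s, f s = 1) :
    ∑ v, chi (f v) = 0 := by
  obtain ⟨s, hs⟩ := h
  have := Equiv.sum_comp (Equiv.addRight s) fun v => chi (f v)
  simp only [Equiv.coe_addRight, map_add, chi_add, hs, chi_one, mul_neg, mul_one, Finset.sum_neg_distrib] at this
  omega

section orb

variable {G X : Type*} [Group G] [MulAction G X]

theorem ncard_orbit (N : Subgroup G) (z : X) : (orbit N z).ncard = (stabilizer G z).relIndex N := by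
  rw [← index_stabilizer]; rfl

theorem mem_orb {N : Subgroup G} {z y : X} : y ∈ orbit N z ↔ ∃ g ∈ N, g • z = y :=
  ⟨fun ⟨g, h⟩ => ⟨g, g.2, h⟩, fun ⟨g, h, e⟩ => ⟨⟨g, h⟩, e⟩⟩

theorem ncard_orbit_dvd {E N : Subgroup G} (h : E ≤ N) (z : X) :
    (orbit N z).ncard ∣ E.relIndex N * (orbit E z).ncard := by
  rw [ncard_orbit, ncard_orbit, ← Subgroup.inf_relIndex_right (stabilizer G z) E, mul_comm,
    Subgroup.relIndex_mul_relIndex _ _ _ inf_le_right h]
  exact Subgroup.relIndex_dvd_of_le_left _ inf_le_left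

theorem orbit_eq_of_coprime [Finite X] {E N : Subgroup G} (h : E ≤ N) (z : X)
    (hc : (orbit N z).ncard.Coprime (E.relIndex N)) : orbit E z = orbit N z :=
  Set.eq_of_subset_of_ncard_le (fun _ hy => mem_orb.2 ((mem_orb.1 hy).imp fun _ e => ⟨h e.1, e.2⟩))
    (Nat.le_of_dvd ((Set.ncard_pos).2 ⟨z, mem_orbit_self z⟩) (hc.dvd_of_dvd_mul_left (ncard_orbit_dvd h z)))

theorem relIndex_stab {Y : Type*} [MulAction G Y] (N : Subgroup G) (a : Y) :
    (N ⊓ stabilizer G a).relIndex N = (orbit N a).ncard := by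
  rw [ncard_orbit, Subgroup.inf_relIndex_left]

theorem dvd_ncard_of_orbits [Finite X] (N : Subgroup G) (T : Set X) (hT : ∀ g ∈ N, ∀ z ∈ T, g • z ∈ T) (d e : ℕ)
    (h : ∀ z ∈ T, d ∣ e * (orbit N z).ncard) : d ∣ e * T.ncard := by
  induction hn : T.ncard using Nat.strong_induction_on generalizing T with
  | _ n ih =>
  subst hn
  rcases T.eq_empty_or_nonempty with rfl | ⟨z, hz⟩
  · simp
  have h1 : orbit N z ⊆ T := fun y hy => by
    obtain ⟨g, hg, rfl⟩ := mem_orb.1 hy
    exact hT g hg z hz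
  have h2 := Set.ncard_sdiff_add_ncard_of_subset h1
  have h3 : 0 < (orbit N z).ncard := (Set.ncard_pos).2 ⟨z, mem_orbit_self z⟩
  rw [← h2, mul_add]
  refine dvd_add (ih _ (by omega) (T \ orbit N z) (fun g hg y hy => ⟨hT g hg y hy.1, fun e => hy.2 ?_⟩)
    (fun y hy => h y hy.1) rfl) (h z hz)
  obtain ⟨k, hk, e⟩ := mem_orb.1 e
  exact mem_orb.2 ⟨g⁻¹ * k, N.mul_mem (N.inv_mem hg) hk, by rw [mul_smul, e, inv_smul_smul]⟩

end orb

section grp

variable {V : Type*} [AddCommGroup V]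

theorem relIndex_mul_card_inf (H K : AddSubgroup V) : H.relIndex K * Nat.card (H ⊓ K : AddSubgroup V) = Nat.card K := by
  rw [← AddSubgroup.index_mul_card (H.addSubgroupOf K), AddSubgroup.relIndex, ← AddSubgroup.inf_addSubgroupOf_right,
    Nat.card_congr (AddSubgroup.addSubgroupOfEquivOfLe (inf_le_right : H ⊓ K ≤ K)).toEquiv]

theorem card_sup_mul_card_inf [Finite V] (S T : AddSubgroup V) :
    Nat.card (S ⊔ T : AddSubgroup V) * Nat.card (S ⊓ T : AddSubgroup V) = Nat.card S * Nat.card T := by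
  have h1 := AddSubgroup.relIndex_sup_left T S
  have h2 := relIndex_mul_card_inf S (S ⊔ T)
  have h3 := relIndex_mul_card_inf S T
  rw [inf_of_le_left le_sup_left, h1] at h2
  rw [← h2, ← h3]; ring

theorem card_two_pow [Finite V] [Module (ZMod 2) V] (S : AddSubgroup V) : ∃ k, Nat.card S = 2 ^ k := by
  have : IsPGroup 2 (Multiplicative S) := fun g =>
    ⟨1, by rw [pow_one, pow_two]; exact Subtype.ext (add_self (g.toAdd : V))⟩
  exact (IsPGroup.iff_card (G := Multiplicative S)).1 this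

theorem eq_of_le_of_card [Finite V] {S T : AddSubgroup V} (h : S ≤ T) (hc : Nat.card T ≤ Nat.card S) : S = T :=
  AddSubgroup.eq_of_le_of_card_ge h hc

theorem two_mul_card_le [Finite V] {S T : AddSubgroup V} (h : S ≤ T) (hne : S ≠ T) :
    2 * Nat.card S ≤ Nat.card T := by
  obtain ⟨k, hk⟩ := AddSubgroup.card_dvd_of_le h
  have h1 : 0 < Nat.card T := Nat.card_pos
  rcases k with _ | _ | k
  · omega
  · exact absurd (eq_of_le_of_card h (by omega)) hne
  · rw [hk]; nlinarith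

/-- In a subgroup of index two, the sum of two non-members is a member. -/
theorem add_mem_of_half [Finite V] {S T : AddSubgroup V} (h : S ≤ T) (hc : Nat.card T ≤ 2 * Nat.card S) {u v : V}
    (hu : u ∈ T) (hv : v ∈ T) (hu' : u ∉ S) (hv' : v ∉ S) : u + v ∈ S := by
  have h2 := relIndex_mul_card_inf S T
  rw [inf_of_le_left h] at h2
  have h3 := two_mul_card_le h fun e => hu' (e ▸ hu)
  have h4 : S.relIndex T = 2 := Nat.eq_of_mul_eq_mul_right (Nat.card_pos (α := S)) (by omega)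
  have := (AddSubgroup.add_mem_iff_of_index_two h4 (a := ⟨u, hu⟩) (b := ⟨v, hv⟩)).2
    (by simp [AddSubgroup.mem_addSubgroupOf, hu', hv'])
  exact this

/-- Three subgroups of index two over a common subgroup cover their join. -/
theorem mem_three [Finite V] [Module (ZMod 2) V] {I A B C : AddSubgroup V} (hA : I ≤ A) (hB : I ≤ B) (hC : I ≤ C)
    (cA : Nat.card A ≤ 2 * Nat.card I) (cB : Nat.card B ≤ 2 * Nat.card I) (hAC : A ⊓ C ≤ I) (hBC : B ⊓ C ≤ I)
    (hne : ¬ C ≤ I) (h : C ≤ A ⊔ B) {z : V} (hz : z ∈ A ⊔ B) : z ∈ A ∨ z ∈ B ∨ z ∈ C := by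
  obtain ⟨u, hu, v, hv, rfl⟩ := AddSubgroup.mem_sup.1 hz
  by_cases h1 : u ∈ I
  · exact Or.inr (Or.inl (B.add_mem (hB h1) hv))
  by_cases h2 : v ∈ I
  · exact Or.inl (A.add_mem hu (hA h2))
  obtain ⟨w, hw, hw'⟩ := SetLike.not_le_iff_exists.1 hne
  obtain ⟨a, ha, c, hc, rfl⟩ := AddSubgroup.mem_sup.1 (h hw)
  have h3 : a ∉ I := fun e => hw' (hBC ⟨B.add_mem (hB e) hc, hw⟩)
  have h4 : c ∉ I := fun e => hw' (hAC ⟨A.add_mem ha (hA e), hw⟩)
  have h5 := C.add_mem hw (hC (I.add_mem (add_mem_of_half hA cA hu ha h1 h3) (add_mem_of_half hB cB hv hc h2 h4)))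
  refine Or.inr (Or.inr ?_)
  have := add_self a
  have := add_self c
  convert h5 using 1
  grind

/-- The subgroup generated by one element. -/
def sp1 [Module (ZMod 2) V] (x : V) : AddSubgroup V where
  carrier := {v | v = 0 ∨ v = x}
  zero_mem' := Or.inl rfl
  add_mem' := by rintro _ _ (rfl | rfl) (rfl | rfl) <;> simp [add_self]
  neg_mem' := by intro v hv; rwa [ZModModule.neg_eq_self]

theorem mem_sp1 [Module (ZMod 2) V] {x v : V} : v ∈ sp1 x ↔ v = 0 ∨ v = x := Iff.rfl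

theorem card_sp1 [Module (ZMod 2) V] {x : V} (hx : x ≠ 0) : Nat.card (sp1 x) = 2 :=
  (Set.ncard_pair hx.symm : ({0, x} : Set V).ncard = 2)

/-- A subgroup from a set closed under addition. -/
def mkSub [Module (ZMod 2) V] (p : V → Prop) (h0 : p 0) (h : ∀ u v, p u → p v → p (u + v)) : AddSubgroup V where
  carrier := {v | p v}
  zero_mem' := h0
  add_mem' := h _ _
  neg_mem' := by intro v hv; rwa [ZModModule.neg_eq_self]

end grp

section quot

variable {G V : Type*} [Group G] [AddCommGroup V] [DistribMulAction G V]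

/-- The action on a quotient by an invariant subgroup. -/
@[reducible] def quotAct (N : Subgroup G) (S : AddSubgroup V) (hS : ∀ g ∈ N, ∀ s ∈ S, g • s ∈ S) :
    DistribMulAction N (V ⧸ S) where
  smul g := QuotientAddGroup.map S S (DistribSMul.toAddMonoidHom V (g : G)) fun s hs => hS g g.2 s hs
  one_smul q := QuotientAddGroup.induction_on q fun v => congrArg QuotientAddGroup.mk (one_smul G v)
  mul_smul g k q := QuotientAddGroup.induction_on q fun v => congrArg QuotientAddGroup.mk (mul_smul (g : G) k v)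
  smul_zero _ := map_zero _
  smul_add _ := map_add _

theorem exists_fixed_mod [Finite V] [Module (ZMod 2) V] (N : Subgroup G) (hN : IsPGroup 2 N) (S T : AddSubgroup V)
    (hS : ∀ g ∈ N, ∀ s ∈ S, g • s ∈ S) (hT : ∀ g ∈ N, ∀ s ∈ T, g • s ∈ T) (hlt : ¬ T ≤ S) :
    ∃ t ∈ T, t ∉ S ∧ ∀ g ∈ N, g • t + t ∈ S := by
  let := quotAct N S hS
  let T' : SubMulAction N (V ⧸ S) :=
    { carrier := T.map (QuotientAddGroup.mk' S)
      smul_mem' := by
        rintro g _ ⟨t, ht, rfl⟩
        exact ⟨_, hT g g.2 t ht, rfl⟩ }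
  have h1 : 2 ∣ Nat.card T' := by
    obtain ⟨t, ht, ht'⟩ := SetLike.not_le_iff_exists.1 hlt
    have h2 : addOrderOf (QuotientAddGroup.mk' S t) = 2 :=
      addOrderOf_eq_prime (by rw [two_nsmul, ← map_add, add_self, map_zero])
        fun e => ht' ((QuotientAddGroup.eq_zero_iff t).1 e)
    rw [← h2]
    exact AddSubgroup.addOrderOf_dvd_natCard (T.map (QuotientAddGroup.mk' S)) ⟨t, ht, rfl⟩
  obtain ⟨⟨_, t, ht, rfl⟩, h2, h3⟩ := hN.exists_fixed_point_of_prime_dvd_card_of_fixed_point T' h1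
    (a := ⟨0, (T.map (QuotientAddGroup.mk' S)).zero_mem⟩) fun g => Subtype.ext (smul_zero g)
  refine ⟨t, ht, fun e => h3 (Subtype.ext ((QuotientAddGroup.eq_zero_iff t).2 e).symm), fun g hg => ?_⟩
  have h4 : ((g • t : V) : V ⧸ S) = t := congrArg Subtype.val (h2 ⟨g, hg⟩)
  rwa [QuotientAddGroup.eq, ZModModule.neg_eq_self] at h4

end quot

variable {G V W : Type*} [Group G] [AddCommGroup V] [AddCommGroup W] [DistribMulAction G V] [DistribMulAction G W]

namespace Pr

variable (P : Pr G V W)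

/-- The same pairing read in the other direction. -/
def flip : Pr G W V where
  b := P.b.flip
  inv g w v := P.inv g v w
  ndL := P.ndR
  ndR := P.ndL

theorem inv' (g : G) (v : V) (w : W) : P.b (g • v) w = P.b v (g⁻¹ • w) := by
  rw [← P.inv g v, smul_inv_smul]

theorem ext_right {w w' : W} (h : ∀ v, P.b v w = P.b v w') : w = w' := by
  by_contra e
  obtain ⟨v, hv⟩ := P.ndR _ (sub_ne_zero.2 e)
  rw [map_sub, h, sub_self] at hv
  exact zero_ne_one hv

/-- The Fourier lemma. -/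
theorem fourier [Finite G] [Finite V] (N : Subgroup G) (k k' : W) (s : V) (hs : P.b s k = 1) (hs' : P.b s k' = 1)
    (h : ∀ v, P.b v k ≠ P.b v k' → ∃ g ∈ N, g • v = v + s) : ∃ g ∈ N, g • k = k' := by
  classical
  have := Fintype.ofFinite N
  have := Fintype.ofFinite V
  by_contra hne
  let A : V → ℤ := fun v => ∑ g : N, chi (P.b ((g : G) • v) k)
  have hA : ∀ g ∈ N, ∀ v, A (g • v) = A v := fun g hg v =>
    Fintype.sum_equiv (Equiv.mulRight ⟨g, hg⟩) _ _ fun x => by simp [mul_smul]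
  have h1 := Equiv.sum_comp (Equiv.addRight s) fun v => A v * (chi (P.b v k) - chi (P.b v k'))
  have h2 : ∀ v, A (v + s) * (chi (P.b (v + s) k) - chi (P.b (v + s) k')) =
      -(A v * (chi (P.b v k) - chi (P.b v k'))) := fun v => by
    simp only [map_add, AddMonoidHom.add_apply, chi_add, hs, hs', chi_one]
    by_cases e : P.b v k = P.b v k'
    · rw [e]; ring
    · obtain ⟨g, hg, e⟩ := h v e
      rw [← e, hA g hg]; ring
  have h3 : ∀ j : W, ∑ v, A v * chi (P.b v j) = ∑ g : N, if (g : G) • j = k then (Fintype.card V : ℤ) else 0 :=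
    fun j => by
    simp only [A, Finset.sum_mul]
    rw [Finset.sum_comm]
    refine Finset.sum_congr rfl fun g _ => ?_
    have e1 : ∀ v, chi (P.b ((g : G) • v) k) * chi (P.b v j) = chi (P.b.flip ((g : G)⁻¹ • k - j) v) := fun v => by
      rw [← chi_add, P.inv', AddMonoidHom.flip_apply, map_sub, ZModModule.sub_eq_add]
    simp only [e1]
    split_ifs with e
    · simp [← e, chi_zero]
    · exact sum_chi_hom _ (P.ndR _ fun e' => e (by rw [← sub_eq_zero.1 e', smul_inv_smul]))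
  simp only [Equiv.coe_addRight, h2, Finset.sum_neg_distrib, mul_sub, Finset.sum_sub_distrib, h3] at h1
  rw [Finset.sum_eq_zero (f := fun g : N => if (g : G) • k' = k then (Fintype.card V : ℤ) else 0) fun g _ =>
    if_neg fun e => hne ⟨g⁻¹, N.inv_mem g.2, by rw [← e, inv_smul_smul]⟩] at h1
  have h4 := Finset.single_le_sum (f := fun g : N => if (g : G) • k = k then (Fintype.card V : ℤ) else 0)
    (fun g _ => by positivity) (Finset.mem_univ (1 : N))
  have h5 : 0 < Fintype.card V := Fintype.card_pos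
  simp only [Subgroup.coe_one, one_smul, if_true] at h4
  omega

/-- The annihilator of a subgroup. -/
def perp (S : AddSubgroup V) : AddSubgroup W where
  carrier := {w | ∀ v ∈ S, P.b v w = 0}
  zero_mem' := fun v _ => map_zero _
  add_mem' := fun h1 h2 v hv => by rw [map_add, h1 v hv, h2 v hv, add_zero]
  neg_mem' := fun h v hv => by rw [map_neg, h v hv, neg_zero]

theorem card_perp [Finite V] [Finite W] (S : AddSubgroup V) : Nat.card S * Nat.card (P.perp S) = Nat.card W := by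
  classical
  have := Fintype.ofFinite V
  have := Fintype.ofFinite W
  have h1 : ∑ v : S, ∑ w, chi (P.b v w) = Fintype.card W := by
    rw [Finset.sum_eq_single 0 (fun v _ hv => sum_chi_hom _ (P.ndL _ fun e => hv (Subtype.ext e))) (by simp)]
    simp [chi_zero]
  have h2 : ∀ w, ∑ v : S, chi (P.b v w) = if w ∈ P.perp S then (Fintype.card S : ℤ) else 0 := fun w => by
    split_ifs with e
    · rw [Finset.sum_congr rfl fun v _ => show chi (P.b (v : S) w) = 1 by rw [e v v.2, chi_zero]]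
      simp
    · refine sum_chi_hom ((P.b.flip w).comp S.subtype) ?_
      by_contra e'
      exact e fun v hv => z2_ne'.1 fun h => e' ⟨⟨v, hv⟩, h⟩
  rw [Finset.sum_comm, Finset.sum_congr rfl fun w _ => h2 w, ← Finset.sum_filter, Finset.sum_const, nsmul_eq_mul,
    ← Fintype.card_subtype] at h1
  simp only [Nat.card_eq_fintype_card]
  rw [mul_comm]
  exact_mod_cast h1

include P in
theorem card_eq [Finite V] [Finite W] : Nat.card V = Nat.card W := by
  have h1 := P.card_perp ⊤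
  have h2 := P.flip.card_perp ⊤
  rw [AddSubgroup.card_top] at h1 h2
  exact Nat.dvd_antisymm ⟨_, h1.symm⟩ ⟨_, h2.symm⟩

theorem perp_perp [Finite V] [Finite W] (S : AddSubgroup V) : P.flip.perp (P.perp S) = S := by
  refine (eq_of_le_of_card (fun v hv w hw => hw v hv) (le_of_eq ?_)).symm
  have h1 := P.card_perp S
  have h2 := P.flip.card_perp (P.perp S)
  rw [P.card_eq, ← h1, mul_comm] at h2
  exact Nat.eq_of_mul_eq_mul_right Nat.card_pos h2

theorem sep [Finite V] [Finite W] {S : AddSubgroup V} {y : V} (hy : y ∉ S) : ∃ w ∈ P.perp S, P.b y w = 1 := by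
  by_contra h
  exact hy (P.perp_perp S ▸ fun w hw => z2_ne'.1 fun e => h ⟨w, hw, e⟩)

theorem le_of_perp [Finite V] [Finite W] {S T : AddSubgroup V} (h : P.perp T ≤ P.perp S) : S ≤ T := fun y hy => by
  by_contra e
  obtain ⟨w, hw, e⟩ := P.sep e
  exact zero_ne_one ((h hw y hy).symm.trans e)

theorem perp_sup (S T : AddSubgroup V) : P.perp (S ⊔ T) = P.perp S ⊓ P.perp T :=
  le_antisymm (fun _ h => ⟨fun v hv => h v (AddSubgroup.mem_sup_left hv), fun v hv => h v (AddSubgroup.mem_sup_right hv)⟩)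
    fun w h v hv => by
      obtain ⟨a, ha, c, hc, rfl⟩ := AddSubgroup.mem_sup.1 hv
      rw [map_add, AddMonoidHom.add_apply, h.1 a ha, h.2 c hc, add_zero]

theorem both {y z : V} (hy : y ≠ 0) (hz : z ≠ 0) : ∃ w, P.b y w = 1 ∧ P.b z w = 1 := by
  obtain ⟨w, -, h⟩ := exists_both (fun _ => True) (fun _ _ _ _ => trivial) (P.b y) (P.b z)
    (by simpa using P.ndL y hy) (by simpa using P.ndL z hz)
  exact ⟨w, h⟩

theorem sep1 {x y : V} (h0 : y ≠ 0) (h1 : x + y ≠ 0) : ∃ w, P.b x w = 0 ∧ P.b y w = 1 := by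
  obtain ⟨w, e1, e2⟩ := P.both h0 h1
  rw [map_add, AddMonoidHom.add_apply, e1, add_eq_right] at e2
  exact ⟨w, e2, e1⟩

theorem both1 {x y z : V} (h0 : y ≠ 0) (h1 : x + y ≠ 0) (h2 : z ≠ 0) (h3 : x + z ≠ 0) :
    ∃ w, P.b x w = 0 ∧ P.b y w = 1 ∧ P.b z w = 1 :=
  exists_both (fun w => P.b x w = 0) (fun _ _ e e' => by rw [map_add, e, e', add_zero]) (P.b y) (P.b z)
    (P.sep1 h0 h1) (P.sep1 h2 h3)

theorem sep2 {x y z : V} (h0 : z ≠ 0) (h1 : x + z ≠ 0) (h2 : y + z ≠ 0) (h3 : x + y + z ≠ 0) :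
    ∃ w, P.b x w = 0 ∧ P.b y w = 0 ∧ P.b z w = 1 := by
  obtain ⟨w, e1, e2, e3⟩ := P.both1 h0 h1 h2 (add_assoc x y z ▸ h3)
  rw [map_add, AddMonoidHom.add_apply, e2, add_eq_right] at e3
  exact ⟨w, e1, e3, e2⟩

theorem both2 {x y z u : V} (h0 : z ≠ 0) (h1 : x + z ≠ 0) (h2 : y + z ≠ 0) (h3 : x + y + z ≠ 0)
    (h4 : u ≠ 0) (h5 : x + u ≠ 0) (h6 : y + u ≠ 0) (h7 : x + y + u ≠ 0) :
    ∃ w, (P.b x w = 0 ∧ P.b y w = 0) ∧ P.b z w = 1 ∧ P.b u w = 1 :=
  exists_both (fun w => P.b x w = 0 ∧ P.b y w = 0)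
    (fun _ _ e e' => ⟨by rw [map_add, e.1, e'.1, add_zero], by rw [map_add, e.2, e'.2, add_zero]⟩) (P.b z) (P.b u)
    (by simpa only [and_assoc] using P.sep2 h0 h1 h2 h3) (by simpa only [and_assoc] using P.sep2 h4 h5 h6 h7)

end Pr

end CL.Perm.CK
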