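import Cfsg.Agent.Perm.CKTri
import Cfsg.Agent.Spor.SimpleCrit

/-! The Cameron–Kantor theorem over the field with two elements: a doubly transitive linear group is the whole
general linear group unless the dimension is four. -/

set_option autoImplicit false
set_option linter.unusedSectionVars false

namespace CL.Perm.CK

open MulAction ZModModule

section

variable (G V : Type*) [Group G] [AddCommGroup V] [DistribMulAction G V]

/-- The contragredient action. -/
@[reducible] def dualAct : DistribMulAction G (V →+ ZMod 2) where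
  smul g f := f.comp (DistribSMul.toAddMonoidHom V g⁻¹)
  one_smul f := AddMonoidHom.ext fun v => congrArg f (show (1 : G)⁻¹ • v = v by simp)
  mul_smul g k f := AddMonoidHom.ext fun v => congrArg f (show (g * k)⁻¹ • v = k⁻¹ • g⁻¹ • v by simp [mul_smul])
  smul_zero _ := rfl
  smul_add _ _ _ := rfl

/-- The pairing with the dual module. -/
def dualPr [Module (ZMod 2) V] : letI := dualAct G V; Pr G V (V →+ ZMod 2) :=
  letI := dualAct G V
  { b := AddMonoidHom.eval
    inv := fun g v f => congrArg f (inv_smul_smul g v)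
    ndL := fun v hv => by
      obtain ⟨f, hf⟩ := not_forall.1 (mt (Module.forall_dual_apply_eq_zero_iff (ZMod 2) v).1 hv)
      exact ⟨f.toAddMonoidHom, z2_ne.1 hf⟩
    ndR := fun f hf => by
      by_contra! h
      exact hf (AddMonoidHom.ext fun v => z2_ne'.1 (h v)) }

/-- Some element acts as a transvection. -/
def Tv : Prop := ∃ (g : G) (x : V), g • x = x ∧ (∀ v : V, g • v = v ∨ g • v = v + x) ∧ ∃ v : V, g • v ≠ v

end

variable {G V : Type*} [Group G] [AddCommGroup V] [DistribMulAction G V] [Finite G] [Finite V] [Module (ZMod 2) V]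

theorem eq_add_of_add {u w x : V} (e : u + w = x) : u = w + x := by
  rw [← e, add_comm, add_assoc, add_self, add_zero]

theorem finite_dual : Finite (V →+ ZMod 2) := Finite.of_injective _ DFunLike.coe_injective

theorem T2.t3 (h2 : T2 G V) (h8 : 8 ≤ Nat.card V) : T3 G V := by
  let := dualAct G V
  have := finite_dual (V := V)
  exact Cx.t3 ⟨dualPr G V, h2, (dualPr G V).t2_dual h2, h8, (dualPr G V).card_eq ▸ h8⟩

theorem Tv.all (h : Tv G V) (h2 : T2 G V) {x : V} {f : V →+ ZMod 2} (hx : x ≠ 0) (hf : f ≠ 0) (e : f x = 0) :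
    ∃ g : G, ∀ v, g • v = v + f v • x := by
  classical
  let := dualAct G V
  have := finite_dual (V := V)
  obtain ⟨g, y, h1, h3, u, h4⟩ := h
  have y0 : y ≠ 0 := by rintro rfl; exact h4 (by simpa using h3 u)
  have e1 : ∀ v, g • v = v + (if g • v = v then (0 : ZMod 2) else 1) • y := fun v => by
    split_ifs with a
    · rw [zero_smul, add_zero, a]
    · rw [one_smul, (h3 v).resolve_left a]
  let k : V →+ ZMod 2 := AddMonoidHom.mk' (fun v => if g • v = v then 0 else 1) fun v w =>
    smul_left_injective (ZMod 2) y0 (add_left_cancel (a := v + w) (by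
      simp only
      rw [← e1, smul_add, add_smul, add_add_add_comm, ← e1, ← e1]))
  obtain ⟨a, a1, a2⟩ := (dualPr G V).flag h2 y0 hx (k := k) (fun e => h4 (by
    by_contra a
    exact one_ne_zero ((if_neg a).symm.trans (DFunLike.congr_fun e u)))) hf ((if_pos h1).trans e.symm)
  refine ⟨a * g * a⁻¹, fun v => ?_⟩
  rw [mul_smul, mul_smul, e1, smul_add, smul_inv_smul, ← a1, ← a2]
  exact congrArg _ (ZMod.map_smul (DistribSMul.toAddMonoidHom V a) _ _)

theorem Tv.full (h : Tv G V) (h2 : T2 G V) (φ : V ≃+ V) : ∃ g : G, ∀ v, g • v = φ v := by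
  let := dualAct G V
  have := finite_dual (V := V)
  induction hn : {v | φ v ≠ v}.ncard using Nat.strong_induction_on generalizing φ with
  | _ n ih =>
  by_cases e : ∀ v, φ v = v
  · exact ⟨1, fun v => by rw [one_smul, e]⟩
  obtain ⟨v, hv⟩ := not_forall.1 e
  let S := φ.toAddMonoidHom.eqLocus (AddMonoidHom.id V)
  obtain ⟨f, f1, f2, f3⟩ := exists_both (· ∈ (dualPr G V).perp S) (fun _ _ => add_mem) (AddMonoidHom.eval v)
    (AddMonoidHom.eval (φ v)) ((dualPr G V).sep hv) ((dualPr G V).sep fun e => hv (φ.injective e))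
  change f v = 1 at f2
  change f (φ v) = 1 at f3
  obtain ⟨t, ht⟩ := h.all h2 (x := v + φ v) (f := f) (fun e => hv (eq_of_add0 e).symm) (by rintro rfl; simp at f2)
    (by rw [map_add, f2, f3]; rfl)
  obtain ⟨g, hg⟩ := ih _ (hn ▸ Set.ncard_lt_ncard ⟨fun w (hw : t • φ w ≠ w) (e : φ w = w) => hw (by
      rw [e, ht, show f w = 0 from f1 w e, zero_smul, add_zero]), fun e => e hv (show t • φ v = v by
      rw [ht, f3, one_smul, add_comm, add_assoc, add_self, add_zero])⟩)
    (φ.trans (DistribMulAction.toAddEquiv V t)) rfl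
  exact ⟨t⁻¹ * g, fun w => by rw [mul_smul, hg]; exact inv_smul_smul t _⟩

theorem tv_of_half {g : G} {S : AddSubgroup V} (hS : Nat.card V ≤ 2 * Nat.card S) (h : ∀ s ∈ S, g • s = s) {v : V}
    (hv : g • v ≠ v) : Tv G V := by
  have h1 : ∀ u w, u ∉ S → w ∉ S → u + w ∈ S := fun u w =>
    add_mem_of_half le_top (by rwa [AddSubgroup.card_top]) trivial trivial
  have h2 : v ∉ S := fun e => hv (h v e)
  refine ⟨g, v + g • v, h _ (h1 _ _ h2 fun e => hv (smul_left_cancel g (h _ e))), fun w => ?_, v, hv⟩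
  refine or_iff_not_imp_left.2 fun e => ?_
  have := h _ (h1 w v (fun a => e (h w a)) h2)
  rw [smul_add] at this
  rw [← add_assoc, ← this, add_assoc, add_self, add_zero]

theorem card_eq_orbit_mul {X : Type*} [MulAction G X] (N : Subgroup G) (a : X) :
    Nat.card N = (orbit N a).ncard * Nat.card (N ⊓ stabilizer G a : Subgroup G) := by
  rw [← relIndex_stab, ← Subgroup.index_mul_card ((N ⊓ stabilizer G a).subgroupOf N),
    Nat.card_congr (Subgroup.subgroupOfEquivOfLe inf_le_left).toEquiv]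
  rfl

omit [Module (ZMod 2) V] in
theorem ncard_compl_sub (S : AddSubgroup V) : (S : Set V)ᶜ.ncard + Nat.card S = Nat.card V := by
  rw [add_comm]; exact Set.ncard_add_ncard_compl _

theorem T2.orbit_top (h2 : T2 G V) {x : V} (hx : x ≠ 0) : (orbit (⊤ : Subgroup G) x).ncard + 1 = Nat.card V := by
  rw [← ncard_compl_sub ⊥, AddSubgroup.card_bot]
  refine congrArg (· + 1) (congrArg _ (Set.ext fun v => mem_orb.trans ⟨?_, fun hv => ?_⟩))
  · rintro ⟨g, -, rfl⟩
    exact smul_ne0 g hx
  · exact (h2.one hx hv).imp fun _ e => ⟨trivial, e⟩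

theorem card_sixteen [FaithfulSMul G V] (h2 : T2 G V) (hT : ¬ Tv G V) (hV : Nat.card V = 16) : Nat.card G = 2520 := by
  have : Nontrivial V := Finite.one_lt_card_iff_nontrivial.1 (by omega)
  obtain ⟨x, hx⟩ := exists_ne (0 : V)
  obtain ⟨y, -, hy, hxy⟩ := exists_mem1 hx (S := ⊤) (by rw [AddSubgroup.card_top]; omega)
  obtain ⟨z, -, z1, z2, z3, z4⟩ := exists_mem2 hx hy hxy (S := ⊤) (by rw [AddSubgroup.card_top]; omega)
  have hz : z ∉ sp2 x y := not_sp2.2 ⟨z1, z2, z3, add_assoc x y z ▸ z4⟩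
  have c1 := h2.orbit_top hx
  have c2 := ncard_compl_sub (sp1 x)
  have c3 := ncard_compl_sub (sp2 x y)
  have o2 : orbit ↥(⊤ ⊓ stabilizer G x) y = (sp1 x : Set V)ᶜ := Set.ext fun v => mem_orb.trans ⟨by
      rintro ⟨g, hg, rfl⟩ (e | e)
      exacts [smul_ne0 g hy e, hxy (by rw [smul_left_cancel g (e.trans hg.2.symm), add_self])], fun hv =>
    (h2 x y x v hx hy hxy hx (fun e => hv (Or.inl e)) fun e => hv (Or.inr (eq_of_add0 e).symm)).imp
      fun _ e => ⟨⟨trivial, e.1⟩, e.2⟩⟩
  have o3 : orbit ↥(⊤ ⊓ stabilizer G x ⊓ stabilizer G y) z = (sp2 x y : Set V)ᶜ := Set.ext fun v => mem_orb.trans ⟨by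
      rintro ⟨g, hg, rfl⟩ e
      rw [← show g • x = x from hg.1.2, ← show g • y = y from hg.2] at e
      exact hz (by simpa only [SetLike.mem_coe, mem_sp2, ← smul_add, smul_left_cancel_iff, smul_eq_zero_iff_eq] using e),
    fun hv => by
      obtain ⟨a, b, c, d⟩ := not_sp2.1 hv
      exact (h2.t3 (by omega) x y z v hx hy hxy z1 z2 z3 z4 a b c (add_assoc x y v ▸ d)).imp
        fun _ e => ⟨⟨⟨trivial, e.1⟩, e.2.1⟩, e.2.2⟩⟩
  have o4 : ⊤ ⊓ stabilizer G x ⊓ stabilizer G y ⊓ stabilizer G z = ⊥ := eq_bot_iff.2 fun g hg =>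
    eq_of_smul_eq_smul (α := V) fun v => by
      by_contra e
      let S := (DistribSMul.toAddMonoidHom V g).eqLocus (AddMonoidHom.id V)
      have := two_mul_card_le (sp2_le (S := S) hg.1.1.2 hg.1.2) fun e => hz (e ▸ hg.2)
      rw [card_sp2 hx hy hxy] at this
      exact hT (tv_of_half (S := S) (by omega) (fun _ h => h) (one_smul G v ▸ e))
  rw [card_sp1 hx] at c2
  rw [card_sp2 hx hy hxy] at c3
  rw [← Subgroup.card_top, card_eq_orbit_mul _ x, card_eq_orbit_mul _ y, card_eq_orbit_mul _ z, o2, o3, o4,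
    Subgroup.card_bot, show (orbit (⊤ : Subgroup G) x).ncard = 15 by omega,
    show (sp1 x : Set V)ᶜ.ncard = 14 by omega, show (sp2 x y : Set V)ᶜ.ncard = 12 by omega]

/-- The non-zero vectors. -/
def nz (G V : Type*) [Group G] [AddCommGroup V] [DistribMulAction G V] : SubMulAction G V where
  carrier := {v | v ≠ 0}
  smul_mem' g _ h e := h ((smul_eq_zero_iff_eq g).1 e)

omit [Finite G] [Module (ZMod 2) V] in
theorem card_nz : Nat.card (nz G V) + 1 = Nat.card V := by
  rw [← ncard_compl_sub (V := V) ⊥, AddSubgroup.card_bot]; rfl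

omit [Finite G] [Finite V] [Module (ZMod 2) V] in
theorem faithful_nz [FaithfulSMul G V] : FaithfulSMul G (nz G V) := ⟨fun h => eq_of_smul_eq_smul (α := V) fun v => by
  by_cases e : v = 0
  · simp [e]
  · exact congrArg Subtype.val (h ⟨v, e⟩)⟩

theorem tv_lift {x : V} (h32 : 32 ≤ Nat.card V) (hx : x ≠ 0)
    (h : ∀ y f, y ≠ 0 → x + y ≠ 0 → f ≠ 0 → (f : V →+ ZMod 2) x = 0 → f y = 0 →
      ∃ g : G, g • x = x ∧ ∀ v, g • v + (v + f v • y) ∈ sp1 x) : Tv G V := by
  classical
  let := dualAct G V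
  have := finite_dual (V := V)
  let P := dualPr G V
  by_contra hT
  have h0 : ∀ g : G, g • x = x → (∀ v, g • v + v ∈ sp1 x) → ∀ v : V, g • v = v := fun g a b v => by
    by_contra e
    refine hT ⟨g, x, a, fun w => (b w).imp eq_of_add0 fun e => ?_, v, e⟩
    rw [← e, add_comm, add_assoc, add_self, add_zero]
  obtain ⟨y, -, hy, hxy⟩ := exists_mem1 hx (S := ⊤) (by rw [AddSubgroup.card_top]; omega)
  obtain ⟨z, -, z1, z2', z3, z4⟩ := exists_mem2 hx hy hxy (S := ⊤) (by rw [AddSubgroup.card_top]; omega)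
  obtain ⟨l, l1, l2, l3⟩ := P.sep2 z1 z2' z3 z4
  change l x = 0 at l1
  change l y = 0 at l2
  change l z = 1 at l3
  have l0 : l ≠ 0 := by rintro rfl; simp at l3
  obtain ⟨t, t1, t2⟩ := h y l hy hxy l0 l1 l2
  have sm : ∀ (g : G) (a : ZMod 2) (v : V), g • a • v = a • g • v := fun g a v =>
    ZMod.map_smul (DistribSMul.toAddMonoidHom V g) a v
  have e1 : ∀ v, t • v = v + l v • y + (if t • v = v + l v • y then (0 : ZMod 2) else 1) • x := fun v => by
    split_ifs with a
    · rw [zero_smul, add_zero, a]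
    · rw [one_smul, ← (t2 v).resolve_left fun e => a (eq_of_add0 e), add_comm, add_assoc, add_self, add_zero]
  let m : V →+ ZMod 2 := AddMonoidHom.mk' (fun v => if t • v = v + l v • y then 0 else 1) fun v w =>
    smul_left_injective (ZMod 2) hx (add_left_cancel (a := v + w + l (v + w) • y) (by
      simp only
      rw [← e1, smul_add, map_add, add_smul, add_smul]
      exact (congrArg₂ (· + ·) (e1 v) (e1 w)).trans (by abel)))
  replace e1 : ∀ v, t • v = v + l v • y + m v • x := e1
  have inj : ∀ {a b : ZMod 2} {u : V}, u + a • x = u + b • x → a = b := fun e =>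
    smul_left_injective (ZMod 2) hx (add_left_cancel e)
  have sx : ∀ a : ZMod 2, a • x ∈ sp1 x := fun a => by rcases z2 a with rfl | rfl <;> simp [mem_sp1]
  have mx : m x = 0 := inj (u := x) (by rw [zero_smul, add_zero]; simpa [l1, t1] using (e1 x).symm)
  have e2 : ∀ v, (t * t) • v = v + (l v * m y) • x := fun v => by
    rw [mul_smul, e1 v, smul_add, smul_add, sm, sm, t1, e1 v, e1 y, l2, zero_smul, add_zero, smul_add, mul_smul]
    have := add_self (l v • y)
    have := add_self (m v • x)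
    grind
  have my : m y = 0 := by
    have := h0 (t * t) (by rw [mul_smul, t1, t1]) (fun v => by
      rw [e2, add_comm, ← add_assoc, add_self, zero_add]; exact sx _) z
    rw [e2, l3, one_mul] at this
    exact inj (this.trans (by rw [zero_smul, add_zero]))
  obtain ⟨v', a1, a2⟩ : ∃ v', l v' = 0 ∧ m v' = 1 := by
    by_contra! e
    refine hT (tv_of_half (g := t) (S := P.hyp l) (P.card_hyp l0).ge (fun s hs => ?_) (v := z) fun e => ?_)
    · have := P.mem_hyp.1 hs
      rw [e1, show l s = 0 from this, z2_ne'.1 (e s this)]; simp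
    · rw [e1, l3, one_smul, add_assoc, add_eq_left] at e
      rcases z2 (m z) with b | b <;> rw [b] at e
      exacts [hy (by simpa using e), hxy (by simpa [add_comm] using e)]
  have m0 : m ≠ 0 := by rintro e; simp [e] at a2
  obtain ⟨v, ⟨b1, b2⟩, v1, v2, v3, v4⟩ := exists_mem2 hx hy hxy (S := P.hyp l ⊓ P.hyp m)
    (card_inf_ge (U := ⊤) (m := 5) le_top le_top (by
      have c1 := P.card_hyp l0
      have c2 := P.card_hyp m0
      rw [AddSubgroup.card_top]
      nlinarith))
  replace b1 : l v = 0 := P.mem_hyp.1 b1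
  replace b2 : m v = 0 := P.mem_hyp.1 b2
  have n1 : ∀ u, m u = 0 → u + v' ≠ 0 := fun u a e => by
    have := congrArg m e
    simp [a, a2] at this
  obtain ⟨n, ⟨c1, c2⟩, c3, c4⟩ := P.both2 v1 v2 v3 v4 (by simpa using n1 0 (by simp)) (n1 x mx) (n1 y my)
    (n1 _ (by simp [mx, my]))
  change n x = 0 at c1
  change n y = 0 at c2
  change n v = 1 at c3
  change n v' = 1 at c4
  obtain ⟨g, g1, g2⟩ := h (v + v') n (n1 v b2) (add_assoc x v v' ▸ n1 _ (by simp [mx, b2])) (by rintro rfl; simp at c3)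
    c1 (by rw [map_add, c3, c4]; rfl)
  have e3 : ∀ w, ∃ a : ZMod 2, g • w = w + n w • (v + v') + a • x := fun w => by
    rcases g2 w with e | e
    · exact ⟨0, by rw [eq_of_add0 e, zero_smul, add_zero]⟩
    · exact ⟨1, by rw [one_smul, ← e, add_comm, add_assoc, add_self, add_zero]⟩
  have e4 : ∀ w, l (g • w) = l w := fun w => by
    obtain ⟨a, e⟩ := e3 w
    simp [e, ZMod.map_smul, b1, a1, l1]
  have e5 := h0 ((t * g)⁻¹ * (g * t)) (by simp [mul_smul, g1, t1, inv_smul_eq_iff]) (fun w => by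
    have e6 : (g * t) • w + (t * g) • w ∈ sp1 x := by
      obtain ⟨a, e⟩ := e3 y
      rw [c2, zero_smul, add_zero] at e
      rw [mul_smul, mul_smul, e1, e1, smul_add, smul_add, sm, sm, g1, e4, e, smul_add]
      have := add_self (l w • y)
      have := add_self (g • w)
      convert add_mem (add_mem (sx (l w * a)) (sx (m w))) (sx (m (g • w))) using 1
      rw [mul_smul]; grind
    rcases e6 with e | e
    · exact Or.inl (by rw [mul_smul, eq_of_add0 e, inv_smul_smul, add_self])
    · refine Or.inr (smul_left_cancel (t * g) ?_)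
      rw [smul_add, mul_smul _ _ w, smul_inv_smul, e, mul_smul, g1, t1]) v
  rw [mul_smul, inv_smul_eq_iff, mul_smul, mul_smul, e1, e1, e4, b1, b2] at e5
  obtain ⟨a, e⟩ := e3 v
  have e6 : m (g • v) = 1 := by simp [e, ZMod.map_smul, c3, b2, a2, mx, ← add_assoc, CharTwo.add_self_eq_zero]
  rw [e6] at e5
  exact hx (by simpa using e5)

universe u v

theorem T2.tv (n : ℕ) : ∀ {G : Type u} {V : Type v} [Group G] [AddCommGroup V] [DistribMulAction G V] [Finite G]
    [Finite V] [Module (ZMod 2) V] [FaithfulSMul G V], T2 G V → Nat.card V = 2 ^ (n + 5) → Tv G V := by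
  induction n using Nat.strong_induction_on with
  | _ n ih =>
  intro G V _ _ _ _ _ _ _ h2 hV
  have h32 : 32 ≤ Nat.card V := hV ▸ Nat.pow_le_pow_right two_pos (by omega : 5 ≤ n + 5)
  have : Nontrivial V := Finite.one_lt_card_iff_nontrivial.1 (by omega)
  obtain ⟨x, hx⟩ := exists_ne (0 : V)
  let := quotAct (stabilizer G x) (sp1 x) (by
    rintro g hg _ (rfl | rfl)
    exacts [Or.inl (smul_zero g), Or.inr hg])
  let : Module (ZMod 2) (V ⧸ sp1 x) := AddCommGroup.zmodModule fun q => QuotientAddGroup.induction_on q fun v => by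
    rw [two_nsmul, ← QuotientAddGroup.mk_add, add_self, QuotientAddGroup.mk_zero]
  have eq0 : ∀ v : V, (v : V ⧸ sp1 x) ≠ 0 ↔ v ≠ 0 ∧ x + v ≠ 0 := fun v => by
    rw [ne_eq, QuotientAddGroup.eq_zero_iff, mem_sp1, not_or]
    exact and_congr_right fun _ => not_congr ⟨fun e => by rw [e, add_self], fun e => (eq_of_add0 e).symm⟩
  have hQ := AddSubgroup.card_eq_card_quotient_mul_card_addSubgroup (sp1 x)
  rw [card_sp1 hx] at hQ
  have t2 : T2 (stabilizer G x) (V ⧸ sp1 x) := fun y z y' z' => by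
    obtain ⟨y, rfl⟩ := QuotientAddGroup.mk_surjective y
    obtain ⟨z, rfl⟩ := QuotientAddGroup.mk_surjective z
    obtain ⟨y', rfl⟩ := QuotientAddGroup.mk_surjective y'
    obtain ⟨z', rfl⟩ := QuotientAddGroup.mk_surjective z'
    simp only [← QuotientAddGroup.mk_add, eq0, ← add_assoc]
    intro a b c a' b' c'
    obtain ⟨g, g1, rfl⟩ := h2 x y x y' hx a.1 a.2 hx a'.1 a'.2
    obtain ⟨k, k1, k2, k3⟩ := h2.t3 (by omega) x (g • y) (g • z) z' hx a'.1 a'.2 (smul_ne0 g b.1)
      (by rw [← g1, ← smul_add]; exact smul_ne0 g b.2) (by rw [← smul_add]; exact smul_ne0 g c.1)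
      (by rw [← g1, ← smul_add, ← smul_add]; exact smul_ne0 g c.2) b'.1 b'.2 c'.1 c'.2
    exact ⟨⟨k * g, by rw [mem_stabilizer_iff, mul_smul, g1, k1]⟩,
      congrArg QuotientAddGroup.mk ((mul_smul k g y).trans k2), congrArg QuotientAddGroup.mk ((mul_smul k g z).trans k3)⟩
  by_contra hT
  have : FaithfulSMul (stabilizer G x) (V ⧸ sp1 x) := ⟨fun {g k} e => Subtype.ext
    (eq_of_smul_eq_smul (α := V) fun v => by
      by_contra a
      refine hT ⟨(k : G)⁻¹ * g, x, (k⁻¹ * g).2, fun w => ?_, v, fun b => a (by rwa [mul_smul, inv_smul_eq_iff] at b)⟩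
      have e1 : ((((k : G)⁻¹ * g) • w : V) : V ⧸ sp1 x) = w := by
        change (k⁻¹ * g) • (w : V ⧸ sp1 x) = w
        rw [mul_smul, e, inv_smul_smul]
      rw [QuotientAddGroup.eq, ZModModule.neg_eq_self] at e1
      exact e1.imp eq_of_add0 eq_add_of_add)⟩
  have hT' : ¬ Tv (stabilizer G x) (V ⧸ sp1 x) := fun a => hT (tv_lift h32 hx fun y f y0 y1 f0 f1 f2 => by
    obtain ⟨g, hg⟩ := a.all t2 ((eq0 y).2 ⟨y0, y1⟩) (f := QuotientAddGroup.lift (sp1 x) f (by
      rintro _ (rfl | rfl); exacts [map_zero f, f1])) (fun e => f0 (AddMonoidHom.ext fun v => DFunLike.congr_fun e (v : V ⧸ sp1 x))) f2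
    refine ⟨g, g.2, fun v => ?_⟩
    have e1 : (((g : G) • v : V) : V ⧸ sp1 x) = (v + f v • y : V) :=
      (hg v).trans (congrArg _ (ZMod.map_smul (QuotientAddGroup.mk' (sp1 x)) _ _).symm)
    rwa [QuotientAddGroup.eq, ZModModule.neg_eq_self] at e1)
  rcases n with _ | n
  · have c1 := card_sixteen t2 hT' (by omega)
    have c2 := card_eq_orbit_mul (⊤ : Subgroup G) x
    have c3 := h2.orbit_top hx
    have c4 := card_nz (G := G) (V := V)
    have := faithful_nz (G := G) (V := V)
    have : IsPretransitive G (nz G V) := ⟨fun a b => (h2.one a.2 b.2).imp fun _ e => Subtype.ext e⟩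
    rw [top_inf_eq, c1, Subgroup.card_top, show (orbit (⊤ : Subgroup G) x).ncard = 31 by omega] at c2
    have : Fact (Nat.Prime 31) := ⟨by norm_num⟩
    obtain ⟨S⟩ : Nonempty (Sylow 31 G) := inferInstance
    exact absurd (CL.Spor.prime_degree_card' (Ω := nz G V) Fact.out (by omega) S (r := 9) (m := 280) c2 (by decide)
      (by norm_num)).1 (by norm_num)
  · exact hT' (ih n (by omega) t2 (by rw [show n + 1 + 5 = n + 5 + 1 from rfl, pow_succ] at hV; omega))

/-- Cameron–Kantor over the field with two elements. -/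
theorem T2.full [FaithfulSMul G V] (h2 : T2 G V) (h4 : 4 ≤ Nat.card V) (h16 : Nat.card V ≠ 16) (φ : V ≃+ V) :
    ∃ g : G, ∀ v, g • v = φ v := by
  refine Tv.full ?_ h2 φ
  have : Nontrivial V := Finite.one_lt_card_iff_nontrivial.1 (by omega)
  obtain ⟨x, hx⟩ := exists_ne (0 : V)
  obtain ⟨y, -, hy, hxy⟩ := exists_mem1 hx (S := ⊤) (by rw [AddSubgroup.card_top]; omega)
  have hV := finrank_of_card (M := V)
  generalize Module.finrank (ZMod 2) V = n at hV
  rcases n with _ | _ | _ | _ | _ | n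
  · omega
  · omega
  · obtain ⟨g, g1, g2⟩ := h2 x y x (x + y) hx hy hxy hx hxy (by rwa [← add_assoc, add_self, zero_add])
    refine tv_of_half (g := g) (S := sp1 x) (by rw [card_sp1 hx]; omega) ?_ (v := y) (by simpa [g2] using hx)
    rintro _ (rfl | rfl)
    exacts [smul_zero g, g1]
  · obtain ⟨z, -, z1, z2, z3, z4⟩ := exists_mem2 hx hy hxy (S := ⊤) (by rw [AddSubgroup.card_top]; omega)
    let := dualAct G V
    have := finite_dual (V := V)
    obtain ⟨g, g1, g2, g3⟩ := (dualPr G V).mv3 h2 hx hy hxy z1 z2 z3 z4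
    refine tv_of_half (g := g) (S := sp2 x y) (by rw [card_sp2 hx hy hxy]; omega) ?_ (v := z) (by simpa [g3] using hx)
    rintro _ (rfl | rfl | rfl | rfl)
    exacts [smul_zero g, g1, g2, by rw [smul_add, g1, g2]]
  · omega
  · exact T2.tv n h2 hV

end CL.Perm.CK
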