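import Cfsg.Agent.Perm.CKTrans

/-! Two-transitive linear groups over the field with two elements, III: the subspaces `A x y` and `Y x h`, their
sizes and intersections. -/

set_option autoImplicit false
set_option linter.unusedSectionVars false

namespace CL.Perm.CK

open MulAction ZModModule

/-- A doubly transitive linear group with the dual module. -/
structure Cx (G V W : Type*) [Group G] [AddCommGroup V] [AddCommGroup W] [DistribMulAction G V]
    [DistribMulAction G W] extends Pr G V W where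
  t2 : T2 G V
  t2' : T2 G W
  big : 8 ≤ Nat.card V
  big' : 8 ≤ Nat.card W

/-- Transitivity on independent triples. -/
def T3 (G V : Type*) [Group G] [AddCommGroup V] [DistribMulAction G V] : Prop :=
  ∀ x y z z' : V, x ≠ 0 → y ≠ 0 → x + y ≠ 0 → z ≠ 0 → x + z ≠ 0 → y + z ≠ 0 → x + y + z ≠ 0 →
    z' ≠ 0 → x + z' ≠ 0 → y + z' ≠ 0 → x + y + z' ≠ 0 → ∃ g : G, g • x = x ∧ g • y = y ∧ g • z = z'

variable {G V W : Type*} [Group G] [AddCommGroup V] [AddCommGroup W] [DistribMulAction G V] [DistribMulAction G W]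
  [Finite G] [Finite V] [Finite W] [Module (ZMod 2) V] [Module (ZMod 2) W]

theorem ncard_eq_of_smul {X : Type*} [MulAction G X] (g : G) {S T : Set X} (h : ∀ v, v ∈ S ↔ g • v ∈ T) :
    S.ncard = T.ncard :=
  Set.ncard_congr (fun v _ => g • v) (fun v hv => (h v).1 hv) (fun _ _ _ _ e => smul_left_cancel g e)
    fun v hv => ⟨g⁻¹ • v, (h _).2 (by rwa [smul_inv_smul]), smul_inv_smul g v⟩

theorem Pr.Sg.smul_iff {P : Pr G V W} {x y : V} {h : W} (g : G) : P.Sg x y h ↔ P.Sg (g • x) (g • y) (g • h) :=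
  ⟨fun s => s.smul g, fun s => by simpa using s.smul g⁻¹⟩

namespace Cx

variable (C : Cx G V W)

/-- The dual situation. -/
def fl : Cx G W V := ⟨C.toPr.flip, C.t2', C.t2, C.big', C.big⟩

theorem fl_fl : C.fl.fl = C := rfl

theorem fl_b (v : V) (w : W) : C.fl.b w v = C.b v w := rfl

/-- The hyperplanes `h` with `Sg x y h`. -/
def A (x y : V) : AddSubgroup W := mkSub (fun h => h = 0 ∨ C.Sg x y h) (Or.inl rfl) <| by
  rintro h k (rfl | s) (rfl | t)
  · simp
  · simp [t]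
  · simp [s]
  · exact or_iff_not_imp_left.2 (s.add t)

theorem mem_A {x y : V} {h : W} : h ∈ C.A x y ↔ h = 0 ∨ C.Sg x y h := Iff.rfl

theorem exists_sg' {x y : V} (hx : x ≠ 0) (hy : y ≠ 0) (hxy : x + y ≠ 0) : ∃ h, C.Sg x y h := by
  obtain ⟨x0, y0, h, s⟩ := C.exists_sg C.t2 C.big
  obtain ⟨g, e1, e2⟩ := C.t2 _ _ _ _ s.x0 s.y0 s.xy hx hy hxy
  exact ⟨_, s.map e1 e2 rfl⟩

/-- The number of hyperplanes attached to a line. -/
noncomputable def al : ℕ :=
  {h | C.Sg (C.exists_sg C.t2 C.big).choose (C.exists_sg C.t2 C.big).choose_spec.choose h}.ncard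

theorem ncard_A {x y : V} (hx : x ≠ 0) (hy : y ≠ 0) (hxy : x + y ≠ 0) : {h | C.Sg x y h}.ncard = C.al := by
  obtain ⟨h, s⟩ := (C.exists_sg C.t2 C.big).choose_spec.choose_spec
  obtain ⟨g, e1, e2⟩ := C.t2 _ _ _ _ hx hy hxy s.x0 s.y0 s.xy
  exact ncard_eq_of_smul g fun v => by rw [Set.mem_ofPred_eq, Pr.Sg.smul_iff g, e1, e2]; rfl

theorem card_A {x y : V} (hx : x ≠ 0) (hy : y ≠ 0) (hxy : x + y ≠ 0) : Nat.card (C.A x y) = C.al + 1 := by
  rw [← C.ncard_A hx hy hxy, ← Set.ncard_insert_of_notMem (a := 0) fun s => s.h0 rfl]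
  rfl

theorem al_spec : 0 < C.al ∧ ∃ a, C.al + 1 = 2 ^ a := by
  obtain ⟨x, y, h, s⟩ := C.exists_sg C.t2 C.big
  exact ⟨C.ncard_A s.x0 s.y0 s.xy ▸ (Set.ncard_pos).2 ⟨h, s⟩, C.card_A s.x0 s.y0 s.xy ▸ card_two_pow _⟩

variable {C}

theorem orbit_A {x y : V} {h : W} (s : C.Sg x y h) : orbit ↥(stabilizer G x ⊓ stabilizer G y) h = {k | C.Sg x y k} :=
  Set.ext fun k => mem_orb.trans ⟨fun ⟨_, hg, e⟩ => s.map hg.1 hg.2 e, fun t =>
    (s.conj C.t2 t).imp fun _ e => ⟨⟨e.1, e.2.1⟩, e.2.2⟩⟩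

theorem orbit_Y {x y : V} {h : W} (s : C.Sg x y h) : orbit ↥(stabilizer G x ⊓ stabilizer G h) y = {t | C.Sg x t h} :=
  Set.ext fun k => mem_orb.trans ⟨fun ⟨_, hg, e⟩ => s.map hg.1 e hg.2, fun t =>
    (s.conj C.t2 t).imp fun _ e => ⟨⟨e.1, e.2.2⟩, e.2.1⟩⟩

theorem flagtr {x y : V} {h k k' : W} (s : C.Sg x y h) (e1 : C.b x k = 0) (e2 : C.b y k = 1) (e3 : C.b x k' = 0)
    (e4 : C.b y k' = 1) : ∃ g : G, g • x = x ∧ g • y = y ∧ g • h = h ∧ g • k = k' := by
  have o1 : orbit ↥(stabilizer G x ⊓ stabilizer G y) k = {j | C.b x j = 0 ∧ C.b y j = 1} := Set.ext fun j =>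
    mem_orb.trans ⟨by
      rintro ⟨g, hg, rfl⟩
      exact ⟨by rw [← show g • x = x from hg.1, C.inv, e1], by rw [← show g • y = y from hg.2, C.inv, e2]⟩,
      fun hj => (C.triple C.t2 e2 e1 s.x0 hj.2 hj.1 s.x0).imp fun _ e => ⟨⟨e.2.1, e.1⟩, e.2.2⟩⟩
  obtain ⟨a, ha⟩ := C.al_spec.2
  obtain ⟨j, hj⟩ := card_two_pow (C.fl.hyp x ⊓ C.fl.hyp y)
  have o2 := orbit_eq_of_coprime (E := (stabilizer G x ⊓ stabilizer G y) ⊓ stabilizer G h) inf_le_left k (by
    rw [relIndex_stab, o1, orbit_A s, C.ncard_A s.x0 s.y0 s.xy, ncard_coset (C.fl.hyp x ⊓ C.fl.hyp y) _ k fun v => by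
      simp [Pr.mem_hyp, fl_b, e1, e2, sub_eq_zero], hj]
    exact coprime_of_succ j ha C.al_spec.1)
  obtain ⟨g, hg, e⟩ := mem_orb.1 ((o2.trans o1).ge ⟨e3, e4⟩)
  exact ⟨g, hg.1.1, hg.1.2, hg.2, e⟩

theorem addY {x y z : V} {h : W} (s : C.Sg x y h) (h0 : z ≠ 0) (h1 : x + z ≠ 0) (h3 : y + z ≠ 0)
    (h4 : x + y + z ≠ 0) : ∃ g : G, g • x = x ∧ g • h = h ∧ g • z = z + y := by
  obtain ⟨u, e1, e2, e3⟩ := C.sep2 h0 h1 h3 h4
  obtain ⟨g, hg, e⟩ := C.fl.fourier (stabilizer G x ⊓ stabilizer G h) z (z + y) u e3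
    (show C.b (z + y) u = 1 by rw [map_add, AddMonoidHom.add_apply, e3, e2, add_zero]) fun k hk => by
      have hk' : C.b y k = 1 := z2_ne.1 fun e => hk (show C.b z k = C.b (z + y) k by
        rw [map_add, AddMonoidHom.add_apply, e, add_zero])
      rcases z2 (C.b x k) with e | e
      · obtain ⟨g, a1, -, a2, a3⟩ := flagtr s e hk' (k' := k + u) (by rw [map_add, e, e1, add_zero])
          (by rw [map_add, hk', e2, add_zero])
        exact ⟨g, ⟨a1, a2⟩, a3⟩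
      · obtain ⟨g, a1, a2, a3⟩ := C.fl.triple C.t2' (x := k) (y := h) (x' := k + u) (y' := h) e s.xh s.h0
          (show C.b x (k + u) = 1 by rw [map_add, e, e1, add_zero]) s.xh s.h0
        exact ⟨g, ⟨a3, a2⟩, a1⟩
  exact ⟨g, hg.1, hg.2, e⟩

variable (C)

/-- The union of the lines through `x` attached to the hyperplane `h`. -/
def Y (x : V) (h : W) : AddSubgroup V := mkSub (fun y => y = 0 ∨ y = x ∨ C.Sg x y h) (Or.inl rfl) <| by
  rintro y z (rfl | rfl | s) (rfl | rfl | t)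
  · simp
  · simp
  · simp [t]
  · simp
  · simp [add_self]
  · simp [t.addx]
  · simp [s]
  · simp [add_comm y, s.addx]
  · by_cases e1 : y + z = 0
    · exact Or.inl e1
    by_cases e2 : y + z = x
    · exact Or.inr (Or.inl e2)
    have := add_self x
    obtain ⟨g, a1, a2, a3⟩ := addY t s.y0 s.xy (add_comm y z ▸ e1) (by grind)
    exact Or.inr (Or.inr (s.map a1 a3 a2))

theorem mem_Y {x y : V} {h : W} : y ∈ C.Y x h ↔ y = 0 ∨ y = x ∨ C.Sg x y h := Iff.rfl

theorem ncard_Y {x : V} {h : W} (hx : x ≠ 0) (h0 : h ≠ 0) (e : C.b x h = 0) :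
    {y | C.Sg x y h}.ncard = 2 * C.al := by
  classical
  have := Fintype.ofFinite V
  have := Fintype.ofFinite W
  have h1 := Finset.card_mul_eq_card_mul (fun y k => C.Sg x y k) (s := Finset.univ \ {0, x})
    (t := {k | k ≠ 0 ∧ C.b x k = 0}) (m := C.al) (n := {y | C.Sg x y h}.ncard) (fun y hy => by
      have := add_self x
      simp only [Finset.mem_sdiff, Finset.mem_univ, Finset.mem_insert, Finset.mem_singleton] at hy
      rw [← C.ncard_A hx (y := y) (by grind) (by grind), ← Set.ncard_coe_finset]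
      exact congrArg _ (Set.ext fun k => by simpa using fun s : C.Sg x y k => ⟨s.h0, s.xh⟩)) fun k hk => by
      simp only [Finset.mem_filter, Finset.mem_univ, true_and] at hk
      obtain ⟨g, e1, e2⟩ := C.flag C.t2 hx hx hk.1 h0 (hk.2.trans e.symm)
      rw [← Set.ncard_coe_finset]
      refine ncard_eq_of_smul g fun y => ?_
      rw [Set.mem_ofPred_eq, ← e2]
      conv_rhs => rw [← e1, ← Pr.Sg.smul_iff]
      simpa using fun s : C.Sg x y k => ⟨s.y0, fun e => s.xy (by rw [e, add_self])⟩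
  have h2 := C.fl.ncard_zero x
  have h3 := C.fl.card_hyp hx
  have h4 := C.big
  rw [← C.card_eq] at h3
  rw [Finset.card_univ_sdiff, Finset.card_pair hx.symm, ← Nat.card_eq_fintype_card, ← Set.ncard_coe_finset,
    Finset.coe_filter_univ] at h1
  change {k | k ≠ 0 ∧ C.b x k = 0}.ncard + 1 = _ at h2
  refine Nat.eq_of_mul_eq_mul_left (show 0 < {k | k ≠ 0 ∧ C.b x k = 0}.ncard by omega) ?_
  rw [← h1, show Nat.card V - 2 = 2 * {k | k ≠ 0 ∧ C.b x k = 0}.ncard by omega]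
  ring

theorem card_Y {x : V} {h : W} (hx : x ≠ 0) (h0 : h ≠ 0) (e : C.b x h = 0) :
    Nat.card (C.Y x h) = 2 * (C.al + 1) := by
  have h1 : (C.Y x h : Set V) = insert 0 (insert x {y | C.Sg x y h}) := rfl
  rw [show Nat.card (C.Y x h) = (C.Y x h : Set V).ncard from rfl, h1, Set.ncard_insert_of_notMem
    (by rintro (e | s); exacts [hx e.symm, s.y0 rfl]), Set.ncard_insert_of_notMem fun s => s.xy (add_self x),
    C.ncard_Y hx h0 e]
  ring

theorem Y_le {x y : V} {h : W} (e : C.b x h = 0) (hy : y ∈ C.Y x h) : C.b y h = 0 := by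
  rcases hy with rfl | rfl | s
  exacts [by simp, e, s.yh]

theorem smul_mem_Y {x y x' y' : V} {h h' : W} (hy : y ∈ C.Y x h) {g : G} (e1 : g • x = x') (e2 : g • y = y')
    (e3 : g • h = h') : y' ∈ C.Y x' h' := by
  rcases hy with rfl | rfl | s
  exacts [Or.inl (e2 ▸ smul_zero g), Or.inr (Or.inl (e2.symm.trans e1)), Or.inr (Or.inr (s.map e1 e2 e3))]

/-- The annihilator of `Y x h`. -/
def X (x : V) (h : W) : AddSubgroup W := C.perp (C.Y x h)

theorem X_symm {x : V} {h k : W} (hx : x ≠ 0) (h0 : h ≠ 0) (k0 : k ≠ 0) (e : C.b x h = 0) (hk : k ∈ C.X x h) :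
    h ∈ C.X x k := by
  have e' : C.b x k = 0 := hk x (Or.inr (Or.inl rfl))
  by_cases hh : h + k = 0
  · rwa [eq_neg_of_add_eq_zero_left hh, ZModModule.neg_eq_self] at hk ⊢
  obtain ⟨g, a1, a2, a3⟩ := C.fl.swapF C.t2' h0 k0 hh hx e e'
  intro y hy
  rw [← a3, ← smul_inv_smul g y, C.inv]
  exact hk _ (C.smul_mem_Y hy (inv_smul_eq_iff.2 a1.symm) rfl (inv_smul_eq_iff.2 a2.symm))

theorem rho {x : V} {h k k' : W} (e : C.b x k = 0) (hk : k ∉ C.X x h) (e' : C.b x k' = 0) (hk' : k' ∉ C.X x h) :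
    ∃ g : G, g • x = x ∧ g • h = h ∧ g • k = k' := by
  have h1 : ∀ k, C.b x k = 0 → k ∉ C.X x h → ∃ y, C.Sg x y h ∧ C.b y k = 1 := fun k e hk => by
    by_contra h1
    refine hk ?_
    rintro y (rfl | rfl | s)
    exacts [by simp, e, z2_ne'.1 fun e => h1 ⟨y, s, e⟩]
  obtain ⟨y, s, e1⟩ := h1 k e hk
  obtain ⟨y', s', e2⟩ := h1 k' e' hk'
  obtain ⟨g, a1, a2, a3⟩ := s.conj C.t2 s'
  obtain ⟨a, b1, -, b2, b3⟩ := flagtr s' (k := g • k) (by rw [← a1, C.inv, e]) (by rw [← a2, C.inv, e1]) e' e2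
  exact ⟨a * g, by rw [mul_smul, a1, b1], by rw [mul_smul, a3, b2], by rw [mul_smul, b3]⟩

/-- The subspaces `Y x h` and `Y h x` annihilate each other. -/
def Perp : Prop := ∀ x y h k, C.Sg x y h → C.fl.Sg h k x → C.b y k = 0

theorem Perp.fl {C : Cx G V W} (hP : C.Perp) : C.fl.Perp := fun h k x y s t => hP x y h k t s

theorem perp_or : C.Perp ∨ T3 G V := by
  refine or_iff_not_imp_left.2 fun hP => ?_
  simp only [Perp, not_forall] at hP
  obtain ⟨x, y, h, k, s, t, e⟩ := hP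
  replace e := z2_ne.1 e
  have h1 : ∀ u, C.b u h = 0 → C.b u k = 1 → u ∈ C.Y x h := fun u e1 e2 => by
    obtain ⟨g, a1, a2, a3⟩ := C.fl.rho (x := h) (h := x) s.yh (fun hh => zero_ne_one
      ((hh k (Or.inr (Or.inr t))).symm.trans e)) e1 fun hh => zero_ne_one ((hh k (Or.inr (Or.inr t))).symm.trans e2)
    exact Or.inr (Or.inr (s.map a2 a3 a1))
  have h2 : ∀ u, C.b u h = 0 → u ∈ C.Y x h := fun u e1 => by
    rcases z2 (C.b u k) with e2 | e2
    · have := (C.Y x h).add_mem (h1 (u + y) (by simp [e1, s.yh]) (by simp [e2, e])) (Or.inr (Or.inr s))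
      rwa [add_assoc, add_self, add_zero] at this
    · exact h1 u e1 e2
  intro x' y' z z' a1 a2 a3 a4 a5 a6 a7 a8 a9 a10 a11
  obtain ⟨j, ⟨j1, j2⟩, j3, j4⟩ := C.both2 a4 a5 a6 a7 a8 a9 a10 a11
  obtain ⟨g, b1, b2⟩ := C.flag C.t2 s.x0 a1 s.h0 (k' := j) (by rintro rfl; simp at j3) (s.xh.trans j1.symm)
  have := C.smul_mem_Y (h2 (g⁻¹ • y') (by rw [C.inv', inv_inv, b2, j2])) b1 (smul_inv_smul g y') b2
  rcases this with e | e | s'
  exacts [absurd e a2, absurd (by rw [e, add_self]) a3, s'.tr z z' j3 j4]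

theorem half {x : V} {h k : W} (s : C.fl.Sg h k x) : C.al + 1 ≤ Nat.card (C.Y x h ⊓ C.Y x k : AddSubgroup V) := by
  have c1 := C.card_perp (C.Y x h)
  have c2 := C.card_perp (C.Y x k)
  have c3 := C.card_perp (C.Y x h ⊔ C.Y x k)
  have c4 := card_sup_mul_card_inf (C.Y x h) (C.Y x k)
  have c5 := C.fl.card_hyp s.h0
  rw [C.perp_sup] at c3
  rw [C.card_Y s.h0 s.y0 s.yh] at c2 c4
  rw [C.card_Y s.h0 s.x0 s.xh] at c1 c4
  change _ * Nat.card (C.X x h) = _ at c1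
  change _ * Nat.card (C.X x k) = _ at c2
  change _ * Nat.card (C.X x h ⊓ C.X x k : AddSubgroup W) = _ at c3
  have c6 : Nat.card (C.X x k) = Nat.card (C.X x h) := Nat.eq_of_mul_eq_mul_left (by omega) (c2.trans c1.symm)
  have hX : ∀ j, C.X x j ≤ C.fl.hyp x := fun j u hu => C.fl.mem_hyp.2 (hu x (Or.inr (Or.inl rfl)))
  have hinv : ∀ (j : W) (g : G), g • x = x → g • j = j → ∀ u ∈ C.X x j, g • u ∈ C.X x j := fun j g e1 e2 u hu y hy => by
    rw [← smul_inv_smul g y, C.inv]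
    exact hu _ (C.smul_mem_Y hy (inv_smul_eq_iff.2 e1.symm) rfl (inv_smul_eq_iff.2 e2.symm))
  have d1 := dvd_ncard_of_orbits ((stabilizer G h ⊓ stabilizer G x) ⊓ stabilizer G k) (C.X x k \ C.X x h : Set W)
    (fun g hg u hu => ⟨hinv k g hg.1.2 hg.2 u hu.1, fun e => hu.2 (by
      simpa using hinv h g⁻¹ (inv_smul_eq_iff.2 hg.1.2.symm) (inv_smul_eq_iff.2 hg.1.1.symm) _ e)⟩)
    (Nat.card (C.X x h)) 2 fun u hu => by
      have o1 : orbit ↥(stabilizer G h ⊓ stabilizer G x) u = (C.fl.hyp x \ C.X x h : Set W) := Set.ext fun v =>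
        mem_orb.trans ⟨by
          rintro ⟨g, hg, rfl⟩
          exact ⟨C.fl.mem_hyp.2 (by rw [← show g • x = x from hg.2, C.fl.inv]; exact C.fl.mem_hyp.1 (hX k hu.1)),
            fun e => hu.2 (by
              simpa using hinv h g⁻¹ (inv_smul_eq_iff.2 hg.2.symm) (inv_smul_eq_iff.2 hg.1.symm) _ e)⟩,
          fun hv => (C.rho (C.fl.mem_hyp.1 (hX k hu.1)) hu.2 (C.fl.mem_hyp.1 hv.1) hv.2).imp
            fun _ e => ⟨⟨e.2.1, e.1⟩, e.2.2⟩⟩
      have d2 := ncard_orbit_dvd (E := (stabilizer G h ⊓ stabilizer G x) ⊓ stabilizer G k) inf_le_left u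
      have d3 := Set.ncard_sdiff_add_ncard_of_subset (hX h : (C.X x h : Set W) ⊆ C.fl.hyp x)
      change _ + Nat.card (C.X x h) = Nat.card (C.fl.hyp x) at d3
      rw [relIndex_stab, o1, orbit_Y s, C.fl.ncard_Y s.x0 s.h0 s.xh,
        show (C.fl.hyp x \ C.X x h : Set W).ncard = Nat.card (C.X x h) * C.al by nlinarith, mul_comm 2,
        mul_assoc] at d2
      obtain ⟨j, hj⟩ := card_two_pow (C.X x h)
      obtain ⟨a, ha⟩ := C.fl.al_spec.2
      refine Nat.Coprime.dvd_of_dvd_mul_left ?_ (dvd_of_mul_right_dvd d2)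
      exact hj ▸ coprime_of_succ j ha C.fl.al_spec.1
  have d4 := Set.ncard_inter_add_ncard_sdiff_eq_ncard (C.X x k : Set W) (C.X x h)
  rw [Set.inter_comm] at d4
  change Nat.card (C.X x h ⊓ C.X x k : AddSubgroup W) + _ = Nat.card (C.X x k) at d4
  have p1 : 0 < Nat.card (C.X x h ⊓ C.X x k : AddSubgroup W) := Nat.card_pos
  have d5 : Nat.card (C.X x h) ≤ 2 * Nat.card (C.X x h ⊓ C.X x k : AddSubgroup W) := Nat.le_of_dvd (by omega)
    ((Nat.dvd_add_left d1).1 ⟨2, by omega⟩)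
  have d6 : Nat.card (C.Y x h ⊔ C.Y x k : AddSubgroup V) ≤ 4 * (C.al + 1) :=
    Nat.le_of_mul_le_mul_right (by nlinarith) p1
  by_contra! hlt
  nlinarith

theorem ncard_inf {x : V} {h k : W} (hx : x ≠ 0) :
    Nat.card (C.Y x h ⊓ C.Y x k : AddSubgroup V) = {y | C.Sg x y h ∧ C.Sg x y k}.ncard + 2 := by
  have h1 : ((C.Y x h ⊓ C.Y x k : AddSubgroup V) : Set V) = insert 0 (insert x {y | C.Sg x y h ∧ C.Sg x y k}) :=
    Set.ext fun y => by simp only [AddSubgroup.coe_inf, Set.mem_inter_iff, SetLike.mem_coe, mem_Y, Set.mem_insert_iff,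
      Set.mem_ofPred_eq]; tauto
  rw [show Nat.card (C.Y x h ⊓ C.Y x k : AddSubgroup V) = ((C.Y x h ⊓ C.Y x k : AddSubgroup V) : Set V).ncard from rfl,
    h1, Set.ncard_insert_of_notMem
    (by rintro (e | s); exacts [hx e.symm, s.1.y0 rfl]), Set.ncard_insert_of_notMem fun s => s.1.xy (add_self x)]

open Classical in
theorem count {x : V} {h : W} (hx : x ≠ 0) (h0 : h ≠ 0) (e : C.b x h = 0) :
    (2 ≤ C.al → C.fl.al ≤ C.al) ∧ (C.fl.al = C.al → ∀ k, k ≠ h →
      {y | C.Sg x y h ∧ C.Sg x y k}.ncard = if C.fl.Sg h k x then C.al - 1 else 0) := by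
  have := Fintype.ofFinite V
  have := Fintype.ofFinite W
  have h1 := Finset.sum_card_bipartiteAbove_eq_sum_card_bipartiteBelow (fun y k => C.Sg x y k)
    (s := {y | C.Sg x y h}) (t := Finset.univ.erase h)
  rw [Finset.sum_congr rfl (g := fun _ => C.al - 1) fun y hy => by
    have s := (Finset.mem_filter.1 hy).2
    rw [← C.ncard_A s.x0 s.y0 s.xy, ← Set.ncard_sdiff_singleton_of_mem (show h ∈ {k | C.Sg x y k} from s),
      ← Set.ncard_coe_finset]
    exact congrArg _ (Set.ext fun k => by simp [and_comm]), Finset.sum_const, ← Set.ncard_coe_finset,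
    Finset.coe_filter_univ, C.ncard_Y hx h0 e, Finset.sum_congr rfl
      (g := fun k => {y | C.Sg x y h ∧ C.Sg x y k}.ncard) fun k _ => by
        rw [← Set.ncard_coe_finset]; exact congrArg _ (Set.ext fun y => by simp), smul_eq_mul] at h1
  have h2 : ∀ k ∈ Finset.univ.erase h, (if C.fl.Sg h k x then C.al - 1 else 0) ≤
      {y | C.Sg x y h ∧ C.Sg x y k}.ncard := fun k _ => by
    split_ifs with s
    · have := C.half s
      rw [C.ncard_inf hx] at this
      omega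
    · omega
  have h3 : ∑ k ∈ Finset.univ.erase h, (if C.fl.Sg h k x then C.al - 1 else 0) = 2 * C.fl.al * (C.al - 1) := by
    rw [← Finset.sum_filter, Finset.sum_const, ← C.fl.ncard_Y h0 hx e, ← Set.ncard_coe_finset, smul_eq_mul]
    congr 2
    exact Set.ext fun k => by simpa using fun (s : C.fl.Sg h k x) e => s.xy (by rw [e, add_self])
  refine ⟨fun h4 => ?_, fun h4 k hk => ?_⟩
  · have := Finset.sum_le_sum h2
    rw [h3, ← h1] at this
    have := Nat.le_of_mul_le_mul_right this (by omega)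
    omega
  · exact ((Finset.sum_eq_sum_iff_of_le h2).1 (by rw [h3, ← h1, h4]) k (by simpa using hk)).symm

end Cx

end CL.Perm.CK
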