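import Cfsg.Agent.Perm.CKSpread

/-! Two-transitive linear groups over the field with two elements, V: the cubic case leads to a generalised
pentagon, which does not exist. -/

set_option autoImplicit false
set_option linter.unusedSectionVars false

namespace CL.Perm.CK

open MulAction ZModModule

theorem z5 : ¬ ((2 * 2 : ZMod 5) * (2 * (2 * 2)) = 0 ^ 5) := by decide

theorem no_pentagon {X : Type*} [Finite X] (Ω : Set X) (adj : X → X → Prop) (hin : ∀ u w, adj u w → u ∈ Ω ∧ w ∈ Ω)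
    (irr : ∀ u, ¬ adj u u) (c0 : Ω.ncard % 5 = 2) (c1 : ∀ u ∈ Ω, {w | adj u w}.ncard % 5 = 2)
    (c2 : ∀ u ∈ Ω, ∀ v ∈ Ω, {w | adj u w ∧ adj w v}.ncard % 5 = 2) : False := by
  classical
  have := Fintype.ofFinite X
  have : Fact (Nat.Prime 5) := ⟨by norm_num⟩
  let A : Matrix X X (ZMod 5) := Matrix.of fun u w => if adj u w then 1 else 0
  let J : Matrix X X (ZMod 5) := Matrix.of fun u w => if u ∈ Ω ∧ w ∈ Ω then 1 else 0
  have key : ∀ (p : X → Prop) [DecidablePred p], {w | p w}.ncard % 5 = 2 →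
      ∑ w, (if p w then (1 : ZMod 5) else 0) = 2 := fun p _ hp => by
    rw [Finset.sum_boole, ← Set.ncard_coe_finset, Finset.coe_filter_univ, ← ZMod.natCast_mod, hp]; rfl
  have mul : ∀ (p q : X → X → Prop) [∀ u w, Decidable (p u w)] [∀ u w, Decidable (q u w)], (∀ u v w, p u w ∧ q w v → u ∈ Ω ∧ v ∈ Ω) →
      (∀ u ∈ Ω, ∀ v ∈ Ω, {w | p u w ∧ q w v}.ncard % 5 = 2) →
      (Matrix.of fun u w => if p u w then (1 : ZMod 5) else 0) * (Matrix.of fun u w => if q u w then 1 else 0) =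
        (2 : ZMod 5) • J := fun p q _ _ h1 h2 => by
    ext u v
    simp only [Matrix.mul_apply, Matrix.of_apply, ite_zero_mul_ite_zero, mul_one, Matrix.smul_apply, J, smul_eq_mul]
    split_ifs with e
    · rw [key _ (h2 u e.1 v e.2), mul_one]
    · rw [mul_zero]
      exact Finset.sum_eq_zero fun w _ => if_neg fun h => e (h1 u v w h)
  have e1 : A * A = (2 : ZMod 5) • J := mul adj adj (fun u v w h => ⟨(hin _ _ h.1).1, (hin _ _ h.2).2⟩) c2
  have e2 : A * J = (2 : ZMod 5) • J := mul adj (fun u w => u ∈ Ω ∧ w ∈ Ω)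
      (fun u v w h => ⟨(hin _ _ h.1).1, h.2.2⟩) fun u hu v hv => by
    rw [← c1 u hu]
    exact congrArg (· % 5) (congrArg _ (Set.ext fun w => ⟨fun h => h.1, fun h => ⟨h, (hin _ _ h).2, hv⟩⟩))
  have e3 : J * J = (2 : ZMod 5) • J := mul (fun u w => u ∈ Ω ∧ w ∈ Ω) (fun u w => u ∈ Ω ∧ w ∈ Ω)
      (fun u v w h => ⟨h.1.1, h.2.2⟩) fun u hu v hv => by
    rw [← c0]
    exact congrArg (· % 5) (congrArg _ (Set.ext fun w => ⟨fun h => h.1.2, fun h => ⟨⟨hu, h⟩, h, hv⟩⟩))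
  have e4 := ZMod.trace_pow_card A
  rw [show A ^ 5 = A * (A * A * (A * A)) by simp only [pow_succ, pow_zero, one_mul, mul_assoc], e1, smul_mul_smul_comm,
    e3, mul_smul_comm, mul_smul_comm, e2, show A.trace = 0 by simp [A, Matrix.trace, irr]] at e4
  simp only [Matrix.trace_smul] at e4
  rw [show J.trace = 2 from key (fun w => w ∈ Ω ∧ w ∈ Ω) (by simpa using c0)] at e4
  exact z5 e4

variable {G V W : Type*} [Group G] [AddCommGroup V] [AddCommGroup W] [DistribMulAction G V] [DistribMulAction G W]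
  [Finite G] [Finite V] [Finite W] [Module (ZMod 2) V] [Module (ZMod 2) W]

theorem Pr.mem_perp_iSup (P : Pr G V W) {ι : Type*} {r : ι → Prop} {F : ι → AddSubgroup V} {w : W} :
    w ∈ P.perp (⨆ i, ⨆ _ : r i, F i) ↔ ∀ i, r i → w ∈ P.perp (F i) :=
  ⟨fun h i hi v hv => h v ((le_iSup₂ (f := fun i (_ : r i) => F i) i hi) hv), fun h v hv =>
    P.mem_hyp.1 ((iSup₂_le fun i hi v hv => P.mem_hyp.2 (h i hi v hv) : _ ≤ P.hyp w) hv)⟩

theorem eq_of_card8 {S T : AddSubgroup V} (cS : Nat.card S = 8) (cT : Nat.card T = 8) {x y z : V} (hx : x ≠ 0)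
    (hy : y ≠ 0) (hxy : x + y ≠ 0) (hz : z ∉ sp2 x y) (a : x ∈ S ⊓ T) (b : y ∈ S ⊓ T) (c : z ∈ S ⊓ T) : S = T := by
  have := two_mul_card_le (sp2_le a b) fun e => hz (e ▸ c)
  rw [card_sp2 hx hy hxy] at this
  exact (eq_of_le_of_card inf_le_left (by omega)).symm.trans (eq_of_le_of_card inf_le_right (by omega))

theorem mem8 {x y z u : V} (h : u ∈ sp2 x y ∨ u + z ∈ sp2 x y) : u = 0 ∨ u = x ∨ u = y ∨ u = x + y ∨ u = z ∨
    u = x + z ∨ u = y + z ∨ u = x + (y + z) := by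
  have e : ∀ w, u + z = w → u = w + z := fun w e => by rw [← e, add_assoc, add_self, add_zero]
  rcases h with (h | h | h | h) | h | h | h | h <;> first | simp [e _ h, add_assoc] | simp [h]

theorem not_sp2 {x y z : V} : z ∉ sp2 x y ↔ z ≠ 0 ∧ x + z ≠ 0 ∧ y + z ≠ 0 ∧ x + (y + z) ≠ 0 := by
  have e : ∀ w : V, w + z = 0 ↔ z = w := fun w => ⟨fun e => (eq_of_add0 e).symm, fun e => by rw [e, add_self]⟩
  simp only [mem_sp2, not_or, ne_eq, ← add_assoc, e]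

theorem sp2_cases {x y z : V} (h : z ∈ sp2 x y) (h0 : z ≠ 0) (h1 : x + z ≠ 0) : z = y ∨ z = x + y := by
  rcases h with e | e | e
  exacts [absurd e h0, absurd (by rw [e, add_self]) h1, e]

theorem sp2_addx (x y : V) : sp2 x (x + y) = sp2 x y := AddSubgroup.ext fun w => by
  simp only [mem_sp2, ← add_assoc, add_self, zero_add]; tauto

theorem sp2_symm {x y z : V} (hy : y ≠ 0) (hxy : x + y ≠ 0) (h : z ∉ sp2 x y) : y ∉ sp2 x z := by
  rw [not_sp2] at h ⊢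
  exact ⟨hy, hxy, add_comm y z ▸ h.2.2.1, add_comm y z ▸ h.2.2.2⟩

namespace Cx

/-- The span of the planes through the line `x y`. -/
def B (C : Cx G V W) (x y : V) : AddSubgroup V := ⨆ h, ⨆ _ : C.Sg x y h, C.Y x h

/-- The span of the solids through the plane `Y x h`. -/
def S3 (C : Cx G V W) (x : V) (h : W) : AddSubgroup V := ⨆ y, ⨆ _ : C.Sg x y h, C.B x y

/-- The next layer. -/
def T4 (C : Cx G V W) (x y : V) : AddSubgroup V := ⨆ h, ⨆ _ : C.Sg x y h, C.S3 x h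

variable {C : Cx G V W}

theorem Y_le_B {x y : V} {h : W} (s : C.Sg x y h) : C.Y x h ≤ C.B x y :=
  le_iSup₂ (f := fun h (_ : C.Sg x y h) => C.Y x h) h s

theorem B_le_S3 {x y : V} {h : W} (s : C.Sg x y h) : C.B x y ≤ C.S3 x h :=
  le_iSup₂ (f := fun y (_ : C.Sg x y h) => C.B x y) y s

theorem S3_le_T4 {x y : V} {h : W} (s : C.Sg x y h) : C.S3 x h ≤ C.T4 x y :=
  le_iSup₂ (f := fun h (_ : C.Sg x y h) => C.S3 x h) h s

theorem B_smul {x y z : V} (g : G) (hz : z ∈ C.B x y) : g • z ∈ C.B (g • x) (g • y) :=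
  (iSup₂_le fun _ s _ hv => Y_le_B (s.smul g) (C.smul_mem_Y hv rfl rfl rfl) :
    C.B x y ≤ (C.B (g • x) (g • y)).comap (DistribSMul.toAddMonoidHom V g)) hz

theorem S3_smul {x z : V} {h : W} (g : G) (hz : z ∈ C.S3 x h) : g • z ∈ C.S3 (g • x) (g • h) :=
  (iSup₂_le fun _ s _ hv => B_le_S3 (s.smul g) (B_smul g hv) :
    C.S3 x h ≤ (C.S3 (g • x) (g • h)).comap (DistribSMul.toAddMonoidHom V g)) hz

theorem T4_smul {x y z : V} (g : G) (hz : z ∈ C.T4 x y) : g • z ∈ C.T4 (g • x) (g • y) :=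
  (iSup₂_le fun _ s _ hv => S3_le_T4 (s.smul g) (S3_smul g hv) :
    C.T4 x y ≤ (C.T4 (g • x) (g • y)).comap (DistribSMul.toAddMonoidHom V g)) hz

theorem sg_addx (x y : V) : C.Sg x (x + y) = C.Sg x y := funext fun h =>
  propext ⟨fun s => by simpa [← add_assoc, add_self] using s.addx, fun s => s.addx⟩

theorem B_addx (x y : V) : C.B x (x + y) = C.B x y := by rw [B, sg_addx, B]

theorem T4_addx (x y : V) : C.T4 x (x + y) = C.T4 x y := by rw [T4, sg_addx, T4]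

theorem sp2_le_B {x y : V} (hx : x ≠ 0) (hy : y ≠ 0) (hxy : x + y ≠ 0) : sp2 x y ≤ C.B x y := by
  obtain ⟨h, s⟩ := C.exists_sg' hx hy hxy
  exact (sp2_le (self_mem x h) (mem_of_sg s)).trans (Y_le_B s)

theorem B_le_T4 {x y : V} (hx : x ≠ 0) (hy : y ≠ 0) (hxy : x + y ≠ 0) : C.B x y ≤ C.T4 x y := by
  obtain ⟨h, s⟩ := C.exists_sg' hx hy hxy
  exact (B_le_S3 s).trans (S3_le_T4 s)

theorem comm_of_smul (C : Cx G V W) (F : V → V → AddSubgroup V)
    (hF : ∀ x y z (g : G), z ∈ F x y → g • z ∈ F (g • x) (g • y))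
    (h2 : ∀ x y, x ≠ 0 → y ≠ 0 → x + y ≠ 0 → sp2 x y ≤ F x y) {x y : V} (hx : x ≠ 0) (hy : y ≠ 0)
    (hxy : x + y ≠ 0) : F x y ≤ F y x := fun z hz => by
  have := add_self x
  have := add_self y
  by_cases e : z ∈ sp2 y x
  · exact h2 y x hy hx (by grind) e
  rw [mem_sp2] at e
  obtain ⟨g, a1, a2, a3⟩ := C.swap3 C.t2 (x := z) (y := x) (z := y) (by grind) hx (by grind) hy (by grind) hxy
    (by grind)
  simpa only [a1, a2, a3] using hF x y z g hz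

theorem B_comm {x y : V} (hx : x ≠ 0) (hy : y ≠ 0) (hxy : x + y ≠ 0) : C.B x y = C.B y x :=
  le_antisymm (C.comm_of_smul C.B (fun _ _ _ => B_smul) (fun _ _ => sp2_le_B) hx hy hxy)
    (C.comm_of_smul C.B (fun _ _ _ => B_smul) (fun _ _ => sp2_le_B) hy hx (add_comm x y ▸ hxy))

theorem T4_comm {x y : V} (hx : x ≠ 0) (hy : y ≠ 0) (hxy : x + y ≠ 0) : C.T4 x y = C.T4 y x :=
  have h : ∀ x y : V, x ≠ 0 → y ≠ 0 → x + y ≠ 0 → sp2 x y ≤ C.T4 x y := fun _ _ a b c =>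
    (sp2_le_B a b c).trans (B_le_T4 a b c)
  le_antisymm (C.comm_of_smul C.T4 (fun _ _ _ => T4_smul) h hx hy hxy)
    (C.comm_of_smul C.T4 (fun _ _ _ => T4_smul) h hy hx (add_comm x y ▸ hxy))

theorem U_symm {x y z : V} {j : W} (hy : y ≠ 0) (hxy : x + y ≠ 0) (h : ∀ k, C.Sg x y k → C.b z k = 0)
    (s : C.Sg x z j) : C.b y j = 0 := by
  have := add_self x
  have := add_self y
  have x0 := s.x0
  have z0 := s.y0
  have xz := s.xy
  by_cases e : y + z = 0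
  · exact eq_of_add0 e ▸ s.yh
  by_cases e' : x + y + z = 0
  · exact (show x + z = y by grind) ▸ s.addx.yh
  obtain ⟨g, a1, a2, a3⟩ := C.swap3 C.t2 x0 hy hxy z0 xz e e'
  rw [← C.inv g, a2]
  exact h _ (s.map a1 a3 rfl)

theorem Y_add {x : V} {h k : W} (hx : x ≠ 0) (h0 : h ≠ 0) (k0 : k ≠ 0) (hk : h + k ≠ 0) (e : C.b x h = 0)
    (e' : C.b x k = 0) : C.Y x (h + k) ≤ C.Y x h ⊔ C.Y x k := C.le_of_perp fun j hj => by
  rw [C.perp_sup] at hj
  rcases eq_or_ne j 0 with rfl | j0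
  · exact zero_mem _
  exact C.X_symm hx j0 hk (hj.1 x (self_mem ..)) (add_mem (C.X_symm hx h0 j0 e hj.1) (C.X_symm hx k0 j0 e' hj.2))

theorem mem_perp_B {x y : V} {k : W} (hx : x ≠ 0) (hy : y ≠ 0) (hxy : x + y ≠ 0) (k0 : k ≠ 0) (e : C.b x k = 0) :
    k ∈ C.perp (C.B x y) ↔ ∀ z j, C.Sg x z k → C.Sg x z j → C.b y j = 0 :=
  C.mem_perp_iSup.trans ⟨fun H z j s t => U_symm hy hxy
    (fun h u => C.X_symm hx u.h0 k0 u.xh (H h u) z (mem_of_sg s)) t, fun H h u => C.X_symm hx k0 u.h0 e <| by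
      rintro z (rfl | rfl | s)
      exacts [by simp, u.xh, U_symm s.y0 s.xy (fun j t => H z j s t) u]⟩

theorem B_add {x y z : V} (hx : x ≠ 0) (hy : y ≠ 0) (hxy : x + y ≠ 0) (hz : z ≠ 0) (hxz : x + z ≠ 0)
    (h0 : y + z ≠ 0) (h1 : x + (y + z) ≠ 0) : C.B x (y + z) ≤ C.B x y ⊔ C.B x z := C.le_of_perp fun k hk => by
  rw [C.perp_sup] at hk
  rcases eq_or_ne k 0 with rfl | k0
  · exact zero_mem _
  have e := hk.1 x (sp2_le_B hx hy hxy (Or.inr (Or.inl rfl)))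
  refine (mem_perp_B hx h0 h1 k0 e).2 fun u j s t => ?_
  rw [map_add, AddMonoidHom.add_apply, (mem_perp_B hx hy hxy k0 e).1 hk.1 u j s t,
    (mem_perp_B hx hz hxz k0 e).1 hk.2 u j s t, add_zero]

theorem mem_perp_S3 {x : V} {h k : W} (hx : x ≠ 0) (h0 : h ≠ 0) (e' : C.b x h = 0) (k0 : k ≠ 0) (e : C.b x k = 0) :
    k ∈ C.perp (C.S3 x h) ↔ ∀ z j, C.Sg x z k → C.Sg x z j → h ∈ C.X x j :=
  C.mem_perp_iSup.trans ⟨fun H z j s t => C.X_symm hx h0 t.h0 e' <| by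
      rintro y (rfl | rfl | u)
      exacts [by simp, t.xh, (mem_perp_B hx u.y0 u.xy k0 e).1 (H y u) z j s t],
    fun H y u => (mem_perp_B hx u.y0 u.xy k0 e).2 fun z j s t =>
      C.X_symm hx t.h0 h0 t.xh (H z j s t) y (mem_of_sg u)⟩

theorem S3_add {x y : V} {h k : W} (s : C.Sg x y h) (t : C.Sg x y k) (hk : h + k ≠ 0) :
    C.S3 x (h + k) ≤ C.S3 x h ⊔ C.S3 x k := C.le_of_perp fun j hj => by
  rw [C.perp_sup] at hj
  rcases eq_or_ne j 0 with rfl | j0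
  · exact zero_mem _
  have e := hj.1 x (B_le_S3 s (Y_le_B s (self_mem ..)))
  exact (mem_perp_S3 s.x0 hk (s.add t hk).xh j0 e).2 fun z i a b =>
    add_mem ((mem_perp_S3 s.x0 s.h0 s.xh j0 e).1 hj.1 z i a b) ((mem_perp_S3 s.x0 t.h0 t.xh j0 e).1 hj.2 z i a b)

section cubic

variable (hB : C.Bal) (h3 : C.al = 3)
include h3

theorem cases_A {x y : V} {h k j : W} (s : C.Sg x y h) (t : C.Sg x y k) (hk : h + k ≠ 0) (u : C.Sg x y j) :
    j = h ∨ j = k ∨ j = h + k :=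
  ((eq_of_le_of_card (sp2_le (S := C.A x y) (Or.inr s) (Or.inr t)) (by
    rw [card_sp2 s.h0 t.h0 hk, C.card_A s.x0 s.y0 s.xy, h3])).ge (Or.inr u)).resolve_left u.h0

theorem card_Y8 {x y : V} {h : W} (s : C.Sg x y h) : Nat.card (C.Y x h) = 8 := by rw [C.card_Y s.x0 s.h0 s.xh, h3]

theorem cases_Y {x y z u : V} {h : W} (s : C.Sg x y h) (t : C.Sg x z h) (hz : z ∉ sp2 x y) (a : u ∈ C.Y x h) :
    u ∈ sp2 x y ∨ u + z ∈ sp2 x y :=
  or_iff_not_imp_left.2 fun e => add_mem_of_half (sp2_le (self_mem ..) (mem_of_sg s))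
    (by rw [card_Y8 h3 s, card_sp2 s.x0 s.y0 s.xy]) a (mem_of_sg t) e hz

theorem exists_two {x y : V} {h : W} (s : C.Sg x y h) : ∃ k, C.Sg x y k ∧ h + k ≠ 0 := by
  obtain ⟨k, k1, k2, k3⟩ := exists_mem1 s.h0 (S := C.A x y) (by rw [C.card_A s.x0 s.y0 s.xy]; omega)
  exact ⟨k, k1.resolve_left k2, k3⟩

theorem exists_third {x y : V} {h : W} (s : C.Sg x y h) : ∃ z, C.Sg x z h ∧ z ∉ sp2 x y := by
  obtain ⟨z, z1, z2⟩ := exists_not_mem (S := C.Y x h) (T := sp2 x y) (by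
    rw [card_Y8 h3 s, card_sp2 s.x0 s.y0 s.xy]; omega)
  exact ⟨z, sg_of_mem z1 (fun e => z2 (Or.inl e)) fun e => z2 (Or.inr (Or.inl (eq_of_add0 e).symm)), z2⟩

theorem B_eq {x y : V} {h k : W} (s : C.Sg x y h) (t : C.Sg x y k) (hk : h + k ≠ 0) :
    C.B x y = C.Y x h ⊔ C.Y x k :=
  le_antisymm (iSup₂_le fun j u => by
    rcases cases_A h3 s t hk u with rfl | rfl | rfl
    exacts [le_sup_left, le_sup_right, Y_add s.x0 s.h0 t.h0 hk s.xh t.xh]) (sup_le (Y_le_B s) (Y_le_B t))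

theorem T4_eq {x y : V} {h k : W} (s : C.Sg x y h) (t : C.Sg x y k) (hk : h + k ≠ 0) :
    C.T4 x y = C.S3 x h ⊔ C.S3 x k :=
  le_antisymm (iSup₂_le fun j u => by
    rcases cases_A h3 s t hk u with rfl | rfl | rfl
    exacts [le_sup_left, le_sup_right, S3_add s t hk]) (sup_le (S3_le_T4 s) (S3_le_T4 t))

theorem S3_eq {x y z : V} {h : W} (s : C.Sg x y h) (t : C.Sg x z h) (hz : z ∉ sp2 x y) :
    C.S3 x h = C.B x y ⊔ C.B x z := by
  refine le_antisymm (iSup₂_le fun u a => ?_) (sup_le (B_le_S3 s) (B_le_S3 t))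
  have h2 := B_add (C := C) s.x0 s.y0 s.xy t.y0 t.xy (not_sp2.1 hz).2.2.1 (not_sp2.1 hz).2.2.2
  rcases mem8 (cases_Y h3 s t hz (mem_of_sg a)) with e | e | rfl | rfl | rfl | rfl | rfl | rfl
  exacts [absurd e a.y0, absurd (by rw [e, add_self]) a.xy, le_sup_left, (B_addx x y).le.trans le_sup_left,
    le_sup_right, (B_addx x z).le.trans le_sup_right, h2, (B_addx x (y + z)).le.trans h2]

include hB

theorem Y_inf {x y : V} {h k : W} (s : C.Sg x y h) (t : C.Sg x y k) (hk : h + k ≠ 0) :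
    C.Y x h ⊓ C.Y x k ≤ sp2 x y :=
  (eq_of_le_of_card (le_inf (sp2_le (self_mem ..) (mem_of_sg s)) (sp2_le (self_mem ..) (mem_of_sg t))) (by
    rw [hB.card_inf (hB.r1 s t hk), card_sp2 s.x0 s.y0 s.xy, h3])).ge

theorem card_B {x y : V} (hx : x ≠ 0) (hy : y ≠ 0) (hxy : x + y ≠ 0) : Nat.card (C.B x y) = 16 := by
  obtain ⟨h, s⟩ := C.exists_sg' hx hy hxy
  obtain ⟨k, t, hk⟩ := exists_two h3 s
  have := card_sup_mul_card_inf (C.Y x h) (C.Y x k)
  rw [hB.card_inf (hB.r1 s t hk), card_Y8 h3 s, card_Y8 h3 t, ← B_eq h3 s t hk, h3] at this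
  omega

theorem mem_B {x y z : V} (hx : x ≠ 0) (hy : y ≠ 0) (hxy : x + y ≠ 0) (hz : z ∈ C.B x y) :
    ∃ h, C.Sg x y h ∧ z ∈ C.Y x h := by
  obtain ⟨h, s⟩ := C.exists_sg' hx hy hxy
  obtain ⟨k, t, hk⟩ := exists_two h3 s
  have u := s.add t hk
  have l : ∀ {j}, C.Sg x y j → sp2 x y ≤ C.Y x j := fun a => sp2_le (self_mem ..) (mem_of_sg a)
  have c := card_sp2 hx hy hxy
  have := add_self h
  have := add_self k
  have := s.h0
  have := t.h0
  rcases mem_three (l s) (l t) (l u) (by rw [c, card_Y8 h3 s]) (by rw [c, card_Y8 h3 t])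
    (Y_inf hB h3 s u (by grind)) (Y_inf hB h3 t u (by grind))
    (fun e => by have := AddSubgroup.card_le_of_le e; rw [c, card_Y8 h3 u] at this; omega)
    (Y_add hx s.h0 t.h0 hk s.xh t.xh) (B_eq h3 s t hk ▸ hz) with e | e | e
  exacts [⟨_, s, e⟩, ⟨_, t, e⟩, ⟨_, u, e⟩]

theorem sp_of_B_eq {x y z : V} {k : W} (s : C.Sg x y k) (t : C.Sg x z k) (hz : z ∉ sp2 x y)
    (e : C.B x y = C.B x z) : C.fl.Sp := by
  obtain ⟨h, u, hk⟩ := exists_two h3 s
  have r := hB.r1 u s (add_comm k h ▸ hk)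
  have h1 : C.fl.Y k x ≤ C.fl.Y h x := by
    rintro j (rfl | rfl | a)
    · exact zero_mem _
    · exact mem_of_sg r
    obtain ⟨v, v1, v2, v3⟩ := exists_mem1 s.x0 (S := C.Y x k ⊓ C.Y x j) (by rw [hB.card_inf a]; omega)
    have l : C.Y x j ≤ C.B x y := (Y_le_B (sg_of_mem v1.2 v2 v3)).trans
      ((B_le_S3 (sg_of_mem v1.1 v2 v3)).trans (by rw [S3_eq h3 s t hz, ← e, sup_idem]))
    obtain ⟨w, w1, w2, w3⟩ := exists_mem1 s.x0 (S := C.Y x h ⊓ C.Y x j) (card_inf_ge (m := 3) (Y_le_B u) l (by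
      rw [card_B hB h3 s.x0 s.y0 s.xy, card_Y8 h3 u, card_Y8 h3 (sg_of_mem v1.2 v2 v3)]; omega))
    exact hB.A_le (sg_of_mem w1.1 w2 w3) (Or.inr (sg_of_mem w1.2 w2 w3))
  intro h' k' x' r'
  obtain ⟨g, rfl, rfl, rfl⟩ := r.conj C.t2' r'
  refine eq_of_le_of_card (fun j hj => ?_) (by rw [C.fl.card_Y r'.x0 r'.h0 r'.xh, C.fl.card_Y r'.y0 r'.h0 r'.yh])
  exact C.fl.smul_mem_Y (h1 (C.fl.smul_mem_Y hj (inv_smul_smul g k) rfl (inv_smul_smul g x))) rfl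
    (smul_inv_smul g j) rfl

variable (hn : ¬ C.fl.Sp)
include hn

theorem B_inf {x y z : V} {h : W} (s : C.Sg x y h) (t : C.Sg x z h) (hz : z ∉ sp2 x y) :
    C.B x y ⊓ C.B x z ≤ C.Y x h := by
  have c1 := card_B hB h3 s.x0 s.y0 s.xy
  have := two_mul_card_le (inf_le_left : C.B x y ⊓ C.B x z ≤ _) fun e => hn (sp_of_B_eq hB h3 s t hz
    (eq_of_le_of_card (e ▸ inf_le_right) (by rw [c1, card_B hB h3 t.x0 t.y0 t.xy])))
  exact (eq_of_le_of_card (le_inf (Y_le_B s) (Y_le_B t)) (by rw [card_Y8 h3 s]; omega)).ge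

theorem card_S3 {x y : V} {h : W} (s : C.Sg x y h) : Nat.card (C.S3 x h) = 32 := by
  obtain ⟨z, t, hz⟩ := exists_third h3 s
  have := card_sup_mul_card_inf (C.B x y) (C.B x z)
  rw [le_antisymm (B_inf hB h3 hn s t hz) (le_inf (Y_le_B s) (Y_le_B t)), card_Y8 h3 s, card_B hB h3 s.x0 s.y0 s.xy,
    card_B hB h3 t.x0 t.y0 t.xy, ← S3_eq h3 s t hz] at this
  omega

theorem mem_S3 {x y z u : V} {h : W} (s : C.Sg x y h) (t : C.Sg x z h) (hz : z ∉ sp2 x y) (hu : u ∈ C.S3 x h) :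
    u ∈ C.B x y ∨ u ∈ C.B x z ∨ u ∈ C.B x (y + z) := by
  have := add_self x
  have := add_self y
  have := add_self z
  have := s.y0
  have := s.xy
  have hz' := hz
  rw [mem_sp2] at hz'
  have a := sg_of_mem (add_mem (mem_of_sg s) (mem_of_sg t)) (by grind) (by grind)
  have c := card_Y8 h3 s
  exact mem_three (Y_le_B s) (Y_le_B t) (Y_le_B a) (by rw [c, card_B hB h3 s.x0 s.y0 s.xy])
    (by rw [c, card_B hB h3 t.x0 t.y0 t.xy]) (B_inf hB h3 hn s a (by rw [mem_sp2]; grind))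
    (B_inf hB h3 hn t a (by rw [mem_sp2]; grind))
    (fun e => by have := AddSubgroup.card_le_of_le e; rw [c, card_B hB h3 a.x0 a.y0 a.xy] at this; omega)
    (B_add s.x0 s.y0 s.xy t.y0 t.xy a.y0 a.xy) (S3_eq h3 s t hz ▸ hu)

theorem B_inf' {x y z x' y' z' : V} {h : W} (s : C.Sg x y h) (t : C.Sg x z h) (hz : z ∉ sp2 x y) {g : G}
    (e1 : g • x = x') (e2 : g • y = y') (e3 : g • z = z') (a : x' ∈ C.Y x h) (b : y' ∈ C.Y x h) (c : z' ∈ C.Y x h) :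
    C.B x' y' ⊓ C.B x' z' ≤ C.Y x h := by
  have s' := s.map e1 e2 rfl
  have t' := t.map e1 e3 rfl
  have hz' : z' ∉ sp2 x' y' := by
    subst e1 e2 e3
    simpa only [mem_sp2, ← smul_add, smul_left_cancel_iff, smul_eq_zero_iff_eq] using hz
  exact (B_inf hB h3 hn s' t' hz').trans (eq_of_card8 (card_Y8 h3 s') (card_Y8 h3 s) s'.x0 s'.y0 s'.xy hz'
    ⟨self_mem .., a⟩ ⟨mem_of_sg s', b⟩ ⟨mem_of_sg t', c⟩).le

theorem T4_spec {x y z : V} {h : W} (s : C.Sg x y h) (t : C.Sg x z h) (hz : z ∉ sp2 x y) :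
    Nat.card (C.T4 x y) = 64 ∧ C.T4 x y = C.S3 x h ⊔ C.B y z := by
  have := add_self x
  have := add_self y
  have := add_self z
  have x0 := s.x0
  have y0 := s.y0
  have xy := s.xy
  have z0 := t.y0
  have xz := t.xy
  have hz' := hz
  rw [mem_sp2] at hz'
  have yz : y + z ≠ 0 := by grind
  obtain ⟨g, g1, g2, g3⟩ := C.swap3 C.t2 (x := z) (y := x) (z := y) z0 x0 (by grind) y0 (by grind) xy (by grind)
  obtain ⟨a, a1, a2, a3⟩ := C.swap3 C.t2 (x := y) (y := x) (z := z) y0 x0 (by grind) z0 yz xz (by grind)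
  obtain ⟨c, c1, c2, c3⟩ := C.mv3 C.t2 (x := y) (y := x) (z := z) y0 x0 (by grind) z0 yz xz (by grind)
  have mx := self_mem (C := C) x h
  have my := mem_of_sg s
  have mz := mem_of_sg t
  have l1 : C.B y z ≤ C.T4 x y :=
    ((B_le_S3 (t.map g2 g1 rfl)).trans (S3_le_T4 (s.map g2 g3 rfl))).trans (T4_comm x0 y0 xy).ge
  have l2 : ¬ C.B y z ≤ C.S3 x h := fun e => by
    obtain ⟨u, u1, u2⟩ := exists_not_mem (S := C.B y z) (T := C.Y x h) (by
      rw [card_Y8 h3 s, card_B hB h3 y0 z0 yz]; omega)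
    rcases mem_S3 hB h3 hn s t hz (e u1) with e | e | e
    · exact u2 (B_inf' hB h3 hn s t hz g2 g3 g1 my mx mz ⟨(B_comm x0 y0 xy).le e, u1⟩)
    · exact u2 (B_inf' hB h3 hn s t hz a2 a1 a3 mz my mx ⟨(B_comm y0 z0 yz).le u1, (B_comm x0 z0 xz).le e⟩)
    · refine u2 (B_inf' hB h3 hn s t hz (g := c * a) (x' := y + z) (y' := y) (z' := x)
        (by rw [mul_smul, a2, c3, add_comm]) (by rw [mul_smul, a1, c1]) (by rw [mul_smul, a3, c2])
        (add_mem my mz) my mx ⟨?_, (B_comm x0 yz (by grind)).le e⟩)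
      rw [← B_comm y0 yz (by grind), B_addx]
      exact u1
  obtain ⟨k, s', hk⟩ := exists_two h3 s
  have c1 := card_sup_mul_card_inf (C.S3 x h) (C.S3 x k)
  have c2 := AddSubgroup.card_le_of_le (le_inf (B_le_S3 s) (B_le_S3 s'))
  have c3 := two_mul_card_le (le_sup_left : C.S3 x h ≤ C.S3 x h ⊔ C.B y z) fun e => l2 (e ▸ le_sup_right)
  have l3 := sup_le (S3_le_T4 s) l1
  have c4 := AddSubgroup.card_le_of_le l3
  rw [← T4_eq h3 s s' hk, card_S3 hB h3 hn s, card_S3 hB h3 hn s'] at c1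
  rw [card_B hB h3 x0 y0 xy] at c2
  rw [card_S3 hB h3 hn s] at c3
  have c5 : Nat.card (C.T4 x y) ≤ 64 := by nlinarith
  exact ⟨by omega, (eq_of_le_of_card l3 (by omega)).symm⟩

theorem card_T4 {x y : V} (hx : x ≠ 0) (hy : y ≠ 0) (hxy : x + y ≠ 0) : Nat.card (C.T4 x y) = 64 := by
  obtain ⟨h, s⟩ := C.exists_sg' hx hy hxy
  obtain ⟨z, t, hz⟩ := exists_third h3 s
  exact (T4_spec hB h3 hn s t hz).1

theorem T4_adj {x y z : V} {h : W} (s : C.Sg x y h) (t : C.Sg x z h) : C.T4 x z = C.T4 x y := by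
  have := add_self x
  have := add_self y
  have := t.y0
  have := t.xy
  have := s.y0
  have := s.xy
  by_cases hz : z ∈ sp2 x y
  · obtain rfl | rfl : z = y ∨ z = x + y := by rw [mem_sp2] at hz; grind
    exacts [rfl, T4_addx x y]
  · rw [(T4_spec hB h3 hn s t hz).2, (T4_spec hB h3 hn t s (by rw [mem_sp2] at hz ⊢; grind)).2,
      B_comm s.y0 t.y0 (by rw [mem_sp2] at hz; grind)]

theorem T4_closed {x y t : V} (hx : x ≠ 0) (ht : t ∈ C.T4 x y) (t0 : t ≠ 0) (t1 : x + t ≠ 0) :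
    C.T4 x t = C.T4 x y := by
  have := add_self x
  let Ω := mkSub (fun t => t = 0 ∨ t = x ∨ (t ≠ 0 ∧ x + t ≠ 0 ∧ C.T4 x t = C.T4 x y)) (Or.inl rfl) <| by
    rintro u v (rfl | rfl | a) (rfl | rfl | b)
    · simp
    · simp
    · simp [b]
    · simp
    · simp [add_self]
    · exact Or.inr (Or.inr ⟨b.2.1, by grind, by rw [T4_addx, b.2.2]⟩)
    · simp [a]
    · exact Or.inr (Or.inr ⟨by grind, by grind, by rw [add_comm, T4_addx, a.2.2]⟩)
    by_cases e1 : u + v = 0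
    · exact Or.inl e1
    by_cases e2 : u + v = x
    · exact Or.inr (Or.inl e2)
    obtain ⟨g, g1, g2, g3⟩ := C.mv3 C.t2 (x := v) (y := x) (z := u) b.1 hx (by grind) a.1 (by grind) a.2.1 (by grind)
    refine Or.inr (Or.inr ⟨e1, by grind, b.2.2 ▸ (eq_of_le_of_card (fun w hw => ?_) (by
      rw [card_T4 hB h3 hn hx b.1 b.2.1, card_T4 hB h3 hn hx e1 (by grind)])).symm⟩)
    have h1 := T4_smul g⁻¹ hw
    rw [inv_smul_eq_iff.2 g1.symm, inv_smul_eq_iff.2 g2.symm, b.2.2, ← a.2.2] at h1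
    simpa only [smul_inv_smul, g2, g3] using T4_smul g h1
  have h1 : C.T4 x y ≤ Ω := iSup₂_le fun h s => iSup₂_le fun z a => iSup₂_le fun k b => by
    rintro u (rfl | rfl | c)
    exacts [Or.inl rfl, Or.inr (Or.inl rfl),
      Or.inr (Or.inr ⟨c.y0, c.xy, (T4_adj hB h3 hn b c).trans (T4_adj hB h3 hn s a)⟩)]
  rcases h1 ht with e | e | e
  exacts [absurd e t0, absurd (by rw [e, add_self]) t1, e.2.2]

theorem Bal.cubic_false : False := by
  obtain ⟨x, y, h, s⟩ := C.exists_sg C.t2 C.big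
  have x0 := s.x0
  have := add_self x
  have adjB : ∀ u w, u ≠ 0 → x + u ≠ 0 →
      (((∃ h, C.Sg x u h ∧ C.Sg x w h) ∧ w ∉ sp2 x u) ↔ w ∈ (C.B x u \ sp2 x u : Set V)) := fun u w u0 u1 =>
    ⟨fun ⟨⟨_, a, b⟩, c⟩ => ⟨Y_le_B a (mem_of_sg b), c⟩, fun ⟨a, c⟩ => by
      obtain ⟨k, a, b⟩ := mem_B hB h3 x0 u0 u1 a
      exact ⟨⟨k, a, sg_of_mem b (fun e => c (Or.inl e)) fun e => c (Or.inr (Or.inl (eq_of_add0 e).symm))⟩, c⟩⟩
  have deg : ∀ u, u ≠ 0 → x + u ≠ 0 → {w | (∃ h, C.Sg x u h ∧ C.Sg x w h) ∧ w ∉ sp2 x u}.ncard = 12 :=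
    fun u u0 u1 => by
    have := Set.ncard_sdiff_add_ncard_of_subset (sp2_le_B (C := C) x0 u0 u1 : (sp2 x u : Set V) ⊆ C.B x u)
    change _ + Nat.card (sp2 x u) = Nat.card (C.B x u) at this
    rw [card_sp2 x0 u0 u1, card_B hB h3 x0 u0 u1] at this
    rw [show {w | (∃ h, C.Sg x u h ∧ C.Sg x w h) ∧ w ∉ sp2 x u} = (C.B x u \ sp2 x u : Set V) from
      Set.ext fun w => adjB u w u0 u1]
    omega
  have pair : ∀ t, ({t, x + t} : Set V).ncard % 5 = 2 := fun t => by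
    rw [Set.ncard_pair fun e => x0 (add_eq_right.1 e.symm)]
  refine no_pentagon {u | u ∈ C.T4 x y ∧ u ≠ 0 ∧ x + u ≠ 0}
    (fun u w => u ∈ C.T4 x y ∧ (∃ h, C.Sg x u h ∧ C.Sg x w h) ∧ w ∉ sp2 x u) ?_ (fun u a => a.2.2 (by simp [mem_sp2]))
    ?_ (fun u a => by simp only [a.1, true_and, deg u a.2.1 a.2.2]) ?_
  · rintro u w ⟨a, ⟨k, b, c⟩, -⟩
    exact ⟨⟨a, b.y0, b.xy⟩, T4_closed hB h3 hn x0 a b.y0 b.xy ▸ B_le_T4 x0 b.y0 b.xy (Y_le_B b (mem_of_sg c)),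
      c.y0, c.xy⟩
  · have := Set.ncard_sdiff_add_ncard_of_subset (show (sp1 x : Set V) ⊆ C.T4 x y by
      rintro _ (rfl | rfl)
      exacts [zero_mem _, B_le_T4 x0 s.y0 s.xy (Y_le_B s (self_mem ..))])
    change _ + Nat.card (sp1 x) = Nat.card (C.T4 x y) at this
    rw [card_sp1 x0, card_T4 hB h3 hn x0 s.y0 s.xy] at this
    rw [show {u | u ∈ C.T4 x y ∧ u ≠ 0 ∧ x + u ≠ 0} = (C.T4 x y \ sp1 x : Set V) from Set.ext fun u => by
      simp only [Set.mem_ofPred_eq, Set.mem_sdiff, SetLike.mem_coe, mem_sp1]; grind]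
    omega
  rintro u ⟨u1, u2, u3⟩ v ⟨v1, v2, v3⟩
  have := add_self u
  have := add_self v
  have hT := T4_closed hB h3 hn x0 u1 u2 u3
  have e0 : {w | (u ∈ C.T4 x y ∧ (∃ h, C.Sg x u h ∧ C.Sg x w h) ∧ w ∉ sp2 x u) ∧
      w ∈ C.T4 x y ∧ (∃ h, C.Sg x w h ∧ C.Sg x v h) ∧ v ∉ sp2 x w} =
      (C.B x u \ sp2 x u : Set V) ∩ (C.B x v \ sp2 x v) := Set.ext fun w => by
    have := add_self w
    simp only [Set.mem_ofPred_eq, Set.mem_inter_iff, ← adjB u w u2 u3, ← adjB v w v2 v3, u1, true_and]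
    refine and_congr_right fun ⟨⟨k, a, b⟩, c⟩ => ?_
    have := b.y0
    have := b.xy
    rw [and_iff_right (hT ▸ B_le_T4 x0 u2 u3 (Y_le_B a (mem_of_sg b)))]
    exact and_congr (exists_congr fun _ => and_comm) (by simp only [mem_sp2]; grind)
  rw [e0]
  by_cases e1 : v ∈ sp2 x u
  · have e2 : C.B x v = C.B x u ∧ sp2 x v = sp2 x u := by
      obtain rfl | rfl : v = u ∨ v = x + u := by rw [mem_sp2] at e1; grind
      exacts [⟨rfl, rfl⟩, ⟨B_addx x u, AddSubgroup.ext fun w => by simp only [mem_sp2]; grind⟩]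
    rw [e2.1, e2.2, Set.inter_self, ← show {w | (∃ h, C.Sg x u h ∧ C.Sg x w h) ∧ w ∉ sp2 x u} =
      (C.B x u \ sp2 x u : Set V) from Set.ext fun w => adjB u w u2 u3, deg u u2 u3]
  by_cases e2 : v ∈ C.B x u
  · obtain ⟨⟨k, a, b⟩, -⟩ := (adjB u v u2 u3).2 ⟨e2, e1⟩
    rw [← pair (u + v)]
    refine congrArg (· % 5) (congrArg _ (Set.ext fun w => ⟨fun ⟨c, d⟩ => ?_, fun c => ?_⟩))
    · have := cases_Y h3 a b e1 (B_inf hB h3 hn a b e1 ⟨c.1, d.1⟩)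
      have c2 := c.2
      have d2 := d.2
      simp only [SetLike.mem_coe, mem_sp2, Set.mem_insert_iff, Set.mem_singleton_iff] at this c2 d2 ⊢
      grind
    · have m := add_mem (mem_of_sg a) (mem_of_sg b)
      have m' : w ∈ C.Y x k := by
        rcases c with rfl | rfl
        exacts [m, add_mem (self_mem ..) m]
      simp only [mem_sp2, Set.mem_insert_iff, Set.mem_singleton_iff] at c e1
      exact ⟨⟨Y_le_B a m', by simp only [SetLike.mem_coe, mem_sp2]; grind⟩, Y_le_B b m',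
        by simp only [SetLike.mem_coe, mem_sp2]; grind⟩
  obtain ⟨h1, s1⟩ := C.exists_sg' x0 u2 u3
  obtain ⟨h2, s2, h12⟩ := exists_two h3 s1
  have s3 := s1.add s2 h12
  have inf : ∀ i j, C.Sg x u i → C.Sg x u j → i + j ≠ 0 → C.S3 x i ⊓ C.S3 x j ≤ C.B x u := fun i j a b c => by
    have := card_sup_mul_card_inf (C.S3 x i) (C.S3 x j)
    rw [← T4_eq h3 a b c, card_T4 hB h3 hn x0 u2 u3, card_S3 hB h3 hn a, card_S3 hB h3 hn b] at this
    exact (eq_of_le_of_card (le_inf (B_le_S3 a) (B_le_S3 b)) (by rw [card_B hB h3 x0 u2 u3]; omega)).ge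
  have cB := card_B hB h3 x0 u2 u3
  obtain ⟨k, sk, hv⟩ : ∃ k, C.Sg x u k ∧ v ∈ C.S3 x k := by
    have := add_self h1
    have := add_self h2
    have := s1.h0
    have := s2.h0
    rcases mem_three (B_le_S3 s1) (B_le_S3 s2) (B_le_S3 s3) (by rw [cB, card_S3 hB h3 hn s1])
      (by rw [cB, card_S3 hB h3 hn s2]) (inf _ _ s1 s3 (by grind)) (inf _ _ s2 s3 (by grind))
      (fun e => by have := AddSubgroup.card_le_of_le e; rw [cB, card_S3 hB h3 hn s3] at this; omega)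
      (S3_add s1 s2 h12) (T4_eq h3 s1 s2 h12 ▸ hT ▸ v1) with e | e | e
    exacts [⟨_, s1, e⟩, ⟨_, s2, e⟩, ⟨_, s3, e⟩]
  have sym : ∀ w, w ≠ 0 → x + w ≠ 0 → w ∈ C.B x v → v ∈ C.B x w := fun w w0 w1 e => by
    obtain ⟨j, a, b⟩ := mem_B hB h3 x0 v2 v3 e
    exact Y_le_B (sg_of_mem b w0 w1) (mem_of_sg a)
  obtain ⟨t, st, t1, t2⟩ : ∃ t, C.Sg x t k ∧ t ∉ sp2 x u ∧ v ∈ C.B x t := by
    obtain ⟨z, a, b⟩ := exists_third h3 sk
    have := add_self z
    rcases mem_S3 hB h3 hn sk a b hv with e | e | e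
    · exact absurd e e2
    · exact ⟨z, a, b, e⟩
    · rw [mem_sp2] at b
      exact ⟨u + z, sg_of_mem (add_mem (mem_of_sg sk) (mem_of_sg a)) (by grind) (by grind),
        by rw [mem_sp2]; grind, e⟩
  have := add_self t
  rw [← pair t]
  refine congrArg (· % 5) (congrArg _ (Set.ext fun w => ⟨fun ⟨c, d⟩ => ?_, fun c => ?_⟩))
  · obtain ⟨⟨j, a, b⟩, c⟩ := (adjB u w u2 u3).2 c
    have d' := sym w b.y0 b.xy d.1
    by_cases e : k + j = 0
    · obtain rfl := eq_of_add0 e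
      by_contra e
      have e3 := cases_Y h3 sk st t1 (mem_of_sg b)
      have e4 : t ∉ sp2 x w := by
        have := st.y0
        have := st.xy
        simp only [mem_sp2, Set.mem_insert_iff, Set.mem_singleton_iff] at e ⊢
        grind
      exact e2 (Y_le_B sk (B_inf hB h3 hn b st e4 ⟨d', t2⟩))
    · exact absurd (inf _ _ sk a e ⟨hv, B_le_S3 b d'⟩) e2
  · have m : w ∈ C.Y x k ∧ C.B x w = C.B x t := by
      rcases c with rfl | rfl
      exacts [⟨mem_of_sg st, rfl⟩, ⟨mem_of_sg st.addx, B_addx x t⟩]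
    simp only [mem_sp2, Set.mem_insert_iff, Set.mem_singleton_iff] at c t1
    have w0 : w ≠ 0 := by grind
    have w1 : x + w ≠ 0 := by grind
    obtain ⟨j, a, b⟩ := mem_B hB h3 x0 w0 w1 (m.2 ▸ t2)
    refine ⟨⟨Y_le_B sk m.1, by simp only [SetLike.mem_coe, mem_sp2]; grind⟩,
      Y_le_B (sg_of_mem b v2 v3) (mem_of_sg a), fun e => e2 ?_⟩
    have m1 := Y_le_B sk m.1
    have m2 := Y_le_B sk (self_mem x k)
    obtain rfl | rfl : w = v ∨ w = x + v := by simp only [SetLike.mem_coe, mem_sp2] at e; grind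
    exacts [m1, by simpa [← add_assoc, add_self] using add_mem m2 m1]

end cubic

theorem Bal.false (hB : C.Bal) : False := by
  rcases hB.three with h | h
  · by_cases h1 : C.fl.Sp
    · by_cases h2 : C.Sp
      · exact hB.not_sp h2 h1
      · exact hB.fl.cubic_false (hB.eq.trans h) h2
    · exact hB.cubic_false h h1
  · exact hB.not_sp (hB.sp_of_big h) (hB.fl.sp_of_big (hB.eq ▸ h))

end Cx

end CL.Perm.CK
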