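import Cfsg.Agent.Perm.CKLayers

/-! Two-transitive linear groups over the field with two elements, IV: the balanced case and the two spreads. -/

set_option autoImplicit false
set_option linter.unusedSectionVars false

namespace CL.Perm.CK

open MulAction ZModModule

section grp

variable {V : Type*} [AddCommGroup V] [Module (ZMod 2) V]

/-- The subgroup generated by two elements. -/
def sp2 (x y : V) : AddSubgroup V := mkSub (fun v => v = 0 ∨ v = x ∨ v = y ∨ v = x + y) (Or.inl rfl) <| by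
  have := add_self x
  have := add_self y
  rintro _ _ (rfl | rfl | rfl | rfl) (rfl | rfl | rfl | rfl) <;> grind

theorem mem_sp2 {x y v : V} : v ∈ sp2 x y ↔ v = 0 ∨ v = x ∨ v = y ∨ v = x + y := Iff.rfl

theorem card_sp2 {x y : V} (hx : x ≠ 0) (hy : y ≠ 0) (hxy : x + y ≠ 0) : Nat.card (sp2 x y) = 4 := by
  have := add_self x
  have := add_self y
  exact (Set.ncard_eq_four.2 ⟨0, x, y, x + y, by grind, by grind, by grind, by grind, by grind, by grind, rfl⟩ :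
    ({0, x, y, x + y} : Set V).ncard = 4)

theorem sp2_le {S : AddSubgroup V} {x y : V} (hx : x ∈ S) (hy : y ∈ S) : sp2 x y ≤ S := by
  rintro _ (rfl | rfl | rfl | rfl)
  exacts [S.zero_mem, hx, hy, S.add_mem hx hy]

omit [Module (ZMod 2) V] in
theorem exists_not_mem [Finite V] {S T : AddSubgroup V} (h : Nat.card T < Nat.card S) : ∃ s ∈ S, s ∉ T :=
  SetLike.not_le_iff_exists.1 fun e => (AddSubgroup.card_le_of_le e).not_gt h

theorem exists_mem1 [Finite V] {S : AddSubgroup V} {x : V} (hx : x ≠ 0) (h : 2 < Nat.card S) :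
    ∃ s ∈ S, s ≠ 0 ∧ x + s ≠ 0 := by
  obtain ⟨s, h1, h2⟩ := exists_not_mem (T := sp1 x) (S := S) (by rwa [card_sp1 hx])
  have := add_self x
  rw [mem_sp1] at h2
  exact ⟨s, h1, by grind, by grind⟩

theorem exists_mem2 [Finite V] {S : AddSubgroup V} {x y : V} (hx : x ≠ 0) (hy : y ≠ 0) (hxy : x + y ≠ 0)
    (h : 4 < Nat.card S) : ∃ s ∈ S, s ≠ 0 ∧ x + s ≠ 0 ∧ y + s ≠ 0 ∧ x + y + s ≠ 0 := by
  obtain ⟨s, h1, h2⟩ := exists_not_mem (T := sp2 x y) (S := S) (by rwa [card_sp2 hx hy hxy])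
  have := add_self x
  have := add_self y
  rw [mem_sp2] at h2
  exact ⟨s, h1, by grind, by grind, by grind, by grind⟩

omit [Module (ZMod 2) V] in
theorem card_inf_ge [Finite V] {S T U : AddSubgroup V} (h1 : S ≤ U) (h2 : T ≤ U) {m : ℕ}
    (h : m * Nat.card U ≤ Nat.card S * Nat.card T) : m ≤ Nat.card (S ⊓ T : AddSubgroup V) := by
  have c1 := card_sup_mul_card_inf S T
  have c2 := AddSubgroup.card_le_of_le (sup_le h1 h2)
  have c3 : 0 < Nat.card U := Nat.card_pos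
  by_contra! hlt
  nlinarith

omit [Module (ZMod 2) V] in
theorem exists_ne_zero_of_card [Finite V] {S : AddSubgroup V} (h : 2 ≤ Nat.card S) : ∃ s ∈ S, s ≠ 0 := by
  simpa using exists_not_mem (T := ⊥) (S := S) (by rw [AddSubgroup.card_bot]; omega)

theorem eq_of_add0 {x y : V} (h : x + y = 0) : x = y := by
  rw [eq_neg_of_add_eq_zero_left h, ZModModule.neg_eq_self]

end grp

variable {G V W : Type*} [Group G] [AddCommGroup V] [AddCommGroup W] [DistribMulAction G V] [DistribMulAction G W]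
  [Finite G] [Finite V] [Finite W] [Module (ZMod 2) V] [Module (ZMod 2) W]

namespace Cx

/-- The balanced case. -/
structure Bal (C : Cx G V W) : Prop where
  perp : C.Perp
  eq : C.fl.al = C.al
  two : 2 ≤ C.al

variable {C : Cx G V W}

theorem Bal.fl (hB : C.Bal) : C.fl.Bal := ⟨hB.perp.fl, hB.eq.symm, hB.eq ▸ hB.two⟩

theorem Bal.three (hB : C.Bal) : C.al = 3 ∨ 7 ≤ C.al := by
  obtain ⟨a, ha⟩ := C.al_spec.2
  have := hB.two
  rcases a with _ | _ | _ | a <;> omega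

theorem sg_of_mem {x y : V} {h : W} (hy : y ∈ C.Y x h) (h0 : y ≠ 0) (h1 : x + y ≠ 0) : C.Sg x y h := by
  rcases hy with e | e | s
  exacts [absurd e h0, absurd (by rw [e, add_self]) h1, s]

theorem mem_of_sg {x y : V} {h : W} (s : C.Sg x y h) : y ∈ C.Y x h := Or.inr (Or.inr s)

theorem self_mem (x : V) (h : W) : x ∈ C.Y x h := Or.inr (Or.inl rfl)

theorem Bal.r1 (hB : C.Bal) {x y : V} {h k : W} (s : C.Sg x y h) (t : C.Sg x y k) (hk : h + k ≠ 0) :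
    C.fl.Sg h k x := by
  by_contra e
  have := (C.count s.x0 s.h0 s.xh).2 hB.eq k fun e => hk (by rw [e, add_self])
  rw [if_neg e, Set.ncard_eq_zero] at this
  exact this.le ⟨s, t⟩

theorem Bal.card_inf (hB : C.Bal) {x : V} {h k : W} (s : C.fl.Sg h k x) :
    Nat.card (C.Y x h ⊓ C.Y x k : AddSubgroup V) = C.al + 1 := by
  have := (C.count s.h0 s.x0 s.xh).2 hB.eq k fun e => s.xy (by rw [e, add_self])
  have := hB.two
  rw [C.ncard_inf s.h0, ‹Set.ncard _ = _›, if_pos s]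
  omega

theorem Bal.A_le (hB : C.Bal) {x y : V} {h : W} (s : C.Sg x y h) : C.A x y ≤ C.fl.Y h x := by
  rintro k (rfl | t)
  · exact zero_mem _
  by_cases e : h + k = 0
  · exact Or.inr (Or.inl (eq_of_add0 e).symm)
  · exact mem_of_sg (hB.r1 s t e)

theorem A_inf {x y z : V} {k : W} (h0 : y + z ≠ 0) (h1 : x + (y + z) ≠ 0) (a : k ∈ C.A x y) (b : k ∈ C.A x z) :
    k ∈ C.A x (y + z) := by
  rcases a with rfl | a
  · exact zero_mem _
  exact Or.inr (sg_of_mem (add_mem (mem_of_sg a) (mem_of_sg (b.resolve_left a.h0))) h0 h1)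

theorem Bal.A_ne (hB : C.Bal) {x y z : V} {k : W} (s : C.Sg x y k) (t : C.Sg x z k) (h0 : y + z ≠ 0)
    (h1 : x + (y + z) ≠ 0) : C.A x y ≠ C.A x z := fun e => by
  have c1 := C.card_A s.x0 s.y0 s.xy
  obtain ⟨j, j1, j2⟩ := exists_not_mem (S := C.fl.Y k x) (T := C.A x y) (by
    rw [c1, C.fl.card_Y s.h0 s.x0 s.xh, hB.eq]; omega)
  have u := sg_of_mem j1 (fun e => j2 (Or.inl e)) fun e => j2 (Or.inr (eq_of_add0 e ▸ s))
  have h2 := add_mem_of_half (inf_le_left : C.Y x k ⊓ C.Y x j ≤ _) (by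
    rw [hB.card_inf u, C.card_Y s.x0 s.h0 s.xh]) (mem_of_sg s) (mem_of_sg t)
    (fun h => j2 (Or.inr (sg_of_mem h.2 s.y0 s.xy))) fun h => j2 (e ▸ Or.inr (sg_of_mem h.2 t.y0 t.xy))
  have h3 := eq_of_le_of_card (fun k hk => A_inf h0 h1 hk (e ▸ hk) : C.A x y ≤ _) (by rw [c1, C.card_A s.x0 h0 h1])
  exact j2 (h3 ▸ Or.inr (sg_of_mem h2.2 h0 h1))

/-- The subspaces `Y x h` form a spread of the hyperplane `h`. -/
def Sp (C : Cx G V W) : Prop := ∀ x t h, C.Sg x t h → C.Y t h = C.Y x h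

theorem Bal.sp_of_big (hB : C.Bal) (h7 : 7 ≤ C.al) : C.Sp := fun x t h s => by
  have c1 := hB.fl.card_inf (C := C.fl) s
  rw [hB.eq] at c1
  obtain ⟨k, k1, k2, k3⟩ := exists_mem1 s.h0 (S := C.fl.Y h x ⊓ C.fl.Y h t) (by omega)
  obtain ⟨j, j1, j2, j3, j4, j5⟩ := exists_mem2 s.h0 k2 k3 (S := C.fl.Y h x ⊓ C.fl.Y h t) (by omega)
  have a1 := sg_of_mem k1.1 k2 k3
  have a2 := sg_of_mem j1.1 j2 j3
  have l1 : C.fl.A h k ≤ C.Y t h ⊓ C.Y x h := le_inf (hB.fl.A_le (sg_of_mem k1.2 k2 k3)) (hB.fl.A_le a1)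
  have l2 : C.fl.A h j ≤ C.Y t h ⊓ C.Y x h := le_inf (hB.fl.A_le (sg_of_mem j1.2 j2 j3)) (hB.fl.A_le a2)
  have c2 := C.fl.card_A s.h0 k2 k3
  have c3 := two_mul_card_le l1 fun e => hB.fl.A_ne a1 a2 j4 (add_assoc h k j ▸ j5)
    (eq_of_le_of_card (e ▸ l2) (by rw [c2, C.fl.card_A s.h0 j2 j3])).symm
  rw [c2, hB.eq] at c3
  exact (eq_of_le_of_card inf_le_left (by rwa [C.card_Y s.y0 s.h0 s.yh])).symm.trans
    (eq_of_le_of_card inf_le_right (by rwa [C.card_Y s.x0 s.h0 s.xh]))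

theorem Bal.common (hB : C.Bal) {x u t : V} {S : AddSubgroup W} (hS : Nat.card S = 2 * (C.al + 1)) (hx : x ≠ 0)
    (hu : u ≠ 0) (hu' : x + u ≠ 0) (ht : t ≠ 0) (ht' : x + t ≠ 0) (l1 : C.A x u ≤ S) (l2 : C.A x t ≤ S) :
    ∃ j, C.Sg x u j ∧ C.Sg x t j := by
  obtain ⟨j, j1, j2⟩ := exists_ne_zero_of_card (card_inf_ge l1 l2 (m := 2) (by
    rw [hS, C.card_A hx hu hu', C.card_A hx ht ht']
    have : 3 ≤ C.al := by have := hB.three; omega
    nlinarith))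
  exact ⟨j, j1.1.resolve_left j2, j1.2.resolve_left j2⟩

theorem Bal.not_sp (hB : C.Bal) (h1 : C.Sp) (h2 : C.fl.Sp) : False := by
  obtain ⟨x, y, h, s⟩ := C.exists_sg C.t2 C.big
  have := hB.two
  obtain ⟨k, k1, k2, k3⟩ := exists_mem1 s.h0 (S := C.A x y) (by rw [C.card_A s.x0 s.y0 s.xy]; omega)
  have s1 := k1.resolve_left k2
  have r := hB.r1 s s1 k3
  obtain ⟨t, t1, t2⟩ := exists_not_mem (S := C.Y x k) (T := C.Y x h ⊓ C.Y x k) (by
    rw [hB.card_inf r, C.card_Y s.x0 k2 s1.xh]; omega)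
  replace t2 : t ∉ C.Y x h := fun e => t2 ⟨e, t1⟩
  have n1 : ∀ u ∈ C.Y x h, u + t ≠ 0 := fun u hu e => t2 (eq_of_add0 e ▸ hu)
  have t0 : t ≠ 0 := by simpa using n1 0 (zero_mem _)
  have s2 := sg_of_mem t1 t0 (n1 x (self_mem ..))
  have th : C.b t h = 0 := hB.perp x t k h s2 r.symm
  have cY : ∀ u, u ≠ 0 → C.b u h = 0 → Nat.card (C.fl.Y h u) = 2 * (C.al + 1) := fun u e e' => by
    rw [C.fl.card_Y s.h0 e e', hB.eq]
  have g1 : ∀ u, C.Sg x u h → t ∉ C.Y u h ∧ ∃ j, C.fl.Sg h j u ∧ C.Sg u t j := fun u su => by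
    obtain ⟨j, j1, j2⟩ := hB.common (cY x s.x0 s.xh) s.x0 su.y0 su.xy t0 s2.xy (hB.A_le su)
      (h2 h k x r ▸ hB.A_le s2)
    exact ⟨h1 x u h su ▸ t2, j, hB.r1 su.symm j1.symm fun e => t2 (eq_of_add0 e ▸ mem_of_sg j2),
      sg_of_mem (h1 x u j j1 ▸ mem_of_sg j2) t0 (n1 u (mem_of_sg su))⟩
  have g2 : ∀ u ∈ C.Y x h, u ≠ 0 → (t ∉ C.Y u h ∧ ∃ j, C.fl.Sg h j u ∧ C.Sg u t j) →
      C.A t u ≤ C.fl.Y h t ∧ h ∉ C.A t u := fun u hu u0 ⟨e, j, j1, j2⟩ => by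
    obtain ⟨g, a1, a2, a3⟩ := C.swapF C.t2 u0 t0 (n1 u hu) s.h0 (C.Y_le s.xh hu) th
    exact ⟨h2 h _ t (j1.map a1 rfl a2) ▸ hB.A_le (j2.map a2 a3 rfl), fun hh =>
      e (C.smul_mem_Y (mem_of_sg (hh.resolve_left s.h0)) a3 a2 a1)⟩
  have mx := self_mem (C := C) x h
  have my := mem_of_sg s
  have b1 := g2 x mx s.x0 ⟨t2, k, r, s2⟩
  have b2 := g2 y my s.y0 (g1 y s)
  have b3 := g2 _ (add_mem mx my) s.xy (g1 _ s.addx)
  have n2 := n1 x mx
  have n3 := n1 y my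
  have n4 := n1 _ (add_mem mx my)
  have := add_self x
  have := add_self y
  have x0 := s.x0
  have y0 := s.y0
  have xy := s.xy
  obtain ⟨j, j1, j2⟩ := hB.common (cY t t0 th) t0 x0 (by grind) y0 (by grind) b1.1 b2.1
  have c1 := C.card_A t0 x0 (by grind)
  have c2 := C.card_A t0 y0 (by grind)
  have c3 := C.card_A t0 xy (by grind)
  obtain ⟨p, p1, p2⟩ := SetLike.not_le_iff_exists.1 fun e =>
    hB.A_ne j1 j2 xy (by grind) (eq_of_le_of_card e (by rw [c1, c2]))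
  have mh := self_mem (C := C.fl) h t
  have q1 := add_mem_of_half b2.1 (by rw [cY t t0 th, c2]) (b1.1 p1) mh p2 b2.2
  have q2 := add_mem_of_half b3.1 (by rw [cY t t0 th, c3]) (b1.1 p1) mh
    (fun e => p2 (by have := A_inf (by grind) (by grind) p1 e; rwa [show x + (x + y) = y by grind] at this)) b3.2
  have q3 := A_inf (by grind) (by grind) q1 q2
  rw [show y + (x + y) = x by grind] at q3
  exact b1.2 (by simpa [← add_assoc, add_self] using add_mem p1 q3)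

end Cx

end CL.Perm.CK
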