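import Cfsg.Agent.Perm.CKBasic

/-! Two-transitive linear groups over the field with two elements, II: transitivity on mixed configurations of
vectors and hyperplanes, and the relation `Sg x y h`: the stabiliser of `x, y` is transitive off the hyperplane `h`. -/

set_option autoImplicit false
set_option linter.unusedSectionVars false

namespace CL.Perm.CK

open MulAction ZModModule

/-- Double transitivity on the non-zero vectors. -/
def T2 (G V : Type*) [Group G] [AddCommGroup V] [DistribMulAction G V] : Prop :=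
  ∀ x y x' y' : V, x ≠ 0 → y ≠ 0 → x + y ≠ 0 → x' ≠ 0 → y' ≠ 0 → x' + y' ≠ 0 → ∃ g : G, g • x = x' ∧ g • y = y'

theorem ncard_coset {V : Type*} [AddCommGroup V] (S : AddSubgroup V) (T : Set V) (k : V)
    (h : ∀ v, v ∈ T ↔ v - k ∈ S) : T.ncard = Nat.card S := by
  have : T = (fun s => s + k) '' S := Set.ext fun v =>
    (h v).trans ⟨fun e => ⟨_, e, sub_add_cancel _ _⟩, by rintro ⟨s, hs, rfl⟩; simpa using hs⟩
  rw [this, Set.ncard_image_of_injective _ (add_left_injective k)]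
  rfl

theorem coprime_of_succ {d a : ℕ} (j : ℕ) (h : d + 1 = 2 ^ a) (hd : 0 < d) : (2 ^ j).Coprime d := by
  refine Nat.Coprime.pow_left _ ((Nat.coprime_two_left).2 ?_)
  rcases a with _ | a
  · omega
  · rw [Nat.odd_iff]; omega

variable {G V W : Type*} [Group G] [AddCommGroup V] [AddCommGroup W] [DistribMulAction G V] [DistribMulAction G W]
  [Finite G] [Finite V] [Finite W] [Module (ZMod 2) V] [Module (ZMod 2) W]

theorem smul_ne0 (g : G) {x : V} (h : x ≠ 0) : g • x ≠ 0 := fun e => h ((smul_eq_zero_iff_eq g).1 e)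

theorem T2.one (h2 : T2 G V) {x x' : V} (hx : x ≠ 0) (hx' : x' ≠ 0) : ∃ g : G, g • x = x' := by
  by_cases e : x + x' = 0
  · exact ⟨1, by rw [one_smul, eq_neg_of_add_eq_zero_left e, ZModModule.neg_eq_self]⟩
  · obtain ⟨g, h, -⟩ := h2 x x' x' x hx hx' e hx' hx (add_comm x x' ▸ e)
    exact ⟨g, h⟩

namespace Pr

variable (P : Pr G V W)

theorem flag (h2 : T2 G V) {x x' : V} {k k' : W} (hx : x ≠ 0) (hx' : x' ≠ 0) (hk : k ≠ 0) (hk' : k' ≠ 0)
    (e : P.b x k = P.b x' k') : ∃ g : G, g • x = x' ∧ g • k = k' := by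
  obtain ⟨g, rfl⟩ := h2.one hx hx'
  obtain ⟨s, h1, h3⟩ := P.flip.both (smul_ne0 g hk) hk'
  obtain ⟨a, ha, h4⟩ := P.fourier (stabilizer G (g • x)) (g • k) k' s h1 h3 fun v hv => by
    have h5 : P.b (v + s) (g • k) ≠ P.b (v + s) k' := by
      rwa [map_add, AddMonoidHom.add_apply, AddMonoidHom.add_apply, show P.b s (g • k) = 1 from h1,
        show P.b s k' = 1 from h3, ne_eq, add_left_inj]
    have h6 : ∀ u, P.b u (g • k) ≠ P.b u k' → u ≠ 0 ∧ g • x + u ≠ 0 := fun u hu =>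
      ⟨by rintro rfl; simp at hu, fun e' => hu (by
        rw [eq_neg_of_add_eq_zero_right e', ZModModule.neg_eq_self, P.inv, e])⟩
    obtain ⟨a, ha⟩ := h2 _ _ _ _ hx' (h6 v hv).1 (h6 v hv).2 hx' (h6 _ h5).1 (h6 _ h5).2
    exact ⟨a, ha.1, ha.2⟩
  exact ⟨a * g, by rw [mul_smul]; exact ha, by rw [mul_smul, h4]⟩

include P in
theorem t2_dual (h2 : T2 G V) : T2 G W := fun h k h' k' a1 a2 a3 a4 a5 a6 => by
  obtain ⟨x, hx⟩ := P.ndR h a1
  obtain ⟨x', hx'⟩ := P.ndR h' a4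
  obtain ⟨g, -, rfl⟩ := P.flag h2 (x := x) (x' := x') (by rintro rfl; simp at hx) (by rintro rfl; simp at hx') a1 a4
    (hx.trans hx'.symm)
  obtain ⟨s, e0, e1, e2⟩ := P.flip.both1 (smul_ne0 g a2) (smul_add g h k ▸ smul_ne0 g a3) a5 a6
  obtain ⟨a, ha, h4⟩ := P.fourier (stabilizer G (g • h)) (g • k) k' s e1 e2 fun v hv => by
    have h5 : P.b (v + s) (g • k) ≠ P.b (v + s) k' := by
      rwa [map_add, AddMonoidHom.add_apply, AddMonoidHom.add_apply, show P.b s (g • k) = 1 from e1,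
        show P.b s k' = 1 from e2, ne_eq, add_left_inj]
    obtain ⟨a, ha⟩ := P.flag h2 (x := v) (x' := v + s) (by rintro rfl; simp at hv)
      (fun e => by rw [e] at h5; simp at h5) a4 a4
      (by rw [map_add, AddMonoidHom.add_apply, show P.b s (g • h) = 0 from e0, add_zero])
    exact ⟨a, ha.2, ha.1⟩
  exact ⟨a * g, by rw [mul_smul]; exact ha, by rw [mul_smul, h4]⟩

/-- The hyperplane defined by `h`. -/
def hyp (h : W) : AddSubgroup V := P.flip.perp (sp1 h)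

theorem mem_hyp {h : W} {v : V} : v ∈ P.hyp h ↔ P.b v h = 0 :=
  ⟨fun e => e h (Or.inr rfl), by rintro e _ (rfl | rfl); exacts [map_zero (P.b v), e]⟩

theorem card_hyp {h : W} (h0 : h ≠ 0) : 2 * Nat.card (P.hyp h) = Nat.card V := by
  rw [← P.flip.card_perp (sp1 h), card_sp1 h0]; rfl

theorem ncard_one {h : W} (h0 : h ≠ 0) : {v | P.b v h = 1}.ncard = Nat.card (P.hyp h) := by
  obtain ⟨x, hx⟩ := P.ndR h h0
  refine ncard_coset _ _ x fun v => ?_
  rw [P.mem_hyp, map_sub, AddMonoidHom.sub_apply, hx, sub_eq_zero]; rfl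

theorem ncard_zero (h : W) : {v | v ≠ 0 ∧ P.b v h = 0}.ncard + 1 = Nat.card (P.hyp h) := by
  rw [show {v | v ≠ 0 ∧ P.b v h = 0} = (P.hyp h : Set V) \ {0} from Set.ext fun v => by
    simp [P.mem_hyp, and_comm], Set.ncard_sdiff_singleton_add_one (P.hyp h).zero_mem]
  rfl

theorem triple (h2 : T2 G V) {x y x' y' : V} {h h' : W} (e1 : P.b x h = 1) (e2 : P.b y h = 0) (hy : y ≠ 0)
    (e1' : P.b x' h' = 1) (e2' : P.b y' h' = 0) (hy' : y' ≠ 0) : ∃ g : G, g • x = x' ∧ g • y = y' ∧ g • h = h' := by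
  have h0 : h ≠ 0 := by rintro rfl; simp at e1
  have h0' : h' ≠ 0 := by rintro rfl; simp at e1'
  obtain ⟨g, rfl, rfl⟩ := P.flag h2 hy hy' h0 h0' (e2.trans e2'.symm)
  have o1 : orbit (stabilizer G (g • h)) x' = {v | P.b v (g • h) = 1} := Set.ext fun v => mem_orb.trans
    ⟨by rintro ⟨a, ha, rfl⟩; exact (congrArg _ (show _ = a • g • h from ha.symm)).trans ((P.inv ..).trans e1'),
      fun hv => by
        obtain ⟨a, h3, h4⟩ := P.flag h2 (x := x') (x' := v) (by rintro rfl; simp at e1') (by rintro rfl; simp at hv)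
          h0' h0' (e1'.trans hv.symm)
        exact ⟨a, h4, h3⟩⟩
  have o2 : orbit (stabilizer G (g • h)) (g • y) = {v | v ≠ 0 ∧ P.b v (g • h) = 0} := Set.ext fun v => mem_orb.trans
    ⟨by
      rintro ⟨a, ha, rfl⟩
      exact ⟨smul_ne0 a hy', (congrArg _ (show _ = a • g • h from ha.symm)).trans ((P.inv ..).trans e2')⟩,
      fun hv => by
        obtain ⟨a, h3, h4⟩ := P.flag h2 hy' hv.1 h0' h0' (e2'.trans hv.2.symm)
        exact ⟨a, h4, h3⟩⟩
  have o3 := orbit_eq_of_coprime (E := stabilizer G (g • h) ⊓ stabilizer G (g • y)) inf_le_left x' (by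
    rw [relIndex_stab, o1, o2, P.ncard_one h0', ← P.ncard_zero]; simp)
  obtain ⟨a, ha, e⟩ := mem_orb.1 ((o3.trans o1).ge (show P.b (g • x) (g • h) = 1 by rw [P.inv, e1]))
  exact ⟨a⁻¹ * g, by rw [mul_smul, ← e, inv_smul_smul], by rw [mul_smul, inv_smul_eq_iff]; exact ha.2.symm,
    by rw [mul_smul, inv_smul_eq_iff]; exact ha.1.symm⟩

include P in
theorem mv3 (h2 : T2 G V) {x y z : V} (hx : x ≠ 0) (hy : y ≠ 0) (hxy : x + y ≠ 0) (h0 : z ≠ 0) (h1 : x + z ≠ 0)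
    (h3 : y + z ≠ 0) (h4 : x + y + z ≠ 0) : ∃ g : G, g • x = x ∧ g • y = y ∧ g • z = z + x := by
  obtain ⟨s, e1, e2, e3⟩ := P.sep2 h0 h1 h3 h4
  obtain ⟨g, hg, e⟩ := P.flip.fourier (stabilizer G x ⊓ stabilizer G y) z (z + x) s e3
    (show P.b (z + x) s = 1 by rw [map_add, AddMonoidHom.add_apply, e3, e1, add_zero]) fun k hk => by
      have hk' : P.b x k = 1 := z2_ne.1 fun e => hk (show P.b z k = P.b (z + x) k by
        rw [map_add, AddMonoidHom.add_apply, e, add_zero])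
      have e4 : P.b x (k + s) = 1 := by rw [map_add, hk', e1, add_zero]
      rcases z2 (P.b y k) with e | e
      · obtain ⟨g, a1, a2, a3⟩ := P.triple h2 hk' e hy e4 (by rw [map_add, e, e2, add_zero]) hy
        exact ⟨g, ⟨a1, a2⟩, a3⟩
      · obtain ⟨g, a1, a2, a3⟩ := P.triple h2 hk' (by rw [map_add, AddMonoidHom.add_apply, hk', e]; rfl) hxy e4
          (by rw [map_add P.b, AddMonoidHom.add_apply, e4, map_add, e, e2]; rfl) hxy
        rw [smul_add, a1, add_right_inj] at a2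
        exact ⟨g, ⟨a1, a2⟩, a3⟩
  exact ⟨g, hg.1, hg.2, e⟩

include P in
theorem swap3 (h2 : T2 G V) {x y z : V} (hx : x ≠ 0) (hy : y ≠ 0) (hxy : x + y ≠ 0) (h0 : z ≠ 0) (h1 : x + z ≠ 0)
    (h3 : y + z ≠ 0) (h4 : x + y + z ≠ 0) : ∃ g : G, g • x = x ∧ g • y = z ∧ g • z = y := by
  have := add_self x
  have := add_self y
  have := add_self z
  obtain ⟨a, a1, a2, a3⟩ := P.mv3 h2 (x := y) (y := x) (z := z) hy hx (by grind) h0 h3 h1 (by grind)
  obtain ⟨c, c1, c2, c3⟩ := P.mv3 h2 (x := z + y) (y := x) (z := y) (by grind) hx (by grind) hy (by grind) hxy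
    (by grind)
  obtain ⟨d, d1, d2, d3⟩ := P.mv3 h2 (x := z) (y := x) (z := z + y) h0 hx (by grind) (by grind) (by grind) (by grind)
    (by grind)
  refine ⟨d * c * a, by rw [mul_smul, mul_smul, a2, c2, d2], ?_, ?_⟩
  · rw [mul_smul, mul_smul, a1, c3, show y + (z + y) = z by grind, d1]
  · rw [mul_smul, mul_smul, a3, c1, d3]; grind

theorem mvF (h2 : T2 G V) {x y : V} {h : W} (hx : x ≠ 0) (h0 : h ≠ 0) (e : P.b x h = 0) (hy : y ≠ 0)
    (hxy : x + y ≠ 0) : ∃ g : G, g • x = x ∧ g • h = h ∧ g • y = y + x := by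
  obtain ⟨s, e1, e3⟩ := P.sep1 hy hxy
  obtain ⟨g, hg, e⟩ := P.flip.fourier (stabilizer G x ⊓ stabilizer G h) y (y + x) s e3
    (show P.b (y + x) s = 1 by rw [map_add, AddMonoidHom.add_apply, e3, e1, add_zero]) fun k hk => by
      have hk' : P.b x k = 1 := z2_ne.1 fun e => hk (show P.b y k = P.b (y + x) k by
        rw [map_add, AddMonoidHom.add_apply, e, add_zero])
      obtain ⟨g, a1, a2, a3⟩ := P.flip.triple (P.t2_dual h2) (x := k) (y := h) (x' := k + s) (y' := h) hk' e h0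
        (show P.b x (k + s) = 1 by rw [map_add, hk', e1, add_zero]) e h0
      exact ⟨g, ⟨a3, a2⟩, a1⟩
  exact ⟨g, hg.1, hg.2, e⟩

theorem swapF (h2 : T2 G V) {x y : V} {h : W} (hx : x ≠ 0) (hy : y ≠ 0) (hxy : x + y ≠ 0) (h0 : h ≠ 0)
    (e : P.b x h = 0) (e' : P.b y h = 0) : ∃ g : G, g • h = h ∧ g • x = y ∧ g • y = x := by
  have := add_self x
  have := add_self y
  obtain ⟨a, a1, a2, a3⟩ := P.mvF h2 hx h0 e hy hxy
  obtain ⟨c, c1, c2, c3⟩ := P.mvF h2 (x := y + x) (y := x) (by grind) h0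
    (by rw [map_add, AddMonoidHom.add_apply, e, e', add_zero]) hx (by grind)
  obtain ⟨d, d1, d2, d3⟩ := P.mvF h2 (x := y) (y := y + x) hy h0 e' (by grind) (by grind)
  refine ⟨d * c * a, by rw [mul_smul, mul_smul, a2, c2, d2], ?_, ?_⟩
  · rw [mul_smul, mul_smul, a1, c3, show x + (y + x) = y by grind, d1]
  · rw [mul_smul, mul_smul, a3, c1, d3]; grind

/-- The stabiliser of the independent vectors `x, y` of the hyperplane `h` is transitive off `h`. -/
structure Sg (x y : V) (h : W) : Prop where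
  x0 : x ≠ 0
  y0 : y ≠ 0
  xy : x + y ≠ 0
  h0 : h ≠ 0
  xh : P.b x h = 0
  yh : P.b y h = 0
  tr : ∀ z z', P.b z h = 1 → P.b z' h = 1 → ∃ g : G, g • x = x ∧ g • y = y ∧ g • z = z'

variable {P}

theorem Sg.smul {x y : V} {h : W} (s : P.Sg x y h) (g : G) : P.Sg (g • x) (g • y) (g • h) :=
  ⟨smul_ne0 g s.x0, smul_ne0 g s.y0, smul_add g x y ▸ smul_ne0 g s.xy, smul_ne0 g s.h0, (P.inv ..).trans s.xh,
    (P.inv ..).trans s.yh, fun z z' e e' => by
      obtain ⟨a, a1, a2, a3⟩ := s.tr (g⁻¹ • z) (g⁻¹ • z') (by rw [P.inv', inv_inv, e]) (by rw [P.inv', inv_inv, e'])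
      exact ⟨g * a * g⁻¹, by simp [mul_smul, a1], by simp [mul_smul, a2], by simp [mul_smul, a3]⟩⟩

theorem Sg.map {x y x' y' : V} {h h' : W} (s : P.Sg x y h) {g : G} (e1 : g • x = x') (e2 : g • y = y')
    (e3 : g • h = h') : P.Sg x' y' h' := e1 ▸ e2 ▸ e3 ▸ s.smul g

theorem Sg.symm {x y : V} {h : W} (s : P.Sg x y h) : P.Sg y x h :=
  ⟨s.y0, s.x0, add_comm x y ▸ s.xy, s.h0, s.yh, s.xh, fun z z' e e' =>
    (s.tr z z' e e').imp fun _ a => ⟨a.2.1, a.1, a.2.2⟩⟩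

theorem Sg.addx {x y : V} {h : W} (s : P.Sg x y h) : P.Sg x (x + y) h :=
  ⟨s.x0, s.xy, by rw [← add_assoc, add_self, zero_add]; exact s.y0, s.h0, s.xh,
    by rw [map_add, AddMonoidHom.add_apply, s.xh, s.yh, add_zero], fun z z' e e' =>
    (s.tr z z' e e').imp fun _ a => ⟨a.1, by rw [smul_add, a.1, a.2.1], a.2.2⟩⟩

theorem Sg.tr2 {x y : V} {h k : W} (s : P.Sg x y h) (t : P.Sg x y k) {z z' : V} (e : P.b z h = 1 ∨ P.b z k = 1)
    (e' : P.b z' h = 1 ∨ P.b z' k = 1) : ∃ g : G, g • x = x ∧ g • y = y ∧ g • z = z' := by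
  obtain ⟨u, u1, u2⟩ := P.flip.both s.h0 t.h0
  obtain ⟨a, a1, a2, a3⟩ := e.elim (fun e => s.tr z u e u1) fun e => t.tr z u e u2
  obtain ⟨c, c1, c2, c3⟩ := e'.elim (fun e => s.tr u z' u1 e) fun e => t.tr u z' u2 e
  exact ⟨c * a, by rw [mul_smul, a1, c1], by rw [mul_smul, a2, c2], by rw [mul_smul, a3, c3]⟩

theorem z2_add {a c : ZMod 2} (h : a + c = 1) : a = 1 ∨ c = 1 := by revert a c; decide

theorem Sg.add {x y : V} {h k : W} (s : P.Sg x y h) (t : P.Sg x y k) (hk : h + k ≠ 0) : P.Sg x y (h + k) :=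
  ⟨s.x0, s.y0, s.xy, hk, by rw [map_add, s.xh, t.xh, add_zero], by rw [map_add, s.yh, t.yh, add_zero],
    fun _ _ e e' => s.tr2 t (z2_add (map_add (P.b _) h k ▸ e)) (z2_add (map_add (P.b _) h k ▸ e'))⟩

theorem Sg.conj (h2 : T2 G V) {x y x' y' : V} {h k : W} (s : P.Sg x y h) (t : P.Sg x' y' k) :
    ∃ g : G, g • x = x' ∧ g • y = y' ∧ g • h = k := by
  obtain ⟨g, rfl, rfl⟩ := h2 _ _ _ _ s.x0 s.y0 s.xy t.x0 t.y0 t.xy
  have s' := s.smul g
  obtain ⟨u, u1, u2⟩ := P.flip.both s'.h0 t.h0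
  obtain ⟨a, ha, e⟩ := P.fourier (stabilizer G (g • x) ⊓ stabilizer G (g • y)) _ _ u u1 u2 fun v hv => by
    have h1 : ∀ a c : ZMod 2, a ≠ c → (a = 1 ∨ c = 1) ∧ (a + 1 = 1 ∨ c + 1 = 1) := by decide
    obtain ⟨a, a1, a2, a3⟩ := s'.tr2 t (h1 _ _ hv).1 (z' := v + u) (by
      rw [map_add, AddMonoidHom.add_apply, AddMonoidHom.add_apply, show P.b u (g • h) = 1 from u1,
        show P.b u k = 1 from u2]
      exact (h1 _ _ hv).2)
    exact ⟨a, ⟨a1, a2⟩, a3⟩
  exact ⟨a * g, by rw [mul_smul]; exact ha.1, by rw [mul_smul]; exact ha.2, by rw [mul_smul, e]⟩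

theorem exists_sg (P : Pr G V W) (h2 : T2 G V) (h8 : 8 ≤ Nat.card V) : ∃ x y h, P.Sg x y h := by
  have : Nontrivial W := Finite.one_lt_card_iff_nontrivial.1 (by rw [← P.card_eq]; omega)
  obtain ⟨h, h0⟩ := exists_ne (0 : W)
  have c1 := P.card_hyp h0
  obtain ⟨Q⟩ : Nonempty (Sylow 2 (stabilizer G h)) := inferInstance
  let N := (Q : Subgroup (stabilizer G h)).map (stabilizer G h).subtype
  have hN : IsPGroup 2 N := Q.2.map _
  have hle : N ≤ stabilizer G h := Subgroup.map_subtype_le _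
  have hH : ∀ g ∈ N, ∀ s ∈ P.hyp h, g • s ∈ P.hyp h := fun g hg s hs => P.mem_hyp.2 (by
    rw [← show g • h = h from hle hg, P.inv]; exact P.mem_hyp.1 hs)
  obtain ⟨x, x1, x2, x3⟩ := exists_fixed_mod N hN ⊥ (P.hyp h) (by simp) hH fun e => by
    have := AddSubgroup.card_le_of_le e
    rw [AddSubgroup.card_bot] at this
    omega
  replace x3 : ∀ g ∈ N, g • x = x := fun g hg => by
    rw [eq_neg_of_add_eq_zero_left (x3 g hg), ZModModule.neg_eq_self]
  obtain ⟨y, y1, y2, y3⟩ := exists_fixed_mod N hN (sp1 x) (P.hyp h)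
    (by rintro g hg _ (rfl | rfl); exacts [Or.inl (smul_zero g), Or.inr (x3 g hg)]) hH fun e => by
    have := AddSubgroup.card_le_of_le e
    rw [card_sp1 x2] at this
    omega
  have := add_self x
  have := add_self y
  rw [mem_sp1] at y2
  refine ⟨x, y, h, x2, by grind, by grind, h0, P.mem_hyp.1 x1, P.mem_hyp.1 y1, fun z z' e e' => ?_⟩
  have o1 : orbit (stabilizer G h) z = {v | P.b v h = 1} := Set.ext fun v => mem_orb.trans
    ⟨by rintro ⟨a, ha, rfl⟩; exact (congrArg _ (show _ = a • h from ha.symm)).trans ((P.inv ..).trans e),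
      fun hv => by
        obtain ⟨a, h3, h4⟩ := P.flag h2 (x := z) (x' := v) (by rintro rfl; simp at e) (by rintro rfl; simp at hv)
          h0 h0 (e.trans hv.symm)
        exact ⟨a, h4, h3⟩⟩
  obtain ⟨k, hk⟩ := card_two_pow (P.hyp h)
  have o3 := orbit_eq_of_coprime hle z (by
    rw [o1, P.ncard_one h0, hk, Subgroup.relIndex, Subgroup.subgroupOf, Subgroup.comap_map_eq_self_of_injective
      (Subgroup.subtype_injective _)]
    exact Nat.Coprime.pow_left _ ((Nat.Prime.coprime_iff_not_dvd Nat.prime_two).2 Q.not_dvd_index))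
  obtain ⟨g, hg, rfl⟩ := mem_orb.1 ((o3.trans o1).ge e')
  rcases y3 g hg with e1 | e1
  · exact ⟨g, x3 g hg, by grind, rfl⟩
  · have b1 : ∀ u, P.b u h = 0 → u + g • z ≠ 0 := fun u hu e => by
      have := congrArg (P.b · h) e
      simp [hu, e'] at this
    have b2 := P.mem_hyp.1 x1
    have b3 := P.mem_hyp.1 y1
    obtain ⟨a, a1, a2, a3⟩ := P.mv3 h2 (x := x) (y := g • z) (z := x + y) x2 (by simpa using b1 0 (by simp)) (b1 x b2)
      (by grind) (by grind) (add_comm (g • z) _ ▸ b1 _ (by simp [b2, b3]))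
      (by have := b1 y b3; grind)
    exact ⟨a * g, by rw [mul_smul, x3 g hg, a1], by rw [mul_smul, show g • y = x + y by grind, a3]; grind,
      by rw [mul_smul, a2]⟩

end Pr

end CL.Perm.CK
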