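import Cfsg.Agent.Perm.CKPent

/-! Two-transitive linear groups over the field with two elements, VI: non-singular alternating trilinear forms, and
transitivity on independent triples. -/

set_option autoImplicit false
set_option linter.unusedSectionVars false

namespace CL.Perm.CK

open MulAction ZModModule

variable {G V W : Type*} [Group G] [AddCommGroup V] [AddCommGroup W] [DistribMulAction G V] [DistribMulAction G W]
  [Finite G] [Finite V] [Finite W] [Module (ZMod 2) V] [Module (ZMod 2) W]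

theorem finrank_of_card {M : Type*} [AddCommGroup M] [Module (ZMod 2) M] [Finite M] :
    Nat.card M = 2 ^ Module.finrank (ZMod 2) M := by
  rw [Module.natCard_eq_pow_finrank (K := ZMod 2), Nat.card_zmod]

theorem no_nil_two {M : Type*} [AddCommGroup M] [Module (ZMod 2) M] [Finite M] (φ : M →ₗ[ZMod 2] Module.End (ZMod 2) M)
    (h8 : 8 ≤ Nat.card M) (h1 : ∀ x, x ≠ 0 → Nat.card (LinearMap.ker (φ x)) = 4)
    (h2 : ∀ x y, x ≠ 0 → φ x (φ x y) = 0 → φ x y = 0) : False := by
  classical
  have := Fintype.ofFinite M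
  let bs := Module.finBasis (ZMod 2) M
  have hm : 3 ≤ Module.finrank (ZMod 2) M := by
    rw [finrank_of_card] at h8
    exact (Nat.pow_le_pow_iff_right one_lt_two).1 h8
  have h3 := MvPolynomial.sum_eval_eq_zero ((φ.polyCharpoly bs).coeff 2) (by
    have := (φ.polyCharpoly_coeff_isHomogeneous bs 2 (Module.finrank (ZMod 2) M - 2) (by omega)).totalDegree_le
    simp only [ZMod.card, Fintype.card_fin]
    omega)
  rw [← Equiv.sum_comp bs.equivFun.toEquiv, Finset.sum_congr rfl (g := fun x => if x = 0 then 0 else 1) fun x _ => by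
    refine (φ.polyCharpoly_coeff_eval bs x 2).trans ?_
    split_ifs with e
    · rw [e, map_zero, LinearMap.charpoly_zero, Polynomial.coeff_X_pow, if_neg (by omega)]
    · have e1 : (φ x).maxGenEigenspace 0 = LinearMap.ker (φ x) := by
        ext y
        rw [Module.End.mem_maxGenEigenspace, zero_smul, sub_zero]
        refine ⟨fun ⟨k, hk⟩ => ?_, fun hy => ⟨1, by rw [pow_one]; exact hy⟩⟩
        induction k generalizing y with
        | zero => simp_all
        | succ k ih => exact h2 x y e (ih (φ x y) ⟨k, by rwa [pow_succ] at hk⟩ (by rwa [pow_succ] at hk))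
      have e2 := LinearMap.finrank_maxGenEigenspace_zero_eq (φ x)
      have e3 := h1 x e
      rw [finrank_of_card, ← e1, e2] at e3
      have e4 := Polynomial.coeff_natTrailingDegree_ne_zero.2 (φ x).charpoly_monic.ne_zero
      rw [Nat.pow_right_injective le_rfl (e3.trans (show 4 = 2 ^ 2 from rfl))] at e4
      exact z2_ne.1 e4] at h3
  have h4 : ∑ x : M, (if x = 0 then (0 : ZMod 2) else 1) + ∑ x : M, (if x = 0 then (1 : ZMod 2) else 0) =
      ∑ x : M, 1 := by
    rw [← Finset.sum_add_distrib]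
    exact Finset.sum_congr rfl fun x _ => by split_ifs <;> simp
  rw [h3, Finset.sum_ite_eq', if_pos (Finset.mem_univ _), Finset.sum_const, Finset.card_univ,
    ← Nat.card_eq_fintype_card, finrank_of_card, nsmul_one, Nat.cast_pow, ZMod.natCast_self, zero_pow (by omega)] at h4
  exact absurd h4 (by decide)

theorem Pr.no_tri (P : Pr G V W) (c : V →+ V →+ W) (sym : ∀ x y z, P.b z (c x y) = P.b y (c x z))
    (comm : ∀ x y, c x y = c y x) (alt : ∀ x, c x x = 0) (nd : ∀ x y, c x y = 0 → x = 0 ∨ y = 0 ∨ y = x)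
    (h16 : 16 ≤ Nat.card V) : False := by
  have o1 : ∀ x y, P.b y (c x y) = 0 := fun x y => by rw [comm, sym, alt, map_zero]
  have o2 : ∀ x y, P.b x (c x y) = 0 := fun x y => by rw [sym, alt, map_zero]
  have surj : ∀ x k, x ≠ 0 → P.b x k = 0 → ∃ y, c x y = k := fun x k hx e => by
    have e1 : (c x).ker = sp1 x := AddSubgroup.ext fun y =>
      ⟨fun h => (nd x y h).resolve_left hx, by rintro (rfl | rfl); exacts [map_zero _, alt _]⟩
    have e2 := (c x).ker.card_mul_index
    have e3 := P.flip.card_hyp hx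
    rw [AddSubgroup.index_ker, e1, card_sp1 hx, P.card_eq] at e2
    exact (eq_of_le_of_card (S := (c x).range) (T := P.flip.hyp x)
      (by rintro _ ⟨y, rfl⟩; exact P.flip.mem_hyp.2 (o2 x y)) (by omega)).ge (P.flip.mem_hyp.2 e)
  have : Nontrivial V := Finite.one_lt_card_iff_nontrivial.1 (by omega)
  obtain ⟨e, e0⟩ := exists_ne (0 : V)
  obtain ⟨h, eh⟩ := P.ndL e e0
  have h0 : h ≠ 0 := by rintro rfl; simp at eh
  let M := AddSubgroup.toZModSubmodule 2 (P.hyp h)
  have inj : ∀ u v : M, c e u = c e v → u = v := fun u v huv => by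
    rcases nd e (u - v) (by rw [map_sub, huv, sub_self]) with a | a | a
    exacts [absurd a e0, Subtype.ext (sub_eq_zero.1 a), absurd ((P.mem_hyp.1 (u - v).2).symm.trans
      ((congrArg (P.b · h) a).trans eh)) zero_ne_one]
  have ex : ∀ x y : M, ∃ u : M, c e u = c x y + P.b e (c x y) • h := fun x y => by
    obtain ⟨u, hu⟩ := surj e (c x y + P.b e (c x y) • h) e0 (by
      rw [map_add, ZMod.map_smul, eh, smul_eq_mul, mul_one, CharTwo.add_self_eq_zero])
    rcases z2 (P.b u h) with a | a
    · exact ⟨⟨u, P.mem_hyp.2 a⟩, hu⟩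
    · exact ⟨⟨u + e, P.mem_hyp.2 (by rw [map_add, AddMonoidHom.add_apply, a, eh]; rfl)⟩, by
        rw [map_add, alt, add_zero, hu]⟩
  choose f hf using ex
  let φ : M →ₗ[ZMod 2] Module.End (ZMod 2) M := LinearMap.mk₂ (ZMod 2) f
    (fun x x' y => inj _ _ (by simp only [hf, Submodule.coe_add, map_add, AddMonoidHom.add_apply, add_smul]; abel))
    (fun a x y => by
      rcases z2 a with rfl | rfl
      · exact inj _ _ (by simp [hf])
      · simp)
    (fun x y y' => inj _ _ (by simp only [hf, Submodule.coe_add, map_add, add_smul]; abel))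
    (fun a x y => by
      rcases z2 a with rfl | rfl
      · exact inj _ _ (by simp [hf])
      · simp)
  have key : ∀ x : M, x ≠ 0 → ∃ y0 : M, c x y0 = h ∧ ∀ y, φ x y = 0 ↔ y ∈ sp2 x y0 := fun x hx => by
    have x0 : (x : V) ≠ 0 := fun a => hx (Subtype.ext a)
    obtain ⟨y0, hy⟩ := surj x h x0 (P.mem_hyp.1 x.2)
    refine ⟨⟨y0, P.mem_hyp.2 (hy ▸ o1 x y0)⟩, hy, fun y => ⟨fun a => ?_, fun a => inj _ _ ?_⟩⟩
    · have e1 := hf x y
      rw [show f x y = 0 from a, Submodule.coe_zero, map_zero] at e1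
      simp only [mem_sp2, Subtype.ext_iff, Submodule.coe_add, Submodule.coe_zero]
      rcases z2 (P.b e (c x y)) with b | b
      · rw [b, zero_smul, add_zero] at e1
        have := nd _ _ e1.symm
        tauto
      · rw [b, one_smul, ← hy, ← map_add] at e1
        rcases (nd _ _ e1.symm).resolve_left x0 with a | a
        · simp [eq_of_add0 a]
        · simp [← a, add_assoc, add_self]
    · refine (hf x y).trans ?_
      rcases a with rfl | rfl | rfl | rfl <;> simp [alt, hy, eh, add_self]
  have c1 := P.card_hyp h0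
  refine no_nil_two φ (show 8 ≤ Nat.card (P.hyp h) by omega) (fun x hx => ?_) fun x y hx a => ?_
  · obtain ⟨y0, e1, e2⟩ := key x hx
    rw [← card_sp2 (y := y0) hx (by rintro rfl; exact h0 (by simpa using e1.symm)) fun a => h0 (by
      rw [← e1, eq_of_add0 a, alt])]
    exact Nat.card_congr (Equiv.subtypeEquivRight e2)
  · obtain ⟨y0, e1, e2⟩ := key x hx
    have e3 := hf x y
    have e4 := congrArg (P.b x) e3
    rw [map_add, o2, ZMod.map_smul, P.mem_hyp.1 x.2, smul_zero, add_zero, sym e, comm e, sym x] at e4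
    have e5 := congrArg (P.b y0) e3
    rw [map_add, ZMod.map_smul, P.mem_hyp.1 y0.2, smul_zero, add_zero, sym x y, e1, P.mem_hyp.1 y.2] at e5
    change f x y = 0
    rcases (e2 _).1 a with b | b | b | b <;> change f x y = _ at b
    · exact b
    · rw [b, comm, sym, e1, eh] at e5
      exact absurd e5 one_ne_zero
    · rw [b, e1, eh] at e4
      exact absurd e4 one_ne_zero
    · rw [b, Submodule.coe_add, map_add, alt, zero_add, e1, eh] at e4
      exact absurd e4 one_ne_zero

theorem Cx.not_al_one (C : Cx G V W) (hP : C.Perp) : C.al ≠ 1 := fun h1 => by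
  classical
  have uq : ∀ {x y h k}, C.Sg x y h → C.Sg x y k → h = k := fun s t =>
    (Set.ncard_le_one_iff_subsingleton.1 ((C.ncard_A s.x0 s.y0 s.xy).trans h1).le) s t
  let c : V → V → W := fun x y => if h : ∃ k, C.Sg x y k then h.choose else 0
  have c1 : ∀ x y, x ≠ 0 → y ≠ 0 → x + y ≠ 0 → C.Sg x y (c x y) := fun x y a b d => by
    have := C.exists_sg' a b d
    simp only [c, dif_pos this]
    exact this.choose_spec
  have c0 : ∀ x y, (x = 0 ∨ y = 0 ∨ x + y = 0) → c x y = 0 := fun x y a =>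
    dif_neg fun ⟨_, s⟩ => by rcases a with a | a | a; exacts [s.x0 a, s.y0 a, s.xy a]
  have cs : ∀ x y, c x y = 0 ∨ C.Sg x y (c x y) := fun x y => or_iff_not_imp_left.2 fun a =>
    c1 x y (fun e => a (c0 _ _ (by simp [e]))) (fun e => a (c0 _ _ (by simp [e]))) fun e => a (c0 _ _ (by simp [e]))
  have comm : ∀ x y, c x y = c y x := fun x y => by
    rcases cs x y with a | a <;> rcases cs y x with b | b
    exacts [a.trans b.symm, absurd a (c1 x y b.y0 b.x0 b.symm.xy).h0, absurd b (c1 y x a.y0 a.x0 a.symm.xy).h0,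
      uq a b.symm]
  have s0 : ∀ x y z, C.b z (c x y) = 0 → C.b y (c x z) = 0 := fun x y z e => by
    rcases cs x z with a | a
    · rw [a, map_zero]
    by_cases y0 : y = 0
    · simp [y0]
    by_cases y1 : x + y = 0
    · exact eq_of_add0 y1 ▸ a.xh
    exact Cx.U_symm y0 y1 (fun k s => uq (c1 x y a.x0 y0 y1) s ▸ e) a
  have sym : ∀ x y z, C.b z (c x y) = C.b y (c x z) := fun x y z => by
    have h : ∀ a b : ZMod 2, (a = 0 → b = 0) → (b = 0 → a = 0) → a = b := by decide
    exact h _ _ (s0 x y z) (s0 x z y)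
  have ad : ∀ x y z, c x (y + z) = c x y + c x z := fun x y z => C.ext_right fun v => by
    rw [map_add, sym x _ v, sym x y v, sym x z v, map_add, AddMonoidHom.add_apply]
  obtain ⟨x, y, h, s⟩ := C.exists_sg C.t2 C.big
  refine C.no_tri (AddMonoidHom.mk' (fun x => AddMonoidHom.mk' (c x) (ad x)) fun x y => AddMonoidHom.ext fun z =>
    show c (x + y) z = c x z + c y z by rw [comm, ad, comm z, comm z]) sym comm (fun x => c0 _ _ (by simp [add_self]))
    (fun x y e => by
      by_contra! a
      exact (c1 x y a.1 a.2.1 fun b => a.2.2 (eq_of_add0 b).symm).h0 e) ?_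
  have l : C.Y x h ≤ C.fl.perp (C.fl.Y h x) := by
    rintro u hu k (rfl | rfl | t)
    · simp
    · exact C.Y_le s.xh hu
    rcases hu with rfl | rfl | a
    exacts [by simp, t.yh, hP _ _ _ _ a t]
  have e1 := AddSubgroup.card_le_of_le l
  have e2 := C.fl.card_perp (C.fl.Y h x)
  have e3 := C.fl.al_spec.1
  rw [C.fl.card_Y s.h0 s.x0 s.xh] at e2
  rw [C.card_Y s.x0 s.h0 s.xh, h1] at e1
  nlinarith

theorem Cx.t3 (C : Cx G V W) : T3 G V := by
  refine C.perp_or.resolve_left fun hP => ?_
  obtain ⟨x, y, h, s⟩ := C.exists_sg C.t2 C.big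
  have h1 : 2 ≤ C.al := by have := C.not_al_one hP; have := C.al_spec.1; omega
  have h2 : 2 ≤ C.fl.al := by have := C.fl.not_al_one hP.fl; have := C.fl.al_spec.1; omega
  exact Cx.Bal.false ⟨hP, le_antisymm ((C.count s.x0 s.h0 s.xh).1 h1) ((C.fl.count s.h0 s.x0 s.xh).1 h2), h1⟩

end CL.Perm.CK
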