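import Cfsg.Agent.Perm.PrimDerange
import Cfsg.Agent.Perm.PrimBurnside
import Cfsg.Agent.Cls.SL2Dihedral

/-! The subgroup generated by the derangements of a transitive group; counting of pairs. -/

set_option autoImplicit false
open Cfsg MulAction

namespace CL.Perm

variable {G α : Type*} [Group G] [MulAction G α]

/-- The subgroup generated by the derangements. -/
def derSub (G α : Type*) [Group G] [MulAction G α] : Subgroup G :=
  Subgroup.closure {g : G | ∀ ω : α, g • ω ≠ ω}

theorem mem_derSub {g : G} (h : ∀ ω : α, g • ω ≠ ω) : g ∈ derSub G α := Subgroup.subset_closure h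

instance derSub_normal : (derSub G α).Normal := by
  refine ⟨fun n hn g => ?_⟩
  induction hn using Subgroup.closure_induction with
  | mem x hx =>
    refine mem_derSub fun ω h => hx (g⁻¹ • ω) ?_
    rw [mul_smul, mul_smul, smul_eq_iff_eq_inv_smul] at h
    exact h
  | one => simp
  | mul x y _ _ hx hy =>
    have : g * (x * y) * g⁻¹ = (g * x * g⁻¹) * (g * y * g⁻¹) := by group
    rw [this]; exact mul_mem hx hy
  | inv x _ hx =>
    have : g * x⁻¹ * g⁻¹ = (g * x * g⁻¹)⁻¹ := by group
    rw [this]; exact inv_mem hx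

theorem index_dvd_ncard_of_stab_le {H X : Type*} [Group H] [MulAction H X] (K : Subgroup H)
    (T : Set X) (hT : T.Finite) (hinv : ∀ (h : H), ∀ y ∈ T, h • y ∈ T)
    (hS : ∀ y ∈ T, stabilizer H y ≤ K) : K.index ∣ T.ncard := by
  have := CL.SL2.ncard_mem_of_orbits (H := H) (AddSubmonoid.multiples K.index) T hT hinv
    (fun y hy => by
      rw [← index_stabilizer]
      obtain ⟨c, hc⟩ := Subgroup.index_dvd_of_le (hS y hy)
      exact ⟨c, by simp [hc, mul_comm]⟩)
  obtain ⟨c, hc⟩ := this
  exact ⟨c, by simp [← hc, mul_comm]⟩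

theorem relIndex_stabilizer_of_transitive (D : Subgroup G) [D.Normal] [IsPretransitive G α]
    [IsPretransitive D α] (a : α) : D.relIndex (stabilizer G a) = D.index := by
  rw [← Subgroup.relIndex_sup_right, ← Subgroup.relIndex_top_right]
  congr 1
  rw [eq_top_iff]
  intro g _
  obtain ⟨d, hd⟩ := exists_smul_eq D a (g • a)
  have h1 : (d : G)⁻¹ * g ∈ stabilizer G a := by
    rw [mem_stabilizer_iff, mul_smul, inv_smul_eq_iff]
    exact hd.symm
  have : g = d * ((d : G)⁻¹ * g) := by group
  rw [this]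
  exact mul_mem (Subgroup.mem_sup_right d.2) (Subgroup.mem_sup_left h1)

theorem mem_of_fix_two_of_derangements_le [Finite G] [Finite α] [IsPretransitive G α]
    (D : Subgroup G) (hD : ∀ g : G, (∀ x : α, g • x ≠ x) → g ∈ D) {g : G} {a b : α} (hab : a ≠ b)
    (ha : g • a = a) (hb : g • b = b) : g ∈ D := by
  by_contra hg
  have h1 := (isPretransitive_and_card_fixedBy_of_derangements_le D hD).2 g hg
  have := (Nat.card_eq_one_iff_unique.mp h1).1
  exact hab (congrArg Subtype.val (this.elim (⟨a, ha⟩ : fixedBy α g) ⟨b, hb⟩))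

/-- The index of a normal subgroup containing all derangements divides the size of every invariant
set of a point stabiliser that misses the point. -/
theorem index_dvd_ncard_of_derangements_le [Finite G] [Finite α] [IsPretransitive G α]
    (D : Subgroup G) [D.Normal] (hD : ∀ g : G, (∀ x : α, g • x ≠ x) → g ∈ D) (a : α) (T : Set α)
    (haT : a ∉ T) (hinv : ∀ g : G, g • a = a → ∀ y ∈ T, g • y ∈ T) : D.index ∣ T.ncard := by
  have := (isPretransitive_and_card_fixedBy_of_derangements_le D hD).1
  rw [← relIndex_stabilizer_of_transitive D a]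
  refine index_dvd_ncard_of_stab_le (H := stabilizer G a) _ T (Set.toFinite _)
    (fun h y hy => hinv h h.2 y hy) fun y hy g hg => ?_
  exact mem_of_fix_two_of_derangements_le D hD (a := a) (b := y) (fun h => haT (h ▸ hy)) g.2 hg

theorem index_dvd_card_sub_one_of_derangements_le [Finite G] [Finite α] [IsPretransitive G α]
    [Nonempty α] (D : Subgroup G) [D.Normal] (hD : ∀ g : G, (∀ x : α, g • x ≠ x) → g ∈ D) :
    D.index ∣ Nat.card α - 1 := by
  obtain ⟨a⟩ := ‹Nonempty α›
  have := index_dvd_ncard_of_derangements_le D hD a {a}ᶜ (by simp) (fun g hg y hy h => by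
    rw [Set.mem_singleton_iff] at h
    exact hy (smul_left_cancel g (h.trans hg.symm)))
  rwa [Set.ncard_compl, Set.ncard_singleton] at this

theorem card_fixedBy_prod (g : G) :
    Nat.card (fixedBy (α × α) g) = Nat.card (fixedBy α g) ^ 2 := by
  rw [sq, ← Nat.card_prod]
  refine Nat.card_congr ⟨fun x => (⟨x.1.1, congrArg Prod.fst x.2⟩, ⟨x.1.2, congrArg Prod.snd x.2⟩),
    fun x => ⟨(x.1.1, x.2.1), Prod.ext x.1.2 x.2.2⟩, fun _ => rfl, fun _ => rfl⟩

theorem sum_card_fixedBy_of_transitive [Fintype G] [Finite α] [Nonempty α] [IsPretransitive G α] :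
    ∑ g : G, Nat.card (fixedBy α g) = Nat.card G := by
  rw [sum_card_fixedBy_eq]
  have : Nonempty (orbitRel.Quotient G α) := ‹Nonempty α›.map (Quotient.mk _)
  have : Nat.card (orbitRel.Quotient G α) = 1 := by
    rw [Nat.card_eq_one_iff_unique]
    exact ⟨(pretransitive_iff_subsingleton_quotient G α).1 inferInstance, inferInstance⟩
  rw [this, one_mul]

/-- `∑ π(g²) ≤ ∑ π(g)²`. -/
theorem sum_card_fixedBy_sq_le [Fintype G] [Finite α] :
    ∑ g : G, Nat.card (fixedBy α (g * g)) ≤ ∑ g : G, Nat.card (fixedBy α g) ^ 2 := by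
  classical
  have := Fintype.ofFinite α
  have e1 : ∀ g : G, Nat.card (fixedBy α (g * g)) =
      ∑ x : α × α, if g • x.1 = x.2 ∧ g • x.2 = x.1 then 1 else 0 := by
    intro g
    rw [← Finset.card_filter, ← Fintype.card_subtype, ← Nat.card_eq_fintype_card]
    refine Nat.card_congr ⟨fun x => ⟨(x.1, g • x.1), rfl, by
      rw [← mul_smul]; exact x.2⟩, fun x => ⟨x.1.1, by
      rw [mem_fixedBy, mul_smul, x.2.1, x.2.2]⟩, fun _ => rfl, fun x => ?_⟩
    exact Subtype.ext (Prod.ext rfl x.2.1)
  have e2 : ∀ g : G, Nat.card (fixedBy α g) ^ 2 =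
      ∑ x : α × α, if g • x.1 = x.1 ∧ g • x.2 = x.2 then 1 else 0 := by
    intro g
    rw [← card_fixedBy_prod, ← Finset.card_filter, ← Fintype.card_subtype,
      ← Nat.card_eq_fintype_card]
    exact Nat.card_congr (Equiv.subtypeEquivRight fun x => by simp [Prod.ext_iff])
  simp only [e1, e2]
  rw [Finset.sum_comm, Finset.sum_comm (s := (Finset.univ : Finset G))]
  refine Finset.sum_le_sum fun x _ => ?_
  rw [← Finset.card_filter, ← Finset.card_filter]
  by_cases h : ∃ g0 : G, g0 • x.1 = x.2 ∧ g0 • x.2 = x.1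
  · obtain ⟨g0, h1, h2⟩ := h
    refine Finset.card_le_card_of_injOn (fun g => g0 * g) (fun g hg => ?_)
      (fun a _ b _ hab => mul_left_cancel hab)
    simp only [Finset.coe_filter, Finset.mem_univ, true_and, Set.mem_ofPred_eq] at hg ⊢
    rw [mul_smul, mul_smul, hg.1, hg.2]
    exact ⟨h2, h1⟩
  · push Not at h
    rw [Finset.filter_eq_empty_iff.mpr (fun g _ hg => h g hg.1 hg.2)]
    simp

/-- If all derangements of a transitive group square to elements fixing everything, every element
fixes no point, one point or all points. -/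
theorem card_fixedBy_of_derangements_sq [Finite G] [Finite α] [Nonempty α] [IsPretransitive G α]
    (h : ∀ g : G, (∀ ω : α, g • ω ≠ ω) → g * g = 1) (g : G) :
    Nat.card (fixedBy α g) ≤ 1 ∨ Nat.card (fixedBy α g) = Nat.card α := by
  classical
  have := Fintype.ofFinite G
  set n := Nat.card α with hn
  set π : G → ℕ := fun g => Nat.card (fixedBy α g) with hπ
  have hle : ∀ g, π g ≤ n := fun g => Nat.card_le_card_of_injective _ Subtype.val_injective
  have h0 : ∀ g, π g = 0 → Nat.card (fixedBy α (g * g)) = n := by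
    intro g hg
    have : ∀ ω : α, g • ω ≠ ω := fun ω hω => by
      have : Nonempty (fixedBy α g) := ⟨⟨ω, hω⟩⟩
      exact (Nat.card_pos (α := fixedBy α g)).ne' hg
    rw [h g this, fixedBy_one_eq_univ, Nat.card_univ]
  have h1 : ∀ g, π g ≤ Nat.card (fixedBy α (g * g)) := fun g =>
    Nat.card_le_card_of_injective (fun x : fixedBy α g => (⟨x.1, by
      rw [mem_fixedBy, mul_smul, x.2, x.2]⟩ : fixedBy α (g * g)))
      fun a b hab => Subtype.ext (by simpa using hab)
  have hsum : ∑ g, π g = Nat.card G := sum_card_fixedBy_of_transitive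
  have hsq := sum_card_fixedBy_sq_le (G := G) (α := α)
  -- termwise: π² + n + π ≤ π(g²) + (n+1) π
  have hterm : ∀ g ∈ (Finset.univ : Finset G),
      (π g : ℤ) ^ 2 + n ≤ Nat.card (fixedBy α (g * g)) + n * π g := by
    intro g _
    rcases Nat.eq_zero_or_pos (π g) with h2 | h2
    · rw [h0 g h2, h2]; simp
    · have a1 : (π g : ℤ) ≤ n := by exact_mod_cast hle g
      have a2 : (π g : ℤ) ≤ Nat.card (fixedBy α (g * g)) := by exact_mod_cast h1 g
      have a3 : (1 : ℤ) ≤ π g := by exact_mod_cast h2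
      nlinarith
  have hsumZ : ∑ g, (π g : ℤ) = Nat.card G := by exact_mod_cast hsum
  have hsqZ : ∑ g : G, (Nat.card (fixedBy α (g * g)) : ℤ) ≤ ∑ g : G, (π g : ℤ) ^ 2 := by
    exact_mod_cast hsq
  have heq : ∑ g : G, ((π g : ℤ) ^ 2 + n) =
      ∑ g : G, ((Nat.card (fixedBy α (g * g)) : ℤ) + n * π g) := by
    refine le_antisymm (Finset.sum_le_sum hterm) ?_
    rw [Finset.sum_add_distrib, Finset.sum_add_distrib, ← Finset.mul_sum, hsumZ, Finset.sum_const,
      Finset.card_univ, ← Nat.card_eq_fintype_card, nsmul_eq_mul]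
    linarith
  have h3 := (Finset.sum_eq_sum_iff_of_le hterm).mp heq g (Finset.mem_univ _)
  have a1 : (π g : ℤ) ≤ n := by exact_mod_cast hle g
  have a2 : (π g : ℤ) ≤ Nat.card (fixedBy α (g * g)) := by exact_mod_cast h1 g
  change π g ≤ 1 ∨ π g = n
  by_contra hc
  push Not at hc
  have a3 : (2 : ℤ) ≤ π g := by exact_mod_cast hc.1
  have a4 : (π g : ℤ) < n := lt_of_le_of_ne a1 (by exact_mod_cast hc.2)
  nlinarith

end CL.Perm
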