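/-
Groups with an abelian regular subgroup and a normal subgroup of large index containing all two-point stabilisers.
-/
import Cfsg.Agent.Perm.Derange2

set_option autoImplicit false
open MulAction Finset

namespace CL.Perm.DerIdx

variable {G Ω : Type*} [Group G] [MulAction G Ω]

/-- `M` is a supplement of `D`. -/
def Sup (D M : Subgroup G) : Prop := ∀ g : G, ∃ x ∈ M, x⁻¹ * g ∈ D

theorem Sup.mono {D M M' : Subgroup G} (h : Sup D M) (hM : M ≤ M') : Sup D M' := fun g =>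
  (h g).imp fun _ hx => ⟨hM hx.1, hx.2⟩

theorem Sup.idx {D M : Subgroup G} [D.Normal] (h : Sup D M) : D.relIndex M = D.index := by
  rw [← Subgroup.relIndex_sup_right, ← Subgroup.relIndex_top_right]
  congr 1
  refine eq_top_iff.2 fun g _ => ?_
  obtain ⟨x, hx, hd⟩ := h g
  rw [← mul_inv_cancel_left x g]
  exact Subgroup.mul_mem_sup hx hd

theorem ncard_orbit (M : Subgroup G) (ω : Ω) : (orbit M ω).ncard = (stabilizer G ω).relIndex M :=
  (index_stabilizer M ω).symm

section A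

variable [AddCommGroup Ω] (D : Subgroup G)

/-- Conjugacy under the stabiliser of `0` in `D`. -/
def Rl (x y : Ω) : Prop := ∃ d ∈ D, d • (0 : Ω) = 0 ∧ d • x = y

variable {D}

theorem Rl.refl (x : Ω) : Rl D x x := ⟨1, one_mem _, one_smul _ _, one_smul _ _⟩

theorem Rl.symm {x y : Ω} (h : Rl D x y) : Rl D y x := by
  obtain ⟨d, hd, h0, rfl⟩ := h
  exact ⟨d⁻¹, inv_mem hd, inv_smul_eq_iff.2 h0.symm, inv_smul_smul _ _⟩

theorem Rl.trans {x y z : Ω} (h : Rl D x y) (h' : Rl D y z) : Rl D x z := by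
  obtain ⟨d, hd, h0, rfl⟩ := h
  obtain ⟨e, he, e0, rfl⟩ := h'
  exact ⟨e * d, mul_mem he hd, by rw [mul_smul, h0, e0], mul_smul _ _ _⟩

theorem rl_sub (hT : ∀ v : Ω, ∃ t ∈ D, ∀ x : Ω, t • x = v + x) {g : G} (hg : g ∈ D) (x y : Ω) :
    Rl D (y - x) (g • y - g • x) := by
  obtain ⟨s, hs, es⟩ := hT (-(g • x))
  obtain ⟨t, ht, et⟩ := hT x
  refine ⟨s * g * t, mul_mem (mul_mem hs hg) ht, ?_, ?_⟩ <;> rw [mul_smul, mul_smul, es, et]
  · simp
  · rw [add_sub_cancel, neg_add_eq_sub]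

theorem caseA [Finite G] [Finite Ω] [Nontrivial Ω] [D.Normal] (hT : ∀ v : Ω, ∃ t ∈ D, ∀ x : Ω, t • x = v + x)
    (L : Subgroup G) (hL : ∀ l ∈ L, ∀ x y : Ω, l • (x + y) = l • x + l • y) (hLD : Sup D L)
    (h2 : ∀ (g : G) (a b : Ω), a ≠ b → g • a = a → g • b = b → g ∈ D)
    (hn : Nat.card Ω < (D.index + 1) ^ 2) :
    ∃ v : Ω, v ≠ 0 ∧ ∀ g : G, ∃ w : Ω, ∀ x : Ω, g • (v + x) = w + g • x := by
  classical
  have := Fintype.ofFinite Ω
  rw [Nat.card_eq_fintype_card] at hn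
  set n := Fintype.card Ω with en
  set m := D.index with em
  have hm : 0 < m := Nat.pos_of_ne_zero Subgroup.index_ne_zero_of_finite
  have l0 : ∀ l ∈ L, l • (0 : Ω) = 0 := fun l hl => by
    have := hL l hl 0 0
    rw [add_zero] at this
    exact left_eq_add.1 this
  let cl : Ω → Finset Ω := fun x => univ.filter (Rl D x)
  let P : Ω → Finset Ω := fun z => univ.filter fun w => Rl D w (w - z)
  let O : Ω → Finset Ω := fun z => (orbit (stabilizer G (0 : Ω)) z).toFinset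
  have hO : ∀ z : Ω, z ≠ 0 → #(O z) = #(cl z) * m := fun z hz => by
    have e1 : #(cl z) = (orbit (stabilizer G (0 : Ω) ⊓ D : Subgroup G) z).ncard := by
      rw [← Set.ncard_coe_finset]
      congr 1
      ext y
      simp only [cl, coe_filter, mem_univ, true_and, Set.mem_setOf_eq]
      exact ⟨fun ⟨d, hd, h0, e⟩ => ⟨⟨d, h0, hd⟩, e⟩, fun ⟨d, e⟩ => ⟨d, d.2.2, d.2.1, e⟩⟩
    have e2 : (stabilizer G (0 : Ω) ⊓ D).relIndex (stabilizer G (0 : Ω)) = m := by
      rw [Subgroup.inf_relIndex_left]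
      exact (hLD.mono l0).idx
    have e3 : stabilizer G (0 : Ω) ⊓ stabilizer G z = (stabilizer G (0 : Ω) ⊓ D) ⊓ stabilizer G z :=
      le_antisymm (fun g hg => ⟨⟨hg.1, h2 g 0 z hz.symm hg.1 hg.2⟩, hg.2⟩) fun g hg => ⟨hg.1.1, hg.2⟩
    rw [e1, ← e2, ← Set.ncard_eq_toFinset_card', ncard_orbit, ncard_orbit,
      ← Subgroup.inf_relIndex_left _ (stabilizer G z), ← Subgroup.inf_relIndex_left (_ ⊓ D) (stabilizer G z), e3,
      Subgroup.relIndex_mul_relIndex _ _ _ inf_le_left inf_le_left]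
  have hO0 : ∀ z : Ω, z ≠ 0 → O z ⊆ univ.erase 0 := fun z hz y hy => by
    obtain ⟨g, rfl⟩ := Set.mem_toFinset.1 hy
    refine mem_erase.2 ⟨fun h => hz ?_, mem_univ _⟩
    exact smul_left_cancel (g : G) (h.trans (show (g : G) • (0 : Ω) = 0 from g.2).symm)
  have hd : ∀ z : Ω, #(cl z) ≤ m + 1 := fun z => by
    by_cases hz : z = 0
    · refine le_trans (card_le_one.2 fun a ha b hb => ?_) (by omega)
      obtain ⟨d, -, h0, e⟩ := (mem_filter.1 ha).2
      obtain ⟨d', -, h0', e'⟩ := (mem_filter.1 hb).2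
      rw [← e, ← e', hz, h0, h0']
    · have h := card_le_card (hO0 z hz)
      rw [hO z hz, card_erase_of_mem (mem_univ _), card_univ, ← en] at h
      by_contra hc
      have : (m + 2) * m ≤ #(cl z) * m := Nat.mul_le_mul_right _ (by omega)
      have : 0 < n := Fintype.card_pos
      have : (m + 1) ^ 2 = (m + 2) * m + 1 := by ring
      omega
  have hP : ∀ z : Ω, ∀ y ∈ O z, #(P z) ≤ #(P y) := fun z y hy => by
    obtain ⟨⟨g, hg⟩, rfl⟩ := Set.mem_toFinset.1 hy
    obtain ⟨l, hl, hd⟩ := hLD g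
    have d0 : (l⁻¹ * g) • (0 : Ω) = 0 := by rw [mul_smul, show g • (0 : Ω) = 0 from hg, l0 _ (inv_mem hl)]
    refine card_le_card_of_injOn (fun w => g • w) (fun w hw => ?_) fun a _ b _ h => smul_left_cancel g h
    simp only [P, coe_filter, mem_univ, true_and, Set.mem_setOf_eq] at hw ⊢
    obtain ⟨e, he, e0, ee⟩ := ((Rl.symm ⟨_, hd, d0, rfl⟩).trans hw).trans (rl_sub hT hd z w)
    refine ⟨l * e * l⁻¹, ‹D.Normal›.conj_mem _ he l, by rw [mul_smul, mul_smul, l0 _ (inv_mem hl), e0, l0 _ hl], ?_⟩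
    rw [mul_smul, mul_smul, ← mul_smul l⁻¹, ee, eq_sub_iff_add_eq]
    change _ + g • z = _
    rw [← mul_inv_cancel_left l g, mul_smul l, mul_smul l, ← hL l hl, inv_mul_cancel_left, sub_add_cancel]
  have hS : ∑ z ∈ univ.erase 0, #(P z) ≤ (n - 1) * m := by
    have e : ∑ z ∈ univ.erase 0, #(P z) = ∑ w : Ω, #((univ.erase 0).filter fun z => Rl D w (w - z)) := by
      simp only [P, card_filter]
      exact sum_comm
    rw [e, ← add_sum_erase _ _ (mem_univ 0), filter_eq_empty_iff.2, card_empty, zero_add]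
    · refine (sum_le_card_nsmul _ _ m fun w _ => ?_).trans
        (by rw [card_erase_of_mem (mem_univ _), card_univ, smul_eq_mul])
      have h : #((univ.erase 0).filter fun z => Rl D w (w - z)) ≤ #((cl w).erase w) :=
        card_le_card_of_injOn (fun z => w - z) (fun z hz => by
          obtain ⟨h1, h3⟩ := mem_filter.1 (mem_coe.1 hz)
          exact mem_coe.2 (mem_erase.2 ⟨by simpa using (mem_erase.1 h1).1, mem_filter.2 ⟨mem_univ _, h3⟩⟩))
          fun a _ b _ h => sub_right_injective h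
      rw [card_erase_of_mem (show w ∈ cl w from mem_filter.2 ⟨mem_univ _, Rl.refl w⟩)] at h
      have := hd w
      omega
    · rintro z hz ⟨d, -, h0, e⟩
      rw [h0, zero_sub, eq_comm, neg_eq_zero] at e
      exact (mem_erase.1 hz).1 e
  obtain ⟨v, hv, hmin⟩ := exists_min_image (univ.erase (0 : Ω)) (fun z => #(cl z))
    (by obtain ⟨z, hz⟩ := exists_ne (0 : Ω); exact ⟨z, mem_erase.2 ⟨hz, mem_univ _⟩⟩)
  have hb : ∀ z : Ω, z ≠ 0 → #(cl v) * #(P z) ≤ n - 1 := fun z hz => by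
    have h1 := ((card_nsmul_le_sum _ _ _ (hP z)).trans (sum_le_sum_of_subset (hO0 z hz))).trans hS
    rw [hO z hz, smul_eq_mul, mul_right_comm] at h1
    exact (Nat.mul_le_mul_right _ (hmin z (mem_erase.2 ⟨hz, mem_univ _⟩))).trans (Nat.le_of_mul_le_mul_right h1 hm)
  have main : ∀ g ∈ D, g • (0 : Ω) = 0 → ∀ x : Ω, g • (v + x) = g • v + g • x := fun g hg g0 x => by
    by_contra hx
    obtain ⟨s, hs, es⟩ := hT (-(g • v))
    obtain ⟨t, ht, et⟩ := hT v
    have hc : s * g * t * g⁻¹ ∈ D := mul_mem (mul_mem (mul_mem hs hg) ht) (inv_mem hg)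
    have ec : ∀ u : Ω, (s * g * t * g⁻¹) • g • u = g • (v + u) - g • v := fun u => by
      rw [mul_smul, inv_smul_smul, mul_smul, mul_smul, es, et, neg_add_eq_sub]
    set z := g • x - (s * g * t * g⁻¹) • g • x with ez
    have hz : z ≠ 0 := fun h => hx (by rw [ez, sub_eq_zero, ec, eq_sub_iff_add_eq, add_comm] at h; exact h.symm)
    let B : Finset Ω := ((cl v).erase v).biUnion fun y => P (y - v)
    have h1 : #(univ \ B) ≤ #(P z) := by
      refine card_le_card_of_injOn (fun u => g • x - g • u) (fun u hu => ?_)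
        fun a _ b _ h => smul_left_cancel g (sub_right_injective h)
      have fu : (s * g * t * g⁻¹) • g • u = g • u := by
        rw [ec, sub_eq_iff_eq_add]
        by_contra hne
        refine (mem_sdiff.1 (mem_coe.1 hu)).2 (mem_biUnion.2 ⟨g⁻¹ • (g • (v + u) - g • u), mem_erase.2 ⟨fun h => hne ?_,
          mem_filter.2 ⟨mem_univ _, ?_⟩⟩, mem_filter.2 ⟨mem_univ _, ?_⟩⟩)
        · rw [inv_smul_eq_iff] at h
          rw [← h, add_sub_cancel]
        · have := rl_sub hT hg u (v + u)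
          rw [add_sub_cancel_right] at this
          exact this.trans ⟨g⁻¹, inv_mem hg, inv_smul_eq_iff.2 g0.symm, rfl⟩
        · have := rl_sub hT hg (g⁻¹ • (g • (v + u) - g • u)) (v + u)
          rw [smul_inv_smul, sub_sub_cancel] at this
          rw [← sub_add, sub_add_eq_add_sub, add_comm u]
          exact Rl.trans ⟨g, hg, g0, rfl⟩ this.symm
      have := rl_sub hT hc (g • u) (g • x)
      rw [fu] at this
      refine mem_coe.2 (mem_filter.2 ⟨mem_univ _, ?_⟩)
      rwa [ez, sub_sub_sub_cancel_left]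
    have h3 : #(cl v) * #B ≤ (#(cl v) - 1) * (n - 1) := by
      refine (Nat.mul_le_mul_left _ card_biUnion_le).trans ?_
      rw [mul_sum, ← card_erase_of_mem (show v ∈ cl v from mem_filter.2 ⟨mem_univ _, Rl.refl v⟩)]
      exact sum_le_card_nsmul _ _ _ fun y hy => hb _ (sub_ne_zero.2 (mem_erase.1 hy).1)
    have h4 := (Nat.mul_le_mul_left #(cl v) h1).trans (hb z hz)
    have h5 : #(univ \ B) + #B = n := card_sdiff_add_card_eq_card (subset_univ _)
    obtain ⟨d, hd⟩ : ∃ d, #(cl v) = d + 1 :=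
      ⟨_, (Nat.succ_pred_eq_of_pos (card_pos.2 ⟨v, mem_filter.2 ⟨mem_univ _, Rl.refl v⟩⟩)).symm⟩
    obtain ⟨k, hk⟩ : ∃ k, n = k + 1 := ⟨_, (Nat.succ_pred_eq_of_pos Fintype.card_pos).symm⟩
    rw [hd, hk, Nat.add_sub_cancel] at h3 h4
    rw [Nat.add_sub_cancel] at h3
    have : (d + 1) * (#(univ \ B) + #B) = (d + 1) * (k + 1) := by rw [h5, hk]
    nlinarith
  refine ⟨v, (mem_erase.1 hv).1, fun g => ?_⟩
  obtain ⟨l, hl, hd⟩ := hLD g
  obtain ⟨s, hs, es⟩ := hT (-((l⁻¹ * g) • (0 : Ω)))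
  refine ⟨l • (s * (l⁻¹ * g)) • v, fun x => ?_⟩
  have := main _ (mul_mem hs hd) (by rw [mul_smul, es, neg_add_cancel]) x
  rw [mul_smul, es, mul_smul s _ x, es, add_left_comm, add_right_inj] at this
  rw [← mul_inv_cancel_left l g, mul_smul l, mul_smul l, this, hL l hl, inv_mul_cancel_left]

end A

end CL.Perm.DerIdx
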