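/-
A normal subgroup of large index outside which every element fixes exactly one point: Sylow subgroups for primes dividing
the degree are transitive.
-/
import Cfsg.Agent.Perm.DerIdxA
import Cfsg.Agent.Grp.SylowIn
import Cfsg.Agent.Grp.PGroupFrattini

set_option autoImplicit false
open MulAction Subgroup CL.Grp
open scoped Pointwise

namespace CL.Perm.DerIdx

variable {G Ω : Type*} [Group G] [MulAction G Ω] [Finite G] [Finite Ω]

theorem half (D : Subgroup G) [D.Normal] [Fintype G] [Fintype Ω] [DecidableEq Ω] [DecidablePred (· ∈ D)] {g : G} {a : Ω}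
    (hg : g ∉ D) (ha : g • a = a) :
    Fintype.card G ≤ ∑ y ∈ (orbit G a).toFinite.toFinset, 2 * (Finset.univ.filter fun x : G => x • y = y ∧ x ∉ D).card := by
  have h1 : ∀ y ∈ (orbit G a).toFinite.toFinset,
      Nat.card (stabilizer G a) ≤ 2 * (Finset.univ.filter fun x : G => x • y = y ∧ x ∉ D).card := fun y hy => by
    obtain ⟨k, rfl⟩ := (Set.Finite.mem_toFinset _).1 hy
    have e : Nat.card (stabilizer G a) = (Finset.univ.filter fun x : G => x • k • a = k • a).card := by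
      rw [← card_conj_smul k, conj_smul_eq_map, ← stabilizer_smul_eq_stabilizer_map_conj, Nat.card_eq_fintype_card,
        Fintype.card_subtype]
      rfl
    have hk : k * g * k⁻¹ ∉ D := fun h => hg (by simpa [mul_assoc] using ‹D.Normal›.conj_mem _ h k⁻¹)
    rw [e, ← Finset.card_filter_add_card_filter_not (fun x => x ∈ D), Finset.filter_filter, Finset.filter_filter, two_mul]
    refine Nat.add_le_add_right (Finset.card_le_card_of_injOn (fun x => k * g * k⁻¹ * x) (fun x hx => ?_)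
      fun _ _ _ _ h => mul_left_cancel h) _
    simp only [Finset.coe_filter, Finset.mem_univ, true_and, Set.mem_setOf_eq] at hx ⊢
    exact ⟨by rw [mul_smul, hx.1, mul_smul, mul_smul, inv_smul_smul, ha],
      fun h => hk ((mul_mem_cancel_right hx.2).1 h)⟩
  refine le_trans (le_of_eq ?_) (Finset.card_nsmul_le_sum _ _ _ h1)
  rw [← Set.ncard_eq_toFinset_card, ← index_stabilizer, smul_eq_mul, index_mul_card, Nat.card_eq_fintype_card]

theorem same_orbit' (D : Subgroup G) [D.Normal] (h2 : ∀ (g : G) (a b : Ω), a ≠ b → g • a = a → g • b = b → g ∈ D)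
    {g g' : G} {a b : Ω} (hg : g ∉ D) (ha : g • a = a) (hg' : g' ∉ D) (hb : g' • b = b) : b ∈ orbit G a := by
  classical
  have := Fintype.ofFinite G
  have := Fintype.ofFinite Ω
  by_contra hab
  have hd : Disjoint (orbit G a).toFinite.toFinset (orbit G b).toFinite.toFinset := by
    refine Finset.disjoint_left.2 fun y h1 h3 => hab ?_
    rw [Set.Finite.mem_toFinset] at h1 h3
    rw [← orbit_eq_iff.2 h1, orbit_eq_iff.2 h3]
    exact mem_orbit_self b
  have h := Nat.add_le_add (half D hg ha) (half D hg' hb)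
  rw [← Finset.sum_union hd, ← Finset.mul_sum, ← Finset.card_biUnion] at h
  · have : _ < Fintype.card G := Finset.card_lt_card ⟨Finset.subset_univ (((orbit G a).toFinite.toFinset ∪
      (orbit G b).toFinite.toFinset).biUnion fun y => Finset.univ.filter fun x : G => x • y = y ∧ x ∉ D), fun h => by
        simpa [one_mem] using h (Finset.mem_univ 1)⟩
    omega
  · intro y _ z _ hyz
    refine Finset.disjoint_left.2 fun x h1 h3 => ?_
    simp only [Finset.mem_filter, Finset.mem_univ, true_and] at h1 h3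
    exact h1.2 (h2 x y z hyz h1.1 h3.1)

/-- The standing hypothesis. -/
structure Hy (D : Subgroup G) (Ω : Type*) [MulAction G Ω] : Prop where
  one : ∀ g : G, g ∉ D → ∃ ω : Ω, g • ω = ω
  two : ∀ (g : G) (a b : Ω), a ≠ b → g • a = a → g • b = b → g ∈ D
  small : Nat.card Ω < (D.index + 1) ^ 2

variable {D : Subgroup G} [D.Normal] (h : Hy D Ω)
include h

theorem Hy.same (M : Subgroup G) {g g' : G} {a b : Ω} (hM : g ∈ M) (hg : g ∉ D) (ha : g • a = a) (hM' : g' ∈ M)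
    (hg' : g' ∉ D) (hb : g' • b = b) : ∃ x ∈ M, x • a = b := by
  obtain ⟨x, hx⟩ := same_orbit' (G := M) (D.subgroupOf M) (fun g a b => h.two g a b) (g := ⟨g, hM⟩) (g' := ⟨g', hM'⟩)
    hg ha hg' hb
  exact ⟨x, x.2, hx⟩

theorem Hy.point {M N : Subgroup G} (hN : Sup D N) (hNM : N ≤ M) {ω : Ω} (hω : Sup D (M ⊓ stabilizer G ω)) :
    ∃ x ∈ M, Sup D (N ⊓ stabilizer G (x • ω)) := by
  by_cases hD : ∀ g, g ∈ D
  · exact ⟨1, one_mem _, fun g => ⟨1, one_mem _, hD _⟩⟩
  obtain ⟨g, hg⟩ := not_forall.1 hD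
  obtain ⟨g1, hg1, d1⟩ := hN g
  obtain ⟨g2, hg2, d2⟩ := hω g
  have n1 : g1 ∉ D := fun h => hg (by simpa using mul_mem h d1)
  have n2 : g2 ∉ D := fun h => hg (by simpa using mul_mem h d2)
  obtain ⟨a, ha⟩ := h.one g1 n1
  obtain ⟨x, hx, rfl⟩ := h.same M hg2.1 n2 hg2.2 (hNM hg1) n1 ha
  refine ⟨x, hx, fun k => ?_⟩
  have ht := (isPretransitive_and_card_fixedBy_of_derangements_le (α := orbit N (x • ω)) (D.subgroupOf N) fun y hy => by
    by_contra hn
    obtain ⟨b, hb⟩ := h.one y hn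
    obtain ⟨z, hz, rfl⟩ := h.same N hg1 n1 ha y.2 hn hb
    exact hy ⟨_, ⟨z, hz⟩, rfl⟩ (Subtype.ext hb)).1
  obtain ⟨y, hy, dy⟩ := hN k
  obtain ⟨e, he⟩ := ht.exists_smul_eq ⟨x • ω, mem_orbit_self _⟩ ⟨y • x • ω, ⟨y, hy⟩, rfl⟩
  have he : (e : G) • x • ω = y • x • ω := congrArg Subtype.val he
  refine ⟨(e : G)⁻¹ * y, ⟨N.mul_mem (N.inv_mem e.1.2) hy,
    mem_stabilizer_iff.2 (by rw [mul_smul, ← he, inv_smul_smul])⟩, ?_⟩
  simpa [mul_assoc] using mul_mem (‹D.Normal›.conj_mem _ e.2 y⁻¹) dy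

theorem Hy.cong {L M : Subgroup G} {ω : Ω} (hL : Sup D L) (hω : L ≤ stabilizer G ω) (hM : L ≤ normalizer (M : Set G)) :
    D.index ∣ (stabilizer G ω).relIndex M - 1 := by
  have := index_dvd_ncard_of_stab_le (H := L) (D.subgroupOf L) (orbit M ω \ {ω}) (Set.toFinite _) (fun l y hy => by
    obtain ⟨⟨x, rfl⟩, hy⟩ := hy
    have e : (l : G) • ω = ω := hω l.2
    refine ⟨⟨⟨_, le_normalizer_iff.1 hM l l.2 x x.2⟩, ?_⟩, fun h => hy (smul_left_cancel (l : G) (h.trans e.symm))⟩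
    change ((l : G) * x * (l : G)⁻¹) • ω = (l : G) • (x : G) • ω
    rw [mul_smul, mul_smul, inv_smul_eq_iff.2 e.symm]) fun y hy g hg => h.two g y ω hy.2 hg (hω g.2)
  rwa [Set.ncard_sdiff_singleton_of_mem (mem_orbit_self ω), ncard_orbit, ← relIndex, hL.idx] at this

theorem Hy.arith {M : Subgroup G} {ω : Ω} {x c : ℕ} (e : x * c = (stabilizer G ω).relIndex M) (hx : D.index ∣ x - 1)
    (hc : D.index ∣ (stabilizer G ω).relIndex M - 1) (h1 : x ≠ 1) : c = 1 := by
  have h0 : (stabilizer G ω).relIndex M ≠ 0 := index_ne_zero_of_finite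
  have hl : (stabilizer G ω).relIndex M ≤ Nat.card Ω := by rw [← ncard_orbit]; exact Set.ncard_le_card _
  rw [← e] at h0 hl hc
  obtain ⟨x, rfl⟩ : ∃ y, x = y + 1 := Nat.exists_eq_succ_of_ne_zero (left_ne_zero_of_mul h0)
  obtain ⟨c, rfl⟩ : ∃ y, c = y + 1 := Nat.exists_eq_succ_of_ne_zero (right_ne_zero_of_mul h0)
  rw [Nat.add_sub_cancel] at hx
  rw [show (x + 1) * (c + 1) - 1 = x * (c + 1) + c from by rw [add_mul]; omega] at hc
  by_contra hc1
  have h3 := Nat.le_of_dvd (by omega) hx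
  have h4 := Nat.le_of_dvd (by omega) ((Nat.dvd_add_right (hx.mul_right _)).1 hc)
  exact ((Nat.mul_le_mul (Nat.succ_le_succ h3) (Nat.succ_le_succ h4)).trans hl).not_gt (sq (D.index + 1) ▸ h.small)

variable {r : ℕ} [Fact r.Prime]

omit h [Finite Ω] in
theorem frat {H W : Subgroup G} (hH : Sup D H) (hW : IsSylowIn r W H) (hD : W ≤ D) :
    Sup D (H ⊓ normalizer (W : Set G)) := fun g => by
  obtain ⟨x, hx, hd⟩ := hH g
  obtain ⟨n, hn, e⟩ := (hW.of_le (le_inf hW.le hD) inf_le_left).frattini (H := H)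
    (le_normalizer_iff.2 fun a ha k hk => ⟨H.mul_mem (H.mul_mem ha hk.1) (H.inv_mem ha), ‹D.Normal›.conj_mem _ hk.2 a⟩) hx
  refine ⟨n * x, ⟨mul_mem hn.1 hx, e⟩, ?_⟩
  simpa [mul_assoc] using mul_mem (‹D.Normal›.conj_mem _ (inv_mem hn.2) x⁻¹) hd

variable {R : Subgroup G} (hR : IsSylowIn r R ⊤) (hD : R ≤ D) (hf : ∀ ω : Ω, ¬ R ≤ stabilizer G ω)
include hR hD hf

theorem Hy.base {M : Subgroup G} (hM : R ≤ M) {ω : Ω} (hω : Sup D (M ⊓ stabilizer G ω)) :
    ∃ x ∈ M, Sup D (M ⊓ normalizer (R : Set G) ⊓ stabilizer G (x • ω)) ∧ ⁅R, R⁆ ≤ stabilizer G (x • ω) := by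
  obtain ⟨x, hx, hL⟩ := h.point (frat (hω.mono inf_le_left) (hR.of_le hM le_top) hD) inf_le_left hω
  refine ⟨x, hx, hL, ?_⟩
  set S := stabilizer G (x • ω)
  by_contra hc
  have hY : R ⊓ S ⊔ ⁅R, R⁆ ≤ R := sup_le inf_le_left (commutator_le_self R)
  have hn : M ⊓ normalizer (R : Set G) ⊓ S ≤ normalizer ((R ⊓ S ⊔ ⁅R, R⁆ : Subgroup G) : Set G) := fun l hl => by
    have e1 := (conj_smul_eq_self_iff l R).2 hl.1.2
    have e2 := (conj_smul_eq_self_iff l S).2 (le_normalizer hl.2)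
    rw [← conj_smul_eq_self_iff, Subgroup.smul_sup, Subgroup.smul_inf, e1, e2, conj_smul_eq_map, map_commutator,
      ← conj_smul_eq_map, e1]
  have e : S.relIndex (R ⊓ S ⊔ ⁅R, R⁆) * (R ⊓ S ⊔ ⁅R, R⁆).relIndex R = S.relIndex R := by
    rw [← inf_relIndex_left R S, ← relIndex_mul_relIndex (R ⊓ S) _ R le_sup_left hY, ← inf_relIndex_left _ S]
    congr 2
    exact le_antisymm (inf_le_inf_right _ hY) (le_inf le_sup_left inf_le_right)
  have h1 := relIndex_eq_one.1 (h.arith e (h.cong hL inf_le_right hn) (h.cong hL inf_le_right fun l hl => hl.1.2)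
    fun h1 => hc (le_sup_right.trans (relIndex_eq_one.1 h1)))
  have h3 : (R ⊓ S).subgroupOf R ⊔ frattini R = ⊤ := by
    refine eq_top_iff.2 (le_trans ?_ (sup_le_sup_left (commutator_le_frattini hR.isPGroup) _))
    rw [← map_le_map_iff_of_injective R.subtype_injective, Subgroup.map_sup, subgroupOf_map_subtype,
      inf_eq_left.2 inf_le_left, commutator_def, map_commutator, ← MonoidHom.range_eq_map, range_subtype]
    exact h1
  exact hf _ ((subgroupOf_eq_top.1 (frattini_nongenerating h3)).trans inf_le_right)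

omit hD in
theorem Hy.syl {M : Subgroup G} (hM : R ≤ M) {ω : Ω} (hω : Sup D (M ⊓ stabilizer G ω))
    (hS : IsSylowIn r (R ⊓ stabilizer G ω) (M ⊓ stabilizer G ω)) (hc : D.index ∣ (stabilizer G ω).relIndex R - 1) :
    ∀ x ∈ M, ∃ ρ ∈ R, ρ • ω = x • ω := fun x hx => by
  obtain ⟨a, ha⟩ : ∃ a, (stabilizer G ω).relIndex R = r ^ a := hR.isPGroup.index _
  have e := (relIndex_mul_relIndex _ _ M hS.le inf_le_left).trans
    (relIndex_mul_relIndex (R ⊓ stabilizer G ω) R M inf_le_left hM).symm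
  rw [inf_relIndex_left, inf_relIndex_left, ha] at e
  obtain ⟨c, hc'⟩ := (Nat.Coprime.pow_left a ((Nat.Prime.coprime_iff_not_dvd Fact.out).2 hS.not_dvd)).dvd_of_dvd_mul_left
    (Dvd.intro _ e.symm)
  have h1 := h.arith hc'.symm (ha ▸ hc) (h.cong hω inf_le_right (inf_le_left.trans le_normalizer))
    fun h1 => hf ω (relIndex_eq_one.1 (ha.trans h1))
  rw [h1, mul_one] at hc'
  obtain ⟨k, hk, s, hs, e⟩ := (hR.of_le hM le_top).exists_mul_eq_of_relIndex_pow hc' (inv_mem hx)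
  refine ⟨s⁻¹, inv_mem hs, ?_⟩
  rw [← inv_inv x, e, mul_inv_rev, mul_smul, show k⁻¹ • ω = ω from inv_mem hk]

omit h hR hD hf [Finite G] [Finite Ω] in
theorem orb_eq {M : Subgroup G} (hM : R ≤ M) {ω : Ω} (ht : ∀ x ∈ M, ∃ ρ ∈ R, ρ • ω = x • ω) :
    (stabilizer G ω).relIndex M = (stabilizer G ω).relIndex R := by
  rw [← ncard_orbit, ← ncard_orbit]
  congr 1
  ext y
  exact ⟨fun ⟨x, e⟩ => by obtain ⟨ρ, hρ, e'⟩ := ht x x.2; exact ⟨⟨ρ, hρ⟩, e'.trans e⟩, fun ⟨x, e⟩ => ⟨⟨x, hM x.2⟩, e⟩⟩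

theorem Hy.trans (M : Subgroup G) (hM : R ≤ M) (ω : Ω) (hω : Sup D (M ⊓ stabilizer G ω)) :
    ∀ x ∈ M, ∃ ρ ∈ R, ρ • ω = x • ω := by
  induction hk : Nat.card M using Nat.strong_induction_on generalizing M ω with | _ k ih =>
  have IH : ∀ N : Subgroup G, ¬ M ≤ N → R ≤ N → ∀ ω : Ω, Sup D (M ⊓ N ⊓ stabilizer G ω) →
      (stabilizer G ω).relIndex (M ⊓ N) = (stabilizer G ω).relIndex R := fun N h1 h2 ω h3 =>
    orb_eq (le_inf hM h2) (ih _ (hk ▸ lt_of_le_of_ne (card_le_of_le inf_le_left) fun e =>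
      h1 (inf_eq_left.1 (eq_of_le_of_card_ge inf_le_left e.ge))) _ (le_inf hM h2) ω h3 rfl)
  have nc : ∀ W, ⁅R, R⁆ ≤ W → W ≤ R → R ≤ normalizer (W : Set G) := fun W h1 h2 =>
    le_normalizer_iff_commutator_le_right.2 ((commutator_mono le_rfl h2).trans h1)
  have fx : ∀ (W : Subgroup G) (a : Ω), M ≤ normalizer (W : Set G) → W ≤ stabilizer G a → ∀ y ∈ M,
      W ≤ stabilizer G (y • a) := fun W a h1 h2 y hy w hw => by
    have : (y⁻¹ * w * y⁻¹⁻¹) • a = a := h2 (le_normalizer_iff.1 h1 _ (inv_mem hy) w hw)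
    rwa [inv_inv, mul_smul, mul_smul, inv_smul_eq_iff] at this
  suffices ∃ y ∈ M, ∀ x ∈ M, ∃ ρ ∈ R, ρ • y • ω = x • y • ω by
    obtain ⟨y, hy, ht⟩ := this
    intro x hx
    obtain ⟨a, ha, e⟩ := ht y⁻¹ (inv_mem hy)
    obtain ⟨b, hb, e'⟩ := ht (x * y⁻¹) (mul_mem hx (inv_mem hy))
    rw [inv_smul_smul] at e
    rw [mul_smul, inv_smul_smul] at e'
    exact ⟨b * a⁻¹, mul_mem hb (inv_mem ha), by rw [← e', mul_smul, inv_smul_eq_iff.2 e.symm]⟩
  obtain ⟨x, hx, hL, hc⟩ := h.base hR hD hf hM hω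
  set S := stabilizer G (x • ω) with eS
  have hc' : ⁅R, R⁆ ≤ R ⊓ S := le_inf (commutator_le_self R) hc
  have hS : Sup D (M ⊓ S) := hL.mono (inf_le_inf_right _ inf_le_left)
  have cg := h.cong hL inf_le_right fun l hl => hl.1.2
  by_cases h2 : M ≤ normalizer ((R ⊓ S : Subgroup G) : Set G)
  · obtain ⟨W, hW⟩ := exists_isSylowIn r (M ⊓ S)
    obtain ⟨y, hy, hWR⟩ := (hR.of_le hM le_top).exists_conj_le hW.isPGroup (hW.le.trans inf_le_left)
    have e : MulAut.conj y • (M ⊓ S) = M ⊓ stabilizer G (y • x • ω) := by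
      rw [Subgroup.smul_inf, (conj_smul_eq_self_iff y M).2 (le_normalizer hy), stabilizer_smul_eq_stabilizer_map_conj]
      rfl
    have hW' := e ▸ hW.conj_smul y
    rw [← hW'.eq_of_le (hR.isPGroup.to_inf_left (K := stabilizer G (y • x • ω)))
      (le_inf hWR (hW'.le.trans inf_le_right)) (inf_le_inf_right _ hM)] at hW'
    have hS' : Sup D (M ⊓ stabilizer G (y • x • ω)) := fun g => by
      obtain ⟨z, hz, d⟩ := hS (y⁻¹ * g * y)
      exact ⟨_, e ▸ conj_mem_conj_smul y hz, by simpa [mul_assoc] using ‹D.Normal›.conj_mem _ d y⟩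
    have hK := fx _ _ h2 inf_le_right y hy
    refine ⟨y * x, mul_mem hy hx, ?_⟩
    rw [mul_smul]
    refine h.syl hR hf hM hS' hW' ?_
    by_cases h3 : M ≤ normalizer ((R ⊓ stabilizer G (y • x • ω) : Subgroup G) : Set G)
    · have := fx _ _ h3 inf_le_right y⁻¹ (inv_mem hy)
      rw [inv_smul_smul] at this
      rwa [← inf_relIndex_left R, le_antisymm (le_inf inf_le_left this) (le_inf inf_le_left hK), inf_relIndex_left]
    · have h4 := (frat hS' hW' (inf_le_left.trans hD)).mono (inf_right_comm _ _ _).le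
      rw [← IH _ h3 (nc _ (le_inf (commutator_le_self R) (hc'.trans hK)) inf_le_left) _ h4]
      exact h.cong h4 inf_le_right (inf_le_left.trans le_normalizer)
  · have hRN := nc _ hc' inf_le_left
    have e := IH _ h2 hRN _ (hL.mono (le_inf (le_inf (inf_le_left.trans inf_le_left) fun l hl =>
      inf_normalizer_le_normalizer_inf ⟨hl.1.2, le_normalizer hl.2⟩) inf_le_right))
    set N := M ⊓ normalizer ((R ⊓ S : Subgroup G) : Set G)
    have hN : R ≤ N := le_inf hM hRN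
    have e' := (relIndex_mul_relIndex _ _ N (inf_le_inf_right S hN) inf_le_left).trans
      (relIndex_mul_relIndex (R ⊓ S) R N inf_le_left hN).symm
    rw [inf_relIndex_left, inf_relIndex_left, e, mul_comm] at e'
    replace e' := Nat.eq_of_mul_eq_mul_left (Nat.pos_of_ne_zero index_ne_zero_of_finite) e'
    have hK : IsSylowIn r (R ⊓ S) (N ⊓ S) :=
      ⟨inf_le_inf_right S hN, hR.isPGroup.to_inf_left, e' ▸ (hR.of_le hN le_top).not_dvd⟩
    refine ⟨x, hx, h.syl hR hf hM hS (isSylowIn_of_maximal (inf_le_inf_right _ hM) hK.isPGroup fun U hU h3 h4 => ?_) cg⟩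
    by_contra hne
    have h5 := lt_inf_normalizer_of_isPGroup hU (lt_of_le_of_ne h3 (Ne.symm hne))
    exact h5.ne' (hK.eq_of_le hU.to_inf_left h5.le fun u hu => ⟨⟨(h4 hu.1).1, hu.2⟩, (h4 hu.1).2⟩)

end CL.Perm.DerIdx
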