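/-
The quaternion algebra `H4 C` over a not necessarily commutative ring `C`; a `ℚ`-algebra that contains
quaternion units is a quaternion algebra over their centraliser.
-/
import Cfsg.Agent.Base

set_option autoImplicit false

namespace CL.Perm

/-- Quaternions with coefficients in `C`; the units commute with `C`. -/
@[ext] structure H4 (C : Type*) where
  re : C
  i : C
  j : C
  k : C

namespace H4

variable {C : Type*} [Ring C]

instance instDecEq [DecidableEq C] : DecidableEq (H4 C) := fun x y =>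
  decidable_of_iff (x.re = y.re ∧ x.i = y.i ∧ x.j = y.j ∧ x.k = y.k) H4.ext_iff.symm

instance instZero : Zero (H4 C) := ⟨⟨0, 0, 0, 0⟩⟩
instance instOne : One (H4 C) := ⟨⟨1, 0, 0, 0⟩⟩
instance instAdd : Add (H4 C) := ⟨fun x y => ⟨x.re + y.re, x.i + y.i, x.j + y.j, x.k + y.k⟩⟩
instance instNeg : Neg (H4 C) := ⟨fun x => ⟨-x.re, -x.i, -x.j, -x.k⟩⟩
instance instSub : Sub (H4 C) := ⟨fun x y => ⟨x.re - y.re, x.i - y.i, x.j - y.j, x.k - y.k⟩⟩
instance instMul : Mul (H4 C) := ⟨fun x y =>
  ⟨x.re * y.re - x.i * y.i - x.j * y.j - x.k * y.k, x.re * y.i + x.i * y.re + x.j * y.k - x.k * y.j,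
    x.re * y.j + x.j * y.re + x.k * y.i - x.i * y.k, x.re * y.k + x.k * y.re + x.i * y.j - x.j * y.i⟩⟩
instance instNSMul : SMul ℕ (H4 C) := ⟨fun n x => ⟨n • x.re, n • x.i, n • x.j, n • x.k⟩⟩
instance instZSMul : SMul ℤ (H4 C) := ⟨fun n x => ⟨n • x.re, n • x.i, n • x.j, n • x.k⟩⟩
instance instNatCast : NatCast (H4 C) := ⟨fun n => ⟨n, 0, 0, 0⟩⟩
instance instIntCast : IntCast (H4 C) := ⟨fun n => ⟨n, 0, 0, 0⟩⟩

variable (x y : H4 C)

@[simp] theorem zero_re : (0 : H4 C).re = 0 := rfl
@[simp] theorem zero_i : (0 : H4 C).i = 0 := rfl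
@[simp] theorem zero_j : (0 : H4 C).j = 0 := rfl
@[simp] theorem zero_k : (0 : H4 C).k = 0 := rfl
@[simp] theorem one_re : (1 : H4 C).re = 1 := rfl
@[simp] theorem one_i : (1 : H4 C).i = 0 := rfl
@[simp] theorem one_j : (1 : H4 C).j = 0 := rfl
@[simp] theorem one_k : (1 : H4 C).k = 0 := rfl
@[simp] theorem add_re : (x + y).re = x.re + y.re := rfl
@[simp] theorem add_i : (x + y).i = x.i + y.i := rfl
@[simp] theorem add_j : (x + y).j = x.j + y.j := rfl
@[simp] theorem add_k : (x + y).k = x.k + y.k := rfl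
@[simp] theorem neg_re : (-x).re = -x.re := rfl
@[simp] theorem neg_i : (-x).i = -x.i := rfl
@[simp] theorem neg_j : (-x).j = -x.j := rfl
@[simp] theorem neg_k : (-x).k = -x.k := rfl
@[simp] theorem sub_re : (x - y).re = x.re - y.re := rfl
@[simp] theorem sub_i : (x - y).i = x.i - y.i := rfl
@[simp] theorem sub_j : (x - y).j = x.j - y.j := rfl
@[simp] theorem sub_k : (x - y).k = x.k - y.k := rfl
@[simp] theorem mul_re : (x * y).re = x.re * y.re - x.i * y.i - x.j * y.j - x.k * y.k := rfl
@[simp] theorem mul_i : (x * y).i = x.re * y.i + x.i * y.re + x.j * y.k - x.k * y.j := rfl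
@[simp] theorem mul_j : (x * y).j = x.re * y.j + x.j * y.re + x.k * y.i - x.i * y.k := rfl
@[simp] theorem mul_k : (x * y).k = x.re * y.k + x.k * y.re + x.i * y.j - x.j * y.i := rfl
@[simp] theorem nsmul_re (n : ℕ) : (n • x).re = n • x.re := rfl
@[simp] theorem nsmul_i (n : ℕ) : (n • x).i = n • x.i := rfl
@[simp] theorem nsmul_j (n : ℕ) : (n • x).j = n • x.j := rfl
@[simp] theorem nsmul_k (n : ℕ) : (n • x).k = n • x.k := rfl
@[simp] theorem zsmul_re (n : ℤ) : (n • x).re = n • x.re := rfl
@[simp] theorem zsmul_i (n : ℤ) : (n • x).i = n • x.i := rfl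
@[simp] theorem zsmul_j (n : ℤ) : (n • x).j = n • x.j := rfl
@[simp] theorem zsmul_k (n : ℤ) : (n • x).k = n • x.k := rfl
@[simp] theorem natCast_re (n : ℕ) : (n : H4 C).re = n := rfl
@[simp] theorem natCast_i (n : ℕ) : (n : H4 C).i = 0 := rfl
@[simp] theorem natCast_j (n : ℕ) : (n : H4 C).j = 0 := rfl
@[simp] theorem natCast_k (n : ℕ) : (n : H4 C).k = 0 := rfl
@[simp] theorem intCast_re (n : ℤ) : (n : H4 C).re = n := rfl
@[simp] theorem intCast_i (n : ℤ) : (n : H4 C).i = 0 := rfl
@[simp] theorem intCast_j (n : ℤ) : (n : H4 C).j = 0 := rfl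
@[simp] theorem intCast_k (n : ℤ) : (n : H4 C).k = 0 := rfl

instance instAddCommGroup : AddCommGroup (H4 C) where
  add_assoc x y z := by ext <;> simp [add_assoc]
  zero_add x := by ext <;> simp
  add_zero x := by ext <;> simp
  nsmul := (· • ·)
  nsmul_zero x := by ext <;> simp
  nsmul_succ n x := by ext <;> simp [add_mul]
  zsmul := (· • ·)
  zsmul_zero' x := by ext <;> simp
  zsmul_succ' n x := by ext <;> simp [add_mul]
  zsmul_neg' n x := by ext <;> simp [add_mul]
  sub_eq_add_neg x y := by ext <;> simp [sub_eq_add_neg]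
  neg_add_cancel x := by ext <;> simp
  add_comm x y := by ext <;> simp [add_comm]

instance instRing : Ring (H4 C) where
  __ := instAddCommGroup
  left_distrib x y z := by ext <;> simp only [mul_re, mul_i, mul_j, mul_k, add_re, add_i, add_j, add_k] <;>
    noncomm_ring
  right_distrib x y z := by ext <;> simp only [mul_re, mul_i, mul_j, mul_k, add_re, add_i, add_j, add_k] <;>
    noncomm_ring
  zero_mul x := by ext <;> simp
  mul_zero x := by ext <;> simp
  mul_assoc x y z := by ext <;> simp only [mul_re, mul_i, mul_j, mul_k] <;> noncomm_ring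
  one_mul x := by ext <;> simp
  mul_one x := by ext <;> simp
  natCast_zero := by ext <;> simp
  natCast_succ n := by ext <;> simp
  intCast_ofNat n := by ext <;> simp
  intCast_negSucc n := by ext <;> simp

@[simp] theorem ofNat_re (n : ℕ) [n.AtLeastTwo] : (ofNat(n) : H4 C).re = OfNat.ofNat n := rfl
@[simp] theorem ofNat_i (n : ℕ) [n.AtLeastTwo] : (ofNat(n) : H4 C).i = 0 := rfl
@[simp] theorem ofNat_j (n : ℕ) [n.AtLeastTwo] : (ofNat(n) : H4 C).j = 0 := rfl
@[simp] theorem ofNat_k (n : ℕ) [n.AtLeastTwo] : (ofNat(n) : H4 C).k = 0 := rfl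

/-- Change of coefficients. -/
def map {D : Type*} [Ring D] (f : C →+* D) : H4 C →+* H4 D where
  toFun x := ⟨f x.re, f x.i, f x.j, f x.k⟩
  map_one' := by ext <;> simp
  map_mul' x y := by ext <;> simp
  map_zero' := by ext <;> simp
  map_add' x y := by ext <;> simp

@[simp] theorem map_re {D : Type*} [Ring D] (f : C →+* D) : (map f x).re = f x.re := rfl
@[simp] theorem map_i {D : Type*} [Ring D] (f : C →+* D) : (map f x).i = f x.i := rfl
@[simp] theorem map_j {D : Type*} [Ring D] (f : C →+* D) : (map f x).j = f x.j := rfl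
@[simp] theorem map_k {D : Type*} [Ring D] (f : C →+* D) : (map f x).k = f x.k := rfl

end H4

section Decompose

variable {R : Type*} [Ring R] [Algebra ℚ R] {I J : R}

/-- Evaluation of a quaternion with coefficients in the centraliser of the units. -/
def h4Eval (hI : I * I = -1) (hJ : J * J = -1) (hJI : J * I = -(I * J)) :
    H4 (Subalgebra.centralizer ℚ ({I, J} : Set R)) →+* R where
  toFun x := x.re + I * x.i + J * x.j + I * J * x.k
  map_one' := by simp
  map_zero' := by simp
  map_add' x y := by simp only [H4.add_re, H4.add_i, H4.add_j, H4.add_k, AddMemClass.coe_add]; noncomm_ring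
  map_mul' x y := by
    have cI : ∀ (c : Subalgebra.centralizer ℚ ({I, J} : Set R)) (r : R), c * (I * r) = I * (c * r) :=
      fun c r => by rw [← mul_assoc, ← c.2 I (by simp), mul_assoc]
    have cJ : ∀ (c : Subalgebra.centralizer ℚ ({I, J} : Set R)) (r : R), c * (J * r) = J * (c * r) :=
      fun c r => by rw [← mul_assoc, ← c.2 J (by simp), mul_assoc]
    have h1 : ∀ r, I * (I * r) = -r := fun r => by rw [← mul_assoc, hI, neg_one_mul]
    have h2 : ∀ r, J * (J * r) = -r := fun r => by rw [← mul_assoc, hJ, neg_one_mul]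
    have h3 : ∀ r, J * (I * r) = -(I * (J * r)) := fun r => by rw [← mul_assoc, hJI, neg_mul, mul_assoc]
    simp only [H4.mul_re, H4.mul_i, H4.mul_j, H4.mul_k, AddMemClass.coe_add, AddSubgroupClass.coe_sub,
      MulMemClass.coe_mul, mul_add, add_mul, mul_sub, mul_assoc, cI, cJ, h1, h2, h3, mul_neg, neg_neg]
    abel

theorem h4Eval_bijective (hI : I * I = -1) (hJ : J * J = -1) (hJI : J * I = -(I * J)) :
    Function.Bijective (h4Eval hI hJ hJI) := by
  have h1 : ∀ r, I * (I * r) = -r := fun r => by rw [← mul_assoc, hI, neg_one_mul]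
  have h2 : ∀ r, J * (J * r) = -r := fun r => by rw [← mul_assoc, hJ, neg_one_mul]
  have h3 : ∀ r, J * (I * r) = -(I * (J * r)) := fun r => by rw [← mul_assoc, hJI, neg_mul, mul_assoc]
  have he : ∀ x, h4Eval hI hJ hJI x = x.re + I * x.i + J * x.j + I * J * x.k := fun _ => rfl
  let π : R → R := fun r => (1 / 4 : ℚ) • (r - I * r * I - J * r * J - I * J * r * (I * J))
  constructor
  · have key : ∀ x, h4Eval hI hJ hJI x = 0 → x.re = 0 := by
      intro x hx
      have cI : ∀ (c : Subalgebra.centralizer ℚ ({I, J} : Set R)), c * I = I * c :=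
        fun c => (c.2 I (by simp)).symm
      have cJ : ∀ (c : Subalgebra.centralizer ℚ ({I, J} : Set R)), c * J = J * c :=
        fun c => (c.2 J (by simp)).symm
      have cI' : ∀ (c : Subalgebra.centralizer ℚ ({I, J} : Set R)) (r : R), c * (I * r) = I * (c * r) :=
        fun c r => by rw [← mul_assoc, cI, mul_assoc]
      have : π (h4Eval hI hJ hJI x) = x.re := by
        simp only [π, he, mul_add, add_mul, mul_assoc, cI, cJ, cI', h1, h2, h3, mul_neg, neg_neg]
        module
      rw [hx] at this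
      apply Subtype.ext
      rw [← this]; simp [π]
    rw [injective_iff_map_eq_zero]
    intro x hx
    ext1
    · exact key x hx
    · simpa using key (x * ⟨0, 1, 0, 0⟩) (by rw [map_mul, hx, zero_mul])
    · simpa using key (x * ⟨0, 0, 1, 0⟩) (by rw [map_mul, hx, zero_mul])
    · simpa using key (x * ⟨0, 0, 0, 1⟩) (by rw [map_mul, hx, zero_mul])
  · have hπ : ∀ r, π r ∈ Subalgebra.centralizer ℚ ({I, J} : Set R) := by
      rintro r g (rfl | rfl)
      · simp only [π, mul_smul_comm, smul_mul_assoc, mul_sub, sub_mul, mul_assoc, h1, h2, h3, hI, hJ, hJI,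
          mul_neg, neg_neg, mul_one]
        module
      · simp only [π, mul_smul_comm, smul_mul_assoc, mul_sub, sub_mul, mul_assoc, h1, h2, h3, hI, hJ, hJI,
          mul_neg, neg_neg, mul_one]
        module
    intro r
    refine ⟨⟨⟨_, hπ r⟩, ⟨_, hπ (-(I * r))⟩, ⟨_, hπ (-(J * r))⟩, ⟨_, hπ (-(I * J * r))⟩⟩, ?_⟩
    simp only [he, π, mul_smul_comm, mul_sub, mul_assoc, h1, h2, h3, mul_neg, neg_mul, neg_neg]
    module

/-- A `ℚ`-algebra with quaternion units is a quaternion algebra over their centraliser. -/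
theorem exists_h4_equiv (hI : I * I = -1) (hJ : J * J = -1) (hJI : J * I = -(I * J)) :
    ∃ e : R ≃+* H4 (Subalgebra.centralizer ℚ ({I, J} : Set R)), e I = ⟨0, 1, 0, 0⟩ ∧ e J = ⟨0, 0, 1, 0⟩ := by
  refine ⟨(RingEquiv.ofBijective _ (h4Eval_bijective hI hJ hJI)).symm, ?_, ?_⟩ <;>
    rw [RingEquiv.symm_apply_eq] <;> simp [h4Eval]

end Decompose

end CL.Perm
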