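/-
A group with a fixed-point-free representation inside a `ℚ`-algebra: `FpfRing ρ`.
-/
import Cfsg.Agent.Perm.FCCrit
import Cfsg.Agent.Char.ComplexAut

set_option autoImplicit false

namespace CL.Perm

variable {G : Type*} [Group G]

/-- The two properties of a fixed-point-free representation used in the analysis of elements of order three. -/
structure FpfRing {R : Type*} [Ring R] (ρ : G →* R) : Prop where
  reg : ∀ g, g ≠ 1 → ∀ r, ρ g * r = r → r = 0
  ker : ∀ γ h, ρ γ + ρ γ⁻¹ + 1 = ρ h + ρ h⁻¹ → 2 ≤ orderOf γ ∧ orderOf γ ≤ 6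

theorem FpfRing.of_ringEquiv {R S : Type*} [Ring R] [Ring S] {ρ : G →* R} (h : FpfRing ρ) (e : R ≃+* S) :
    FpfRing (e.toMonoidHom.comp ρ) where
  reg g hg r hr := by
    have := h.reg g hg (e.symm r) (e.injective (by rw [map_mul, e.apply_symm_apply]; exact hr))
    simpa using this
  ker γ g hg := h.ker γ g (e.injective (by simpa using hg))

theorem exists_eigen_exp [Finite G] (h : IsFpf G) (γ : G) :
    ∃ v : fpfSub ℂ G, v ≠ 0 ∧
      ∀ x, v.1 (x * γ) = Complex.exp (2 * Real.pi * Complex.I / (orderOf γ : ℕ)) * v.1 x := by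
  have := h.nontrivial_fpfSub ℂ
  obtain ⟨ω, hω⟩ := Module.End.exists_eigenvalue (fpfRep ℂ G γ)
  obtain ⟨v, hv⟩ := hω.exists_hasEigenvector
  have hm := orderOf_pos γ
  have hk : ∀ k : ℕ, fpfRep ℂ G (γ ^ k) v = ω ^ k • v := fun k => by rw [map_pow]; exact hv.pow_apply k
  have hprim : IsPrimitiveRoot ω (orderOf γ) := by
    refine ⟨?_, fun l hl => ?_⟩
    · have := hk (orderOf γ)
      rw [pow_orderOf_eq_one, map_one, Module.End.one_apply] at this
      exact smul_left_injective ℂ hv.2 (this.symm.trans (one_smul _ _).symm)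
    · by_contra hd
      refine hv.2 (fpfRep_fpf (Nat.cast_ne_zero.mpr Nat.card_pos.ne') (γ ^ l)
        (fun h1 => hd (orderOf_dvd_of_pow_eq_one h1)) v ?_)
      rw [hk, hl, one_smul]
  have : NeZero (orderOf γ) := ⟨hm.ne'⟩
  obtain ⟨a, -, ha, ha'⟩ := (hprim.isPrimitiveRoot_iff).mp (Complex.isPrimitiveRoot_exp _ hm.ne')
  obtain ⟨σ, hσ⟩ := CL.Char.exists_ringEquiv_pow hm.ne' ha
  refine ⟨⟨fun x => σ (v.1 x), CosetZero.map v.2 σ.toRingHom.toAddMonoidHom⟩, fun h0 => hv.2 ?_, fun x => ?_⟩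
  · ext x
    exact σ.injective ((congrFun (congrArg Subtype.val h0) x).trans (map_zero σ).symm)
  · have h1 : v.1 (x * γ) = ω * v.1 x := congrFun (congrArg Subtype.val hv.apply_eq_smul) x
    change σ (v.1 (x * γ)) = _ * σ (v.1 x)
    rw [h1, map_mul, hσ ω hprim.pow_eq_one, ha']

theorem IsFpf.fpfRing [Finite G] (h : IsFpf G) :
    FpfRing (R := Module.End ℂ (fpfSub ℂ G)) (fpfRep ℂ G) where
  reg g hg r hr := by
    ext1 v
    exact fpfRep_fpf (Nat.cast_ne_zero.mpr Nat.card_pos.ne') g hg _ (LinearMap.congr_fun hr v)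
  ker γ g hg := by
    obtain ⟨v, hv0, hv⟩ := exists_eigen_exp h γ
    have hm := orderOf_pos γ
    set θ : ℝ := 2 * Real.pi / (orderOf γ : ℕ) with hθ
    have hζ : Complex.exp (2 * Real.pi * Complex.I / (orderOf γ : ℕ)) = Complex.exp (θ * Complex.I) := by
      rw [hθ]; push_cast; ring_nf
    rw [hζ] at hv
    have hv' : ∀ x, v.1 (x * γ⁻¹) = Complex.exp (-θ * Complex.I) * v.1 x := by
      intro x
      have := hv (x * γ⁻¹)
      rw [inv_mul_cancel_right] at this
      rw [this, ← mul_assoc, ← Complex.exp_add]; simp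
    obtain ⟨x, hx⟩ := Finite.exists_max fun x => ‖v.1 x‖
    have hx0 : 0 < ‖v.1 x‖ := by
      by_contra h0
      apply hv0
      ext y
      exact norm_le_zero_iff.mp ((hx y).trans (not_lt.mp h0))
    have h1 : v.1 (x * γ) + v.1 (x * γ⁻¹) + v.1 x = v.1 (x * g) + v.1 (x * g⁻¹) :=
      congrFun (congrArg Subtype.val (LinearMap.congr_fun hg v)) x
    have h2 : ((2 * Real.cos θ + 1 : ℝ) : ℂ) * v.1 x = v.1 (x * g) + v.1 (x * g⁻¹) := by
      rw [← h1, hv, hv']
      push_cast
      rw [Complex.two_cos]; ring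
    have h3 : |2 * Real.cos θ + 1| * ‖v.1 x‖ ≤ 2 * ‖v.1 x‖ := by
      rw [← Real.norm_eq_abs, ← Complex.norm_real, ← norm_mul, h2, two_mul]
      exact (norm_add_le _ _).trans (add_le_add (hx _) (hx _))
    have h4 : Real.cos θ ≤ 1 / 2 := by
      have := (le_abs_self _).trans (le_of_mul_le_mul_right h3 hx0)
      linarith
    constructor
    · by_contra h5
      have h6 : orderOf γ = 1 := by omega
      rw [hθ, h6] at h4
      norm_num at h4
    · by_contra h5
      have h6 : (7 : ℝ) ≤ (orderOf γ : ℕ) := by exact_mod_cast (by omega : 7 ≤ orderOf γ)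
      have hpi := Real.pi_pos
      have h7 : θ < Real.pi / 3 := by
        rw [hθ, div_lt_div_iff₀ (by linarith) (by norm_num)]
        nlinarith
      have h8 := Real.cos_lt_cos_of_nonneg_of_le_pi (x := θ) (y := Real.pi / 3) (by positivity)
        (by linarith) h7
      rw [Real.cos_pi_div_three] at h8
      linarith

end CL.Perm
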