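/-
Pairs of elements of order three in a group with a fixed-point-free representation.
-/
import Cfsg.Agent.Perm.FCRing

set_option autoImplicit false

namespace CL.Perm

variable {G : Type*} [Group G] {R : Type*} [Ring R] {ρ : G →* R}

/-- For `noncomm_ring [lit]`: numerals as multiples of one. -/
theorem lit (n : ℕ) [n.AtLeastTwo] : (ofNat(n) : R) = @OfNat.ofNat ℕ n (instOfNatNat n) • (1 : R) := by
  rw [nsmul_eq_mul, mul_one]; rfl

theorem nsmul_cancel [IsAddTorsionFree R] (n : ℕ) {a b : R} (h : n • a = n • b)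
    (hn : n ≠ 0 := by norm_num) : a = b :=
  nsmul_right_injective hn h

theorem eq_zero_of_nsmul [IsAddTorsionFree R] (n : ℕ) {a : R} (h : n • a = 0)
    (hn : n ≠ 0 := by norm_num) : a = 0 :=
  nsmul_cancel n (h.trans (nsmul_zero _).symm) hn

theorem false_of_nsmul_one [IsAddTorsionFree R] [Nontrivial R] (n : ℕ) (h : n • (1 : R) = 0)
    (hn : n ≠ 0 := by norm_num) : False :=
  one_ne_zero (eq_zero_of_nsmul n h hn)

/-- `x - x⁻¹` for an element of order three. -/
def uu (ρ : G →* R) (x : G) : R := 2 * ρ x + 1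

/-- The invariant of a pair of elements of order three. -/
def ss (ρ : G →* R) (x y : G) : R := -(uu ρ x * uu ρ y + uu ρ y * uu ρ x)

/-- The possible values of `ss`. -/
def Sv (s : R) : Prop := s = 6 ∨ s = -6 ∨ s = 2 ∨ s = -2 ∨ s * s = 20

theorem uu_conj (g x : G) : uu ρ (g * x * g⁻¹) = ρ g * uu ρ x * ρ g⁻¹ := by
  have : ρ g * ρ g⁻¹ = 1 := by rw [← map_mul, mul_inv_cancel, map_one]
  simp only [uu, map_mul]
  linear_combination (norm := noncomm_ring [lit]) -this

theorem orderOf_conj' (g x : G) : orderOf (g * x * g⁻¹) = orderOf x :=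
  orderOf_injective (MulAut.conj g).toMonoidHom (MulAut.conj g).injective x

namespace FpfRing

variable (h : FpfRing ρ)
include h

theorem injective [Nontrivial R] : Function.Injective ρ := by
  rw [injective_iff_map_eq_one]
  intro g hg
  by_contra h1
  exact one_ne_zero (h.reg g h1 1 (by rw [hg, one_mul]))

theorem eq_neg_one {z : G} (hz : z ≠ 1) (hz2 : z * z = 1) : ρ z = -1 := by
  have := h.reg z hz (ρ z + 1) (by rw [mul_add, ← map_mul, hz2, map_one, mul_one, add_comm])
  exact eq_neg_of_add_eq_zero_left this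

theorem eq_neg_one' {z : G} (hz : orderOf z = 2) : ρ z = -1 :=
  h.eq_neg_one (fun h1 => by simp [h1] at hz) (by rw [← pow_two, ← hz, pow_orderOf_eq_one])

theorem sq_of_three {x : G} (hx : orderOf x = 3) : ρ x * ρ x = -1 - ρ x := by
  have h3 : ρ x * ρ x * ρ x = 1 := by rw [← map_mul, ← map_mul, ← pow_three', ← hx, pow_orderOf_eq_one, map_one]
  have := h.reg x (fun h1 => by simp [h1] at hx) (ρ x * ρ x + ρ x + 1)
    (by linear_combination (norm := noncomm_ring [lit]) h3)
  linear_combination (norm := noncomm_ring [lit]) this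

theorem inv_of_three {x : G} (hx : orderOf x = 3) : ρ x⁻¹ = -1 - ρ x := by
  rw [← h.sq_of_three hx, ← map_mul]
  congr 1
  rw [inv_eq_iff_mul_eq_one, ← pow_three, ← hx, pow_orderOf_eq_one]

theorem uu_sq {x : G} (hx : orderOf x = 3) : uu ρ x * uu ρ x = -3 := by
  simp only [uu]
  linear_combination (norm := noncomm_ring [lit]) 4 * h.sq_of_three hx

theorem uu_inv {x : G} (hx : orderOf x = 3) : uu ρ x⁻¹ = -uu ρ x := by
  simp only [uu, h.inv_of_three hx]
  noncomm_ring [lit]

theorem eq_one_of_trace [Nontrivial R] {g : G} (hg : ρ g + ρ g⁻¹ = 2) : g = 1 := by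
  by_contra h1
  have h2 : ρ g * ρ g⁻¹ = 1 := by rw [← map_mul, mul_inv_cancel, map_one]
  have := h.reg g h1 (ρ g - 1) (by linear_combination (norm := noncomm_ring [lit]) ρ g * hg - h2)
  exact h1 (h.injective (by rw [map_one]; exact sub_eq_zero.mp this))

theorem ss_cases [Nontrivial R] {z x y : G} (hz : orderOf z = 2) (hx : orderOf x = 3) (hy : orderOf y = 3) :
    (ss ρ x y = 6 ∧ y = x) ∨ (ss ρ x y = -6 ∧ y = x⁻¹) ∨ ss ρ x y = 2 ∨ ss ρ x y = -2 ∨
      ss ρ x y * ss ρ x y = 20 := by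
  have hz' := h.eq_neg_one' hz
  have hzi : ρ z⁻¹ = -1 := h.eq_neg_one' (by rwa [orderOf_inv])
  set γ := z * x * y⁻¹ with hγ
  have h1 : ρ γ + ρ γ⁻¹ + 1 = ρ (x * y) + ρ (x * y)⁻¹ := by
    simp only [hγ, mul_inv_rev, inv_inv, map_mul, hz', hzi, h.inv_of_three hx, h.inv_of_three hy]
    noncomm_ring [lit]
  have h2 : ss ρ x y = -(4 * (ρ γ + ρ γ⁻¹)) - 2 := by
    simp only [hγ, mul_inv_rev, inv_inv, map_mul, hz', hzi, h.inv_of_three hx, h.inv_of_three hy, ss, uu]
    noncomm_ring [lit]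
  obtain ⟨h3, h4⟩ := h.ker _ _ h1
  have hp := pow_orderOf_eq_one γ
  have hinv : ρ γ * ρ γ⁻¹ = 1 := by rw [← map_mul, mul_inv_cancel, map_one]
  interval_cases ho : orderOf γ
  · left
    have h5 := h.eq_neg_one' ho
    have h6 : ρ γ⁻¹ = -1 := h.eq_neg_one' (by rwa [orderOf_inv])
    refine ⟨by rw [h2, h5, h6]; norm_num, ?_⟩
    have : γ = z := h.injective (h5.trans hz'.symm)
    rw [hγ, mul_assoc, mul_eq_left, mul_inv_eq_one] at this
    exact this.symm
  · right; right; left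
    rw [h2, h.inv_of_three ho]; noncomm_ring [lit]
  · right; right; right; left
    have h5 : ρ γ * ρ γ = -1 := by
      rw [← map_mul, ← pow_two]
      exact h.eq_neg_one' (by rw [orderOf_pow' _ two_ne_zero, ho]; rfl)
    have h6 : ρ γ⁻¹ = -ρ γ := by linear_combination (norm := noncomm_ring [lit]) h5 * ρ γ⁻¹ - ρ γ * hinv
    rw [h2, h6]; simp
  · right; right; right; right
    have h5 : ρ γ ^ 5 = 1 := by rw [← map_pow, hp, map_one]
    have h6 : ρ γ⁻¹ = ρ γ ^ 4 := by
      rw [← map_pow]; congr 1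
      rw [inv_eq_iff_mul_eq_one, ← pow_succ', hp]
    have h7 := h.reg γ (fun h1 => by simp [h1] at ho) (ρ γ ^ 4 + ρ γ ^ 3 + ρ γ ^ 2 + ρ γ + 1)
      (by linear_combination (norm := noncomm_ring [lit]) h5)
    rw [h2, h6]
    linear_combination (norm := noncomm_ring [lit]) 16 * h7 + 32 * h5 + 16 * h5 * ρ γ ^ 3
  · right; left
    have h5 : ρ γ * ρ γ * ρ γ = -1 := by
      rw [← map_mul, ← map_mul, ← pow_three']
      exact h.eq_neg_one' (by rw [orderOf_pow' _ three_ne_zero, ho]; rfl)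
    have h6 := h.sq_of_three (x := γ ^ 2) (by rw [orderOf_pow' _ two_ne_zero, ho]; rfl)
    rw [pow_two, map_mul] at h6
    have h7 : ρ γ⁻¹ = -(ρ γ * ρ γ) := by
      linear_combination (norm := noncomm_ring [lit]) h5 * ρ γ⁻¹ - ρ γ * ρ γ * hinv
    have h8 : ρ γ + ρ γ⁻¹ = 1 := by
      rw [h7]
      linear_combination (norm := noncomm_ring [lit]) h5 * ρ γ - h6
    refine ⟨by rw [h2, h8]; norm_num, ?_⟩
    rw [h8] at h1
    have := h.eq_one_of_trace (g := x * y) (by rw [← h1]; norm_num)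
    exact eq_inv_of_mul_eq_one_right this

theorem sv [Nontrivial R] {z x y : G} (hz : orderOf z = 2) (hx : orderOf x = 3) (hy : orderOf y = 3) :
    Sv (ss ρ x y) := by
  rcases h.ss_cases hz hx hy with h | h | h | h | h 
  exacts [Or.inl h.1, Or.inr (Or.inl h.1), Or.inr (Or.inr (Or.inl h)), Or.inr (Or.inr (Or.inr (Or.inl h))),
    Or.inr (Or.inr (Or.inr (Or.inr h)))]

/-- A pair with invariant `-2` gives a quaternion group normalised by `x`. -/
theorem exists_triple_of_ss [IsAddTorsionFree R] {z x y : G} (hz : orderOf z = 2) (hx : orderOf x = 3)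
    (hy : orderOf y = 3) (hs : ss ρ x y = -2) :
    ∃ i j : G, ρ i * ρ i = -1 ∧ ρ j * ρ j = -1 ∧ ρ j * ρ i = -(ρ i * ρ j) ∧
      uu ρ x = ρ i + ρ j + ρ i * ρ j := by
  have hz' := h.eq_neg_one' hz
  have hX := h.sq_of_three hx
  have hY := h.sq_of_three hy
  have hYX : ρ y * ρ x = -(ρ x * ρ y) - ρ x - ρ y := by
    simp only [ss, uu] at hs
    exact nsmul_cancel 4 (by linear_combination (norm := noncomm_ring [lit]) -hs)
  have hX' : ∀ r, ρ x * (ρ x * r) = -r - ρ x * r := fun r => by rw [← mul_assoc, hX]; noncomm_ring [lit]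
  have hY' : ∀ r, ρ y * (ρ y * r) = -r - ρ y * r := fun r => by rw [← mul_assoc, hY]; noncomm_ring [lit]
  have hYX' : ∀ r, ρ y * (ρ x * r) = -(ρ x * (ρ y * r)) - ρ x * r - ρ y * r := fun r => by
    rw [← mul_assoc, hYX]; noncomm_ring [lit]
  have hj : ρ (z * x * y⁻¹) = ρ x + ρ x * ρ y := by
    simp only [map_mul, hz', h.inv_of_three hy]; noncomm_ring [lit]
  have hi : ρ (x * (z * x * y⁻¹) * x⁻¹) = ρ x + ρ y + 1 := by
    rw [map_mul, map_mul, hj, h.inv_of_three hx]
    simp only [mul_add, add_mul, mul_sub, sub_mul, mul_assoc, mul_neg, neg_mul, mul_one, one_mul, hX, hY, hYX,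
      hX', hY', hYX']
    abel
  refine ⟨x * (z * x * y⁻¹) * x⁻¹, z * x * y⁻¹, ?_, ?_, ?_, ?_⟩ <;> simp only [hi, hj] <;>
    simp only [uu, two_mul, mul_add, add_mul, mul_sub, sub_mul, mul_assoc, mul_neg, neg_mul, mul_one,
      one_mul, hX, hY, hYX, hX', hY', hYX'] <;> abel

theorem ss_conj {x y : G} (hx : orderOf x = 3) (hy : orderOf y = 3) :
    4 * ss ρ x (y * x * y⁻¹) = ss ρ x y * ss ρ x y - 12 := by
  have hX := h.sq_of_three hx
  have hY := h.sq_of_three hy
  have hX' : ∀ r, ρ x * (ρ x * r) = -r - ρ x * r := fun r => by rw [← mul_assoc, hX]; noncomm_ring [lit]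
  have hY' : ∀ r, ρ y * (ρ y * r) = -r - ρ y * r := fun r => by rw [← mul_assoc, hY]; noncomm_ring [lit]
  simp only [ss, uu, map_mul, h.inv_of_three hy, two_mul, show (4 : R) = 1 + 1 + 1 + 1 by norm_num,
    show (12 : R) = (12 : ℕ) • (1 : R) by simp]
  simp only [mul_add, add_mul, mul_sub, sub_mul, mul_assoc, mul_neg, neg_mul, mul_one,
      one_mul, hX, hY, hX', hY', neg_add_rev]
  abel

/-- Two subgroups of order three give a quaternion group normalised by an element of order three. -/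
theorem exists_triple [Nontrivial R] [IsAddTorsionFree R] {z x y : G} (hz : orderOf z = 2)
    (hx : orderOf x = 3) (hy : orderOf y = 3) (h1 : y ≠ x) (h2 : y ≠ x⁻¹) :
    ∃ i j : G, ρ i * ρ i = -1 ∧ ρ j * ρ j = -1 ∧ ρ j * ρ i = -(ρ i * ρ j) ∧
      uu ρ x = ρ i + ρ j + ρ i * ρ j := by
  have key : ∀ y, orderOf y = 3 → ss ρ x y = 2 → ss ρ x y⁻¹ = -2 := by
    intro y hy hs
    simp only [ss, h.uu_inv hy] at hs ⊢
    linear_combination (norm := noncomm_ring [lit]) -hs
  rcases h.ss_cases hz hx hy with h3 | h3 | h3 | h3 | h3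
  · exact absurd h3.2 h1
  · exact absurd h3.2 h2
  · exact h.exists_triple_of_ss hz hx (by rwa [orderOf_inv]) (key y hy h3)
  · exact h.exists_triple_of_ss hz hx hy h3
  · have h4 : orderOf (y * x * y⁻¹) = 3 := by rwa [orderOf_conj']
    refine h.exists_triple_of_ss hz hx (by rwa [orderOf_inv]) (key _ h4 ?_)
    exact nsmul_cancel 4 (by linear_combination (norm := noncomm_ring [lit]) h.ss_conj hx hy + h3)

end FpfRing

end CL.Perm
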