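/-
Elements of order three in a group with a fixed-point-free representation that contains `SL(2,3)`:
every such element lies in `SL(2,3)` or is conjugate under it to one fixed element.
-/
import Cfsg.Agent.Perm.FCThree
import Cfsg.Agent.Perm.FCH4

set_option autoImplicit false

namespace CL.Perm

variable {G : Type*} [Group G] {C : Type*} [Ring C]

instance H4.instNontrivial [Nontrivial C] : Nontrivial (H4 C) :=
  ⟨⟨0, 1, fun h => zero_ne_one (congrArg H4.re h)⟩⟩

instance H4.instTorsionFree [IsAddTorsionFree C] : IsAddTorsionFree (H4 C) where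
  nsmul_right_injective _ hn _ _ h := H4.ext (nsmul_right_injective hn (congrArg H4.re h))
    (nsmul_right_injective hn (congrArg H4.i h)) (nsmul_right_injective hn (congrArg H4.j h))
    (nsmul_right_injective hn (congrArg H4.k h))

/-- A quaternion group `⟨i, j⟩` with an element `a` of order three in standard position. -/
structure Triple (ρ : G →* H4 C) (z a i j : G) : Prop where
  fpf : FpfRing ρ
  hz : orderOf z = 2
  ha : orderOf a = 3
  hi : ρ i = ⟨0, 1, 0, 0⟩
  hj : ρ j = ⟨0, 0, 1, 0⟩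
  hu : uu ρ a = ⟨0, 1, 1, 1⟩

/-- The configuration that is excluded in `Triple.re_eq_zero`. -/
structure Bad (w : H4 C) : Prop where
  h0 : w.re * w.re = -1
  h1 : w.re * w.i = -(w.i * w.re)
  h2 : w.re * w.j = -(w.j * w.re)
  h3 : w.re * w.k = -(w.k * w.re)
  h12 : w.i * w.j = 0
  h21 : w.j * w.i = 0
  h23 : w.j * w.k = 0
  h32 : w.k * w.j = 0
  h31 : w.k * w.i = 0
  h13 : w.i * w.k = 0
  hs : w.i * w.i + w.j * w.j + w.k * w.k = 2

theorem Bad.rot {w : H4 C} (h : Bad w) : Bad (⟨w.re, w.j, w.k, w.i⟩ : H4 C) :=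
  ⟨h.h0, h.h2, h.h3, h.h1, h.h23, h.h32, h.h31, h.h13, h.h12, h.h21,
    by linear_combination (norm := ((try simp only [lit]); noncomm_ring)) h.hs⟩

variable [IsAddTorsionFree C] [Nontrivial C]

theorem sv_vec {l e f g : C} (h : Sv (⟨l, e, f, g⟩ : H4 C)) :
    e = 0 ∨ (l * l - e * e - f * f - g * g = 20 ∧ l * e + e * l + f * g - g * f = 0) := by
  rcases h with h | h | h | h | h
  · exact Or.inl (congrArg H4.i h)
  · exact Or.inl ((congrArg H4.i h).trans neg_zero)
  · exact Or.inl (congrArg H4.i h)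
  · exact Or.inl ((congrArg H4.i h).trans neg_zero)
  · exact Or.inr ⟨congrArg H4.re h, congrArg H4.i h⟩

namespace Triple

variable {ρ : G →* H4 C} {z a i j : G} (t : Triple ρ z a i j)
include t

theorem hi' : ρ i⁻¹ = ⟨0, -1, 0, 0⟩ := by
  have h1 : ρ i * ⟨0, -1, 0, 0⟩ = 1 := by rw [t.hi]; ext <;> simp
  rw [← mul_one (ρ i⁻¹), ← h1, ← mul_assoc, ← map_mul, inv_mul_cancel, map_one, one_mul]

theorem hj' : ρ j⁻¹ = ⟨0, 0, -1, 0⟩ := by
  have h1 : ρ j * ⟨0, 0, -1, 0⟩ = 1 := by rw [t.hj]; ext <;> simp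
  rw [← mul_one (ρ j⁻¹), ← h1, ← mul_assoc, ← map_mul, inv_mul_cancel, map_one, one_mul]

theorem uu_i (x : G) : uu ρ (i * x * i⁻¹) = ⟨(uu ρ x).re, (uu ρ x).i, -(uu ρ x).j, -(uu ρ x).k⟩ := by
  rw [uu_conj, t.hi, t.hi']; ext <;> simp

theorem uu_j (x : G) : uu ρ (j * x * j⁻¹) = ⟨(uu ρ x).re, -(uu ρ x).i, (uu ρ x).j, -(uu ρ x).k⟩ := by
  rw [uu_conj, t.hj, t.hj']; ext <;> simp

theorem four_conj {x : G} (hx : orderOf x = 3) (r : H4 C) :
    4 • (ρ x * r * ρ x⁻¹) = (uu ρ x - 1) * r * (-1 - uu ρ x) := by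
  rw [t.fpf.inv_of_three hx, uu]; ((try simp only [lit]); noncomm_ring)

theorem uu_a (x : G) : uu ρ (a * x * a⁻¹) = ⟨(uu ρ x).re, (uu ρ x).j, (uu ρ x).k, (uu ρ x).i⟩ := by
  refine nsmul_cancel 4 ?_
  rw [uu_conj, t.four_conj t.ha, t.hu]
  ext <;> simp <;> ((try simp only [lit]); noncomm_ring)

theorem uu_a2 : uu ρ (i * a * i⁻¹) = ⟨0, 1, -1, -1⟩ := by rw [t.uu_i, t.hu]
theorem uu_a3 : uu ρ (j * a * j⁻¹) = ⟨0, -1, 1, -1⟩ := by rw [t.uu_j, t.hu]
theorem uu_a4 : uu ρ (i * (j * a * j⁻¹) * i⁻¹) = ⟨0, -1, -1, 1⟩ := by rw [t.uu_i, t.uu_a3]; simp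

theorem not_bad_of_sq {x : G} (hx : orderOf x = 3) (hb : Bad (uu ρ x)) :
    (uu ρ x).i * (uu ρ x).i ≠ 2 := by
  intro h2
  set w := uu ρ x with hw
  have h3 : w.j = 0 := eq_zero_of_nsmul 2 (by
    linear_combination (norm := ((try simp only [lit]); noncomm_ring)) w.i * hb.h12 - h2 * w.j)
  have h4 : w.k = 0 := eq_zero_of_nsmul 2 (by
    linear_combination (norm := ((try simp only [lit]); noncomm_ring)) w.i * hb.h13 - h2 * w.k)
  have h0 := hb.h0
  have h1 := hb.h1
  set g := j⁻¹ * i⁻¹ * (x * j * x⁻¹) with hg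
  have h5 : 4 • ρ g = ⟨-(2 * (w.i + w.i * w.re)), 0, 0, 0⟩ := by
    have : 4 • ρ g = ρ j⁻¹ * ρ i⁻¹ * (4 • (ρ x * ρ j * ρ x⁻¹)) := by
      simp only [hg, map_mul]; noncomm_ring
    rw [this, t.four_conj hx, t.hi', t.hj', t.hj, ← hw]
    ext <;> simp [h3, h4]
    · linear_combination (norm := ((try simp only [lit]); noncomm_ring)) h1
    · linear_combination (norm := ((try simp only [lit]); noncomm_ring)) -h0 - h2
  have h6 : g * g = 1 := by
    apply t.fpf.injective
    refine nsmul_cancel 16 ?_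
    have : 16 • ρ (g * g) = (4 • ρ g) * (4 • ρ g) := by rw [map_mul]; noncomm_ring
    rw [this, h5, map_one]
    ext <;> simp
    linear_combination (norm := ((try simp only [lit]); noncomm_ring)) 4 * w.i * h1 + 4 * w.i * h1 * w.re + 4 * h2 -
      4 * h2 * w.re * w.re - 8 * h0
  have h7 : ∀ c : C, (∀ r, c * r = r * c) → -(2 * (w.i + w.i * w.re)) = 4 * c → c * c = 1 → False := by
    intro c hc h8 h9
    have h10 : 8 • (c * w.re) = 0 := by
      linear_combination (norm := ((try simp only [lit]); noncomm_ring)) -(w.re * h8) - h8 * w.re + 4 * hc w.re -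
        2 * h1 - 2 * h1 * w.re
    have h11 : w.re = 0 := by
      rw [← one_mul w.re, ← h9, mul_assoc, eq_zero_of_nsmul 8 h10, mul_zero]
    rw [h11, mul_zero] at h0
    exact one_ne_zero (neg_eq_zero.mp h0.symm)
  by_cases h8 : g = 1
  · rw [h8, map_one] at h5
    exact h7 1 (by simp) (by simpa using (congrArg H4.re h5).symm) (by simp)
  · rw [t.fpf.eq_neg_one h8 h6] at h5
    exact h7 (-1) (by simp) (by simpa using (congrArg H4.re h5).symm) (by simp)

theorem sq_eq_zero_of_bad {x : G} (hx : orderOf x = 3) (hb : Bad (uu ρ x)) :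
    (uu ρ x).i * (uu ρ x).i = 0 := by
  have hn := t.not_bad_of_sq hx hb
  have hs := t.fpf.sv t.hz hx (y := i * x * i⁻¹) (by rwa [orderOf_conj'])
  set w := uu ρ x with hw
  have h1 : (ss ρ x (i * x * i⁻¹)) = ⟨4 * (w.i * w.i) - 2, 0, -(0 : C), -(0 : C)⟩ := by
    rw [ss, t.uu_i, ← hw]
    ext <;> simp
    · linear_combination (norm := ((try simp only [lit]); noncomm_ring)) -2 * hb.h0 - 2 * hb.hs
    · linear_combination (norm := ((try simp only [lit]); noncomm_ring)) -2 * hb.h1 + 2 * hb.h23 - 2 * hb.h32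
    · noncomm_ring
    · noncomm_ring
  have h2 : (w.i * w.i) * (w.i * w.i) = 2 * (w.i * w.i) := by
    linear_combination (norm := ((try simp only [lit]); noncomm_ring)) w.i * w.i * hb.hs - w.i * hb.h12 * w.j - w.i * hb.h13 * w.k
  set e := w.i * w.i
  rw [h1] at hs
  rcases hs with h | h | h | h | h <;> replace h := congrArg H4.re h <;> simp at h
  · exact absurd (nsmul_cancel 4 (by linear_combination (norm := ((try simp only [lit]); noncomm_ring)) h)) hn
  · have h3 : e = -1 := nsmul_cancel 4 (by linear_combination (norm := ((try simp only [lit]); noncomm_ring)) h)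
    rw [h3] at h2
    exact (false_of_nsmul_one (R := C) 3 (by linear_combination (norm := ((try simp only [lit]); noncomm_ring)) h2)).elim
  · have h3 : e = 1 := nsmul_cancel 4 (by linear_combination (norm := ((try simp only [lit]); noncomm_ring)) h)
    rw [h3] at h2
    exact absurd (by linear_combination (norm := ((try simp only [lit]); noncomm_ring)) -h2) (one_ne_zero (α := C))
  · exact eq_zero_of_nsmul 4 (by linear_combination (norm := ((try simp only [lit]); noncomm_ring)) h)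
  · have h3 : e = 1 := nsmul_cancel 16 (by linear_combination (norm := ((try simp only [lit]); noncomm_ring)) h - 16 * h2)
    rw [h3] at h2
    exact absurd (by linear_combination (norm := ((try simp only [lit]); noncomm_ring)) -h2) (one_ne_zero (α := C))

theorem not_bad {x : G} (hx : orderOf x = 3) : ¬ Bad (uu ρ x) := by
  intro hb
  have hx2 : orderOf (a * x * a⁻¹) = 3 := by rwa [orderOf_conj']
  have hx3 : orderOf (a * (a * x * a⁻¹) * a⁻¹) = 3 := by rwa [orderOf_conj']
  have hb2 : Bad (uu ρ (a * x * a⁻¹)) := by rw [t.uu_a]; exact hb.rot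
  have hb3 : Bad (uu ρ (a * (a * x * a⁻¹) * a⁻¹)) := by rw [t.uu_a]; exact hb2.rot
  have h1 := t.sq_eq_zero_of_bad hx hb
  have h2 := t.sq_eq_zero_of_bad hx2 hb2
  have h3 := t.sq_eq_zero_of_bad hx3 hb3
  simp only [t.uu_a] at h2 h3
  have := hb.hs
  rw [h1, h2, h3, add_zero, add_zero] at this
  exact false_of_nsmul_one (R := C) 2 (by linear_combination (norm := ((try simp only [lit]); noncomm_ring)) -this)

theorem ss_vec {b x : G} {e f g : C} (hb : uu ρ b = ⟨0, e, f, g⟩) (he : ∀ r, e * r = r * e)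
    (hf : ∀ r, f * r = r * f) (hg : ∀ r, g * r = r * g) :
    ss ρ b x = ⟨2 * (e * (uu ρ x).i + f * (uu ρ x).j + g * (uu ρ x).k), -(2 * (e * (uu ρ x).re)),
      -(2 * (f * (uu ρ x).re)), -(2 * (g * (uu ρ x).re))⟩ := by
  rw [ss, hb]
  ext <;> simp [← he, ← hf, ← hg] <;> noncomm_ring

theorem re_eq_zero {x : G} (hx : orderOf x = 3) : (uu ρ x).re = 0 := by
  by_contra h0
  apply t.not_bad hx
  have hsq := t.fpf.uu_sq hx
  have s1 := t.fpf.sv t.hz t.ha hx
  have s2 := t.fpf.sv t.hz (x := i * a * i⁻¹) (by rw [orderOf_conj', t.ha]) hx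
  have s3 := t.fpf.sv t.hz (x := j * a * j⁻¹) (by rw [orderOf_conj', t.ha]) hx
  have s4 := t.fpf.sv t.hz (x := i * (j * a * j⁻¹) * i⁻¹) (by rw [orderOf_conj', orderOf_conj', t.ha]) hx
  rw [t.ss_vec t.hu (by simp) (by simp) (by simp)] at s1
  rw [t.ss_vec t.uu_a2 (by simp) (by simp) (by simp)] at s2
  rw [t.ss_vec t.uu_a3 (by simp) (by simp) (by simp)] at s3
  rw [t.ss_vec t.uu_a4 (by simp) (by simp) (by simp)] at s4
  set w := uu ρ x
  have hne : (2 : C) * w.re ≠ 0 := fun h => h0 (eq_zero_of_nsmul 2 (by simpa using h))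
  obtain ⟨p1, q1⟩ := (sv_vec s1).resolve_left (by simpa using hne)
  obtain ⟨p2, q2⟩ := (sv_vec s2).resolve_left (by simpa using hne)
  obtain ⟨p3, q3⟩ := (sv_vec s3).resolve_left (by simpa using hne)
  obtain ⟨p4, q4⟩ := (sv_vec s4).resolve_left (by simpa using hne)
  have r0 := congrArg H4.re hsq
  have r1 := congrArg H4.i hsq
  have r2 := congrArg H4.j hsq
  have r3 := congrArg H4.k hsq
  simp at r0 r1 r2 r3
  have h1 : w.re * w.i = -(w.i * w.re) :=
    nsmul_cancel 8 (by linear_combination (norm := ((try simp only [lit]); noncomm_ring)) -q1 - q2)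
  have h2 : w.re * w.j = -(w.j * w.re) :=
    nsmul_cancel 8 (by linear_combination (norm := ((try simp only [lit]); noncomm_ring)) -q1 + q3)
  have h3 : w.re * w.k = -(w.k * w.re) :=
    nsmul_cancel 8 (by linear_combination (norm := ((try simp only [lit]); noncomm_ring)) -q1 + q4)
  have c1 : w.k * w.j = w.j * w.k := by linear_combination (norm := ((try simp only [lit]); noncomm_ring)) h1 - r1
  have c2 : w.i * w.k = w.k * w.i := by linear_combination (norm := ((try simp only [lit]); noncomm_ring)) h2 - r2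
  have c3 : w.j * w.i = w.i * w.j := by linear_combination (norm := ((try simp only [lit]); noncomm_ring)) h3 - r3
  have h00 : w.re * w.re = -1 :=
    nsmul_cancel 32 (by linear_combination (norm := ((try simp only [lit]); noncomm_ring)) -p1 - p2 - p3 - p4 - 16 * r0)
  have h23 : w.j * w.k = 0 :=
    eq_zero_of_nsmul 32 (by linear_combination (norm := ((try simp only [lit]); noncomm_ring)) p1 + p2 - p3 - p4 - 16 * c1)
  have h31 : w.k * w.i = 0 :=
    eq_zero_of_nsmul 32 (by linear_combination (norm := ((try simp only [lit]); noncomm_ring)) p1 - p2 + p3 - p4 - 16 * c2)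
  have h12 : w.i * w.j = 0 :=
    eq_zero_of_nsmul 32 (by linear_combination (norm := ((try simp only [lit]); noncomm_ring)) p1 - p2 - p3 + p4 - 16 * c3)
  exact ⟨h00, h1, h2, h3, h12, c3.trans h12, h23, c1.trans h23, h31, c2.trans h31,
    by linear_combination (norm := ((try simp only [lit]); noncomm_ring)) h00 - r0⟩

end Triple

end CL.Perm
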