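/-
Normal form of the elements of order three outside `SL(2,3)` and its uniqueness.
-/
import Cfsg.Agent.Perm.FCIcos

set_option autoImplicit false

namespace CL.Perm

variable {G : Type*} [Group G] {C : Type*} [Ring C] [IsAddTorsionFree C] [Nontrivial C]

/-- The values of the linear forms of an element of order three outside `SL(2,3)`. -/
def Lv (l : C) : Prop := l = 1 ∨ l = -1 ∨ l * l = 5

omit [IsAddTorsionFree C] [Nontrivial C] in
theorem Lv.neg {l : C} (h : Lv l) : Lv (-l) := by
  rcases h with h | h | h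
  · exact Or.inr (Or.inl (by rw [h]))
  · exact Or.inl (by rw [h, neg_neg])
  · exact Or.inr (Or.inr (by rwa [neg_mul_neg]))

omit [IsAddTorsionFree C] [Nontrivial C] in
theorem Lv.cases {l : C} (h : Lv l) : (l * l = 1 ∧ (l = 1 ∨ l = -1)) ∨ l * l = 5 := by
  rcases h with h | h | h
  · exact Or.inl ⟨by rw [h, one_mul], Or.inl h⟩
  · exact Or.inl ⟨by rw [h, neg_mul_neg, one_mul], Or.inr h⟩
  · exact Or.inr h

theorem lv_pair {a b c d : C} (ha : a = 1 ∨ a = -1) (hb : b = 1 ∨ b = -1) (hc : c * c = 5) (hd : d * d = 5)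
    (h : a + b + c + d = 0) : a + b = 0 := by
  have hd' : d = -(a + b + c) := eq_neg_of_add_eq_zero_right h
  rw [hd'] at hd
  rcases ha with rfl | rfl <;> rcases hb with rfl | rfl
  · have h1 : c = -1 := nsmul_cancel 4 (by linear_combination (norm := ((try simp only [lit]); noncomm_ring)) hd - hc)
    rw [h1] at hc
    exact (false_of_nsmul_one (R := C) 4 (by linear_combination (norm := ((try simp only [lit]); noncomm_ring)) -hc)).elim
  · simp
  · simp
  · have h1 : c = 1 := nsmul_cancel 4 (by linear_combination (norm := ((try simp only [lit]); noncomm_ring)) hc - hd)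
    rw [h1] at hc
    exact (false_of_nsmul_one (R := C) 4 (by linear_combination (norm := ((try simp only [lit]); noncomm_ring)) -hc)).elim

theorem charZero_of_torsionFree (C : Type*) [Ring C] [IsAddTorsionFree C] [Nontrivial C] : CharZero C :=
  charZero_of_inj_zero fun n hn => by
    by_contra h0
    exact false_of_nsmul_one (R := C) n (by rw [nsmul_eq_mul, hn, zero_mul]) h0

theorem lv_four {a b c d : C} (ha : Lv a) (hb : Lv b) (hc : Lv c) (hd : Lv d) (h : a + b + c + d = 0)
    (hs : a * a + b * b + c * c + d * d = 12) : a + b = 0 ∨ a + c = 0 ∨ a + d = 0 := by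
  have := charZero_of_torsionFree C
  rcases ha.cases with ⟨a1, a2⟩ | a1 <;> rcases hb.cases with ⟨b1, b2⟩ | b1 <;>
    rcases hc.cases with ⟨c1, c2⟩ | c1 <;> rcases hd.cases with ⟨d1, d2⟩ | d1 <;>
    rw [a1, b1, c1, d1] at hs <;> norm_num at hs
  · exact Or.inl (lv_pair a2 b2 c1 d1 h)
  · exact Or.inr (Or.inl (lv_pair a2 c2 b1 d1 (by rw [← h]; abel)))
  · exact Or.inr (Or.inr (lv_pair a2 d2 b1 c1 (by rw [← h]; abel)))
  · have := lv_pair b2 c2 a1 d1 (by rw [← h]; abel)
    exact Or.inr (Or.inr (by linear_combination (norm := abel1) h - this))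
  · have := lv_pair b2 d2 a1 c1 (by rw [← h]; abel)
    exact Or.inr (Or.inl (by linear_combination (norm := abel1) h - this))
  · have := lv_pair c2 d2 a1 b1 (by rw [← h]; abel)
    exact Or.inl (by linear_combination (norm := abel1) h - this)

/-- The normal form. -/
def NF (ρ : G →* H4 C) (x : G) : Prop :=
  orderOf x = 3 ∧ ∃ σ : C, σ * σ = 5 ∧ 2 • uu ρ x = ⟨0, 0, σ + 1, σ - 1⟩

namespace Triple

variable {ρ : G →* H4 C} {z a i j : G} (t : Triple ρ z a i j)
include t

theorem lv_of_ne {b x : G} {l : C} (hb : orderOf b = 3) (hx : orderOf x = 3) (h1 : x ≠ b) (h2 : x ≠ b⁻¹)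
    (h : (ss ρ b x).re = 2 * l) (h' : (ss ρ b x).i = 0 ∧ (ss ρ b x).j = 0 ∧ (ss ρ b x).k = 0) : Lv l := by
  rcases t.fpf.ss_cases t.hz hb hx with h3 | h3 | h3 | h3 | h3
  · exact absurd h3.2 h1
  · exact absurd h3.2 h2
  · rw [h3] at h
    exact Or.inl (nsmul_cancel 2 (by simpa using h.symm))
  · rw [h3] at h
    exact Or.inr (Or.inl (nsmul_cancel 2 (by simpa using h.symm)))
  · replace h3 := congrArg H4.re h3
    simp only [H4.mul_re, h, h'.1, h'.2.1, h'.2.2, H4.ofNat_re] at h3
    exact Or.inr (Or.inr (nsmul_cancel 4 (by linear_combination (norm := ((try simp only [lit]); noncomm_ring)) h3)))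

theorem exists_nf_of_i_eq_zero {x : G} (hx : orderOf x = 3) (h1 : (uu ρ x).i = 0)
    (hp : Lv ((uu ρ x).j + (uu ρ x).k)) (hm : Lv ((uu ρ x).j - (uu ρ x).k)) :
    ∃ g ∈ Subgroup.closure {a, i, j}, NF ρ (g * x * g⁻¹) := by
  have := charZero_of_torsionFree C
  have h0 := t.re_eq_zero hx
  have hsq := congrArg H4.re (t.fpf.uu_sq hx)
  have hi : i ∈ Subgroup.closure {a, i, j} := Subgroup.subset_closure (by simp)
  have hj : j ∈ Subgroup.closure {a, i, j} := Subgroup.subset_closure (by simp)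
  set w := uu ρ x with hw
  simp only [H4.mul_re, h0, h1, H4.neg_re, H4.ofNat_re] at hsq
  have hs : (w.j + w.k) * (w.j + w.k) + (w.j - w.k) * (w.j - w.k) = 6 := by
    linear_combination (norm := ((try simp only [lit]); noncomm_ring)) -2 * hsq
  rcases hp.cases with ⟨p1, p2⟩ | p1 <;> rcases hm.cases with ⟨m1, m2⟩ | m1 <;> rw [p1, m1] at hs <;>
    norm_num at hs
  · rcases p2 with p2 | p2
    · refine ⟨j, hj, by rwa [orderOf_conj'], w.j - w.k, m1, ?_⟩
      rw [t.uu_j, ← hw, ← p2]
      ext <;> simp [h0, h1] <;> noncomm_ring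
    · refine ⟨i * j, mul_mem hi hj, by rwa [orderOf_conj'], -(w.j - w.k), by rwa [neg_mul_neg], ?_⟩
      rw [show i * j * x * (i * j)⁻¹ = i * (j * x * j⁻¹) * i⁻¹ by group, t.uu_i, t.uu_j, ← hw,
        ← neg_eq_iff_eq_neg.mpr p2]
      ext <;> simp [h0, h1] <;> noncomm_ring
  · rcases m2 with m2 | m2
    · refine ⟨1, one_mem _, by simpa using hx, w.j + w.k, p1, ?_⟩
      rw [one_mul, inv_one, mul_one, ← hw, ← m2]
      ext <;> simp [h0, h1] <;> noncomm_ring
    · refine ⟨i, hi, by rwa [orderOf_conj'], -(w.j + w.k), by rwa [neg_mul_neg], ?_⟩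
      rw [t.uu_i, ← hw, ← neg_eq_iff_eq_neg.mpr m2]
      ext <;> simp [h0, h1] <;> noncomm_ring

omit t in
/-- The eight elements of order three of `SL(2,3)`. -/
def eight (a i j : G) : Set G :=
  {a, a⁻¹, i * a * i⁻¹, (i * a * i⁻¹)⁻¹, j * a * j⁻¹, (j * a * j⁻¹)⁻¹, i * (j * a * j⁻¹) * i⁻¹,
    (i * (j * a * j⁻¹) * i⁻¹)⁻¹}

theorem exists_nf {x : G} (hx : orderOf x = 3) (hn : x ∉ eight a i j) :
    ∃ g ∈ Subgroup.closure {a, i, j}, NF ρ (g * x * g⁻¹) := by
  simp only [eight, Set.mem_insert_iff, Set.mem_singleton_iff, not_or] at hn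
  obtain ⟨n1, n1', n2, n2', n3, n3', n4, n4'⟩ := hn
  have h0 := t.re_eq_zero hx
  have hsq := congrArg H4.re (t.fpf.uu_sq hx)
  have ha : a ∈ Subgroup.closure {a, i, j} := Subgroup.subset_closure (by simp)
  have s1 := t.ss_vec (x := x) t.hu (by simp) (by simp) (by simp)
  have s2 := t.ss_vec (x := x) t.uu_a2 (by simp) (by simp) (by simp)
  have s3 := t.ss_vec (x := x) t.uu_a3 (by simp) (by simp) (by simp)
  have s4 := t.ss_vec (x := x) t.uu_a4 (by simp) (by simp) (by simp)
  have l1 := t.lv_of_ne t.ha hx n1 n1' (by rw [s1]) (by simp [s1, h0])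
  have l2 := t.lv_of_ne (by rw [orderOf_conj', t.ha]) hx n2 n2' (by rw [s2]) (by simp [s2, h0])
  have l3 := t.lv_of_ne (by rw [orderOf_conj', t.ha]) hx n3 n3' (by rw [s3]) (by simp [s3, h0])
  have l4 := t.lv_of_ne (by rw [orderOf_conj', orderOf_conj', t.ha]) hx n4 n4' (by rw [s4]) (by simp [s4, h0])
  set w := uu ρ x with hw
  simp only [H4.mul_re, h0, H4.neg_re, H4.ofNat_re] at hsq
  rcases lv_four l1 l2 l3 l4 (by noncomm_ring) (by linear_combination (norm := ((try simp only [lit]); noncomm_ring)) -4 * hsq)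
    with h | h | h
  · have h1 : w.i = 0 := eq_zero_of_nsmul 2 (by linear_combination (norm := noncomm_ring) h)
    refine t.exists_nf_of_i_eq_zero hx h1 ?_ ?_
    · simpa [h1] using l1
    · simpa [h1, sub_eq_add_neg] using l3
  · have h1 : w.j = 0 := eq_zero_of_nsmul 2 (by linear_combination (norm := noncomm_ring) h)
    obtain ⟨g, hg, hnf⟩ := t.exists_nf_of_i_eq_zero (x := a * x * a⁻¹) (by rwa [orderOf_conj'])
      (by rw [t.uu_a]; exact h1) (by rw [t.uu_a]; simpa [h1, add_comm] using l1)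
      (by rw [t.uu_a]; simpa [h1, sub_eq_add_neg, add_comm] using l4)
    exact ⟨g * a, mul_mem hg ha, by convert hnf using 1; group⟩
  · have h1 : w.k = 0 := eq_zero_of_nsmul 2 (by linear_combination (norm := noncomm_ring) h)
    obtain ⟨g, hg, hnf⟩ := t.exists_nf_of_i_eq_zero (x := a * (a * x * a⁻¹) * a⁻¹)
      (by rwa [orderOf_conj', orderOf_conj'])
      (by rw [t.uu_a, t.uu_a]; exact h1) (by rw [t.uu_a, t.uu_a]; simpa [h1] using l1)
      (by rw [t.uu_a, t.uu_a]; simpa [h1, sub_eq_add_neg] using l2)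
    exact ⟨g * a * a, mul_mem (mul_mem hg ha) ha, by convert hnf using 1; group⟩

omit t [IsAddTorsionFree C] [Nontrivial C] in
theorem four_ss (x y : G) : (4 : ℕ) • ss ρ x y =
    -(((2 : ℕ) • uu ρ x) * ((2 : ℕ) • uu ρ y) + ((2 : ℕ) • uu ρ y) * ((2 : ℕ) • uu ρ x) : H4 C) := by
  rw [ss]; noncomm_ring

theorem nf_unique {x y : G} (hx : NF ρ x) (hy : NF ρ y) : x = y := by
  have := charZero_of_torsionFree C
  obtain ⟨hx, σ, hσ, hx'⟩ := hx
  obtain ⟨hy, τ, hτ, hy'⟩ := hy
  suffices h : σ = τ by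
    apply t.fpf.injective
    rw [h, ← hy'] at hx'
    have h1 := nsmul_cancel 2 hx'
    simp only [uu, add_left_inj] at h1
    exact nsmul_cancel 2 (by simpa using h1)
  obtain ⟨P, hP⟩ : ∃ P, P = σ * τ + τ * σ := ⟨_, rfl⟩
  obtain ⟨Q, hQ⟩ : ∃ Q, Q = σ * τ - τ * σ := ⟨_, rfl⟩
  have hQQ : Q * Q = P * P - 100 := by
    rw [hP, hQ]
    linear_combination (norm := ((try simp only [lit]); noncomm_ring)) -2 * σ * hτ * σ - 10 * hσ - 2 * τ * hσ * τ - 10 * hτ
  have hσQ : σ * Q = -(Q * σ) := by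
    rw [hQ]; linear_combination (norm := ((try simp only [lit]); noncomm_ring)) hσ * τ - τ * hσ
  have hτQ : τ * Q = -(Q * τ) := by
    rw [hQ]; linear_combination (norm := ((try simp only [lit]); noncomm_ring)) σ * hτ - hτ * σ
  have e1 : 2 • ss ρ x y = ⟨P + 2, 0, 0, 0⟩ := by
    refine nsmul_cancel 2 ?_
    rw [← mul_nsmul', four_ss, hx', hy', hP]
    ext <;> simp <;> ((try simp only [lit]); noncomm_ring)
  have hy2 : 2 • uu ρ (j * y * j⁻¹) = ⟨0, 0, τ + 1, -(τ - 1)⟩ := by
    rw [t.uu_j]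
    ext1
    · exact (congrArg H4.re hy' :)
    · simpa using congrArg H4.i hy'
    · exact (congrArg H4.j hy' :)
    · exact (smul_neg _ _).trans (congrArg (fun w => -H4.k w) hy')
  have e2 : 2 • ss ρ x (j * y * j⁻¹) = ⟨2 * (σ + τ), Q, 0, 0⟩ := by
    refine nsmul_cancel 2 ?_
    rw [← mul_nsmul', four_ss, hx', hy2, hQ]
    ext <;> simp <;> ((try simp only [lit]); noncomm_ring)
  have hy3 : 2 • uu ρ (a * (a * y * a⁻¹) * a⁻¹) = ⟨0, τ - 1, 0, τ + 1⟩ := by
    rw [t.uu_a, t.uu_a]
    ext1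
    · exact (congrArg H4.re hy' :)
    · exact (congrArg H4.k hy' :)
    · exact (congrArg H4.i hy' :)
    · exact (congrArg H4.j hy' :)
  have e3 : 4 • ss ρ x (a * (a * y * a⁻¹) * a⁻¹) = ⟨P - 2 + 2 * σ - 2 * τ, -Q, -Q, Q⟩ := by
    rw [four_ss, hx', hy3, hP, hQ]
    ext <;> simp <;> ((try simp only [lit]); noncomm_ring)
  have s1 := t.fpf.sv t.hz hx hy
  have s2 := t.fpf.sv t.hz hx (y := j * y * j⁻¹) (by rwa [orderOf_conj'])
  have s3 := t.fpf.sv t.hz hx (y := a * (a * y * a⁻¹) * a⁻¹) (by rwa [orderOf_conj', orderOf_conj'])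
  have sq : ∀ s : H4 C, Sv s → s * s = 36 ∨ s * s = 4 ∨ s * s = 20 := by
    rintro s (rfl | rfl | rfl | rfl | h)
    · left; norm_num
    · left; norm_num
    · right; left; norm_num
    · right; left; norm_num
    · exact Or.inr (Or.inr h)
  have q2 : ((2 • ss ρ x (j * y * j⁻¹)) * (2 • ss ρ x (j * y * j⁻¹))).re = 140 + 4 * P - P * P := by
    rw [e2]
    simp only [H4.mul_re, hQQ]
    linear_combination (norm := ((try simp only [lit]); noncomm_ring)) 4 * hσ + 4 * hτ - 4 * hP
  have q2' : 140 + 4 * P - P * P = 144 ∨ 140 + 4 * P - P * P = 16 ∨ 140 + 4 * P - P * P = 80 := by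
    rw [← q2, smul_mul_smul_comm]
    rcases sq _ s2 with h | h | h <;> rw [h] <;> simp <;> norm_num
  have hPv : P = 10 ∨ P = 2 ∨ P = -6 := by
    rcases s1 with h | h | h | h | h
    · rw [h] at e1
      replace e1 := congrArg H4.re e1
      simp at e1
      exact Or.inl (by linear_combination (norm := ((try simp only [lit]); noncomm_ring)) -e1)
    · rw [h] at e1
      replace e1 := congrArg H4.re e1
      simp at e1
      have h1 : P = -14 := by linear_combination (norm := ((try simp only [lit]); noncomm_ring)) -e1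
      rw [h1] at q2'
      norm_num at q2'
    · rw [h] at e1
      replace e1 := congrArg H4.re e1
      simp at e1
      exact Or.inr (Or.inl (by linear_combination (norm := ((try simp only [lit]); noncomm_ring)) -e1))
    · rw [h] at e1
      replace e1 := congrArg H4.re e1
      simp at e1
      exact Or.inr (Or.inr (by linear_combination (norm := ((try simp only [lit]); noncomm_ring)) -e1))
    · have h1 : ((2 • ss ρ x y) * (2 • ss ρ x y)).re = 80 := by
        rw [smul_mul_smul_comm, h]; simp; norm_num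
      rw [e1] at h1
      simp at h1
      rcases q2' with h2 | h2 | h2
      · exact Or.inl (nsmul_cancel 8 (by linear_combination (norm := ((try simp only [lit]); noncomm_ring)) h1 + h2))
      · exact Or.inr (Or.inr (nsmul_cancel 8 (by linear_combination (norm := ((try simp only [lit]); noncomm_ring)) h1 + h2)))
      · exact Or.inr (Or.inl (nsmul_cancel 8 (by linear_combination (norm := ((try simp only [lit]); noncomm_ring)) h1 + h2)))
  have q3 : (P - 2) * Q + Q * (P - 2) = 0 := by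
    have h1 : ((4 • ss ρ x (a * (a * y * a⁻¹) * a⁻¹)) * (4 • ss ρ x (a * (a * y * a⁻¹) * a⁻¹))).i = 0 := by
      rw [smul_mul_smul_comm]
      rcases sq _ s3 with h | h | h <;> rw [h] <;> simp
    rw [e3] at h1
    simp only [H4.mul_i] at h1
    linear_combination (norm := ((try simp only [lit]); noncomm_ring)) -h1 - 2 * hσQ + 2 * hτQ
  rcases hPv with h | h | h
  · rw [h] at q3
    have h1 : Q = 0 := eq_zero_of_nsmul 16 (by linear_combination (norm := ((try simp only [lit]); noncomm_ring)) q3)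
    have h2 : σ * τ = 5 := nsmul_cancel 2 (by linear_combination (norm := ((try simp only [lit]); noncomm_ring)) h + h1 - hP - hQ)
    exact nsmul_cancel 5 (by linear_combination (norm := ((try simp only [lit]); noncomm_ring)) hσ * τ - σ * h2)
  · exfalso
    have h1 : Q ≠ 0 := by
      intro h1
      rw [h1, h] at hQQ
      norm_num at hQQ
    rcases s2 with h2 | h2 | h2 | h2 | h2
    · rw [h2] at e2; exact h1 (by simpa using (congrArg H4.i e2).symm)
    · rw [h2] at e2; exact h1 (by simpa using (congrArg H4.i e2).symm)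
    · rw [h2] at e2; exact h1 (by simpa using (congrArg H4.i e2).symm)
    · rw [h2] at e2; exact h1 (by simpa using (congrArg H4.i e2).symm)
    · rw [smul_mul_smul_comm, h2, h] at q2
      simp at q2
      norm_num at q2
  · exfalso
    rw [h] at q3
    have h1 : Q = 0 := eq_zero_of_nsmul 16 (by linear_combination (norm := ((try simp only [lit]); noncomm_ring)) -q3)
    rw [h1, h] at hQQ
    norm_num at hQQ

end Triple

end CL.Perm
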