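/-
Entries of elements of `SL(2, R)` as 4-tuples, for checks by `decide`.
-/
import Cfsg.Agent.Base

set_option autoImplicit false

namespace CL.Perm

open Matrix

variable {R : Type*} [CommRing R]

/-- The entries of an element of `SL(2, R)`. -/
def ent4 (g : SpecialLinearGroup (Fin 2) R) : R × R × R × R := (g 0 0, g 0 1, g 1 0, g 1 1)

/-- Product of 2×2 matrices on entries. -/
def mul4 (x y : R × R × R × R) : R × R × R × R :=
  (x.1 * y.1 + x.2.1 * y.2.2.1, x.1 * y.2.1 + x.2.1 * y.2.2.2,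
    x.2.2.1 * y.1 + x.2.2.2 * y.2.2.1, x.2.2.1 * y.2.1 + x.2.2.2 * y.2.2.2)

/-- Determinant on entries. -/
def det4 (x : R × R × R × R) : R := x.1 * x.2.2.2 - x.2.1 * x.2.2.1

/-- Inverse of a matrix of determinant one on entries. -/
def inv4 (x : R × R × R × R) : R × R × R × R := (x.2.2.2, -x.2.1, -x.2.2.1, x.1)

theorem ent4_mul (g h : SpecialLinearGroup (Fin 2) R) : ent4 (g * h) = mul4 (ent4 g) (ent4 h) := by
  simp [ent4, mul4, Matrix.mul_apply, Fin.sum_univ_two]

theorem ent4_one : ent4 (1 : SpecialLinearGroup (Fin 2) R) = (1, 0, 0, 1) := by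
  simp [ent4]

theorem ent4_inv (g : SpecialLinearGroup (Fin 2) R) : ent4 g⁻¹ = inv4 (ent4 g) := by
  simp [ent4, inv4, SpecialLinearGroup.coe_inv, adjugate_fin_two]

theorem ent4_neg_one : ent4 (-1 : SpecialLinearGroup (Fin 2) R) = (-1, 0, 0, -1) := by
  simp [ent4]

theorem ent4_injective : Function.Injective (ent4 (R := R)) := by
  intro g h hgh
  simp only [ent4, Prod.mk.injEq] at hgh
  obtain ⟨h1, h2, h3, h4⟩ := hgh
  ext i j
  fin_cases i <;> fin_cases j <;> assumption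

theorem ent4_eq_iff {g h : SpecialLinearGroup (Fin 2) R} : ent4 g = ent4 h ↔ g = h :=
  ent4_injective.eq_iff

theorem eq_one_iff_ent4 {g : SpecialLinearGroup (Fin 2) R} : g = 1 ↔ ent4 g = (1, 0, 0, 1) := by
  rw [← ent4_one, ent4_eq_iff]

theorem det4_ent4 (g : SpecialLinearGroup (Fin 2) R) : det4 (ent4 g) = 1 := by
  have := g.det_coe
  rw [det_fin_two] at this
  exact this

/-- The element of `SL(2, R)` with given entries. -/
def mk4 (x : R × R × R × R) (h : det4 x = 1) : SpecialLinearGroup (Fin 2) R :=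
  ⟨!![x.1, x.2.1; x.2.2.1, x.2.2.2], by rw [det_fin_two_of]; exact h⟩

theorem ent4_mk4 (x : R × R × R × R) (h : det4 x = 1) : ent4 (mk4 x h) = x := rfl

theorem forall_ent4 {P : R × R × R × R → Prop} (h : ∀ a b c d : R, det4 (a, b, c, d) = 1 → P (a, b, c, d))
    (g : SpecialLinearGroup (Fin 2) R) : P (ent4 g) :=
  h _ _ _ _ (det4_ent4 g)

/-- A homomorphism from a table that is multiplicative against generators. -/
theorem exists_monoidHom_of_table {Γ M : Type*} [Group Γ] [Monoid M] (S : Set Γ) (F : Γ → M) (D : Γ → ℕ)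
    (h1 : F 1 = 1) (hmul : ∀ s ∈ S, ∀ g, F (s * g) = F s * F g)
    (hD : ∀ g, g ≠ 1 → ∃ s ∈ S, D (s⁻¹ * g) < D g) :
    ∃ φ : Γ →* M, (∀ g, φ g = F g) ∧ ∀ N : Submonoid M, (∀ s ∈ S, F s ∈ N) → ∀ g, F g ∈ N := by
  have ind : ∀ P : Γ → Prop, P 1 → (∀ s ∈ S, ∀ g, P g → P (s * g)) → ∀ g, P g := by
    intro P hP1 hP g
    induction hn : D g using Nat.strong_induction_on generalizing g with
    | _ n ih =>
      by_cases hg : g = 1
      · exact hg ▸ hP1
      · obtain ⟨s, hs, hlt⟩ := hD g hg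
        have := hP s hs _ (ih _ (hn ▸ hlt) _ rfl)
        rwa [mul_inv_cancel_left] at this
  have hm : ∀ g h, F (g * h) = F g * F h := by
    refine ind (fun g => ∀ h, F (g * h) = F g * F h) (fun h => by rw [one_mul, h1, one_mul]) ?_
    intro s hs g ih h
    rw [mul_assoc, hmul s hs, ih, hmul s hs, mul_assoc]
  refine ⟨⟨⟨F, h1⟩, hm⟩, fun _ => rfl, fun N hN => ind _ (h1 ▸ N.one_mem) fun s hs g hg => ?_⟩
  rw [hmul s hs]
  exact N.mul_mem (hN s hs) hg

end CL.Perm
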