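/-
The subgroup generated by the elements of order three of a group with a fixed-point-free representation:
at most four subgroups of order three, or `SL(2,5)`.
-/
import Cfsg.Agent.Perm.FCIcos2
import Cfsg.Agent.Perm.SL2Ent

set_option autoImplicit false

namespace CL.Perm

variable {G : Type*} [Group G]

/-- Four times the icosians, indexed by their reduction modulo `√5`, with word lengths. -/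
def icosTab : List (ℕ × H4 (ℤ√5) × ℕ) :=
  [(45, ⟨⟨0, 0⟩, ⟨0, 0⟩, ⟨4, 0⟩, ⟨0, 0⟩⟩, 7), (46, ⟨⟨2, 0⟩, ⟨1, 1⟩, ⟨-1, 1⟩, ⟨0, 0⟩⟩, 6),
   (47, ⟨⟨-1, 1⟩, ⟨2, 0⟩, ⟨-1, -1⟩, ⟨0, 0⟩⟩, 8), (48, ⟨⟨1, -1⟩, ⟨-2, 0⟩, ⟨-1, -1⟩, ⟨0, 0⟩⟩, 2),
   (49, ⟨⟨-2, 0⟩, ⟨-1, -1⟩, ⟨-1, 1⟩, ⟨0, 0⟩⟩, 7), (60, ⟨⟨0, 0⟩, ⟨0, 0⟩, ⟨0, 0⟩, ⟨-4, 0⟩⟩, 5),
   (61, ⟨⟨2, 0⟩, ⟨1, -1⟩, ⟨0, 0⟩, ⟨1, 1⟩⟩, 6), (62, ⟨⟨-1, -1⟩, ⟨2, 0⟩, ⟨0, 0⟩, ⟨1, -1⟩⟩, 7),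
   (63, ⟨⟨1, 1⟩, ⟨-2, 0⟩, ⟨0, 0⟩, ⟨1, -1⟩⟩, 6), (64, ⟨⟨-2, 0⟩, ⟨-1, 1⟩, ⟨0, 0⟩, ⟨1, 1⟩⟩, 4),
   (90, ⟨⟨0, 0⟩, ⟨0, 0⟩, ⟨0, 0⟩, ⟨4, 0⟩⟩, 7), (91, ⟨⟨2, 0⟩, ⟨1, -1⟩, ⟨0, 0⟩, ⟨-1, -1⟩⟩, 8),
   (92, ⟨⟨-1, -1⟩, ⟨2, 0⟩, ⟨0, 0⟩, ⟨-1, 1⟩⟩, 7), (93, ⟨⟨1, 1⟩, ⟨-2, 0⟩, ⟨0, 0⟩, ⟨-1, 1⟩⟩, 3),
   (94, ⟨⟨-2, 0⟩, ⟨-1, 1⟩, ⟨0, 0⟩, ⟨-1, -1⟩⟩, 8), (105, ⟨⟨0, 0⟩, ⟨0, 0⟩, ⟨-4, 0⟩, ⟨0, 0⟩⟩, 5),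
   (106, ⟨⟨2, 0⟩, ⟨1, 1⟩, ⟨1, -1⟩, ⟨0, 0⟩⟩, 6), (107, ⟨⟨-1, 1⟩, ⟨2, 0⟩, ⟨1, 1⟩, ⟨0, 0⟩⟩, 9),
   (108, ⟨⟨1, -1⟩, ⟨-2, 0⟩, ⟨1, 1⟩, ⟨0, 0⟩⟩, 4), (109, ⟨⟨-2, 0⟩, ⟨-1, -1⟩, ⟨1, -1⟩, ⟨0, 0⟩⟩, 5),
   (126, ⟨⟨4, 0⟩, ⟨0, 0⟩, ⟨0, 0⟩, ⟨0, 0⟩⟩, 0), (131, ⟨⟨-1, 1⟩, ⟨0, 0⟩, ⟨-2, 0⟩, ⟨-1, -1⟩⟩, 8),
   (136, ⟨⟨-1, -1⟩, ⟨0, 0⟩, ⟨1, -1⟩, ⟨-2, 0⟩⟩, 8), (141, ⟨⟨-1, -1⟩, ⟨0, 0⟩, ⟨-1, 1⟩, ⟨2, 0⟩⟩, 4),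
   (146, ⟨⟨-1, 1⟩, ⟨0, 0⟩, ⟨2, 0⟩, ⟨1, 1⟩⟩, 9), (151, ⟨⟨-1, 1⟩, ⟨0, 0⟩, ⟨2, 0⟩, ⟨-1, -1⟩⟩, 6),
   (157, ⟨⟨1, -1⟩, ⟨1, 1⟩, ⟨0, 0⟩, ⟨-2, 0⟩⟩, 7), (163, ⟨⟨-2, 0⟩, ⟨2, 0⟩, ⟨-2, 0⟩, ⟨2, 0⟩⟩, 7),
   (169, ⟨⟨0, 0⟩, ⟨-2, 0⟩, ⟨1, -1⟩, ⟨1, 1⟩⟩, 8), (170, ⟨⟨2, 0⟩, ⟨-1, -1⟩, ⟨-1, 1⟩, ⟨0, 0⟩⟩, 6),
   (176, ⟨⟨-1, -1⟩, ⟨0, 0⟩, ⟨-1, 1⟩, ⟨-2, 0⟩⟩, 7), (183, ⟨⟨-2, 0⟩, ⟨2, 0⟩, ⟨2, 0⟩, ⟨2, 0⟩⟩, 1),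
   (185, ⟨⟨2, 0⟩, ⟨-1, 1⟩, ⟨0, 0⟩, ⟨1, 1⟩⟩, 6), (192, ⟨⟨1, 1⟩, ⟨1, -1⟩, ⟨-2, 0⟩, ⟨0, 0⟩⟩, 9),
   (199, ⟨⟨0, 0⟩, ⟨-2, 0⟩, ⟨1, -1⟩, ⟨-1, -1⟩⟩, 5), (201, ⟨⟨-1, -1⟩, ⟨0, 0⟩, ⟨1, -1⟩, ⟨2, 0⟩⟩, 7),
   (209, ⟨⟨0, 0⟩, ⟨-2, 0⟩, ⟨-1, 1⟩, ⟨1, 1⟩⟩, 7), (212, ⟨⟨1, 1⟩, ⟨1, -1⟩, ⟨2, 0⟩, ⟨0, 0⟩⟩, 3),
   (215, ⟨⟨2, 0⟩, ⟨-1, 1⟩, ⟨0, 0⟩, ⟨-1, -1⟩⟩, 6), (223, ⟨⟨-2, 0⟩, ⟨2, 0⟩, ⟨-2, 0⟩, ⟨-2, 0⟩⟩, 5),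
   (226, ⟨⟨-1, 1⟩, ⟨0, 0⟩, ⟨-2, 0⟩, ⟨1, 1⟩⟩, 6), (230, ⟨⟨2, 0⟩, ⟨-1, -1⟩, ⟨1, -1⟩, ⟨0, 0⟩⟩, 8),
   (239, ⟨⟨0, 0⟩, ⟨-2, 0⟩, ⟨-1, 1⟩, ⟨-1, -1⟩⟩, 8), (243, ⟨⟨-2, 0⟩, ⟨2, 0⟩, ⟨2, 0⟩, ⟨-2, 0⟩⟩, 7),
   (247, ⟨⟨1, -1⟩, ⟨1, 1⟩, ⟨0, 0⟩, ⟨2, 0⟩⟩, 4), (253, ⟨⟨0, 0⟩, ⟨-4, 0⟩, ⟨0, 0⟩, ⟨0, 0⟩⟩, 8),
   (258, ⟨⟨0, 0⟩, ⟨1, 1⟩, ⟨-2, 0⟩, ⟨-1, 1⟩⟩, 7), (263, ⟨⟨0, 0⟩, ⟨1, -1⟩, ⟨1, 1⟩, ⟨-2, 0⟩⟩, 7),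
   (268, ⟨⟨0, 0⟩, ⟨1, -1⟩, ⟨-1, -1⟩, ⟨2, 0⟩⟩, 5), (273, ⟨⟨0, 0⟩, ⟨1, 1⟩, ⟨2, 0⟩, ⟨1, -1⟩⟩, 7),
   (278, ⟨⟨0, 0⟩, ⟨1, 1⟩, ⟨2, 0⟩, ⟨-1, 1⟩⟩, 7), (281, ⟨⟨1, -1⟩, ⟨-1, -1⟩, ⟨0, 0⟩, ⟨-2, 0⟩⟩, 5),
   (289, ⟨⟨2, 0⟩, ⟨2, 0⟩, ⟨-2, 0⟩, ⟨2, 0⟩⟩, 6), (292, ⟨⟨-2, 0⟩, ⟨0, 0⟩, ⟨1, 1⟩, ⟨1, -1⟩⟩, 4),
   (295, ⟨⟨-1, 1⟩, ⟨-2, 0⟩, ⟨-1, -1⟩, ⟨0, 0⟩⟩, 8), (303, ⟨⟨0, 0⟩, ⟨1, -1⟩, ⟨-1, -1⟩, ⟨-2, 0⟩⟩, 5),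
   (309, ⟨⟨2, 0⟩, ⟨2, 0⟩, ⟨2, 0⟩, ⟨2, 0⟩⟩, 9), (310, ⟨⟨-1, -1⟩, ⟨-2, 0⟩, ⟨0, 0⟩, ⟨1, -1⟩⟩, 8),
   (316, ⟨⟨1, 1⟩, ⟨-1, 1⟩, ⟨-2, 0⟩, ⟨0, 0⟩⟩, 6), (322, ⟨⟨-2, 0⟩, ⟨0, 0⟩, ⟨1, 1⟩, ⟨-1, 1⟩⟩, 1),
   (328, ⟨⟨0, 0⟩, ⟨1, -1⟩, ⟨1, 1⟩, ⟨2, 0⟩⟩, 7), (332, ⟨⟨-2, 0⟩, ⟨0, 0⟩, ⟨-1, -1⟩, ⟨1, -1⟩⟩, 2),
   (336, ⟨⟨1, 1⟩, ⟨-1, 1⟩, ⟨2, 0⟩, ⟨0, 0⟩⟩, 6), (340, ⟨⟨-1, -1⟩, ⟨-2, 0⟩, ⟨0, 0⟩, ⟨-1, 1⟩⟩, 7),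
   (349, ⟨⟨2, 0⟩, ⟨2, 0⟩, ⟨-2, 0⟩, ⟨-2, 0⟩⟩, 8), (353, ⟨⟨0, 0⟩, ⟨1, 1⟩, ⟨-2, 0⟩, ⟨1, -1⟩⟩, 8),
   (355, ⟨⟨-1, 1⟩, ⟨-2, 0⟩, ⟨1, 1⟩, ⟨0, 0⟩⟩, 6), (362, ⟨⟨-2, 0⟩, ⟨0, 0⟩, ⟨-1, -1⟩, ⟨-1, 1⟩⟩, 5),
   (369, ⟨⟨2, 0⟩, ⟨2, 0⟩, ⟨2, 0⟩, ⟨-2, 0⟩⟩, 6), (371, ⟨⟨1, -1⟩, ⟨-1, -1⟩, ⟨0, 0⟩, ⟨2, 0⟩⟩, 7),
   (377, ⟨⟨0, 0⟩, ⟨4, 0⟩, ⟨0, 0⟩, ⟨0, 0⟩⟩, 7), (382, ⟨⟨0, 0⟩, ⟨-1, -1⟩, ⟨-2, 0⟩, ⟨-1, 1⟩⟩, 5),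
   (387, ⟨⟨0, 0⟩, ⟨-1, 1⟩, ⟨1, 1⟩, ⟨-2, 0⟩⟩, 7), (392, ⟨⟨0, 0⟩, ⟨-1, 1⟩, ⟨-1, -1⟩, ⟨2, 0⟩⟩, 8),
   (397, ⟨⟨0, 0⟩, ⟨-1, -1⟩, ⟨2, 0⟩, ⟨1, -1⟩⟩, 7), (402, ⟨⟨0, 0⟩, ⟨-1, -1⟩, ⟨2, 0⟩, ⟨-1, 1⟩⟩, 7),
   (409, ⟨⟨-1, 1⟩, ⟨1, 1⟩, ⟨0, 0⟩, ⟨-2, 0⟩⟩, 6), (411, ⟨⟨-2, 0⟩, ⟨-2, 0⟩, ⟨-2, 0⟩, ⟨2, 0⟩⟩, 8),
   (418, ⟨⟨2, 0⟩, ⟨0, 0⟩, ⟨1, 1⟩, ⟨1, -1⟩⟩, 6), (420, ⟨⟨1, -1⟩, ⟨2, 0⟩, ⟨-1, -1⟩, ⟨0, 0⟩⟩, 5),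
   (427, ⟨⟨0, 0⟩, ⟨-1, 1⟩, ⟨-1, -1⟩, ⟨-2, 0⟩⟩, 5), (431, ⟨⟨-2, 0⟩, ⟨-2, 0⟩, ⟨2, 0⟩, ⟨2, 0⟩⟩, 4),
   (435, ⟨⟨1, 1⟩, ⟨2, 0⟩, ⟨0, 0⟩, ⟨1, -1⟩⟩, 3), (444, ⟨⟨-1, -1⟩, ⟨1, -1⟩, ⟨-2, 0⟩, ⟨0, 0⟩⟩, 8),
   (448, ⟨⟨2, 0⟩, ⟨0, 0⟩, ⟨1, 1⟩, ⟨-1, 1⟩⟩, 9), (452, ⟨⟨0, 0⟩, ⟨-1, 1⟩, ⟨1, 1⟩, ⟨2, 0⟩⟩, 10),
   (458, ⟨⟨2, 0⟩, ⟨0, 0⟩, ⟨-1, -1⟩, ⟨1, -1⟩⟩, 8), (464, ⟨⟨-1, -1⟩, ⟨1, -1⟩, ⟨2, 0⟩, ⟨0, 0⟩⟩, 7),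
   (465, ⟨⟨1, 1⟩, ⟨2, 0⟩, ⟨0, 0⟩, ⟨-1, 1⟩⟩, 3), (471, ⟨⟨-2, 0⟩, ⟨-2, 0⟩, ⟨-2, 0⟩, ⟨-2, 0⟩⟩, 2),
   (477, ⟨⟨0, 0⟩, ⟨-1, -1⟩, ⟨-2, 0⟩, ⟨1, -1⟩⟩, 5), (480, ⟨⟨1, -1⟩, ⟨2, 0⟩, ⟨1, 1⟩, ⟨0, 0⟩⟩, 4),
   (488, ⟨⟨2, 0⟩, ⟨0, 0⟩, ⟨-1, -1⟩, ⟨-1, 1⟩⟩, 8), (491, ⟨⟨-2, 0⟩, ⟨-2, 0⟩, ⟨2, 0⟩, ⟨-2, 0⟩⟩, 7),
   (499, ⟨⟨-1, 1⟩, ⟨1, 1⟩, ⟨0, 0⟩, ⟨2, 0⟩⟩, 6), (504, ⟨⟨-4, 0⟩, ⟨0, 0⟩, ⟨0, 0⟩, ⟨0, 0⟩⟩, 10),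
   (509, ⟨⟨1, -1⟩, ⟨0, 0⟩, ⟨-2, 0⟩, ⟨-1, -1⟩⟩, 2), (514, ⟨⟨1, 1⟩, ⟨0, 0⟩, ⟨1, -1⟩, ⟨-2, 0⟩⟩, 9),
   (519, ⟨⟨1, 1⟩, ⟨0, 0⟩, ⟨-1, 1⟩, ⟨2, 0⟩⟩, 6), (524, ⟨⟨1, -1⟩, ⟨0, 0⟩, ⟨2, 0⟩, ⟨1, 1⟩⟩, 4),
   (529, ⟨⟨1, -1⟩, ⟨0, 0⟩, ⟨2, 0⟩, ⟨-1, -1⟩⟩, 7), (533, ⟨⟨-1, 1⟩, ⟨-1, -1⟩, ⟨0, 0⟩, ⟨-2, 0⟩⟩, 8),
   (537, ⟨⟨2, 0⟩, ⟨-2, 0⟩, ⟨-2, 0⟩, ⟨2, 0⟩⟩, 6), (541, ⟨⟨0, 0⟩, ⟨2, 0⟩, ⟨1, -1⟩, ⟨1, 1⟩⟩, 7),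
   (545, ⟨⟨-2, 0⟩, ⟨1, 1⟩, ⟨-1, 1⟩, ⟨0, 0⟩⟩, 4), (554, ⟨⟨1, 1⟩, ⟨0, 0⟩, ⟨-1, 1⟩, ⟨-2, 0⟩⟩, 3),
   (557, ⟨⟨2, 0⟩, ⟨-2, 0⟩, ⟨2, 0⟩, ⟨2, 0⟩⟩, 6), (560, ⟨⟨-2, 0⟩, ⟨1, -1⟩, ⟨0, 0⟩, ⟨1, 1⟩⟩, 7),
   (568, ⟨⟨-1, -1⟩, ⟨-1, 1⟩, ⟨-2, 0⟩, ⟨0, 0⟩⟩, 8), (571, ⟨⟨0, 0⟩, ⟨2, 0⟩, ⟨1, -1⟩, ⟨-1, -1⟩⟩, 5),
   (579, ⟨⟨1, 1⟩, ⟨0, 0⟩, ⟨1, -1⟩, ⟨2, 0⟩⟩, 3), (581, ⟨⟨0, 0⟩, ⟨2, 0⟩, ⟨-1, 1⟩, ⟨1, 1⟩⟩, 7),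
   (588, ⟨⟨-1, -1⟩, ⟨-1, 1⟩, ⟨2, 0⟩, ⟨0, 0⟩⟩, 4), (590, ⟨⟨-2, 0⟩, ⟨1, -1⟩, ⟨0, 0⟩, ⟨-1, -1⟩⟩, 5),
   (597, ⟨⟨2, 0⟩, ⟨-2, 0⟩, ⟨-2, 0⟩, ⟨-2, 0⟩⟩, 8), (604, ⟨⟨1, -1⟩, ⟨0, 0⟩, ⟨-2, 0⟩, ⟨1, 1⟩⟩, 7),
   (605, ⟨⟨-2, 0⟩, ⟨1, 1⟩, ⟨1, -1⟩, ⟨0, 0⟩⟩, 7), (611, ⟨⟨0, 0⟩, ⟨2, 0⟩, ⟨-1, 1⟩, ⟨-1, -1⟩⟩, 8),
   (617, ⟨⟨2, 0⟩, ⟨-2, 0⟩, ⟨2, 0⟩, ⟨-2, 0⟩⟩, 6), (623, ⟨⟨-1, 1⟩, ⟨-1, -1⟩, ⟨0, 0⟩, ⟨2, 0⟩⟩, 6)]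

/-- Table lookup. -/
@[irreducible] def icosAt (x : ZMod 5 × ZMod 5 × ZMod 5 × ZMod 5) : H4 (ℤ√5) × ℕ :=
  (icosTab.lookup (x.1.val + 5 * x.2.1.val + 25 * x.2.2.1.val + 125 * x.2.2.2.val)).getD (0, 0)

theorem icos_mul : ∀ x : ZMod 5 × ZMod 5 × ZMod 5 × ZMod 5, det4 x = 1 →
    (icosAt (3, 1, 2, 1)).1 * (icosAt x).1 = (4 : ℕ) • (icosAt (mul4 (3, 1, 2, 1) x)).1 ∧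
    (icosAt (2, 4, 2, 2)).1 * (icosAt x).1 = (4 : ℕ) • (icosAt (mul4 (2, 4, 2, 2) x)).1 := by
  decide +kernel

theorem icos_len : ∀ x : ZMod 5 × ZMod 5 × ZMod 5 × ZMod 5, det4 x = 1 → x ≠ (1, 0, 0, 1) →
    (((icosAt x).1.re - 4).norm ≠ 0) ∧
    ((icosAt (mul4 (inv4 (3, 1, 2, 1)) x)).2 < (icosAt x).2 ∨
      (icosAt (mul4 (inv4 (2, 4, 2, 2)) x)).2 < (icosAt x).2) := by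
  decide +kernel

/-- Evaluation of `√5`. -/
def sqrtFiveHom {C : Type*} [Ring C] (σ : C) (hσ : σ * σ = 5) : ℤ√5 →+* C where
  toFun z := z.re • (1 : C) + z.im • σ
  map_one' := by simp
  map_zero' := by simp
  map_add' x y := by simp only [Zsqrtd.re_add, Zsqrtd.im_add]; module
  map_mul' x y := by
    simp only [Zsqrtd.re_mul, Zsqrtd.im_mul, mul_add, add_mul, smul_mul_assoc, mul_smul_comm, one_mul, mul_one,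
      hσ, lit (R := C) 5]
    module

theorem Triple.exists_hom {C : Type*} [Ring C] [Algebra ℚ C] [IsAddTorsionFree C] [Nontrivial C]
    {ρ : G →* H4 C} {z a i j x : G} (t : Triple ρ z a i j) (hx : NF ρ x) :
    ∃ ψ : Matrix.SpecialLinearGroup (Fin 2) (ZMod 5) →* G, Function.Injective ψ ∧
      ψ.range = Subgroup.closure {g | orderOf g = 3} := by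
  have := charZero_of_torsionFree C
  obtain ⟨hx3, σ, hσ, hxσ⟩ := id hx
  let e := H4.map (sqrtFiveHom σ hσ)
  have he : ∀ u : ℤ√5, sqrtFiveHom σ hσ u = u.re • (1 : C) + u.im • σ := fun _ => rfl
  let q : H4 C := ⟨algebraMap ℚ C (1 / 4), 0, 0, 0⟩
  have hq : ∀ r, q * r = r * q := fun r => by ext <;> simp [q, Algebra.commutes]
  have hq4 : (4 : ℕ) • q = 1 := by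
    ext <;> simp only [q, H4.nsmul_re, H4.nsmul_i, H4.nsmul_j, H4.nsmul_k, smul_zero, H4.one_re, H4.one_i,
      H4.one_j, H4.one_k]
    rw [← map_nsmul]; norm_num
  let F : Matrix.SpecialLinearGroup (Fin 2) (ZMod 5) → H4 C := fun g => e (icosAt (ent4 g)).1 * q
  have hF : ∀ (g) (h : G), e (icosAt (ent4 g)).1 = (4 : ℕ) • ρ h → F g = ρ h := by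
    intro g h hg
    simp only [F]
    rw [hg, smul_mul_assoc, ← mul_smul_comm, hq4, mul_one]
  let s₁ : Matrix.SpecialLinearGroup (Fin 2) (ZMod 5) := mk4 (3, 1, 2, 1) (by decide)
  let s₂ : Matrix.SpecialLinearGroup (Fin 2) (ZMod 5) := mk4 (2, 4, 2, 2) (by decide)
  have hs₁ : ent4 s₁ = (3, 1, 2, 1) := rfl
  have hs₂ : ent4 s₂ = (2, 4, 2, 2) := rfl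
  have hF1 : F s₁ = ρ a := by
    refine hF _ _ ?_
    have h1 : (4 : ℕ) • ρ a = (2 : ℕ) • uu ρ a - 2 := by rw [uu]; noncomm_ring [lit]
    rw [h1, t.hu, ent4_mk4, show (icosAt (3, 1, 2, 1)).1 = ⟨⟨-2, 0⟩, ⟨2, 0⟩, ⟨2, 0⟩, ⟨2, 0⟩⟩ by decide +kernel]
    ext <;> simp [e, he]
  have hF2 : F s₂ = ρ x := by
    refine hF _ _ ?_
    have h1 : (4 : ℕ) • ρ x = (2 : ℕ) • uu ρ x - 2 := by rw [uu]; noncomm_ring [lit]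
    rw [h1, hxσ, ent4_mk4, show (icosAt (2, 4, 2, 2)).1 = ⟨⟨-2, 0⟩, ⟨0, 0⟩, ⟨1, 1⟩, ⟨-1, 1⟩⟩ by decide +kernel]
    ext <;> simp [e, he, add_comm, sub_eq_add_neg]
  have hFi : F (mk4 (2, 0, 0, 3) (by decide)) = ρ i := by
    refine hF _ _ ?_
    rw [t.hi, ent4_mk4, show (icosAt (2, 0, 0, 3)).1 = ⟨⟨0, 0⟩, ⟨4, 0⟩, ⟨0, 0⟩, ⟨0, 0⟩⟩ by decide +kernel]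
    ext <;> simp [e, he]
  have hFj : F (mk4 (0, 4, 1, 0) (by decide)) = ρ j := by
    refine hF _ _ ?_
    rw [t.hj, ent4_mk4, show (icosAt (0, 4, 1, 0)).1 = ⟨⟨0, 0⟩, ⟨0, 0⟩, ⟨4, 0⟩, ⟨0, 0⟩⟩ by decide +kernel]
    ext <;> simp [e, he]
  obtain ⟨φ, hφ, hN⟩ := exists_monoidHom_of_table {s₁, s₂} F (fun g => (icosAt (ent4 g)).2)
    (by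
      rw [← map_one ρ]
      refine hF _ _ ?_
      rw [map_one, ent4_one,
        show (icosAt (1, 0, 0, 1)).1 = ⟨⟨4, 0⟩, ⟨0, 0⟩, ⟨0, 0⟩, ⟨0, 0⟩⟩ by decide +kernel]
      ext <;> simp [e, he])
    (by
      have key : ∀ s g, (icosAt (ent4 s)).1 * (icosAt (ent4 g)).1 = (4 : ℕ) • (icosAt (ent4 (s * g))).1 →
          F (s * g) = F s * F g := by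
        intro s g h
        simp only [F]
        rw [mul_assoc, ← mul_assoc q, hq, mul_assoc, ← mul_assoc, ← map_mul, h, map_nsmul, smul_mul_assoc,
          ← mul_smul_comm, ← smul_mul_assoc, hq4, one_mul]
      rintro s (rfl | rfl) g
      · exact key _ _ (by rw [ent4_mul, hs₁]; exact (icos_mul _ (det4_ent4 g)).1)
      · exact key _ _ (by rw [ent4_mul, hs₂]; exact (icos_mul _ (det4_ent4 g)).2))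
    (by
      intro g hg
      rcases (icos_len _ (det4_ent4 g) (by rwa [Ne, ← eq_one_iff_ent4])).2 with h | h
      · exact ⟨s₁, Or.inl rfl, by rw [ent4_mul, ent4_inv, hs₁]; exact h⟩
      · exact ⟨s₂, Or.inr rfl, by rw [ent4_mul, ent4_inv, hs₂]; exact h⟩)
  have hN' := hN ((Subgroup.closure {g : G | orderOf g = 3}).toSubmonoid.map ρ) (by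
    rintro s (rfl | rfl)
    · exact ⟨a, Subgroup.subset_closure t.ha, hF1.symm⟩
    · exact ⟨x, Subgroup.subset_closure hx3, hF2.symm⟩)
  choose ψ₀ hψ₀ hψ₁ using hN'
  let ψ : Matrix.SpecialLinearGroup (Fin 2) (ZMod 5) →* G := MonoidHom.mk' ψ₀ fun g h =>
    t.fpf.injective (by rw [map_mul, hψ₁, hψ₁, hψ₁, ← hφ, ← hφ, ← hφ, map_mul])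
  have hmem : ∀ g h, F g = ρ h → h ∈ ψ.range := fun g h hg => ⟨g, t.fpf.injective ((hψ₁ g).trans hg)⟩
  refine ⟨ψ, ?_, le_antisymm ?_ ?_⟩
  · rw [injective_iff_map_eq_one]
    intro g hg
    by_contra h1
    apply (icos_len _ (det4_ent4 g) (by rwa [Ne, ← eq_one_iff_ent4])).1
    have h2 : F g = 1 := by rw [← hψ₁, show ψ₀ g = 1 from hg, map_one]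
    have h3 : e (icosAt (ent4 g)).1 = 4 := by
      have := congrArg (fun r => (4 : ℕ) • r) h2
      simp only [F] at this
      rw [← mul_smul_comm, hq4, mul_one] at this
      rw [this]; simp
    have h4 : sqrtFiveHom σ hσ ((icosAt (ent4 g)).1.re - 4) = 0 := by
      rw [map_sub, map_ofNat, sub_eq_zero]
      exact congrArg H4.re h3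
    have h5 := congrArg (sqrtFiveHom σ hσ) (Zsqrtd.norm_eq_mul_conj ((icosAt (ent4 g)).1.re - 4))
    rw [map_mul, h4, zero_mul, map_intCast] at h5
    exact_mod_cast h5
  · rintro _ ⟨g, rfl⟩
    exact hψ₀ g
  · rw [Subgroup.closure_le]
    intro y hy
    have ha := hmem _ _ hF1
    have hi := hmem _ _ hFi
    have hj := hmem _ _ hFj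
    by_cases h8 : y ∈ eight a i j
    · have h2 := mul_mem (mul_mem hi ha) (inv_mem hi)
      have h3 := mul_mem (mul_mem hj ha) (inv_mem hj)
      have h4 := mul_mem (mul_mem hi h3) (inv_mem hi)
      rcases h8 with rfl | rfl | rfl | rfl | rfl | rfl | rfl | rfl
      exacts [ha, inv_mem ha, h2, inv_mem h2, h3, inv_mem h3, h4, inv_mem h4]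
    · obtain ⟨g, hg, hnf⟩ := t.exists_nf hy h8
      have hg' : g ∈ ψ.range := by
        refine (Subgroup.closure_le _).mpr ?_ hg
        rintro _ (rfl | rfl | rfl) <;> assumption
      have h1 := t.nf_unique hnf hx
      have h2 : y = g⁻¹ * x * g := by rw [← h1]; group
      rw [h2]
      exact mul_mem (mul_mem (inv_mem hg') (hmem _ _ hF2)) hg'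

theorem FpfRing.omega_three {R : Type*} [Ring R] [Algebra ℚ R] [Nontrivial R] {ρ : G →* R} (h : FpfRing ρ)
    {z : G} (hz : orderOf z = 2) :
    (∃ A B C D : Subgroup G, ∀ x, orderOf x = 3 → Subgroup.zpowers x ∈ ({A, B, C, D} : Set (Subgroup G))) ∨
    ∃ ψ : Matrix.SpecialLinearGroup (Fin 2) (ZMod 5) →* G, Function.Injective ψ ∧
      ψ.range = Subgroup.closure {g | orderOf g = 3} := by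
  have : IsAddTorsionFree R := IsAddTorsionFree.of_module_rat R
  by_cases h1 : ∃ a y : G, orderOf a = 3 ∧ orderOf y = 3 ∧ y ≠ a ∧ y ≠ a⁻¹
  · obtain ⟨a, y, ha, hy, h2, h3⟩ := h1
    obtain ⟨i, j, hi, hj, hji, hu⟩ := h.exists_triple hz ha hy h2 h3
    obtain ⟨e, hei, hej⟩ := exists_h4_equiv hi hj hji
    have : IsAddTorsionFree (Subalgebra.centralizer ℚ ({ρ i, ρ j} : Set R)) := IsAddTorsionFree.of_module_rat _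
    have t : Triple (e.toMonoidHom.comp ρ) z a i j := by
      refine ⟨h.of_ringEquiv e, hz, ha, hei, hej, ?_⟩
      have : uu (e.toMonoidHom.comp ρ) a = e (uu ρ a) := by
        rw [uu, uu, map_add, map_mul, map_one, map_ofNat]; rfl
      rw [this, hu, map_add, map_add, map_mul, hei, hej]
      ext <;> simp
    by_cases h4 : ∀ x, orderOf x = 3 → x ∈ Triple.eight a i j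
    · refine Or.inl ⟨.zpowers a, .zpowers (i * a * i⁻¹), .zpowers (j * a * j⁻¹),
        .zpowers (i * (j * a * j⁻¹) * i⁻¹), fun x hx => ?_⟩
      rcases h4 x hx with rfl | rfl | rfl | rfl | rfl | rfl | rfl | rfl <;>
        simp only [Subgroup.zpowers_inv, Set.mem_insert_iff, Set.mem_singleton_iff, true_or, or_true]
    · push Not at h4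
      obtain ⟨x, hx, h8⟩ := h4
      obtain ⟨g, -, hnf⟩ := t.exists_nf hx h8
      exact Or.inr (t.exists_hom hnf)
  · left
    push Not at h1
    by_cases h2 : ∃ a : G, orderOf a = 3
    · obtain ⟨a, ha⟩ := h2
      refine ⟨.zpowers a, ⊥, ⊥, ⊥, fun x hx => Or.inl ?_⟩
      by_cases h3 : x = a
      · rw [h3]
      · rw [h1 a x ha hx h3, Subgroup.zpowers_inv]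
    · exact ⟨⊥, ⊥, ⊥, ⊥, fun x hx => absurd ⟨x, hx⟩ h2⟩

/-- The elements of order three of a group of even order with a fixed-point-free representation lie in four
subgroups of order three or generate `SL(2,5)`. -/
theorem IsFpf.omega_three [Finite G] (h : IsFpf G) {z : G} (hz : orderOf z = 2) :
    (∃ A B C D : Subgroup G, ∀ x, orderOf x = 3 → Subgroup.zpowers x ∈ ({A, B, C, D} : Set (Subgroup G))) ∨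
    ∃ ψ : Matrix.SpecialLinearGroup (Fin 2) (ZMod 5) →* G, Function.Injective ψ ∧
      ψ.range = Subgroup.closure {g | orderOf g = 3} := by
  have := h.nontrivial_fpfSub ℂ
  exact h.fpfRing.omega_three hz

end CL.Perm
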