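/-
Zassenhaus' theorem: the structure of non-solvable groups with a fixed-point-free representation.
-/
import Cfsg.Agent.Perm.FCIcos3
import Cfsg.Agent.Perm.FCGroup
import Cfsg.Agent.S0106
import Cfsg.Agent.S2119
import Cfsg.Agent.Transfer.Abelian
import Cfsg.Agent.Known.AltMisc
import Cfsg.Agent.Cls.SmallIso

set_option autoImplicit false

namespace CL.Perm

open Subgroup

variable {G : Type*} [Group G]

theorem hom_eq_one_of_perfect (hp : _root_.commutator G = ⊤) {H : Type*} [Group H] [hH : Group.IsSolvable H]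
    (f : G →* H) (g : G) : f g = 1 := by
  obtain ⟨n, hn⟩ := hH
  have h1 : ∀ n, derivedSeries G n = ⊤ := by
    intro n
    induction n with
    | zero => rfl
    | succ n ih => rw [derivedSeries_succ, ih]; exact hp
  have := map_derivedSeries_le_derivedSeries f n ⟨g, by rw [h1]; trivial, rfl⟩
  rwa [hn, mem_bot] at this

theorem mem_center_of_four [Finite G] (hp : _root_.commutator G = ⊤) {A B C D : Subgroup G}
    (h4 : ∀ x, orderOf x = 3 → zpowers x ∈ ({A, B, C, D} : Set (Subgroup G))) {x : G} (hx : orderOf x = 3) :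
    x ∈ center G := by
  let X := {H : Subgroup G // Nat.card H = 3}
  let _ : MulAction G X :=
    { smul := fun g H => ⟨H.1.map (MulAut.conj g).toMonoidHom, by
        rw [card_map_of_injective (MulAut.conj g).injective]; exact H.2⟩
      one_smul := fun H => Subtype.ext (by
        change H.1.map (MulAut.conj (1 : G)).toMonoidHom = H.1
        rw [map_one]; exact map_id _)
      mul_smul := fun a b H => Subtype.ext (by
        change H.1.map (MulAut.conj (a * b)).toMonoidHom =
          (H.1.map (MulAut.conj b).toMonoidHom).map (MulAut.conj a).toMonoidHom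
        rw [map_map, map_mul]; rfl) }
  have hX : Nat.card X ≤ 4 := by
    have h1 : {H : Subgroup G | Nat.card H = 3} ⊆ {A, B, C, D} := by
      intro H hH
      obtain ⟨y, hy⟩ := exists_prime_orderOf_dvd_card' (G := H) 3 (dvd_of_eq hH.symm)
      have h2 : zpowers (y : G) = H := eq_of_le_of_card_ge (zpowers_le.mpr y.2)
        (by rw [Nat.card_zpowers, orderOf_coe, hy, hH])
      exact h2 ▸ h4 y (by rw [orderOf_coe, hy])
    calc Nat.card X = ({H : Subgroup G | Nat.card H = 3}).ncard := rfl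
      _ ≤ ({A, B, C, D} : Set (Subgroup G)).ncard := Set.ncard_le_ncard h1
      _ ≤ 4 := by
        have h2 := Set.ncard_insert_le A {B, C, D}
        have h3 := Set.ncard_insert_le B {C, D}
        have h4 := Set.ncard_insert_le C {D}
        rw [Set.ncard_singleton] at h4
        omega
  have := CL.Known.isSolvable_perm_of_card_le_four hX
  have hn : (zpowers x).Normal := by
    refine ⟨fun y hy g => ?_⟩
    have h1 := hom_eq_one_of_perfect hp (MulAction.toPermHom G X) g
    have h2 : (zpowers x).map (MulAut.conj g).toMonoidHom = zpowers x :=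
      congrArg Subtype.val (Equiv.congr_fun h1 ⟨zpowers x, by rw [Nat.card_zpowers, hx]⟩)
    rw [← h2]
    exact ⟨y, hy, rfl⟩
  rw [mem_center_iff]
  intro g
  have h1 := hom_eq_one_of_perfect hp
    ((IsCyclic.mulAutMulEquiv (zpowers x)).toMonoidHom.comp MulAut.conjNormal) g
  have h2 : MulAut.conjNormal (H := zpowers x) g = 1 := 
    (map_eq_one_iff (IsCyclic.mulAutMulEquiv (zpowers x)) (MulEquiv.injective _)).mp h1
  have h3 : g * x * g⁻¹ = x := (congrArg Subtype.val (DFunLike.congr_fun h2 ⟨x, mem_zpowers x⟩) :)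
  exact mul_inv_eq_iff_eq_mul.mp h3

theorem card_sl23 : Nat.card (Matrix.SpecialLinearGroup (Fin 2) (ZMod 3)) = 24 := by
  rw [CL.SLn.card_SL_two]; simp

theorem card_sl25 : Nat.card (Matrix.SpecialLinearGroup (Fin 2) (ZMod 5)) = 120 := by
  have : Fact (Nat.Prime 5) := ⟨Nat.prime_five⟩
  rw [CL.SLn.card_SL_two]; simp

theorem IsFpf.not_four_of_perfect [Finite G] [Nontrivial G] (h : IsFpf G) (hp : _root_.commutator G = ⊤)
    {A B C D : Subgroup G}
    (h4 : ∀ x, orderOf x = 3 → zpowers x ∈ ({A, B, C, D} : Set (Subgroup G))) : False := by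
  have h3 : ¬ 3 ∣ Nat.card G := by
    intro hd
    obtain ⟨x, hx⟩ := exists_prime_orderOf_dvd_card' 3 hd
    have hxp : IsPGroup 3 (zpowers x) := IsPGroup.of_card (n := 1) (by rw [Nat.card_zpowers, hx, pow_one])
    obtain ⟨P, hP⟩ := hxp.exists_le_sylow
    have hc := h.isCyclic_of_isPGroup_odd (by norm_num) P.isPGroup'
    have h1 := CL.Transfer.commutator_inf_centralizer_normalizer_eq_bot P inferInstance
    have h2 : x ∈ _root_.commutator G ⊓ ((P : Subgroup G) ⊓ centralizer (normalizer (P : Set G) : Set G)) :=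
      ⟨hp ▸ mem_top x, hP (mem_zpowers x), fun g _ => mem_center_iff.mp (mem_center_of_four hp h4 hx) g⟩
    rw [h1, mem_bot] at h2
    simp [h2] at hx
  have hZ : IsZGroup G := by
    refine h.isZGroup fun P hP => ?_
    obtain ⟨T, hT⟩ := hP.exists_le_sylow
    suffices hc : IsCyclic T from isCyclic_of_injective _ (inclusion_injective hT)
    rcases h.subgroup_isCyclic_or_quaternion T.isPGroup' with hc | ⟨-, k, he⟩
    · exact hc
    rcases Cfsg.Agent.S0106.result T (k + 1) (by omega) he with ⟨T', N, hN, hc⟩ | ⟨H, K, hK, ⟨e⟩⟩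
    · have := T'.isPGroup'.isNilpotent
      have h1 : ∀ t : T', t = 1 := by
        intro t
        obtain ⟨g, rfl⟩ := (hc.symm.QuotientMulEquiv.surjective.comp (QuotientGroup.mk'_surjective N)) t
        exact hom_eq_one_of_perfect hp (hc.symm.QuotientMulEquiv.toMonoidHom.comp (QuotientGroup.mk' N)) g
      have : Subsingleton T' := ⟨fun a b => by rw [h1 a, h1 b]⟩
      exact isCyclic_of_surjective _ (T'.equiv T).surjective
    · exfalso
      apply h3
      refine Dvd.dvd.trans ?_ H.card_subgroup_dvd_card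
      refine Dvd.dvd.trans ?_ (card_quotient_dvd_card (K.subgroupOf H))
      rw [Nat.card_congr e.toEquiv, card_sl23]; norm_num
  exact (IsZGroup.commutator_lt G).ne hp

/-- In a non-solvable group with a fixed-point-free representation the elements of order three
generate `SL(2,5)`. -/
theorem IsFpf.exists_sl25 [Finite G] (h : IsFpf G) (hns : ¬ Group.IsSolvable G) :
    ∃ ψ : Matrix.SpecialLinearGroup (Fin 2) (ZMod 5) →* G, Function.Injective ψ ∧
      ψ.range = Subgroup.closure {g | orderOf g = 3} := by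
  have h2 : 2 ∣ Nat.card G := by
    by_contra h2
    have := h.isZGroup_of_no_order_four fun g hg =>
      h2 (Dvd.dvd.trans (by rw [hg]; norm_num) (orderOf_dvd_natCard g))
    exact hns inferInstance
  obtain ⟨z, hz⟩ := exists_prime_orderOf_dvd_card' 2 h2
  refine (h.omega_three hz).resolve_left ?_
  rintro ⟨A, B, C, D, h4⟩
  apply hns
  rw [Group.isSolvable_iff_commutator_lt]
  intro H hH
  refine lt_of_le_of_ne (commutator_le_self H) fun h1 => ?_
  have := (nontrivial_iff_ne_bot H).mpr hH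
  refine (h.subgroup H).not_four_of_perfect (A := A.subgroupOf H) (B := B.subgroupOf H) (C := C.subgroupOf H)
    (D := D.subgroupOf H) ?_ fun x hx => ?_
  · apply map_injective H.subtype_injective
    rw [map_subtype_commutator, h1, ← MonoidHom.range_eq_map, range_subtype]
  · have h5 : zpowers x = (zpowers (x : G)).subgroupOf H := by
      rw [← comap_map_eq_self_of_injective H.subtype_injective (zpowers x), MonoidHom.map_zpowers]; rfl
    rw [h5]
    rcases h4 x (by rw [orderOf_coe, hx]) with h6 | h6 | h6 | h6 <;> rw [h6] <;> simp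

theorem sl25_center_sq : ∀ x : ZMod 5 × ZMod 5 × ZMod 5 × ZMod 5, det4 x = 1 →
    mul4 (1, 1, 0, 1) x = mul4 x (1, 1, 0, 1) → mul4 (1, 0, 1, 1) x = mul4 x (1, 0, 1, 1) →
    mul4 x x = (1, 0, 0, 1) := by decide +kernel

theorem sl25_sq_of_mem_center {s : Matrix.SpecialLinearGroup (Fin 2) (ZMod 5)} (hs : s ∈ center _) :
    s ^ 2 = 1 := by
  rw [pow_two, eq_one_iff_ent4, ent4_mul]
  refine sl25_center_sq _ (det4_ent4 s) ?_ ?_
  · have := congrArg ent4 (mem_center_iff.mp hs (mk4 (1, 1, 0, 1) (by decide)))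
    rwa [ent4_mul, ent4_mul] at this
  · have := congrArg ent4 (mem_center_iff.mp hs (mk4 (1, 0, 1, 1) (by decide)))
    rwa [ent4_mul, ent4_mul] at this

theorem sl25_orderOf_neg_one : orderOf (-1 : Matrix.SpecialLinearGroup (Fin 2) (ZMod 5)) = 2 :=
  orderOf_eq_prime (by simp) (by rw [Ne, eq_one_iff_ent4, ent4_neg_one]; decide)

theorem sl25_exists_five : ∃ y : Matrix.SpecialLinearGroup (Fin 2) (ZMod 5), orderOf y = 5 :=
  haveI : Fact (Nat.Prime 5) := ⟨Nat.prime_five⟩
  exists_prime_orderOf_dvd_card' 5 (by rw [card_sl25]; norm_num)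

theorem sl25_perfect : _root_.commutator (Matrix.SpecialLinearGroup (Fin 2) (ZMod 5)) = ⊤ :=
  have h : (2 : ZMod 5) ≠ 0 ∧ (2 : ZMod 5) ^ 2 ≠ 1 := by decide
  haveI : Fact (Nat.Prime 5) := ⟨Nat.prime_five⟩
  CL.SLn.commutator_eq_top (Or.inr ⟨2, h⟩)

/-- A normal subgroup `SL(2,5)` gives a homomorphism to `S₅` whose kernel is the centraliser. -/
theorem exists_hom_perm_five (ψ : Matrix.SpecialLinearGroup (Fin 2) (ZMod 5) →* G) (hψ : Function.Injective ψ)
    [ψ.range.Normal] (hz : ψ (-1) ∈ center G) :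
    ∃ f : G →* Equiv.Perm (Fin 5), f.ker = centralizer (ψ.range : Set G) ∧
      ψ.range.map f = alternatingGroup (Fin 5) := by
  have : Fact (Nat.Prime 5) := ⟨Nat.prime_five⟩
  set Z := zpowers (ψ (-1)) with hZ
  have hZc : Z ≤ center G := zpowers_le.mpr hz
  have hZn : Z.Normal := ⟨fun a ha g => by rw [mem_center_iff.mp (hZc ha) g, mul_inv_cancel_right]; exact ha⟩
  let π := (QuotientGroup.mk' Z).comp ψ
  have hker : π.ker = center _ := by
    ext s
    rw [MonoidHom.mem_ker, MonoidHom.comp_apply, QuotientGroup.mk'_apply, QuotientGroup.eq_one_iff]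
    constructor
    · intro hs
      rw [mem_center_iff]
      intro t
      exact hψ (by rw [map_mul, map_mul]; exact mem_center_iff.mp (hZc hs) _)
    · intro hs
      have h2 : Nat.card (center (Matrix.SpecialLinearGroup (Fin 2) (ZMod 5))) = 2 := by
        rw [CL.SLn.card_center_SL]; rfl
      have h3 : zpowers (-1 : Matrix.SpecialLinearGroup (Fin 2) (ZMod 5)) = center _ :=
        eq_of_le_of_card_ge (zpowers_le.mpr (mem_center_iff.mpr fun g => by simp))
          (by rw [h2, Nat.card_zpowers, sl25_orderOf_neg_one])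
      rw [hZ, ← MonoidHom.map_zpowers, h3]
      exact ⟨s, hs, rfl⟩
  have hn : π.range.Normal := by
    rw [MonoidHom.range_comp]
    exact Normal.map inferInstance _ (QuotientGroup.mk'_surjective Z)
  obtain ⟨e₀⟩ := CL.Cls.nonempty_PSL2_five (F := ZMod 5) (by simp)
  let e : π.range ≃* alternatingGroup (Fin 5) :=
    ((QuotientGroup.quotientKerEquivRange π).symm.trans (QuotientGroup.quotientMulEquivOfEq hker)).trans e₀
  let e' := MulEquiv.ofBijective _ (Cfsg.Agent.S2119.result 5 (by norm_num) (by norm_num))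
  let f : G →* Equiv.Perm (Fin 5) :=
    (((MulAut.congr e).trans e'.symm).toMonoidHom.comp (MulAut.conjNormal (H := π.range))).comp
      (QuotientGroup.mk' Z)
  have hf : ∀ s, f (ψ s) = e ⟨π s, s, rfl⟩ := by
    intro s
    apply e'.injective
    change e' (e'.symm _) = _
    rw [MulEquiv.apply_symm_apply]
    ext1 a
    apply Subtype.ext
    change (e (MulAut.conjNormal (π s) (e.symm a)) : Equiv.Perm (Fin 5)) =
      (e ⟨π s, s, rfl⟩ : Equiv.Perm (Fin 5)) * a * (e ⟨π s, s, rfl⟩ : Equiv.Perm (Fin 5))⁻¹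
    have : MulAut.conjNormal (H := π.range) (π s) (e.symm a) = ⟨π s, s, rfl⟩ * e.symm a * ⟨π s, s, rfl⟩⁻¹ :=
      Subtype.ext rfl
    rw [this, map_mul, map_mul, map_inv, MulEquiv.apply_symm_apply]
    rfl
  refine ⟨f, ?_, le_antisymm ?_ ?_⟩
  · ext g
    have h1 : g ∈ f.ker ↔ MulAut.conjNormal (H := π.range) (g : G ⧸ Z) = 1 :=
      map_eq_one_iff ((MulAut.congr e).trans e'.symm) (MulEquiv.injective _)
    rw [h1]
    constructor
    · intro hg
      have h2 : ∀ s, g * ψ s * g⁻¹ * (ψ s)⁻¹ ∈ Z := by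
        intro s
        have h3 : (g : G ⧸ Z) * π s * (g : G ⧸ Z)⁻¹ = π s :=
          (congrArg Subtype.val (DFunLike.congr_fun hg ⟨π s, s, rfl⟩) :)
        rw [← QuotientGroup.eq_one_iff, QuotientGroup.mk_mul, QuotientGroup.mk_mul, QuotientGroup.mk_mul,
          QuotientGroup.mk_inv, QuotientGroup.mk_inv, mul_inv_eq_one]
        exact h3
      let χ : Matrix.SpecialLinearGroup (Fin 2) (ZMod 5) →* center G := MonoidHom.mk'
        (fun s => ⟨_, hZc (h2 s)⟩) fun s t => Subtype.ext (by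
          change g * ψ (s * t) * g⁻¹ * (ψ (s * t))⁻¹ = g * ψ s * g⁻¹ * (ψ s)⁻¹ * (g * ψ t * g⁻¹ * (ψ t)⁻¹)
          rw [mul_assoc (g * ψ s * g⁻¹), mem_center_iff.mp (hZc (h2 t)) (ψ s)⁻¹, map_mul]
          group)
      rintro _ ⟨s, rfl⟩
      have : Group.IsSolvable (center G) := Group.isSolvable_of_comm mul_comm'
      have h3 : g * ψ s * g⁻¹ * (ψ s)⁻¹ = 1 := congrArg Subtype.val (hom_eq_one_of_perfect sl25_perfect χ s)
      rw [mul_inv_eq_one, mul_inv_eq_iff_eq_mul] at h3
      exact h3.symm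
    · intro hg
      ext1 ⟨_, s, rfl⟩
      apply Subtype.ext
      change (g : G ⧸ Z) * (ψ s : G ⧸ Z) * (g : G ⧸ Z)⁻¹ = (ψ s : G ⧸ Z)
      rw [← QuotientGroup.mk_mul, ← hg _ ⟨s, rfl⟩, QuotientGroup.mk_mul, mul_inv_cancel_right]
  · rintro _ ⟨_, ⟨s, rfl⟩, rfl⟩
    rw [hf]; exact Subtype.prop _
  · intro a ha
    obtain ⟨⟨_, s, rfl⟩, hs⟩ := e.surjective ⟨a, ha⟩
    exact ⟨ψ s, ⟨s, rfl⟩, by rw [hf, hs]⟩

/-- **Zassenhaus**: the structure of a non-solvable group with a fixed-point-free representation. -/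
theorem IsFpf.nonsolvable_structure [Finite G] (h : IsFpf G) (hns : ¬ Group.IsSolvable G) :
    ∃ (L M : Subgroup G) (f : G →* Equiv.Perm (Fin 5)), L.Normal ∧ M.Normal ∧
      Nonempty (L ≃* Matrix.SpecialLinearGroup (Fin 2) (ZMod 5)) ∧ f.ker = centralizer (L : Set G) ∧
      L.map f = alternatingGroup (Fin 5) ∧ M ≤ centralizer (L : Set G) ∧ L ⊓ M = ⊥ ∧
      centralizer (L : Set G) ≤ L ⊔ M ∧ (Nat.card M).Coprime 30 ∧ IsZGroup (centralizer (L : Set G)) ∧
      Nat.card (centralizer (L : Set G)) = 2 * Nat.card M := by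
  obtain ⟨ψ, hψ, hr⟩ := h.exists_sl25 hns
  have hn : ψ.range.Normal := by
    rw [hr]
    refine ⟨fun x hx g => ?_⟩
    have : (Subgroup.closure {g : G | orderOf g = 3}).map (MulAut.conj g).toMonoidHom ≤
        Subgroup.closure {g | orderOf g = 3} := by
      rw [MonoidHom.map_closure]
      refine Subgroup.closure_mono ?_
      rintro _ ⟨y, hy, rfl⟩
      exact (orderOf_conj' g y).trans hy
    exact this ⟨x, hx, rfl⟩
  set z := ψ (-1) with hzdef
  have hz : orderOf z = 2 := by rw [orderOf_injective ψ hψ, sl25_orderOf_neg_one]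
  have hzc := h.mem_center_of_orderOf_two hz
  obtain ⟨f, hf1, hf2⟩ := exists_hom_perm_five ψ hψ hzc
  set K := centralizer (ψ.range : Set G) with hK
  have hLK : ∀ g ∈ ψ.range, g ∈ K → g ^ 2 = 1 := by
    rintro _ ⟨s, rfl⟩ hs
    rw [← map_pow, sl25_sq_of_mem_center, map_one]
    rw [mem_center_iff]
    intro t
    exact hψ (by rw [map_mul, map_mul]; exact hs _ ⟨t, rfl⟩)
  have hzK : z ∈ K := fun g _ => mem_center_iff.mp hzc g
  have h3 : ∀ c ∈ K, orderOf c ≠ 3 := by
    intro c hc h3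
    have := orderOf_dvd_of_pow_eq_one (hLK c (hr ▸ Subgroup.subset_closure h3) hc)
    rw [h3] at this; omega
  have h5 : ∀ c ∈ K, orderOf c ≠ 5 := by
    intro c hc h5
    obtain ⟨y, hy⟩ := sl25_exists_five
    have hy' : orderOf (ψ y) = 5 := by rw [orderOf_injective ψ hψ, hy]
    have h6 := h.mem_zpowers_of_commute (x := ψ y) (y := c) (by rw [hy']; exact Nat.prime_five)
      (h5.trans hy'.symm) (hc _ ⟨y, rfl⟩)
    have := orderOf_dvd_of_pow_eq_one (hLK c ((zpowers_le (H := ψ.range)).mpr ⟨y, rfl⟩ h6) hc)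
    rw [h5] at this; omega
  have h4 : ∀ c ∈ K, orderOf c ≠ 4 := by
    intro c hc h4
    let i : Matrix.SpecialLinearGroup (Fin 2) (ZMod 5) := mk4 (2, 0, 0, 3) (by decide)
    have hi : i * i = -1 := ent4_injective (by rw [ent4_mul, ent4_neg_one]; decide)
    have h6 : c ^ 2 = z := h.eq_of_orderOf_two (by rw [orderOf_pow' _ two_ne_zero, h4]; rfl) hz
    have h7 : (c * ψ i) ^ 2 = 1 := by
      rw [Commute.mul_pow (hc _ ⟨i, rfl⟩ : Commute (ψ i) c).symm, h6, ← map_pow, pow_two, hi, ← pow_two, ← hz,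
        pow_orderOf_eq_one]
    have h8 : c ∈ ψ.range := by
      rw [← mul_inv_cancel_right c (ψ i)]
      refine mul_mem ?_ (inv_mem ⟨i, rfl⟩)
      rcases h.eq_of_sq_eq_one hz h7 with h9 | h9 <;> rw [h9]
      · exact one_mem _
      · exact ⟨-1, rfl⟩
    have := orderOf_dvd_of_pow_eq_one (hLK c h8 hc)
    rw [h4] at this; omega
  have hZG : IsZGroup K := (h.subgroup K).isZGroup_of_no_order_four fun g hg =>
    h4 g g.2 (by rw [orderOf_coe, hg])
  let Z : Subgroup K := zpowers ⟨z, hzK⟩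
  have hzK' : orderOf (⟨z, hzK⟩ : K) = 2 := by rw [← orderOf_coe]; exact hz
  have hZ2 : Nat.card Z = 2 := by rw [Nat.card_zpowers, hzK']
  have hZc : Z ≤ center K := zpowers_le.mpr ((h.subgroup K).mem_center_of_orderOf_two hzK')
  have hZn : Z.Normal := ⟨fun a ha g => by rw [mem_center_iff.mp (hZc ha) g, mul_inv_cancel_right]; exact ha⟩
  have hidx : ¬ 2 ∣ Z.index := by
    intro hd
    have h6 : 2 ^ 2 ∣ Nat.card K := by
      rw [← Z.card_mul_index, hZ2, pow_two]; exact Nat.mul_dvd_mul_left 2 hd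
    obtain ⟨P, hP⟩ := Sylow.exists_subgroup_card_pow_prime 2 h6
    have := (IsPGroup.of_card hP).isCyclic_of_isZGroup
    obtain ⟨g, hg⟩ := IsCyclic.exists_ofOrder_eq_natCard (α := P)
    exact h4 (g : K) (g : K).2 (by rw [orderOf_coe, orderOf_coe, hg, hP]; rfl)
  obtain ⟨M, hM⟩ := exists_right_complement'_of_coprime (N := Z)
    (by rw [hZ2]; exact (Nat.prime_two.coprime_iff_not_dvd).mpr hidx)
  have hMc : Nat.card M = Z.index := hM.symm.index_eq_card.symm
  have hcard : Nat.card (M.map K.subtype) = Nat.card M := card_map_of_injective K.subtype_injective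
  have hodd : ∀ g ∈ K, g ∈ M.map K.subtype ↔ Odd (orderOf g) := by
    intro g hg
    constructor
    · intro h1
      rw [← Nat.not_even_iff_odd, even_iff_two_dvd]
      exact fun h2 => hidx (hMc ▸ hcard ▸ h2.trans (orderOf_dvd_natCard _ h1))
    · intro h1
      obtain ⟨⟨a, m⟩, ham⟩ := hM.2 ⟨g, hg⟩
      have hc : Commute (a : K) (m : K) := (mem_center_iff.mp (hZc a.2) m).symm
      have h2 : (a : K) ^ 2 = 1 := by
        rw [← hZ2]; exact congrArg Subtype.val (pow_card_eq_one' (x := a))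
      have h6 : (⟨g, hg⟩ : K) ^ 2 ∈ M := by
        rw [← ham]; simp only
        rw [hc.mul_pow, h2, one_mul]; exact pow_mem m.2 2
      have h7 : (⟨g, hg⟩ : K) ∈ zpowers ((⟨g, hg⟩ : K) ^ 2) :=
        mem_zpowers_pow_iff.mpr (by
          rw [← orderOf_coe]; exact (Nat.coprime_two_left.mpr h1))
      exact ⟨_, zpowers_le.mpr h6 h7, rfl⟩
  have hKn : K.Normal := inferInstance
  refine ⟨ψ.range, M.map K.subtype, f, hn, ⟨fun x hx g => ?_⟩, ⟨(MonoidHom.ofInjective hψ).symm⟩, hf1, hf2,
    map_subtype_le _, ?_, ?_, ?_, hZG, ?_⟩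
  · have h1 := map_subtype_le _ hx
    rw [hodd _ (hKn.conj_mem x h1 g), orderOf_conj']
    exact (hodd x h1).mp hx
  · rw [eq_bot_iff]
    rintro g ⟨h1, h2⟩
    have h6 := map_subtype_le _ h2
    have h7 := (hodd g h6).mp h2
    rw [mem_bot, ← orderOf_eq_one_iff]
    exact Nat.eq_one_of_dvd_coprimes (Nat.coprime_two_left.mpr h7)
      (orderOf_dvd_of_pow_eq_one (hLK g h1 h6)) dvd_rfl
  · intro g hg
    obtain ⟨⟨a, m⟩, ham⟩ := hM.2 ⟨g, hg⟩
    rw [← show ((a : K) : G) * ((m : K) : G) = g from congrArg Subtype.val ham]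
    refine mul_mem (mem_sup_left ?_) (mem_sup_right ⟨m, m.2, rfl⟩)
    obtain ⟨k, hk⟩ := a.2
    rw [← hk]
    exact zpow_mem (show z ∈ ψ.range from ⟨-1, rfl⟩) k
  · have key : ∀ p, p.Prime → (∀ c ∈ K, orderOf c ≠ p) → (Nat.card (M.map K.subtype)).Coprime p := by
      intro p hp hc
      rw [Nat.coprime_comm, hp.coprime_iff_not_dvd]
      intro hd
      have := Fact.mk hp
      obtain ⟨c, hc'⟩ := exists_prime_orderOf_dvd_card' p hd
      exact hc c (map_subtype_le _ c.2) (by rw [orderOf_coe, hc'])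
    rw [show 30 = 2 * 3 * 5 from rfl]
    refine Nat.Coprime.mul_right (Nat.Coprime.mul_right ?_ (key 3 Nat.prime_three h3)) (key 5 Nat.prime_five h5)
    rw [hcard, hMc, Nat.coprime_comm]
    exact (Nat.prime_two.coprime_iff_not_dvd).mpr hidx
  · rw [hcard, ← hM.card_mul, hZ2]

end CL.Perm
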