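/-
Consequences of Zassenhaus' theorem: perfect groups with a fixed-point-free representation.
-/
import Cfsg.Agent.Perm.FCZass

set_option autoImplicit false

namespace CL.Perm

open Subgroup

variable {G : Type*} [Group G]

theorem comap_alt_eq_sup {L M : Subgroup G} {f : G →* Equiv.Perm (Fin 5)}
    (h1 : f.ker = centralizer (L : Set G)) (h2 : L.map f = alternatingGroup (Fin 5))
    (h3 : M ≤ centralizer (L : Set G)) (h4 : centralizer (L : Set G) ≤ L ⊔ M) :
    (alternatingGroup (Fin 5)).comap f = L ⊔ M := by
  rw [← h2, comap_map_eq, h1]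
  exact le_antisymm (sup_le le_sup_left h4) (sup_le_sup_left h3 L)

theorem not_isSolvable_of_perfect [Nontrivial G] (hp : _root_.commutator G = ⊤) : ¬ Group.IsSolvable G := by
  intro h
  obtain ⟨g, hg⟩ := exists_ne (1 : G)
  exact hg (hom_eq_one_of_perfect hp (MonoidHom.id G) g)

/-- **Zassenhaus**: a non-trivial perfect group with a fixed-point-free representation is `SL(2,5)`. -/
theorem IsFpf.nonempty_equiv_sl25 [Finite G] [Nontrivial G] (h : IsFpf G) (hp : _root_.commutator G = ⊤) :
    Nonempty (G ≃* Matrix.SpecialLinearGroup (Fin 2) (ZMod 5)) := by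
  obtain ⟨L, M, f, hL, -, ⟨e⟩, h1, h2, h3, -, h4, -, hZ, -⟩ :=
    h.nonsolvable_structure (not_isSolvable_of_perfect hp)
  have h5 : L ⊔ M = ⊤ := by
    rw [← comap_alt_eq_sup h1 h2 h3 h4, eq_top_iff]
    intro g _
    exact hom_eq_one_of_perfect hp (Equiv.Perm.sign.comp f) g
  have hM : IsZGroup M := IsZGroup.of_injective (inclusion_injective h3)
  have h6 : Function.Surjective ((QuotientGroup.mk' L).comp M.subtype) := by
    rw [← MonoidHom.range_eq_top, MonoidHom.range_comp, range_subtype,
      ← comap_injective (QuotientGroup.mk'_surjective L) |>.eq_iff, comap_map_eq, QuotientGroup.ker_mk',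
      comap_top, sup_comm, h5]
  have := Group.isSolvable_of_surjective h6
  have h7 : L = ⊤ := by
    rw [eq_top_iff]
    intro g _
    exact (QuotientGroup.eq_one_iff g).mp (hom_eq_one_of_perfect hp (QuotientGroup.mk' L) g)
  exact ⟨(topEquiv.symm.trans (MulEquiv.subgroupCongr h7.symm)).trans e⟩

end CL.Perm
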