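/-
Groups of small fixity: setwise and pointwise stabilisers of small sets.
-/
import Cfsg.Agent.Even.ParChar
import Cfsg.Agent.Grp.NilpSub
import Cfsg.Agent.Grp.PGroupMaxClass
import Cfsg.Agent.Perm.Derange2

set_option autoImplicit false

namespace CL.Fix4

open Cfsg Subgroup MulAction CL.Grp CL.Even
open scoped Pointwise Nat

variable {G Ω : Type*} [Group G] [MulAction G Ω] {Δ : Set Ω} {A : Subgroup G} {g x : G} {p : ℕ}

theorem smul_mem (hg : g ∈ stabilizer G Δ) {y : Ω} (hy : y ∈ Δ) : g • y ∈ Δ := (mem_stabilizer_set.1 hg y).2 hy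

theorem mem_fix : g ∈ fixingSubgroup G Δ ↔ Δ ⊆ fixedBy Ω g := mem_fixingSubgroup_iff_subset_fixedBy G

theorem fix_le : fixingSubgroup G Δ ≤ stabilizer G Δ := fixingSubgroup_le_stabilizer G Δ

theorem cj_fix (g : G) (Δ : Set Ω) : cj g (fixingSubgroup G Δ) = fixingSubgroup G (g • Δ) :=
  (SubMulAction.fixingSubgroup_smul_eq_fixingSubgroup_map_conj Δ g).symm

theorem cj_stab (g : G) (Δ : Set Ω) : cj g (stabilizer G Δ) = stabilizer G (g • Δ) :=
  (stabilizer_smul_eq_stabilizer_map_conj g Δ).symm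

theorem stab_le_norm : stabilizer G Δ ≤ 𝒩(fixingSubgroup G Δ) := fun g hg =>
  cj_eq_iff_mem.1 (by rw [cj_fix, mem_stabilizer_iff.1 hg])

theorem cent_le_stab (x : G) : centralizer {x} ≤ stabilizer G (fixedBy Ω x) := fun g hg => by
  rw [mem_stabilizer_iff, smul_fixedBy, mem_cent_singleton.1 hg, mul_inv_cancel_right]

theorem ncard_conj (g x : G) : (fixedBy Ω (g * x * g⁻¹)).ncard = (fixedBy Ω x).ncard := by
  rw [← smul_fixedBy, Set.ncard_smul_set]

theorem fixedBy_pow (x : G) (n : ℕ) : fixedBy Ω x ⊆ fixedBy Ω (x ^ n) := by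
  simpa using fixedBy_subset_fixedBy_zpow Ω x n

theorem diff_mem {Δ' : Set Ω} (h : g ∈ stabilizer G Δ) (h' : g ∈ stabilizer G Δ') : g ∈ stabilizer G (Δ \ Δ') := by
  rw [mem_stabilizer_iff] at *
  rw [Set.smul_set_sdiff, h, h']

theorem norm_le_stab_fixed (A : Subgroup G) : 𝒩(A) ≤ stabilizer G (fixedPoints A Ω) := fun g hg =>
  mem_stabilizer_set.2 fun y => ⟨fun h a => by
    have := h ⟨_, conj_mem hg a.2⟩
    rwa [Subgroup.mk_smul, smul_smul, inv_mul_cancel_right, mul_smul, smul_left_cancel_iff] at this, fun h a => by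
    have := h ⟨_, conj_mem' hg a.2⟩
    rwa [Subgroup.mk_smul, mul_smul, mul_smul, inv_smul_eq_iff] at this⟩

/-- the action on an invariant set -/
def sub (h : A ≤ stabilizer G Δ) : SubMulAction A Ω := ⟨Δ, fun g _ hy => smul_mem (h g.2) hy⟩

theorem ker_sub (h : A ≤ stabilizer G Δ) : (toPermHom A (sub h)).ker = (fixingSubgroup G Δ).subgroupOf A := by
  ext a
  rw [MonoidHom.mem_ker, mem_subgroupOf, mem_fixingSubgroup_iff, Equiv.ext_iff]
  exact ⟨fun e y hy => congrArg Subtype.val (e ⟨y, hy⟩), fun e y => Subtype.ext (e y y.2)⟩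

theorem relIndex_eq (h : A ≤ stabilizer G Δ) :
    (fixingSubgroup G Δ).relIndex A = Nat.card (toPermHom A (sub h)).range := by
  rw [← index_ker, ker_sub, relIndex]

variable [Finite Ω]

theorem relIndex_dvd (h : A ≤ stabilizer G Δ) : (fixingSubgroup G Δ).relIndex A ∣ Δ.ncard ! := by
  rw [relIndex_eq h]
  exact (card_subgroup_dvd_card _).trans (Nat.card_perm (α := sub h)).dvd

set_option synthInstance.maxSize 4000 in
theorem relIndex_le_four (h : A ≤ stabilizer G Δ) (h4 : Δ.ncard = 4) (hc : ∀ a ∈ A, ∀ b ∈ A, a * b = b * a) :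
    (fixingSubgroup G Δ).relIndex A ≤ 4 := by
  have key : ∀ a : Equiv.Perm (Fin 4), a ≠ 1 → ∀ b, b ≠ 1 → a ≠ b → a * b = b * a → ∀ c, c ≠ 1 → a ≠ c → b ≠ c →
      a * c = c * a → b * c = c * b → ∀ d, d ≠ 1 → a ≠ d → b ≠ d → c ≠ d → a * d = d * a → b * d = d * b →
      c * d ≠ d * c := by decide +kernel
  let e := (Finite.equivFinOfCardEq (α := sub h) h4).permCongrHom
  rw [relIndex_eq h, ← card_map_of_injective (f := e.toMonoidHom) e.injective]
  set B := (toPermHom A (sub h)).range.map e.toMonoidHom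
  have hB : ∀ a ∈ B, ∀ b ∈ B, a * b = b * a := by
    rintro _ ⟨_, ⟨a, rfl⟩, rfl⟩ _ ⟨_, ⟨b, rfl⟩, rfl⟩
    simp only [← map_mul, show a * b = b * a from Subtype.ext (hc _ a.2 _ b.2)]
  by_contra hn
  have := Set.ncard_sdiff_singleton_add_one (s := (B : Set (Equiv.Perm (Fin 4)))) (one_mem B)
  obtain ⟨a, b, c, d, ha, hb, hc, hd, h1, h2, h3, h4, h5, h6⟩ :=
    (Set.three_lt_ncard_iff (s := (B : Set (Equiv.Perm (Fin 4))) \ {1})).1 (by
      change ¬ (B : Set (Equiv.Perm (Fin 4))).ncard ≤ 4 at hn; omega)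
  exact key a ha.2 b hb.2 h1 (hB _ ha.1 _ hb.1) c hc.2 h2 h4 (hB _ ha.1 _ hc.1) (hB _ hb.1 _ hc.1) d hd.2 h3 h5 h6
    (hB _ ha.1 _ hd.1) (hB _ hb.1 _ hd.1) (hB _ hc.1 _ hd.1)

theorem relIndex_dvd_ncard (h : A ≤ stabilizer G Δ) {K : Subgroup G} (hK : ∀ y ∈ Δ, ∀ a ∈ A, a • y = y → a ∈ K) :
    K.relIndex A ∣ Δ.ncard :=
  CL.Perm.index_dvd_ncard_of_stab_le (K.subgroupOf A) Δ Δ.toFinite (fun a _ hy => smul_mem (h a.2) hy)
    fun y hy a ha => hK y hy a a.2 ha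

omit [Finite Ω] in
theorem exists_fixed [Fact p.Prime] (hA : IsPGroup p A) (h : A ≤ stabilizer G Δ) (hd : ¬ p ∣ Δ.ncard) :
    ∃ y ∈ Δ, ∀ a ∈ A, a • y = y :=
  let ⟨c, hc⟩ := hA.nonempty_fixed_point_of_prime_not_dvd_card (sub h) hd
  ⟨c, c.2, fun g hg => congrArg Subtype.val (hc ⟨g, hg⟩)⟩

omit [Finite Ω] in
theorem exists_pow_order [Finite G] [Fact p.Prime] (hA : IsPGroup p A) (hx : x ∈ A) (h1 : x ≠ 1) :
    ∃ n : ℕ, orderOf (x ^ n) = p :=
  ⟨_, orderOf_pow_orderOf_div (orderOf_pos x).ne' (prime_dvd_orderOf_of_mem_isPGroup hA hx h1)⟩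

omit [Finite Ω] in
theorem exists_central [Finite G] [Fact p.Prime] {U : Subgroup G} (hA : IsPGroup p A) (hU : U ≤ A) (hn : A ≤ 𝒩(U))
    (h : U ≠ ⊥) : ∃ z ∈ U, orderOf z = p ∧ A ≤ centralizer {z} := by
  obtain ⟨z, hz, z1, hc⟩ := exists_central_of_isNilpotent hA.isNilpotent hU hn h
  obtain ⟨n, hn⟩ := exists_pow_order hA (hU hz) z1
  exact ⟨_, pow_mem hz n, hn, fun a ha => mem_cent_singleton.2 (Commute.pow_right (mem_cent_singleton.1 (hc ha)) n)⟩

/-- `Big p m x`: the element `x` has order `p` and the largest possible number `m` of fixed points. -/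
def Big (Ω : Type*) [MulAction G Ω] (p m : ℕ) (x : G) : Prop := orderOf x = p ∧ (fixedBy Ω x).ncard = m

variable {m : ℕ}

omit [Finite Ω] in
theorem Big.conj (h : Big Ω p m x) (g : G) : Big Ω p m (g * x * g⁻¹) :=
  ⟨((MulAut.conj g).orderOf_eq x).trans h.1, (ncard_conj g x).trans h.2⟩

omit [Finite Ω] in
theorem Big.ne_one [Fact p.Prime] (h : Big Ω p m x) : x ≠ 1 := fun e =>
  (Fact.out : p.Prime).one_lt.ne (by simpa [e] using h.1)

omit [Finite Ω] in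
theorem Big.isPGroup (h : Big Ω p m x) : IsPGroup p (zpowers x) :=
  isPGroup_zpowers (k := 1) (by rw [pow_one, ← h.1, pow_orderOf_eq_one])

omit [Finite Ω] in
theorem Big.exists_mem [Finite G] [Fact p.Prime] (h : Big Ω p m x) (P : Sylow p G) : ∃ y, Big Ω p m y ∧ y ∈ P :=
  let ⟨g, hg⟩ := exists_conj_le_sylow P h.isPGroup
  ⟨_, h.conj g, hg (conj_mem_conj_smul g (mem_zpowers x))⟩

omit [Finite Ω] in
theorem uniq [Finite G] [Fact p.Prime] (P : Sylow p G) (hu : ∀ y ∈ P, Big Ω p m y → fixedBy Ω y = fixedBy Ω x)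
    (hx : x ∈ P) (h : Big Ω p m x) : (P : Subgroup G) ≤ stabilizer G (fixedBy Ω x) ∧
      ∀ y ∈ stabilizer G (fixedBy Ω x), Big Ω p m y → fixedBy Ω y = fixedBy Ω x := by
  have h1 : (P : Subgroup G) ≤ stabilizer G (fixedBy Ω x) := fun g hg => by
    rw [mem_stabilizer_iff, smul_fixedBy]
    exact hu _ (mul_mem (mul_mem hg hx) (inv_mem hg)) (h.conj g)
  refine ⟨h1, fun y hy hb => ?_⟩
  obtain ⟨g, hg, e⟩ := (isSylowIn_of_le P h1).exists_conj_le hb.isPGroup (zpowers_le.2 hy)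
  have := hu _ (e (conj_mem_conj_smul g (mem_zpowers y))) (hb.conj g)
  rwa [← smul_fixedBy, smul_eq_iff_eq_inv_smul, mem_stabilizer_iff.1 (inv_mem hg)] at this

theorem stab_ne_top [FaithfulSMul G Ω] [IsPretransitive G Ω] (h1 : x ≠ 1) (h : 1 ≤ (fixedBy Ω x).ncard) :
    stabilizer G (fixedBy Ω x) ≠ ⊤ := fun e => by
  obtain ⟨a, ha⟩ := (Set.ncard_pos (Set.toFinite _)).1 h
  refine h1 ((fixedBy_eq_univ_iff_eq_one (α := Ω)).1 (Set.eq_univ_of_forall fun b => ?_))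
  obtain ⟨g, rfl⟩ := exists_smul_eq G a b
  exact smul_mem (e ▸ mem_top g) ha

variable (hm : ∀ g : G, orderOf g = p → (fixedBy Ω g).ncard ≤ m)
include hm

theorem big_of (h : Δ.ncard = m) (hx : x ∈ fixingSubgroup G Δ) (ho : orderOf x = p) : fixedBy Ω x = Δ :=
  (Set.eq_of_subset_of_ncard_le (mem_fix.1 hx) (h ▸ hm x ho)).symm

theorem fixedBy_eq [Finite G] [Fact p.Prime] (h : Δ.ncard = m) (hA : IsPGroup p A) (hx : x ∈ A)
    (hx' : x ∈ fixingSubgroup G Δ) (h1 : x ≠ 1) : fixedBy Ω x = Δ :=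
  let ⟨n, hn⟩ := exists_pow_order hA hx h1
  ((fixedBy_pow x n).trans (big_of hm h (pow_mem hx' n) hn).le).antisymm (mem_fix.1 hx')

theorem inf_eq_bot [Finite G] [Fact p.Prime] {Δ' : Set Ω} (h : Δ.ncard = m) (h' : Δ'.ncard = m) (hne : Δ ≠ Δ')
    (hA : IsPGroup p A) : A ⊓ fixingSubgroup G Δ ⊓ fixingSubgroup G Δ' = ⊥ :=
  eq_bot_iff.2 fun _ hx => by_contra fun e =>
    hne ((fixedBy_eq hm h hA hx.1.1 hx.1.2 e).symm.trans (fixedBy_eq hm h' hA hx.1.1 hx.2 e))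

end CL.Fix4
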