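/-
Project HIR (S2208): the affine plane.
-/
import Cfsg.Agent.Perm.Hir1

set_option autoImplicit false
set_option linter.unusedSectionVars false
open Cfsg Subgroup MulAction CL.Even CL.Grp CL.Loc
open CL.Bender (Fx st2)

namespace CL.Hir

universe u v

namespace F1P

variable {G : Type*} [Group G] {Ω : Type*} [MulAction G Ω] {N : Ω → Subgroup G} {f : ℕ} {A B C S : Subgroup G}
  {c : Ω} {s t : G}

variable (Ω) in
/-- parallel blocks -/
def Par (A B : Subgroup G) : Prop := A = B ∨ ∀ c : Ω, Fx A c → ¬ Fx B c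

theorem Par.rfl : Par Ω A A := Or.inl (Eq.refl A)

theorem Par.symm (h : Par Ω A B) : Par Ω B A := h.imp Eq.symm fun h c a b => h c b a

theorem Par.cj (h : Par Ω A B) (g : G) : Par Ω (cj g A) (cj g B) :=
  h.imp (congrArg _) fun h c a b => by
    rw [← smul_inv_smul g c, fx_cj] at a b
    exact h _ a b

theorem Par.eq (h : Par Ω A B) (ha : Fx A c) (hb : Fx B c) : A = B := h.resolve_right fun h => h c ha hb

theorem sq_closure {X : Set G} (h1 : ∀ x ∈ X, x * x = 1) (h2 : ∀ x ∈ X, ∀ y ∈ X, x * y = y * x) :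
    IsPGroup 2 (closure X) := by
  have h3 : closure X ≤ 𝒞(closure X) :=
    (closure_le _).2 fun x hx => le_centralizer_iff.1 ((closure_le _).2 fun y hy =>
      mem_centralizer_iff.2 fun z hz => by
        obtain ⟨k, rfl⟩ := mem_zpowers_iff.1 hz
        exact (Commute.zpow_left (h2 x hx y hy) k).eq) (mem_zpowers x)
  refine isPGroup_iff_forall.2 fun x hx => ⟨1, ?_⟩
  rw [pow_one, sq]
  induction hx using closure_induction with
  | mem x hx => exact h1 x hx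
  | one => simp
  | mul a b ha hb ia ib => rw [mul_assoc, ← mul_assoc b, comm_of_mem (h3 ha) hb, mul_assoc, ib, mul_one, ia]
  | inv a _ ia => rw [← mul_inv_rev, ia, inv_one]

variable [Finite G] [Finite Ω] (h : FS N f) (hf : ∀ S, Blk N S → Nat.card S = f)
include h

theorem exists_blk (a b : Ω) : ∃ B, Blk N B ∧ Fx B a ∧ Fx B b :=
  let ⟨B, h1, h2⟩ := h.thru a b
  ⟨B, ⟨a, h1⟩, h.toHyp.syl_fix h1, h.toHyp.syl_fix h2⟩

theorem exists_par (hS : Blk N S) (hc : ¬ Fx S c) (hs : s ∈ S) (h1 : s ≠ 1) (h2 : s * s = 1) :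
    ∃ B, Blk N B ∧ Fx B c ∧ s ∈ 𝒩(B) ∧ ∀ d : Ω, Fx B d → ¬ Fx S d := by
  obtain ⟨B, hB, b1, b2⟩ := exists_blk h c (s • c)
  have hn := h.norm_of_two hB (fun e => hc ((h.fix_iff hS hs h1).1 e.symm)) b1 b2 b2
    (by rwa [← mul_smul, h2, one_smul])
  exact ⟨B, hB, b1, hn, fun d d1 d2 => h.not_fix_of_norm hB hS (fun e => hc (e ▸ b1)) hs hn h1 d1 (d2 s hs)⟩

theorem exists_inv (hS : Blk N S) : ∃ s ∈ S, s ≠ 1 ∧ s * s = 1 := by
  obtain ⟨a, ha⟩ := hS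
  obtain ⟨Z, hZ⟩ := h.ben a S ha
  obtain ⟨z, hz, h1⟩ := hZ.exists_Z
  exact ⟨z, hZ.Z_le hz, h1, hZ.Z_sq hz⟩

theorem exists_par' (hS : Blk N S) (c : Ω) : ∃ B, IsSylowIn 2 B (N c) ∧ Par Ω B S := by
  by_cases hc : Fx S c
  · exact ⟨S, (h.syl_iff hS).2 hc, Par.rfl⟩
  obtain ⟨s, hs, h1, h2⟩ := exists_inv h hS
  obtain ⟨B, hB, b1, -, b2⟩ := exists_par h hS hc hs h1 h2
  exact ⟨B, (h.syl_iff hB).2 b1, Or.inr b2⟩

include hf

theorem uniq_par (hS : Blk N S) (hA : Blk N A) (hB : Blk N B) (a1 : Fx A c) (b1 : Fx B c)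
    (a2 : ∀ d : Ω, Fx A d → ¬ Fx S d) (b2 : ∀ d : Ω, Fx B d → ¬ Fx S d) : A = B := by
  by_contra hne
  have hA' := (h.syl_iff hA).2 a1
  have hB' := (h.syl_iff hB).2 b1
  obtain ⟨Z, hZ⟩ := h.ben c A hA'
  choose k k1 k2 k3 using exists_blk h c
  have h1 := Set.ncard_le_ncard_of_injOn (s := Pt Ω S) (t := {T₁ | IsSylowIn 2 T₁ (N c)} \ {A, B}) k
    (fun d hd => ⟨(h.syl_iff (k1 d)).2 (k2 d), by
      rintro (e | e)
      exacts [a2 d (e ▸ k3 d) hd, b2 d (e ▸ k3 d) hd]⟩)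
    (fun d hd d' hd' e => by_contra fun hn => a2 c a1
      (h.eq_of_two (k1 d) hS hn (k3 d) (e ▸ k3 d') hd hd' ▸ k2 d)) (Set.toFinite _)
  rw [h.card_pt S hS, Set.ncard_sdiff (by rintro _ (rfl | rfl); exacts [hA', hB']), hZ.card_syl, hf A hA,
    Set.ncard_pair hne] at h1
  have := h.two_le
  omega

theorem Par.trans (hA : Blk N A) (hB : Blk N B) (hC : Blk N C) (h1 : Par Ω A B) (h2 : Par Ω B C) : Par Ω A C := by
  rcases h1 with rfl | h1
  · exact h2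
  rcases h2.symm with rfl | h2
  · exact Or.inr h1
  exact or_iff_not_imp_left.2 fun e c a b => e (uniq_par h hf hB hA hC a b h1 h2)

theorem norm_of_par (hA : Blk N A) (hB : Blk N B) (hp : ∀ c : Ω, Fx A c → ¬ Fx B c) (hs : s ∈ B) (h2 : s * s = 1) :
    s ∈ 𝒩(A) := by
  by_cases h1 : s = 1
  · exact h1 ▸ one_mem _
  obtain ⟨c, hc⟩ := id hA
  have hc' := h.toHyp.syl_fix hc
  obtain ⟨C, hC, c1, c2, c3⟩ := exists_par h hB (hp c hc') hs h1 h2
  exact uniq_par h hf hB hC hA c1 hc' c3 hp ▸ c2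

theorem comm_of_par (hA : Blk N A) (hB : Blk N B) (hp : Par Ω A B) (hs : s ∈ A) (ht : t ∈ B) (s2 : s * s = 1)
    (t2 : t * t = 1) : s * t = t * s := by
  obtain ⟨c, hc⟩ := id hA
  rcases hp with rfl | hp
  · obtain ⟨Z, hZ⟩ := h.ben c A hc
    exact hZ.Z_comm (hZ.mk_Z hs s2) ht
  by_contra hne
  have n1 := norm_of_par h hf hA hB hp ht t2
  have n2 := norm_of_par h hf hB hA (fun c a b => hp c b a) hs s2
  have e := h.blk_eq hA hB (x := s * t * s⁻¹ * t⁻¹)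
    (by rw [mul_assoc, mul_assoc, ← mul_assoc t]; exact mul_mem hs (conj_mem n1 (inv_mem hs)))
    (mul_mem (conj_mem n2 ht) (inv_mem ht)) fun e => hne (by rwa [mul_inv_eq_one, mul_inv_eq_iff_eq_mul] at e)
  exact hp c (h.toHyp.syl_fix hc) (e ▸ h.toHyp.syl_fix hc)

/-- the kernel of the action on the parallel classes -/
def ker : Subgroup G where
  carrier := {g | ∀ S, Blk N S → Par Ω (cj g S) S}
  one_mem' S _ := by rw [cj_one]; exact Par.rfl
  mul_mem' {a b} ha hb S hS := by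
    rw [cj_mul]
    exact Par.trans h hf (h.toHyp.blk_cj (h.toHyp.blk_cj hS b) a) (h.toHyp.blk_cj hS b) hS
      (ha _ (h.toHyp.blk_cj hS b)) (hb S hS)
  inv_mem' {a} ha S hS := by simpa only [cj_inv_cj] using ((ha S hS).cj a⁻¹).symm

theorem ker_normal : (ker h hf).Normal := ⟨fun g hg k S hS => by
  have := (hg _ (h.toHyp.blk_cj hS k⁻¹)).cj k
  rwa [cj_cj_inv, ← cj_mul, ← cj_mul] at this⟩

theorem exists_core {T : Subgroup G} (hT : Blk N T) (hA : Blk N A) (hp : Par Ω A T) (hs : s ∈ T) (ht : t ∈ A)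
    (s2 : s * s = 1) (t2 : t * t = 1) (h1 : s * t ≠ 1) (hk : s * t ∈ ker h hf) :
    ∃ R : Subgroup G, R.Normal ∧ R ≠ ⊥ ∧ IsPGroup 2 R := by
  let X : Set G := {x | x * x = 1 ∧ ∃ S, Blk N S ∧ Par Ω S T ∧ x ∈ S}
  have hE : IsPGroup 2 (closure X) := sq_closure (fun x hx => hx.1) fun x ⟨x2, S, a1, a2, a3⟩ y ⟨y2, S', b1, b2, b3⟩ =>
    comm_of_par h hf a1 b1 (Par.trans h hf a1 hT b1 a2 b2.symm) a3 b3 x2 y2
  have hn : ker h hf ≤ 𝒩(closure X) := le_norm_of_cj_le fun g hg => by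
    refine map_le_iff_le_comap.2 ((closure_le _).2 ?_)
    rintro x ⟨x2, S, a1, a2, a3⟩
    exact subset_closure ⟨by simp [conj_mul, x2], cj g S, h.toHyp.blk_cj a1 g,
      Par.trans h hf (h.toHyp.blk_cj a1 g) a1 hT (hg S a1) a2, conj_mem_cj g a3⟩
  have hle := le_core (p := 2) (inf_le_left : ker h hf ⊓ closure X ≤ _) (hE.to_le inf_le_right)
    (le_norm_inf le_normalizer hn)
  have := ker_normal h hf
  refine ⟨pCoreOf 2 (ker h hf), normalizer_eq_top_iff.1 (top_le_iff.1 ?_), fun e => h1 ?_, core_isP _⟩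
  · exact (normalizer_eq_top (ker h hf)).ge.trans (norm_le_norm_core _)
  · exact mem_bot.1 (e ▸ hle ⟨hk, mul_mem (subset_closure ⟨s2, T, hT, Par.rfl, hs⟩)
      (subset_closure ⟨t2, A, hA, hp, ht⟩)⟩)

end F1P

open F1P in
theorem f1 : F1.{u, v} := by
  intro G Ω _ _ _ _ N f T T' h hp hn
  have hT := hp.blk
  have hT' := hp.blk'
  have e1 : Nat.card T = f := by rw [← hp.card_R', inf_eq_left.2 hn]
  have hf : ∀ S, Blk N S → Nat.card S = f := fun S hS => (h.toHyp.card_blk hS hT).trans e1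
  have hn' : T' ≤ 𝒩(T) := inf_eq_left.1 (eq_of_le_of_card_ge inf_le_left (by rw [hp.card_R, hf T' hT']))
  obtain ⟨z, hz, z1, z2⟩ := exists_inv h hT'
  have zc : ∀ y ∈ T, y * z = z * y := fun y hy =>
    mem_centralizer_singleton_iff.1 ((hp.cR z ⟨hz, hn' hz⟩ z1).ge ⟨hy, hn hy⟩).2
  have hpar : Par Ω T' T := Or.inr fun c a b => h.not_fix_of_norm hT hT' hp.ne hz (hn' hz) z1 b (a z hz)
  obtain ⟨a, ha⟩ := id hT
  obtain ⟨Z, hZ⟩ := h.ben a T ha
  obtain ⟨S₁, s1, n1⟩ := hZ.ex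
  have bl : ∀ {S}, IsSylowIn 2 S (N a) → Blk N S := fun h => ⟨a, h⟩
  have cb : ∀ {S}, Blk N S → ∀ g, Blk N (cj g S) := h.toHyp.blk_cj
  have fx : ∀ {S}, IsSylowIn 2 S (N a) → Fx S a := h.toHyp.syl_fix
  have zz : ∀ S, cj z (cj z S) = S := fun S => by rw [← cj_mul, z2, cj_one]
  obtain ⟨S₂, s2, p2⟩ := exists_par' h (cb (bl s1) z) a
  obtain ⟨x, hx, rfl⟩ := hZ.reg S₁ S₂ s1 s2 n1 fun e => n1 (by
    have := p2.cj z
    rw [zz, e, cj_eq (hn' hz)] at this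
    exact (this.eq (fx ha) (fx s1)).symm)
  have sy : ∀ y ∈ T, IsSylowIn 2 (cj y S₁) (N a) := fun y hy => syl_cj_of_mem_norm s1 (le_normalizer (hZ.le hy))
  have x2 : x * x = 1 := by
    refine hZ.free _ (mul_mem hx hx) S₁ s1 n1 (cj_eq_iff_mem.1 (Par.eq ?_ (fx (sy _ (mul_mem hx hx))) (fx s1)))
    have q1 := p2.cj x
    have q2 := p2.cj z
    rw [zz, ← cj_mul, ← zc x hx, cj_mul] at q2
    rw [cj_mul]
    exact Par.trans h hf (cb (cb (bl s1) x) x) (cb (cb (bl s1) z) x) (bl s1) q1 q2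
  have p3 : Par Ω (cj (x * z) S₁) S₁ := by
    have := (p2.cj x).symm
    rwa [← cj_mul, ← cj_mul, x2, cj_one] at this
  have p4 : ∀ S, IsSylowIn 2 S (N a) → Par Ω (cj (x * z) S) S := fun S hS => by
    by_cases e : S = T
    · rw [e, cj_eq (mul_mem (le_normalizer hx) (hn' hz))]; exact Par.rfl
    obtain ⟨y, hy, rfl⟩ := hZ.reg S₁ S s1 hS n1 e
    rw [← cj_mul, mul_assoc, ← zc y hy, ← mul_assoc, hZ.Z_comm (hZ.mk_Z hx x2) hy, mul_assoc, cj_mul]
    exact p3.cj y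
  refine exists_core h hf hT hT' hpar hx hz x2 z2 (fun e => hp.ne (h.blk_eq hT hT' ?_ hz z1)) fun S hS => ?_
  · exact eq_inv_of_mul_eq_one_right e ▸ inv_mem hx
  · obtain ⟨B, b1, b2⟩ := exists_par' h hS a
    exact Par.trans h hf (cb hS _) (cb (bl b1) _) hS (b2.symm.cj _)
      (Par.trans h hf (cb (bl b1) _) (bl b1) hS (p4 B b1) b2)

end CL.Hir
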