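/-
Project HIR (S2208), part F2: the Sylow groups of `Sz(q)` and `U₃(q)` do not occur.
-/
import Cfsg.Agent.Perm.Hir1
import Cfsg.Agent.ZD.SzTwo
import Cfsg.Agent.Grp.PGroupBasic

set_option autoImplicit false
set_option linter.unusedSectionVars false
open Cfsg Subgroup MulAction CL.Even CL.Grp CL.Loc
open CL.Bender (Fx st2)
open CL.ZD (inv_of_sq SzT szTwo)

namespace CL.Hir

universe u v

variable {G : Type*} [Group G] [Finite G] {L T Z R R' : Subgroup G}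

theorem f2_shift (S : Set G) (x : G) : {y | x * y ∈ S}.ncard = S.ncard :=
  Set.ncard_preimage_of_injective_subset_range (f := (x * ·)) (mul_right_injective x) fun y _ => ⟨x⁻¹ * y, by simp⟩

theorem f2_onto {α : Type*} {M : Subgroup G} (f : α → G) (hf : Function.Injective f) (hm : ∀ a, f a ∈ M)
    (hc : Nat.card M ≤ Nat.card α) {y : G} (hy : y ∈ M) : ∃ a, f a = y := by
  obtain ⟨a, e⟩ := (Function.Injective.bijective_of_nat_card_le (f := fun a => (⟨f a, hm a⟩ : M))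
    (fun a b e => hf (congrArg Subtype.val e)) hc).2 ⟨y, hy⟩
  exact ⟨a, congrArg Subtype.val e⟩

theorem f2_le {α : Type*} {M : Subgroup G} (f : α → G) (hf : Function.Injective f) (hm : ∀ a, f a ∈ M) :
    Nat.card α ≤ Nat.card M :=
  Nat.card_le_card_of_injective (fun a => (⟨f a, hm a⟩ : M)) fun _ _ e => hf (congrArg Subtype.val e)

/-- the local configuration -/
structure F2Loc (L T Z R R' : Subgroup G) : Prop where
  bs : BSc L T Z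
  two : IsPGroup 2 R
  norm : R ≤ 𝒩(T)
  le : Z ≤ R'
  card : Nat.card R = Nat.card R'
  cR : ∀ ρ ∈ R, ρ ≠ 1 → T ⊓ centralizer {ρ} = R'
  ex : ∃ w ∈ T, w ∉ R'

theorem BSc.f2_inv (h : BSc L T Z) {g x : G} (hc : g ∈ 𝒞(Z)) (hx : x ∈ T) :
    x⁻¹ * (g * x * g⁻¹) * x * (x⁻¹ * (g * x * g⁻¹)) = x := by
  calc _ = x⁻¹ * (g * (x * x) * g⁻¹) := by group
    _ = x := by rw [conj_eq_of_mem hc (h.sq_mem x hx), inv_mul_cancel_left]

theorem BSc.f2_comm (h : BSc L T Z) {g x w : G} (hn : g ∈ 𝒩(T)) (hc : g ∈ 𝒞(Z)) (hx : x ∈ T) (hw : w ∈ T)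
    (hz : w⁻¹ * (g * w * g⁻¹) ∈ Z) : w * (x⁻¹ * (g * x * g⁻¹)) = x⁻¹ * (g * x * g⁻¹) * w := by
  have h1 := conj_eq_of_mem hc (h.comm_mem hw hx)
  have h2 := h.Z_comm hz (conj_mem hn hx)
  have h3 := h.Z_comm hz hw
  have h4 := h.Z_comm hz (conj_mem (le_normalizer (conj_mem hn hx)) hw)
  rw [show g * (w⁻¹ * (x * w * x⁻¹)) * g⁻¹ =
    (w * (w⁻¹ * (g * w * g⁻¹)))⁻¹ * (g * x * g⁻¹ * (w * (w⁻¹ * (g * w * g⁻¹))) * (g * x * g⁻¹)⁻¹) by group] at h1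
  generalize w⁻¹ * (g * w * g⁻¹) = z at *
  generalize g * x * g⁻¹ = y at *
  have h5 : y * (w * z) * y⁻¹ = z * (y * w * y⁻¹) := by rw [h4, mul_assoc _ y⁻¹, ← mul_assoc y, mul_assoc _ z,
    show z * y⁻¹ = y⁻¹ * z from (Commute.inv_right h2).eq]
  rw [h5, ← h3, mul_inv_rev, mul_assoc, inv_mul_cancel_left, mul_right_inj] at h1
  calc _ = x⁻¹ * (x * w * x⁻¹) * y := by group
    _ = _ := by rw [← h1]; group

namespace F2Loc

variable (h : F2Loc L T Z R R')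
include h

theorem cent {ρ : G} (hρ : ρ ∈ R) : ρ ∈ 𝒞(Z) := by
  by_cases e : ρ = 1
  · exact e ▸ one_mem _
  · exact mem_centralizer_iff.2 fun z hz => mem_centralizer_singleton_iff.1 (h.cR ρ hρ e ▸ h.le hz).2

theorem inj {w : G} (hw : w ∈ T) (hw' : w ∉ R') : Function.Injective fun ρ : R => w⁻¹ * (ρ * w * (ρ : G)⁻¹) :=
  fun a b e => by
  by_contra hne
  refine hw' (h.cR _ (b⁻¹ * a).2 (fun e => hne (inv_mul_eq_one.1 (Subtype.ext e)).symm) ▸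
    ⟨hw, mem_centralizer_singleton_iff.2 ?_⟩)
  calc _ = (b : G)⁻¹ * (b * w * (b : G)⁻¹) * a := by simp [mul_assoc]
    _ = _ := by rw [← mul_left_cancel e]; simp [mul_assoc]

theorem card_ge : Nat.card Z ≤ Nat.card R := h.card ▸ card_le_of_le h.le

theorem not_eq : T ≠ Z := fun e => let ⟨_, h1, h2⟩ := h.ex; h2 (h.le (e ▸ h1))

theorem sz (hs : SzT T Z) : Nat.card R = Nat.card Z := by
  obtain ⟨w, h1, h2⟩ := h.ex
  refine le_antisymm (f2_le _ (h.inj h1 h2) fun ρ => hs.sq_inj w h1 _ (conj_mem (h.norm ρ.2) h1) ?_) h.card_ge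
  rw [conj_mul, conj_eq_of_mem (h.cent ρ.2) (h.bs.sq_mem w h1)]

theorem not_u3 (hu : U3L T Z) : False := by
  have hb := h.bs
  obtain ⟨v, hv, hvZ, hvR⟩ : ∃ v ∈ T, v ∉ Z ∧ ∀ ρ ∈ R, v⁻¹ * (ρ * v * ρ⁻¹) ∈ Z := by
    have n1 : R ⊔ T ≤ 𝒩(T) := sup_le h.norm le_normalizer
    have := normal_subgroupOf_of_le_normalizer n1
    have := normal_subgroupOf_of_le_normalizer (n1.trans hb.norm_Z)
    obtain ⟨x, h1, h2, -, h3⟩ := exists_central_mod_of_not_le (isPGroup_sup h.two hb.two h.norm)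
      (N := Z.subgroupOf (R ⊔ T)) (M := T.subgroupOf (R ⊔ T)) fun e =>
        h.not_eq (le_antisymm (fun x hx => e (x := ⟨x, mem_sup_right hx⟩) hx) hb.Z_le)
    exact ⟨x⁻¹, inv_mem h1, fun e => h2 (inv_mem_iff.1 e), fun ρ hρ => by
      simpa [commutatorElement_def, mul_assoc, mem_subgroupOf] using h3 ⟨ρ, mem_sup_left hρ⟩⟩
  have cT : ∀ ρ ∈ R, ∀ x ∈ T, x⁻¹ * (ρ * x * ρ⁻¹) ∈ T := fun ρ hρ x hx => mul_mem (inv_mem hx) (conj_mem (h.norm hρ) hx)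
  have cl : ∀ ρ ∈ R, ∀ x ∈ T, x⁻¹ * (ρ * x * ρ⁻¹) ∈ T ⊓ centralizer {v} := fun ρ hρ x hx =>
    ⟨cT ρ hρ x hx, mem_centralizer_singleton_iff.2 (hb.f2_comm (h.norm hρ) (h.cent hρ) hx hv (hvR ρ hρ)).symm⟩
  have c1 := hu.line_card v hv hvZ
  have c2 := hu.card
  have c3 := hb.four_le
  have fin : ∀ M : Subgroup G, Nat.card M ≤ Nat.card Z ^ 2 → (∀ w ∈ T, w ∉ M → v * w * v = w) → False := fun M h1 h2 => by
    have h3 : ∀ x, ((M : Set G) ∪ {y | x * y ∈ (T ⊓ centralizer {v} : Subgroup G)}).ncard < (T : Set G).ncard := fun x => by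
      refine (Set.ncard_union_le _ _).trans_lt ?_
      erw [f2_shift]
      change Nat.card M + Nat.card (T ⊓ centralizer {v} : Subgroup G) < Nat.card T
      nlinarith [Nat.pow_pos (n := 2) (show 0 < Nat.card Z by omega)]
    obtain ⟨w, a1, a2⟩ := Set.exists_mem_notMem_of_ncard_lt_ncard (h3 1)
    obtain ⟨x, b1, b2⟩ := Set.exists_mem_notMem_of_ncard_lt_ncard (h3 w⁻¹)
    refine b2 (Or.inr ⟨T.mul_mem (T.inv_mem a1) b1, mem_centralizer_singleton_iff.2 ?_⟩)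
    calc _ = w⁻¹ * v⁻¹ * (v * x * v) := by group
      _ = v * ((v * w * v)⁻¹ * x) := by rw [h2 x b1 fun e => b2 (Or.inl e)]; group
      _ = _ := by rw [h2 w a1 fun e => a2 (Or.inl e)]
  have vl : v ∈ T ⊓ centralizer {v} := ⟨hv, mem_centralizer_singleton_iff.2 rfl⟩
  by_cases h0 : ∃ ρ ∈ R, ρ ≠ 1 ∧ ∀ x ∈ T, x⁻¹ * (ρ * x * ρ⁻¹) ∈ Z
  · obtain ⟨ρ, a1, a2, a3⟩ := h0
    have b1 := ((centralizer {ρ}).subgroupOf T).card_mul_index
    have b2 : (centralizer {ρ}).relIndex T ≤ Nat.card Z := by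
      rw [CL.ZD.a1_relIndex_cent]
      refine le_trans (Set.ncard_le_ncard (t := (· * ρ) '' Z) ?_) (Set.ncard_image_le (s := (Z : Set G)))
      rintro _ ⟨x, hx, rfl⟩
      exact ⟨_, a3 _ (inv_mem hx), by group⟩
    rw [← relIndex, ← inf_subgroupOf_left, Nat.card_congr (subgroupOfEquivOfLe inf_le_left).toEquiv, h.cR ρ a1 a2,
      ← h.card] at b1
    have b3 : Nat.card Z ^ 2 ≤ Nat.card R := Nat.le_of_mul_le_mul_right (c := Nat.card Z)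
      (by rw [← pow_succ, ← c2, ← b1]; exact Nat.mul_le_mul_left _ b2) (by omega)
    obtain ⟨w, d1, d2⟩ := h.ex
    refine fin R' (by rw [← h.card, ← c1]; exact f2_le _ (h.inj d1 d2) fun σ => cl σ σ.2 w d1) fun w d1 d2 => ?_
    obtain ⟨σ, e⟩ := f2_onto _ (h.inj d1 d2) (fun σ => cl σ σ.2 w d1) (c1 ▸ b3) vl
    exact e ▸ hb.f2_inv (h.cent σ.2) d1
  refine fin _ c1.le fun w d1 d2 => ?_
  obtain ⟨⟨σ, z⟩, e⟩ := f2_onto (fun p : R × Z => w⁻¹ * (p.1 * w * (p.1 : G)⁻¹) * p.2) (fun a b e => by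
    beta_reduce at e
    have e1 : w⁻¹ * ((b.1⁻¹ * a.1 : R) * w * ((b.1⁻¹ * a.1 : R) : G)⁻¹) = b.2 * (a.2 : G)⁻¹ := by
      have e2 := conj_eq_of_mem (inv_mem (h.cent b.1.2)) (mul_mem b.2.2 (inv_mem a.2.2))
      calc _ = w⁻¹ * (b.1 : G)⁻¹ * w * (w⁻¹ * (a.1 * w * (a.1 : G)⁻¹) * a.2) * (a.2 : G)⁻¹ * b.1 := by simp [mul_assoc]
        _ = (b.1 : G)⁻¹ * (b.2 * (a.2 : G)⁻¹) * (b.1 : G)⁻¹⁻¹ := by rw [e]; group
        _ = _ := e2
    have e3 : b.1⁻¹ * a.1 = 1 := by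
      by_contra e4
      refine h0 ⟨_, (b.1⁻¹ * a.1).2, fun e => e4 (Subtype.ext e), fun x hx => by_contra fun e5 => d2 ⟨d1, ?_⟩⟩
      have f1 := cl _ (b.1⁻¹ * a.1).2 x hx
      exact mem_centralizer_singleton_iff.2 (hu.line_comm _ f1.1 e5 w d1 v hv
        (hb.f2_comm (h.norm (b.1⁻¹ * a.1).2) (h.cent (b.1⁻¹ * a.1).2) hx d1
          (e1 ▸ mul_mem b.2.2 (inv_mem a.2.2))).symm (mem_centralizer_singleton_iff.1 f1.2))
    have e4 := (inv_mul_eq_one.1 e3).symm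
    refine Prod.ext e4 (Subtype.ext ?_)
    simpa [e4] using e)
    (fun p => mul_mem (cl _ p.1.2 w d1) ⟨hb.Z_le p.2.2, mem_centralizer_singleton_iff.2 (hb.Z_comm p.2.2 hv)⟩)
    (by rw [c1, Nat.card_prod, sq]; exact Nat.mul_le_mul_right _ h.card_ge) vl
  have e1 := hb.f2_inv (h.cent σ.2) d1
  have e2 := hb.Z_comm z.2 (mul_mem d1 (cT _ σ.2 w d1))
  simp only at e
  rw [← e]
  generalize w⁻¹ * (σ * w * (σ : G)⁻¹) = y at *
  calc _ = y * (z * (w * y)) * z := by group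
    _ = y * w * y * (z * z) := by rw [e2]; group
    _ = _ := by rw [e1, hb.Z_sq z.2, mul_one]

end F2Loc

theorem BSc.f2_sz (h : BSc L T Z) (hs : SzT T Z) {g : G} (hg : g ∈ 𝒩(T)) (h2 : g * g = 1) : g ∈ 𝒞(Z) :=
  szTwo G T Z Z g h.Z_le h.cent le_rfl h.sq_mem (fun x hx => ⟨h.mk_Z hx, h.Z_sq⟩) hs.sq_inj hs.cent_le
    (by rw [hs.card, sq]) hg (h.norm_Z hg) (h2 ▸ one_mem _)

theorem f2_count (hs : SzT T Z) {s : G}
    (hX : Nat.card Z * (Nat.card Z - 1) ≤ {x | x ∈ T ∧ s * x * s⁻¹ = x⁻¹}.ncard) : False := by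
  have c1 := hs.card
  have c2 := hs.eight_le
  obtain ⟨q, hq⟩ : ∃ q, Nat.card Z = q + 1 := ⟨_, (Nat.sub_add_cancel (by omega)).symm⟩
  rw [hq, Nat.add_sub_cancel] at hX
  generalize hX' : {x | x ∈ T ∧ s * x * s⁻¹ = x⁻¹} = X at hX
  have m : ∀ x, x ∈ X ↔ x ∈ T ∧ s * x * s⁻¹ = x⁻¹ := fun x => by rw [← hX']; rfl
  have c3 : ((T : Set G) \ X).ncard + X.ncard = Nat.card T := Set.ncard_sdiff_add_ncard_of_subset fun x hx => ((m x).1 hx).1
  obtain ⟨x, a1, a2⟩ := Set.exists_mem_notMem_of_ncard_lt_ncard (s := Z) (t := X) (by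
    change Nat.card Z < _; nlinarith)
  obtain ⟨a3, a4⟩ := (m x).1 a1
  have c4 : (T : Set G) ⊆ ((T \ X) ∪ {y | x * y ∈ (T : Set G) \ X}) ∪ (Z ∪ {y | x⁻¹ * y ∈ (Z : Set G)}) := fun y hy => by
    by_cases b1 : y ∈ X
    · by_cases b2 : x * y ∈ X
      · refine Or.inr (hs.cent_le x a3 a2 y hy (inv_injective ?_))
        rw [← ((m _).1 b2).2, ← conj_mul, a4, ((m _).1 b1).2, mul_inv_rev]
      · exact Or.inl (Or.inr ⟨T.mul_mem a3 hy, b2⟩)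
    · exact Or.inl (Or.inl ⟨hy, b1⟩)
  have c5 := ((Set.ncard_le_ncard c4).trans (Set.ncard_union_le _ _)).trans
    (Nat.add_le_add (Set.ncard_union_le _ _) (Set.ncard_union_le _ _))
  rw [f2_shift, f2_shift] at c5
  change Nat.card T ≤ _ + (Nat.card Z + Nat.card Z) at c5
  rw [hq] at c1 c2 c5
  nlinarith

theorem f2 : F2.{u, v} := by
  intro G Ω _ _ _ _ N f T T' h p hz
  by_contra hne
  obtain ⟨a, ha⟩ := p.blk
  obtain ⟨Z, hZ⟩ := h.ben a T ha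
  have hb := hZ.toBSc
  obtain ⟨a', ha'⟩ := p.blk'
  have l : F2Loc (N a) T Z (T' ⊓ 𝒩(T)) (T ⊓ 𝒩(T')) := ⟨hb, ha'.2.1.to_le inf_le_left, inf_le_right,
    fun z h1 => ⟨hb.Z_le h1, hz z (hb.Z_le h1) (hb.Z_sq h1)⟩, p.card_R.trans p.card_R'.symm, p.cR, by
      obtain ⟨w, h1, h2⟩ := SetLike.not_le_iff_exists.1 hne
      exact ⟨w, h1, fun e => h2 e.2⟩⟩
  have hs : SzT T Z := (hb.cases.resolve_left l.not_eq).resolve_right l.not_u3
  have hf : f = Nat.card Z := p.card_R.symm.trans (l.sz hs)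
  have c1 := hs.card
  have c2 := hs.eight_le
  have fa : Fx T a := h.toHyp.syl_fix ha
  have cp := h.card_pt T p.blk
  obtain ⟨b, fb, hab⟩ := Set.exists_ne_of_one_lt_ncard (s := Pt Ω T) (by omega) a
  obtain ⟨z, z1, z2⟩ := hb.exists_Z
  have key : ∀ U ∈ {U | Blk N U ∧ U ≠ T ∧ z ∈ 𝒩(U)}, ∃ s ∈ U, s * s = 1 ∧ s • a = b ∧ s ∈ 𝒞(Z) := by
    rintro U ⟨⟨c, hc⟩, u1, u2⟩
    obtain ⟨Y, hY⟩ := h.ben c U hc
    have hy := hY.toBSc
    have d1 := h.toHyp.card_blk p.blk ⟨c, hc⟩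
    have d2 := h.toHyp.card_Z hb hy
    have hs' : SzT U Y := by
      rcases hy.cases with e | e | e
      · rw [e, ← d2] at d1; nlinarith
      · exact e
      · rw [e.card, ← d2, c1] at d1
        have := Nat.pow_right_injective (show 2 ≤ Nat.card Z by omega) d1
        omega
    have d3 : ∀ s ∈ Y, s ∈ 𝒩(T) := fun s hs => h.norm_of_comm p.blk (hb.Z_le z1) z2
      (comm_of_mem (hy.f2_sz hs' u2 (hb.Z_sq z1)) hs)
    obtain ⟨s, e⟩ := (Function.Injective.bijective_of_nat_card_le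
      (f := fun s : Y => (⟨(s : G) • a, fx_smul (d3 s s.2) fa⟩ : Pt Ω T)) (fun s t e => by
        by_contra e1
        refine h.not_fix_of_norm p.blk ⟨c, hc⟩ u1.symm (hy.Z_le (t⁻¹ * s).2) (d3 _ (t⁻¹ * s).2)
          (fun e => e1 (inv_mul_eq_one.1 (Subtype.ext e)).symm) fa ?_
        rw [coe_mul, mul_smul, Subtype.mk.inj e, coe_inv, inv_smul_smul])
      (by rw [Nat.card_coe_set_eq, cp, hf, d2])).2 ⟨b, fb⟩
    exact ⟨s, hy.Z_le s.2, hy.Z_sq s.2, Subtype.mk.inj e, hb.f2_sz hs (d3 s s.2) (hy.Z_sq s.2)⟩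
  have c3 := h.nbs T p.blk z (hb.Z_le z1) z2 (hb.Z_sq z1)
  rw [hf, c1, sq, mul_right_comm] at c3
  replace c3 := Nat.eq_of_mul_eq_mul_right (by omega) c3
  obtain ⟨U₁, hU₁⟩ := Set.nonempty_of_ncard_ne_zero (s := {U | Blk N U ∧ U ≠ T ∧ z ∈ 𝒩(U)})
    (c3 ▸ Nat.mul_ne_zero (by omega) (by omega))
  obtain ⟨s₁, -, e1, e2, e3⟩ := key U₁ hU₁
  choose! s s1 s2 s3 s4 using key
  refine f2_count hs (s := s₁) (c3 ▸ Set.ncard_le_ncard_of_injOn (fun U => s U * s₁) (fun U hU => ⟨?_, ?_⟩)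
    fun U hU U' hU' e => h.blk_eq hU.1 hU'.1 (s1 U hU) (mul_right_cancel e ▸ s1 U' hU') fun e => hab ?_)
  · have f1 : s U • b = a := by rw [← s3 U hU, ← mul_smul, s2 U hU, one_smul]
    have f2 : s₁ • b = a := by rw [← e2, ← mul_smul, e1, one_smul]
    obtain ⟨x, x1, x2⟩ := hb.centB (fun e => by
      have := Nat.pow_right_injective (show 2 ≤ Nat.card Z by omega) (c1.symm.trans e)
      omega) (s U * s₁) (h.toHyp.norm (by rw [mul_smul, e2, f1])) (mul_mem (s4 U hU) e3)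
    have := h.csr a b hab.symm _ x2 (by rw [mul_smul, mul_smul, f2, s3 U hU, fb _ (inv_mem x1)])
    rwa [← inv_mul_eq_one.1 this]
  · rw [mul_assoc s₁, mul_inv_cancel_right, mul_inv_rev, inv_of_sq e1, inv_of_sq (s2 U hU)]
  · rw [← s3 U hU, e, one_smul]

end CL.Hir
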