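/-
Project HIR (S2208), part FB: in the full case the fixed point sets of the blocks form a linear space.
-/
import Cfsg.Agent.Perm.Hir1
import Cfsg.Agent.ZD.A2

set_option autoImplicit false
open Cfsg Subgroup MulAction CL.Even CL.Grp CL.Loc
open CL.Bender (Fx st2)

namespace CL.Hir

universe u v

section

variable {G : Type*} [Group G] [Finite G] {Ω : Type*} [MulAction G Ω] {N : Ω → Subgroup G} {a b c : Ω}
  {T T' : Subgroup G}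

theorem fb_ex (h : Hyp N) (hF : Full N) (hab : a ≠ b) : ∃ T, IsSylowIn 2 T (N a) ∧ Fx T b := by
  obtain ⟨a', b', T, h1, h2, h3⟩ := hF
  obtain ⟨g, rfl, rfl⟩ := h.two a' b' a b h1 hab
  exact ⟨_, h.syl_smul h2 g, (fx_cj g).2 h3⟩

theorem fb_uniq (h : Hyp N) (hab : a ≠ b) (hT : IsSylowIn 2 T (N a)) (hT' : IsSylowIn 2 T' (N a)) (h1 : Fx T b)
    (h2 : Fx T' b) : T' = T := by
  by_contra hne
  obtain ⟨Z, hZ⟩ := h.ben a T hT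
  refine h.not_fix hab fun x hx => ?_
  rw [← hZ.gen T' hT' hne] at hx
  exact (sup_le (fun y hy => h1 y hy) (fun y hy => h2 y hy) : T ⊔ T' ≤ stabilizer G b) hx

theorem fb_norm (h : Hyp N) (hab : a ≠ b) (hT : IsSylowIn 2 T (N a)) (h1 : Fx T b) {g : G} (ha : g • a = a)
    (hb : g • b = b) : g ∈ 𝒩(T) :=
  cj_eq_iff_mem.1 (fb_uniq h hab hT (syl_cj_of_mem_norm hT (h.norm ha)) h1 (hb ▸ (fx_cj g).2 h1))

theorem fb_fx (h : Hyp N) (hF : Full N) (hT : IsSylowIn 2 T (N a)) {x : G} (hx : x ∈ T) (h1 : x ≠ 1)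
    (hc : x • c = c) : Fx T c := by
  by_cases hac : a = c
  · exact hac ▸ h.syl_fix hT
  obtain ⟨T', h2, h3⟩ := fb_ex h hF hac
  obtain ⟨Z, hZ⟩ := h.ben a T hT
  by_cases he : T' = T
  · exact he ▸ h3
  · exact absurd (hZ.free x hx T' h2 he (fb_norm h hac h2 h3 (h.syl_fix hT x hx) hc)) h1

theorem fb_same (h : Hyp N) (hI : CaseI N) (hF : Full N) (hT : IsSylowIn 2 T (N a)) (hc : Fx T c) :
    IsSylowIn 2 T (N c) := by
  by_cases hac : a = c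
  · exact hac ▸ hT
  obtain ⟨Z, hZ⟩ := h.ben a T hT
  obtain ⟨z, hz, h1⟩ := hZ.exists_Z
  have hzT := hZ.Z_le hz
  obtain ⟨T', hT', h2⟩ := exists_isSylowIn_ge (isPGroup_zpowers (p := 2) (k := 1) (by rw [pow_one, sq, hZ.Z_sq hz]))
    (zpowers_le.2 (hI c a z (hT.1 hzT) (hZ.Z_sq hz) (hc z hzT)))
  have h3 := h2 (mem_zpowers z)
  have hK : ∀ g ∈ fixingSubgroup G (Pt Ω T), ∀ d : Ω, Fx T d → g • d = d := fun g hg =>
    (mem_fixingSubgroup_iff G).1 hg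
  have ha := h.syl_fix hT
  have h4 : fixingSubgroup G (Pt Ω T) ≤ 𝒩(T) := fun g hg => fb_norm h hac hT hc (hK g hg a ha) (hK g hg c hc)
  have h5 : fixingSubgroup G (Pt Ω T) ≤ 𝒩(T') := fun g hg =>
    fb_norm h (Ne.symm hac) hT' (fb_fx h hF hT' h3 h1 (ha z hzT)) (hK g hg c hc) (hK g hg a ha)
  have h6 : T' ≤ fixingSubgroup G (Pt Ω T) := fun g hg => (mem_fixingSubgroup_iff G).2 fun d hd =>
    fb_fx h hF hT' h3 h1 (hd z hzT) g hg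
  have h7 : T' ≤ T := fun g hg => by
    obtain ⟨x, hx, hj⟩ := h.ker_tc hZ le_rfl ha h4 (le_core h6 hT'.2.1 h5 hg)
    have := h.cover hT le_rfl hac hc hj fun d hd => by
      rw [mul_smul, hK g (h6 hg) d hd, inv_smul_eq_iff, hd x hx]
    rwa [← inv_mul_eq_one.1 this]
  rwa [← eq_of_le_of_card_ge h7 (h.card_blk ⟨a, hT⟩ ⟨c, hT'⟩).le]

/-- A second Sylow subgroup gives points outside `Pt T`. -/
theorem fb_out (h : Hyp N) (hT : IsSylowIn 2 T (N a)) :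
    ∃ x ∈ N a, ∀ d : Ω, d ≠ a → Fx T d → ¬ Fx T (x • d) := by
  obtain ⟨Z, hZ⟩ := h.ben a T hT
  obtain ⟨T₁, h1, h2⟩ := hZ.ex
  obtain ⟨x, hx, rfl⟩ := syl_conj hT h1
  refine ⟨x, hx, fun d hd h3 h4 => h2 (fb_uniq h (b := x • d) (fun e => hd ?_) hT h1 h4 ((fx_cj x).2 h3))⟩
  rw [← h.fix a x hx] at e
  exact (smul_left_cancel x e).symm

theorem fb_cent (h : Hyp N) (hI : CaseI N) (hF : Full N) {j : G} (hj : j ∈ 𝒞(N a)) (hb : j • b = b) :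
    j ∈ 𝒞(N b) := by
  by_cases hab : a = b
  · exact hab ▸ hj
  obtain ⟨T, hT, h1⟩ := fb_ex h hF hab
  have hT' := fb_same h hI hF hT h1
  obtain ⟨Z, hZ⟩ := h.ben b T hT'
  obtain ⟨z, hz, h2⟩ := hZ.ct (h.norm hb) (cent_mono hT.1 hj)
  obtain ⟨x, hx, h3⟩ := fb_out h hT
  have h4 := h3 b (Ne.symm hab) h1
  have h5 : b ≠ x • b := fun e => h4 (e ▸ h1)
  obtain ⟨T₂, h6, h7⟩ := fb_ex h hF h5
  exact hZ.tc_fix ⟨z, hZ.Z_le hz, h2⟩ h6 (fun e => h4 (e ▸ h7))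
    (fb_norm h h5 h6 h7 hb (fix_smul_of_comm (comm_of_mem hj hx) hb))

theorem fb_J (h : Hyp N) (hI : CaseI N) (hF : Full N) {x y : Ω} (hxy : x ≠ y) (hab : a ≠ b)
    (h1 : Fx (𝒞(N x) ⊓ 𝒞(N y)) a) (h2 : Fx (𝒞(N x) ⊓ 𝒞(N y)) b) : 𝒞(N x) ⊓ 𝒞(N y) = 𝒞(N a) ⊓ 𝒞(N b) := by
  refine eq_of_le_of_card_ge (fun j hj => ⟨fb_cent h hI hF hj.1 (h1 j hj), fb_cent h hI hF hj.1 (h2 j hj)⟩) ?_
  obtain ⟨g, rfl, rfl⟩ := h.two x y a b hxy hab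
  rw [h.cjN, h.cjN, ← cj_cent, ← cj_cent, ← cj_inf, card_cj]

theorem fb_csr (h : Hyp N) (hI : CaseI N) (hF : Full N) (hab : a ≠ b) {j : G} (hj : j ∈ 𝒞(N a)) (hb : j • b = b) :
    j = 1 := by
  obtain ⟨T, hT, h1⟩ := fb_ex h hF hab
  have hT' := fb_same h hI hF hT h1
  obtain ⟨Z, hZ⟩ := h.ben a T hT
  obtain ⟨z, hz, h2⟩ := hZ.exists_Z
  have hzT := hZ.Z_le hz
  have h3 : ∀ γ : Ω, ¬ Fx T γ → j • γ = γ := fun γ hγ => by
    have k1 : γ ≠ z • γ := fun e => hγ (fb_fx h hF hT hzT h2 e.symm)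
    have k2 : ∀ d : Ω, IsSylowIn 2 T (N d) → 𝒞(N d) ⊓ 𝒞(N γ) = 𝒞(N γ) ⊓ 𝒞(N (z • γ)) := fun d hd =>
      fb_J h hI hF (fun e => hγ (e ▸ h.syl_fix hd)) k1 (fun y hy => h.cent_fix hy.2) fun y hy =>
        fix_smul_of_comm (comm_of_mem hy.1 (hd.1 hzT)) (h.cent_fix hy.2)
    have k3 := (k2 a hT).trans (k2 b hT').symm
    have k4 := fb_J h hI hF (x := a) (y := γ) (fun e => hγ (e ▸ h.syl_fix hT)) hab (fun y hy => h.cent_fix hy.1)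
      fun y hy => h.cent_fix (k3.le hy).1
    exact h.cent_fix (k4.ge ⟨hj, fb_cent h hI hF hj hb⟩).2
  obtain ⟨x, hx, h4⟩ := fb_out h hT
  refine h.faithful j fun d => ?_
  by_cases hd : d = a
  · exact hd ▸ h.cent_fix hj
  by_cases h5 : Fx T d
  · have := h3 _ (h4 d hd h5)
    rw [← mul_smul, ← comm_of_mem hj hx, mul_smul] at this
    exact smul_left_cancel x this
  · exact h3 d h5

omit [Finite G] in
theorem fb_card_cj (g : G) : (Pt Ω (cj g T)).ncard = (Pt Ω T).ncard :=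
  (Set.ncard_congr (fun c _ => g • c) (fun _ hc => (fx_cj g).2 hc) (fun _ _ _ _ e => smul_left_cancel g e)
    fun c hc => ⟨g⁻¹ • c, (fx_cj g).1 (by rwa [smul_inv_smul]), smul_inv_smul g c⟩).symm

variable [Finite Ω]

theorem fb_count (h : Hyp N) (hF : Full N) {f : ℕ} (hf : ∀ T, Blk N T → (Pt Ω T).ncard = f) (hT : Blk N T) :
    Nat.card Ω = (Nat.card T + 1) * (f - 1) + 1 := by
  obtain ⟨a, hT⟩ := hT
  obtain ⟨Z, hZ⟩ := h.ben a T hT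
  have key := CL.ZD.a2_dc {T₁ : Subgroup G | IsSylowIn 2 T₁ (N a)} (Set.univ \ {a}) (fun T₁ (c : Ω) => Fx T₁ c)
    (f - 1) 1 1 (fun T₁ h1 => by
      rw [mul_one, ← hf T₁ ⟨a, h1⟩, ← Set.ncard_sdiff_singleton_of_mem (show a ∈ Pt Ω T₁ from h.syl_fix h1)]
      congr 1
      ext c
      simp [Pt, and_comm]) fun c hc => by
      have hac : a ≠ c := fun e => hc.2 e.symm
      obtain ⟨T₁, h1, h2⟩ := fb_ex h hF hac
      exact Set.ncard_eq_one.2 ⟨T₁, Set.ext fun T₂ => ⟨fun h3 => fb_uniq h hac h1 h3.1 h2 h3.2, fun h3 => h3 ▸ ⟨h1, h2⟩⟩⟩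
  rw [hZ.card_syl, mul_one, mul_one, Set.ncard_sdiff_singleton_of_mem (Set.mem_univ a), Set.ncard_univ] at key
  have : Nonempty Ω := ⟨a⟩
  have := Nat.card_pos (α := Ω)
  omega

theorem fb_nbs (h : Hyp N) (hI : CaseI N) (hF : Full N) {f : ℕ} (hf : ∀ T, Blk N T → (Pt Ω T).ncard = f) (h2 : 2 ≤ f)
    (hT : Blk N T) {z : G} (hz : z ∈ T) (h1 : z ≠ 1) (hzz : z * z = 1) :
    {T' | Blk N T' ∧ T' ≠ T ∧ z ∈ 𝒩(T')}.ncard * f = Nat.card T * (f - 1) := by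
  have hc := fb_count h hF hf hT
  have hP := hf T hT
  obtain ⟨a, hT⟩ := hT
  have key := CL.ZD.a2_dc {T' | Blk N T' ∧ T' ≠ T ∧ z ∈ 𝒩(T')} (Pt Ω T)ᶜ (fun T₁ (c : Ω) => Fx T₁ c)
    f 1 1 (fun T₁ ⟨h3, h4, h5⟩ => by
      rw [mul_one, ← hf T₁ h3]
      congr 1
      refine Set.ext fun c => ⟨fun h => h.2, fun h6 => ⟨fun h7 => ?_, h6⟩⟩
      obtain ⟨d, h3⟩ := h3
      obtain ⟨Z, hZ⟩ := h.ben c T (fb_same h hI hF hT h7)
      exact h1 (hZ.free z hz T₁ (fb_same h hI hF h3 h6) h4 h5)) fun c hc => by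
      have k1 : c ≠ z • c := fun e => hc (fb_fx h hF hT hz h1 e.symm)
      obtain ⟨T₁, k2, k3⟩ := fb_ex h hF k1
      have k4 : Fx (cj z T₁) c := by
        have := (fx_cj z).2 k3
        rwa [← mul_smul, hzz, one_smul] at this
      have k5 : z ∈ 𝒩(T₁) := cj_eq_iff_mem.1 (fb_uniq h k1 k2 (fb_same h hI hF (h.syl_smul k2 z) k4) k3
        ((fx_cj z).2 (h.syl_fix k2)))
      refine Set.ncard_eq_one.2 ⟨T₁, Set.ext fun T₂ => ⟨fun ⟨⟨⟨d, k6⟩, _, k7⟩, k8⟩ => ?_, fun k6 => ?_⟩⟩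
      · exact fb_uniq h k1 k2 (fb_same h hI hF k6 k8) k3 (fx_smul k7 k8)
      · exact k6 ▸ ⟨⟨⟨c, k2⟩, fun e => hc (e ▸ h.syl_fix k2 : Fx T c), k5⟩, h.syl_fix k2⟩
  have h3 := Set.ncard_add_ncard_compl (Pt Ω T)
  rw [key, mul_one, mul_one]
  rw [hP, hc, add_mul] at h3
  omega

end

theorem fb : FB.{u, v} := fun G Ω _ _ _ _ N h hI hF => by
  obtain ⟨a, b, T, hab, hT, hb⟩ := id hF
  have hf : ∀ T', Blk N T' → (Pt Ω T').ncard = (Pt Ω T).ncard := fun T' hT' => by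
    obtain ⟨g, rfl⟩ := h.blk_conj ⟨a, hT⟩ hT'
    exact fb_card_cj g
  have h2 : 2 ≤ (Pt Ω T).ncard := (Set.one_lt_ncard (Set.toFinite _)).2 ⟨a, h.syl_fix hT, b, hb, hab⟩
  refine ⟨_, h, fun T' ⟨d, hd⟩ x hx h1 c hc => fb_same h hI hF hd (fb_fx h hF hd hx h1 hc), fun c d => ?_,
    fun c d hcd T₁ T₂ h1 h3 h4 h5 => fb_uniq h hcd h4 h1 (h.syl_fix h5) (h.syl_fix h3),
    fun c d hcd j hj hd => fb_csr h hI hF hcd hj hd, hf, h2, fun T' hT' => fb_count h hF hf hT',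
    fun T' hT' z hz h1 hzz => fb_nbs h hI hF hf h2 hT' hz h1 hzz⟩
  by_cases hcd : c = d
  · obtain ⟨T₁, h1⟩ := exists_isSylowIn 2 (N c)
    exact ⟨T₁, h1, hcd ▸ h1⟩
  · obtain ⟨T₁, h1, h3⟩ := fb_ex h hF hcd
    exact ⟨T₁, h1, fb_same h hI hF h1 h3⟩

end CL.Hir
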