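/-
Project HIR (S2208), part FN: a good pair of blocks.
-/
import Cfsg.Agent.Perm.Hir1
import Cfsg.Agent.Fgs.FixCount

set_option autoImplicit false
open Cfsg Subgroup MulAction CL.Even CL.Grp CL.Loc
open CL.Bender (Fx st2)
open scoped Pointwise

namespace CL.Hir

universe u v

section

variable {G : Type*} [Group G] [Finite G] {Ω : Type*} [MulAction G Ω] [Finite Ω] {N : Ω → Subgroup G} {f : ℕ}
  {T T' : Subgroup G}

theorem fn_dvd (h : FS N f) (hT : Blk N T) (hT' : Blk N T') (hne : T ≠ T') :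
    Nat.card (T ⊓ 𝒩(T') : Subgroup G) ∣ f := by
  rw [← h.card_pt T' hT']
  exact CL.Fgs.card_dvd_ncard_of_semiregular _ _ (fun g hg c hc => fx_smul hg.2 hc) fun g hg c hc e =>
    by_contra fun h1 => h.not_fix_of_norm hT' hT hne.symm hg.1 hg.2 h1 hc e

omit [Finite Ω] in
/-- A set of subgroups invariant under `T`. -/
theorem fn_orbit {B : Set (Subgroup G)} {m : ℕ} (hB : ∀ g ∈ T, ∀ X ∈ B, cj g X ∈ B)
    (hm : ∀ X ∈ B, m ∣ (𝒩(X)).relIndex T) : m ∣ B.ncard := by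
  letI : MulAction T (Subgroup G) := MulAction.compHom _ ((MulAut.conj : G →* MulAut G).comp T.subtype)
  refine CL.Fgs.dvd_ncard_of_dvd_orbit (G := T) B (fun g X hX => hB g g.2 X hX) fun X hX => ?_
  have : stabilizer T X = (𝒩(X)).subgroupOf T := Subgroup.ext fun g => cj_eq_iff_mem (g := (g : G))
  rw [this]
  exact hm X hX

theorem fn_exists (h : FS N f) (hT : Blk N T) :
    f ≤ Nat.card T ∧ ∃ T', Blk N T' ∧ T' ≠ T ∧ Nat.card (T ⊓ 𝒩(T') : Subgroup G) = f := by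
  obtain ⟨a, ha⟩ := id hT
  obtain ⟨Z, hZ⟩ := h.ben a T ha
  obtain ⟨z, hz, h1⟩ := hZ.exists_Z
  have h2 := h.nbs T hT z (hZ.Z_le hz) h1 (hZ.Z_sq hz)
  have h3 := h.two_le
  have h4 : f ∣ Nat.card T := ((Nat.coprime_self_sub_right (by omega)).2 (Nat.coprime_one_right f)).dvd_of_dvd_mul_right
    (h2 ▸ Dvd.intro_left _ rfl)
  refine ⟨Nat.le_of_dvd Nat.card_pos h4, ?_⟩
  by_contra hne
  push Not at hne
  obtain ⟨n, hn⟩ := IsPGroup.iff_card.1 hZ.two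
  obtain ⟨k, -, hk⟩ := (Nat.dvd_prime_pow Nat.prime_two).1 (hn ▸ h4)
  obtain ⟨m, hm⟩ := h4
  have hm0 : 0 < m := Nat.pos_of_mul_pos_left (hm ▸ Nat.card_pos)
  have h5 : 2 * m ∣ {T' | Blk N T' ∧ T' ≠ T ∧ z ∈ 𝒩(T')}.ncard := by
    refine fn_orbit (T := T) (fun g hg X ⟨a1, a2, a3⟩ => ⟨h.toHyp.blk_cj a1 g, fun e => a2 ?_, ?_⟩) fun X ⟨a1, a2, _⟩ => ?_
    · rwa [← cj_eq (le_normalizer hg), cj_inj] at e
    · rwa [mem_norm_cj, mul_assoc, hZ.Z_comm hz hg, inv_mul_cancel_left]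
    · obtain ⟨s, hs⟩ := fn_dvd h hT a1 a2.symm
      have b1 : s ≠ 1 := fun e => hne X a1 a2 (by rw [hs, e, mul_one])
      obtain ⟨l, -, hl⟩ := (Nat.dvd_prime_pow Nat.prime_two).1 (hk ▸ (Dvd.intro_left _ hs.symm : s ∣ f))
      obtain ⟨t, rfl⟩ : 2 ∣ s := hl ▸ dvd_pow_self 2 fun e => b1 (by rw [hl, e, pow_zero])
      have b2 : Nat.card (T ⊓ 𝒩(X) : Subgroup G) * (𝒩(X)).relIndex T = Nat.card T := by
        rw [← inf_relIndex_left, relIndex, ← card_mul_index ((T ⊓ 𝒩(X)).subgroupOf T),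
          Nat.card_congr (subgroupOfEquivOfLe inf_le_left).toEquiv]
      refine ⟨t, Nat.eq_of_mul_eq_mul_left (Nat.card_pos (α := (T ⊓ 𝒩(X) : Subgroup G))) ?_⟩
      rw [b2, hm]
      conv_lhs => rw [hs]
      ring
  have h6 : {T' | Blk N T' ∧ T' ≠ T ∧ z ∈ 𝒩(T')}.ncard = (f - 1) * m :=
    Nat.eq_of_mul_eq_mul_right (by omega : 0 < f) (by rw [h2, hm]; ring)
  rw [h6] at h5
  have h7 := Nat.dvd_of_mul_dvd_mul_right hm0 h5
  have h8 : 2 ∣ f := hk ▸ dvd_pow_self 2 fun e => by rw [e, pow_zero] at hk; omega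
  omega

omit [Finite G] [Finite Ω] in
theorem fn_cR (h : FS N f) (hT : Blk N T) (hT' : Blk N T') (hne : T ≠ T') {ρ : G} (hρ : ρ ∈ T' ⊓ 𝒩(T))
    (h1 : ρ ≠ 1) : T ⊓ centralizer {ρ} = T ⊓ 𝒩(T') := by
  refine le_antisymm (fun x hx => ⟨hx.1, h.norm_of_comm hT' hρ.1 h1 (CL.ZD.mem_cent1.1 hx.2)⟩) fun x hx => ⟨hx.1, ?_⟩
  have h2 : x * (ρ * x⁻¹ * ρ⁻¹) = 1 := by_contra fun e => hne (h.blk_eq hT hT'
    (mul_mem hx.1 (conj_mem hρ.2 (inv_mem hx.1))) (by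
      rw [show x * (ρ * x⁻¹ * ρ⁻¹) = x * ρ * x⁻¹ * ρ⁻¹ by group]
      exact mul_mem (conj_mem hx.2 hρ.1) (inv_mem hρ.1)) e)
  refine CL.ZD.mem_cent1.2 ?_
  rw [← mul_inv_eq_one, ← h2]
  group

theorem fn_card (h : FS N f) (hT : Blk N T) (hT' : Blk N T') (hne : T ≠ T') (hf : f ≤ Nat.card T')
    (h1 : Nat.card (T ⊓ 𝒩(T') : Subgroup G) = f) : Nat.card (T' ⊓ 𝒩(T) : Subgroup G) = f := by
  refine le_antisymm (Nat.le_of_dvd (lt_of_lt_of_le two_pos h.two_le) (fn_dvd h hT' hT hne.symm)) ?_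
  by_cases hle : T' ≤ 𝒩(T)
  · rwa [inf_eq_left.2 hle]
  have hP : IsPGroup 2 (T' ⊔ T ⊓ 𝒩(T') : Subgroup G) := by
    obtain ⟨a, ha⟩ := hT
    obtain ⟨b, hb⟩ := hT'
    exact isPGroup_sup' hb.2.1 (ha.2.1.to_le inf_le_left) inf_le_right
  obtain ⟨y, ⟨h2, h3⟩, h4⟩ := SetLike.exists_of_lt (lt_inf_normalizer_of_isPGroup (D := (T' ⊔ T ⊓ 𝒩(T')) ⊓ 𝒩(T)) hP
    (lt_of_le_of_ne inf_le_left fun e => hle (le_sup_left.trans (inf_eq_left.1 e))))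
  obtain ⟨w, hw, r, hr, rfl⟩ := (mem_sup_nl inf_le_right).1 h2
  have hD : T ⊓ 𝒩(T') ≤ (T' ⊔ T ⊓ 𝒩(T')) ⊓ 𝒩(T) := le_inf le_sup_right (inf_le_left.trans le_normalizer)
  have h5 : w ∈ 𝒩((T' ⊔ T ⊓ 𝒩(T')) ⊓ 𝒩(T)) := by
    simpa using Subgroup.mul_mem _ h3 (Subgroup.inv_mem _ (le_normalizer (hD hr)))
  have h6 : w ∉ 𝒩(T) := fun e => h4 ⟨h2, mul_mem e (le_normalizer hr.1)⟩
  rw [← h1]
  refine Nat.card_le_card_of_injective (fun x => ⟨w * x * w⁻¹ * (x : G)⁻¹, ?_, ?_⟩) fun x y e => ?_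
  · rw [show w * x * w⁻¹ * (x : G)⁻¹ = w * (x * w⁻¹ * (x : G)⁻¹) by group]
    exact mul_mem hw (conj_mem x.2.2 (inv_mem hw))
  · exact Subgroup.mul_mem _ (conj_mem h5 (hD x.2)).2 (Subgroup.inv_mem _ (le_normalizer x.2.1))
  · have e1 : w * x * w⁻¹ * (x : G)⁻¹ = w * y * w⁻¹ * (y : G)⁻¹ := congrArg Subtype.val e
    refine Subtype.ext (inv_mul_eq_one.1 (by_contra fun e2 => h6 ?_))
    refine h.norm_of_comm hT (mul_mem (inv_mem x.2.1) y.2.1) e2 ?_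
    calc w * ((x : G)⁻¹ * y) = (x : G)⁻¹ * (w * x * w⁻¹ * (x : G)⁻¹)⁻¹ * w * y := by group
      _ = (x : G)⁻¹ * y * w := by rw [e1]; group

end

theorem fn : FN.{u, v} := fun G Ω _ _ _ _ N f h => by
  have := h.nontriv
  obtain ⟨T, hT⟩ := exists_isSylowIn 2 (N (Classical.arbitrary Ω))
  have hB : Blk N T := ⟨_, hT⟩
  obtain ⟨h1, T', h2, h3, h4⟩ := fn_exists h hB
  exact ⟨T, T', hB, h2, h3.symm, fn_card h hB h2 h3.symm (h.toHyp.card_blk hB h2 ▸ h1) h4, h4,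
    fun ρ hρ h5 => fn_cR h hB h2 h3.symm hρ h5⟩

end CL.Hir
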