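/-
Project HIR (S2208), step IIA: odd intersections `N a ⊓ N b`.
-/
import Cfsg.Agent.Perm.Hir1

set_option autoImplicit false
open Cfsg Subgroup MulAction CL.Even CL.Grp CL.Loc
open CL.Bender (Fx st2)
open CL.ZD (sq_of_ord ord_of_sq ne_one_of_ord exists_inv_pow)

namespace CL.Hir

universe u v

variable {G : Type*} [Group G] [Finite G] {Ω : Type*} [MulAction G Ω] [Finite Ω] {N : Ω → Subgroup G} {a b c : Ω}
  {T Z : Subgroup G} {t : G}

omit [Finite G] [Finite Ω] in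
theorem iia_fix (h : Hyp N) (ho : ∀ a b : Ω, a ≠ b → ∀ t ∈ N a ⊓ N b, t * t = 1 → t = 1) (ht : t ∈ N c)
    (t2 : t * t = 1) (t1 : t ≠ 1) {g : G} (e : g * t = t * g) : g • c = c :=
  by_contra fun hc => t1 (ho c (g • c) (Ne.symm hc) t
    (mem_inf.2 ⟨ht, by simpa only [e, mul_inv_cancel_right] using h.conj_mem_N (g := g) ht⟩) t2)

omit [Finite Ω] in
theorem iia_norm (h : Hyp N) (hT : IsSylowIn 2 T (N a)) (hc : Fx T c) (hac : a ≠ c) {x : G} (h1 : x • a = a)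
    (h2 : x • c = c) : x ∈ 𝒩(T) := by
  obtain ⟨Z, hZ⟩ := h.ben a T hT
  refine cj_eq_iff_mem.1 (by_contra fun e => h.not_fix hac ?_)
  rw [← hZ.gen _ (syl_cj_of_mem_norm hT (h.norm h1)) e]
  exact (sup_le hc (h2 ▸ (fx_cj x).2 hc :) : _ ≤ stabilizer G c)

/-- the case in which a Sylow subgroup of `N a` fixes `b` -/
theorem iia_full (h : Hyp N) (ho : ∀ a b : Ω, a ≠ b → ∀ t ∈ N a ⊓ N b, t * t = 1 → t = 1) (hab : a ≠ b)
    (hT : BS (N a) T Z) (hb : Fx T b) (ht : t ∈ N b) (t2 : t * t = 1) (t1 : t ≠ 1) (ta : t • a = a)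
    (hc : t ∈ 𝒞(T)) : False := by
  obtain ⟨z, hz, hj⟩ := hT.ct (h.norm ta) hc
  have zN := hT.le (hT.Z_le hz)
  have z1 : z ≠ 1 := by
    rintro rfl
    exact h.not_fix hab fun x hx => iia_fix h ho ht t2 t1 (comm_of_mem (by simpa using hj) hx)
  have h1 : {c : Ω | t • c = c} ⊆ {c : Ω | z • c = c} := fun c (hc : t • c = c) => by
    by_cases hac : a = c
    · exact hac ▸ h.fix a z zN
    obtain ⟨g, g1, rfl⟩ := h.two a b a c hab hac
    have h2 := syl_cj_of_mem_norm hT.syl (h.norm g1)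
    have h3 := (fx_cj g).2 hb
    have h4 : z ∈ 𝒩(cj g T) := by
      simpa using mul_mem (iia_norm h h2 h3 hac ta hc) (inv_mem (cent_le_norm _ (cent_mono h2.1 hj)))
    exact h3 z ((by_contra fun e => z1 (hT.free z (hT.Z_le hz) _ h2 e h4) : cj g T = T).symm ▸ hT.Z_le hz)
  obtain ⟨g, -, e⟩ := h.inv_conj zN ht (hT.Z_sq hz) t2 z1 t1
  have h2 := Set.eq_of_subset_of_ncard_le h1 (Set.ncard_le_ncard_of_injOn (g • ·)
    (fun c hc => e ▸ CL.ZD.conj_fix_iff.2 hc) (fun _ _ _ _ e => smul_left_cancel g e)) (Set.toFinite _)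
  have h3 := h.cover hT.syl le_rfl hab hb hj fun c hc => by
    have h4 := hc z (hT.Z_le hz)
    rw [mul_smul, (h2.ge h4 : t • c = c), inv_smul_eq_iff, h4]
  exact t1 (ho a b hab t ⟨inv_mul_eq_one.1 h3 ▸ zN, ht⟩ t2)

omit [Finite Ω] in
/-- the case `q = 4` -/
theorem iia_four (h : Hyp N) (ho : ∀ a b : Ω, a ≠ b → ∀ t ∈ N a ⊓ N b, t * t = 1 → t = 1)
    (hT : BS (N a) T Z) (h4 : Nat.card T = 4) (hab : a ≠ b) (ht : t ∈ N b) (t2 : t * t = 1) (t1 : t ≠ 1)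
    (hn : t ∈ 𝒩(N a) ⊓ 𝒩(T)) (hc : t ∉ 𝒞(T)) : False := by
  obtain ⟨d, dN, d1, dO, dt⟩ := hT.odd4 h4 t hn t2 hc
  obtain ⟨T', hT', h1⟩ := exists_isSylowIn_ge (isPGroup_zpowers (p := 2) (k := 1) (by rw [pow_one, sq, t2]))
    (zpowers_le.2 ht)
  obtain ⟨Z', hZ'⟩ := h.ben b T' hT'
  have dC := hZ'.odd_cent4 ((h.card_blk ⟨b, hT'⟩ ⟨a, hT.syl⟩).trans h4) (h.norm (iia_fix h ho ht t2 t1 dt)) dO
    (h1 (mem_zpowers t)) t1 dt
  obtain ⟨p, hp, hd⟩ := Nat.exists_prime_and_dvd (mt orderOf_eq_one_iff.1 d1)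
  have := Fact.mk hp
  obtain ⟨⟨y, hy⟩, yp⟩ := exists_prime_orderOf_dvd_card' (G := zpowers d) p (by rwa [Nat.card_zpowers])
  rw [orderOf_mk] at yp
  have yN : y ∈ N a := zpowers_le.2 dN hy
  have yC : y ∈ 𝒞(N b) := zpowers_le.2 dC hy
  obtain ⟨x, hx, xa⟩ : ∃ x ∈ N b, x • a ≠ a := by
    by_contra e
    push Not at e
    exact h.not_fix hab.symm e
  obtain ⟨g, g1, g2⟩ := h.two a (x • a) a b xa.symm hab
  have e1 : g * y * g⁻¹ ∈ N a := g1 ▸ h.conj_mem_N yN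
  have e2 : g * y * g⁻¹ ∈ N b :=
    g2 ▸ h.conj_mem_N (by simpa only [comm_of_mem yC hx, mul_inv_cancel_right] using h.conj_mem_N (g := x) yN)
  have e3 : orderOf (g * y * g⁻¹) = p := yp ▸ (MulAut.conj g).orderOf_eq y
  have pz : ∀ {w : G}, orderOf w = p → IsPGroup p (zpowers w) := fun e =>
    IsPGroup.of_card (n := 1) (by rw [Nat.card_zpowers, e, pow_one])
  obtain ⟨n, e4⟩ := IsPGroup.iff_card.1 (isPGroup_sup (pz yp) (pz e3)
    ((zpowers_le.2 yC).trans ((cent_mono (zpowers_le.2 e2)).trans (cent_le_norm _))))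
  have e5 := card_dvd_of_le (sup_le (zpowers_le.2 yN) (zpowers_le.2 e1))
  rw [e4, (hT.q4 h4).1] at e5
  have e6 : n ≤ 1 := by
    by_contra e
    have k1 : p ^ 2 ∣ 60 := (pow_dvd_pow p (by omega)).trans e5
    have k2 := dO.of_dvd_nat hd
    have k3 : p ≤ 7 := by nlinarith [Nat.le_of_dvd (by norm_num) k1]
    have k4 := hp.two_le
    interval_cases p <;> simp_all (decide := true)
  have e7 := eq_of_le_of_card_ge (le_sup_left : zpowers y ≤ zpowers y ⊔ zpowers (g * y * g⁻¹)) (by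
    rw [e4, Nat.card_zpowers, yp]
    exact (Nat.pow_le_pow_right hp.pos e6).trans_eq (pow_one p))
  rw [hZ'.zc _ e2 (zpowers_le.2 yC (e7.ge (mem_sup_right (mem_zpowers _)))), orderOf_one] at e3
  exact hp.one_lt.ne e3

theorem iia : IIa.{u, v} := by
  intro G Ω _ _ _ _ N h ho a b t ht t2 ta
  by_contra tN
  have hab : a ≠ b := fun e => tN (e ▸ ht)
  have t1 : t ≠ 1 := fun e => tN (e ▸ one_mem _)
  obtain ⟨P, hP, h1⟩ := exists_isSylowIn_ge (H := st2 G a b) (isPGroup_zpowers (p := 2) (k := 1)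
    (by rw [pow_one, sq, t2])) (zpowers_le.2 ⟨ta, h.fix b t ht⟩)
  have sa := hP.inf_of_normalized (N := st2 G a b ⊓ N a) inf_le_left
    (le_norm_inf le_normalizer fun x hx => h.norm hx.1)
  have sb := hP.inf_of_normalized (N := st2 G a b ⊓ N b) inf_le_left
    (le_norm_inf le_normalizer fun x hx => h.norm hx.2)
  set R := P ⊓ (st2 G a b ⊓ N b)
  set R' := P ⊓ (st2 G a b ⊓ N a)
  have tR : t ∈ R := ⟨h1 (mem_zpowers t), ⟨ta, h.fix b t ht⟩, ht⟩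
  obtain ⟨k, hk⟩ : ∃ k, cj k R' ≤ R ∧ cj k⁻¹ R ≤ R' := by
    obtain ⟨g, g1, g2⟩ := h.two a b b a hab hab.symm
    have e : cj g (st2 G a b ⊓ N a) = st2 G a b ⊓ N b := by
      ext x
      rw [show N b = cj g (N a) from g1 ▸ h.cjN g a, mem_cj, mem_inf, mem_inf (p := st2 G a b), mem_cj,
        and_congr_left_iff]
      intro _
      simp only [mem_inf, mem_stabilizer_iff, mul_smul, g1, g2, inv_smul_eq_iff, and_comm]
    obtain ⟨x, -, e⟩ := syl_conj (e ▸ syl_cj sa g) sb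
    rw [← cj_mul] at e
    exact ⟨x * g, e.le, by rw [← e, cj_inv_cj]⟩
  have cm : ∀ x ∈ R, ∀ y ∈ R', x * y = y * x := fun x hx y hy => by
    by_contra e
    have k1 : x * y * x⁻¹ * y⁻¹ ∈ P := mul_mem (mul_mem (mul_mem hx.1 hy.1) (inv_mem hx.1)) (inv_mem hy.1)
    obtain ⟨n, hn⟩ := exists_inv_pow hP.isPGroup k1 fun e1 => e (by
      rwa [mul_inv_eq_one, mul_inv_eq_iff_eq_mul] at e1)
    refine ne_one_of_ord hn (ho a b hab _ (pow_mem (mem_inf.2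
      ⟨mul_mem (conj_mem (h.norm hx.2.1.1) hy.2.2) (inv_mem hy.2.2), ?_⟩) n) (sq_of_ord hn))
    rw [show x * y * x⁻¹ * y⁻¹ = x * (y * x⁻¹ * y⁻¹) by group]
    exact mul_mem hx.2.2 (conj_mem (h.norm hy.2.1.2) (inv_mem hx.2.2))
  obtain ⟨T, hT, h2⟩ := exists_isSylowIn_ge (H := N a) sa.isPGroup fun x hx => hx.2.2
  obtain ⟨Z, hZ⟩ := h.ben a T hT
  have nT : ∀ x ∈ R, x ∈ 𝒩(N a) ⊓ 𝒩(T) := fun x hx => ⟨h.norm hx.2.1.1, hZ.norm_of_comm (h.norm hx.2.1.1)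
    (h2 (hk.2 (conj_mem_cj _ tR))) (mt conj_eq_one_iff.1 t1) (cm x hx _ (hk.2 (conj_mem_cj _ tR)))⟩
  have hY : ∀ x ∈ T, x • b = b → x ∈ R' := fun x hx e => (sa.eq_of_le (U := T ⊓ stabilizer G b)
    hT.isPGroup.to_inf_left (le_inf h2 fun y hy => hy.2.1.2)
    fun y hy => ⟨⟨h.fix a y (hT.1 hy.1), hy.2⟩, hT.1 hy.1⟩).le ⟨hx, e⟩
  by_cases hb : Fx T b
  · exact iia_full h ho hab hZ hb ht t2 t1 ta fun x hx => (cm t tR x (hY x hx (hb x hx))).symm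
  have nc : ∀ x ∈ R, x * x = 1 → x ≠ 1 → x ∉ 𝒞(T) := fun x hx x2 x1 e =>
    hb fun y hy => iia_fix h ho hx.2.2 x2 x1 (comm_of_mem e hy)
  have ntc : ∀ x ∈ R, x * x = 1 → TC (N a) T x → x = 1 := fun x hx x2 e => by_contra fun x1 => by
    obtain ⟨z, hz, e⟩ := hZ.tc_sq e x2
    exact nc x hx x2 x1 (by simpa using mul_mem (hZ.cent hz) (hZ.cC_le e))
  obtain ⟨s, sR, s1, s2, sC⟩ := exists_cent_inv sb.isPGroup sb.isPGroup (fun e => t1 (mem_bot.1 (e ▸ tR))) le_normalizer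
  have un : ∀ x ∈ R, x * x = 1 → x = 1 ∨ x = s := fun x hx x2 => by
    have e := comm_of_mem sC hx
    rcases hZ.four x (nT x hx) s (nT s sR) x2 s2 e with e1 | e1 | e1
    · exact Or.inl (ntc x hx x2 e1)
    · exact absurd (ntc s sR s2 e1) s1
    · refine Or.inr ((eq_inv_of_mul_eq_one_left (ntc _ (mul_mem hx sR) ?_ e1)).trans (inv_eq_of_mul_eq_one_right s2))
      rw [mul_assoc, ← mul_assoc s, ← e, mul_assoc, s2, mul_one, x2]
  have c2 : Nat.card (Z ⊓ centralizer {t} : Subgroup G) ≤ 2 := by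
    have : ((Z ⊓ centralizer {t} : Subgroup G) : Set G) ⊆ {1, k⁻¹ * s * k} := fun x hx => by
      have e := un _ (hk.1 (conj_mem_cj k (hY x (hZ.Z_le hx.1) (iia_fix h ho ht t2 t1 (CL.ZD.mem_cent1.1 hx.2)))))
        (by rw [conj_mul, hZ.Z_sq hx.1]; simp)
      exact e.imp (fun e => by simpa using e) fun e => by rw [← e]; simp [mul_assoc]
    exact (Set.ncard_le_ncard this (Set.toFinite _)).trans ((Set.ncard_insert_le _ _).trans (by simp))
  have f4 := hZ.four_le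
  obtain ⟨e1, e2⟩ := hZ.inv t (nT t tR) (t2 ▸ one_mem _) fun e => by
    have := card_le_of_le (le_inf le_rfl fun x hx => CL.ZD.mem_cent1.2 (comm_of_mem e hx) : Z ≤ Z ⊓ centralizer {t})
    omega
  exact iia_four h ho hZ (by rw [e1]; nlinarith) hab ht t2 t1 (nT t tR) (nc t tR t2 t1)

end CL.Hir
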