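/-
Project HIR (S2208): case II with even intersections `N a ⊓ N b`.
-/
import Cfsg.Agent.Perm.Hir1
import Cfsg.Agent.S0208

set_option autoImplicit false
open Cfsg Subgroup MulAction CL.Even CL.Grp CL.Loc
open CL.Bender (Fx st2)
open CL.ZD (sq_of_ord ord_of_sq inv_of_sq)

namespace CL.Hir

universe u v

variable {G : Type*} [Group G] [Finite G] {Ω : Type*} [MulAction G Ω] {N : Ω → Subgroup G} {T Z : Subgroup G}
  {a b x y : Ω}

/-- the negation of case I, for all pairs of points -/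
structure IIB (N : Ω → Subgroup G) : Prop extends Hyp N where
  exD : ∀ x y : Ω, x ≠ y → ∃ u ∈ N x, u ∈ N y ∧ u * u = 1 ∧ u ≠ 1
  exA : ∀ x y : Ω, x ≠ y → ∃ s ∈ N x, s • y = y ∧ s * s = 1 ∧ s ∉ N y

/-- solutions of `w² = 1` in `N x ⊓ N y` -/
def iibD (N : Ω → Subgroup G) (x y : Ω) : Set G := {w | w ∈ N x ∧ w ∈ N y ∧ w * w = 1}

/-- solutions of `w² = 1` in `N x ⊓ G_y` -/
def iibA (N : Ω → Subgroup G) (x y : Ω) : Set G := {w | w ∈ N x ∧ w • y = y ∧ w * w = 1}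

omit [Finite G] in
theorem iib_sq (g : G) {w : G} : g * w * g⁻¹ * (g * w * g⁻¹) = 1 ↔ w * w = 1 := by
  rw [conj_mul, conj_eq_one_iff]

omit [Finite G] in
theorem Hyp.iib_mem (h : Hyp N) (g : G) {w : G} : g * w * g⁻¹ ∈ N (g • x) ↔ w ∈ N x := by
  rw [h.cjN, mem_cj]; simp [mul_assoc]

omit [Finite G] in
theorem iib_ncard {S S' : Set G} (g : G) (e : ∀ w, g * w * g⁻¹ ∈ S' ↔ w ∈ S) : S.ncard = S'.ncard :=
  Set.ncard_congr (fun w _ => g * w * g⁻¹) (fun w hw => (e w).2 hw) (fun _ _ _ _ k => by simpa using k) fun w hw =>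
    ⟨g⁻¹ * w * g, (e _).1 (by simpa [mul_assoc] using hw), by group⟩

omit [Finite G] in
theorem Hyp.iib_card (h : Hyp N) (hab : a ≠ b) (hxy : x ≠ y) :
    (iibD N a b).ncard = (iibD N x y).ncard ∧ (iibA N a b).ncard = (iibA N x y).ncard := by
  obtain ⟨g, rfl, rfl⟩ := h.two a b x y hab hxy
  exact ⟨iib_ncard g fun w => by simp only [iibD, Set.mem_setOf_eq, h.iib_mem, iib_sq],
    iib_ncard g fun w => by simp only [iibA, Set.mem_setOf_eq, h.iib_mem, iib_sq, CL.ZD.conj_fix_iff]⟩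

theorem Hyp.iib_odd (h : Hyp N) (hT : BSc (N x) T Z) {s t : G} (hs : s ∈ Z) (s1 : s ≠ 1) (ht : t ∈ N x)
    (t2 : t * t = 1) (tT : t ∉ T) (sy : s • y = y) (ty : t • y = y) : s ∈ N y ↔ t ∈ N y := by
  obtain ⟨d, hd, rfl⟩ := Cfsg.Agent.S0208.result s t (ord_of_sq (hT.Z_sq hs) s1)
    (ord_of_sq t2 fun e => tT (e ▸ one_mem T)) (hT.odd_ne s hs s1 t ht t2 tT)
  have : d • y = y := (closure_le (stabilizer G y)).2 (Set.pair_subset sy ty) hd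
  rw [← h.iib_mem d, this]

namespace IIB

variable (h : IIB N)
include h

theorem syl (hxy : x ≠ y) : ∃ T Z, BS (N x) T Z ∧ iibA N x y ⊆ Z ∧ ∀ g : G, g • x = x → g • y = y → g ∈ 𝒩(T) := by
  obtain ⟨u, ux, uy, u2, u1⟩ := h.exD x y hxy
  obtain ⟨s, sx, sy, s2, sn⟩ := h.exA x y hxy
  obtain ⟨T, hT, h1⟩ := exists_isSylowIn_ge (isPGroup_zpowers (p := 2) (k := 1) (by rw [pow_one, sq, u2]))
    (zpowers_le.2 ux)
  obtain ⟨Z, hZ⟩ := h.ben x T hT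
  have uZ := hZ.mk_Z (h1 (mem_zpowers u)) u2
  have k : ∀ t ∈ N x, t * t = 1 → t • y = y → t ∉ T → t ∈ N y := fun t ht t2 ty n =>
    (h.toHyp.iib_odd hZ.toBSc uZ u1 ht t2 n (h.fix y u uy) ty).1 uy
  have h2 : iibA N x y ⊆ Z := fun t ⟨ht, ty, t2⟩ => hZ.mk_Z (by_contra fun n => sn
    ((h.toHyp.iib_odd hZ.toBSc (hZ.mk_Z (by_contra fun m => sn (k s sx s2 sy m)) s2) (fun e => sn (e ▸ one_mem _))
      ht t2 n sy ty).2 (k t ht t2 ty n))) t2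
  refine ⟨T, Z, hZ, h2, fun g gx gy => hZ.norm_of_conj (h.toHyp.norm gx) (hZ.Z_le uZ) u1 (hZ.Z_le (h2 ⟨?_, ?_, ?_⟩))⟩
  · exact conj_mem (h.toHyp.norm gx) ux
  · exact h.fix y _ (conj_mem (h.toHyp.norm gy) uy)
  · exact (iib_sq g).2 u2

omit h [Finite G] in
theorem eqA (hT : BSc (N x) T Z) (h1 : iibA N x y ⊆ Z) : iibA N x y = (Z ⊓ stabilizer G y : Subgroup G) :=
  Set.ext fun _ => ⟨fun k => ⟨h1 k, k.2.1⟩, fun k => ⟨hT.le (hT.Z_le k.1), k.2, hT.Z_sq k.1⟩⟩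

omit [Finite G] in
theorem eqD (hT : BSc (N x) T Z) (h1 : iibA N x y ⊆ Z) : iibD N x y = (Z ⊓ N y : Subgroup G) :=
  Set.ext fun w => ⟨fun k => ⟨h1 ⟨k.1, h.fix y w k.2.1, k.2.2⟩, k.2.1⟩, fun k => ⟨hT.le (hT.Z_le k.1), k.2, hT.Z_sq k.1⟩⟩

/-- the case `Z ≤ G_b` -/
theorem not_fx (hab : a ≠ b) (hT : BS (N a) T Z) (h1 : iibA N a b ⊆ Z) (hn : ∀ g : G, g • a = a → g • b = b → g ∈ 𝒩(T)) :
    ¬ Fx Z b := fun hb => by
  have k : ∀ {x : Ω} {T' Z' : Subgroup G}, BSc (N x) T' Z' → ∀ z ∈ Z', z ≠ 1 → ∀ c : Ω, z • c = c → Fx Z' c :=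
    fun {x T' Z'} hT' z hz z1 c e => by
    by_cases hc : x = c
    · exact fun w hw => hc ▸ h.fix x w (hT'.le (hT'.Z_le hw))
    obtain ⟨T₁, Z₁, k1, k2, -⟩ := h.syl hc
    obtain rfl := hT'.eq_of_mem k1.syl (hT'.Z_le hz) (k1.Z_le (k2 ⟨hT'.le (hT'.Z_le hz), e, hT'.Z_sq hz⟩)) z1
    obtain rfl := hT'.Z_unique k1.toBSc
    have := Set.eq_of_subset_of_ncard_le k2 (by
      rw [← (h.toHyp.iib_card hab hc).2, eqA hT.toBSc h1, inf_eq_left.2 (show Z ≤ stabilizer G b from hb)]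
      exact (h.toHyp.card_Z hT' hT.toBSc).le)
    exact fun w hw => (this.ge hw).2.1
  obtain ⟨T', Z', hT', h1', hn'⟩ := h.syl hab.symm
  obtain ⟨u, ua, ub, u2, u1⟩ := h.exD a b hab
  obtain ⟨t, tb, ta, t2, tn⟩ := h.exA b a hab.symm
  have uZ : u ∈ Z := h1 ⟨ua, h.fix b u ub, u2⟩
  have uZ' : u ∈ Z' := h1' ⟨ub, h.fix a u ua, u2⟩
  have ha : Fx Z a := fun w hw => h.fix a w (hT.le (hT.Z_le hw))
  have h2 : Z' ≤ fixingSubgroup G (Pt Ω Z) := fun w hw =>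
    (mem_fixingSubgroup_iff G).2 fun c hc => k hT'.toBSc u uZ' u1 c (hc u uZ) w hw
  have h3 : ∀ g ∈ fixingSubgroup G (Pt Ω Z), g • a = a ∧ g • b = b := fun g hg =>
    ⟨(mem_fixingSubgroup_iff G).1 hg a ha, (mem_fixingSubgroup_iff G).1 hg b hb⟩
  have tZ : t ∈ Z' := h1' ⟨tb, ta, t2⟩
  obtain ⟨z, hz, hc⟩ := hT.tc_sq (h.toHyp.ker_tc hT hT.norm_Z ha (fun g hg => hn g (h3 g hg).1 (h3 g hg).2)
    (le_core h2 hT'.Z_two (fun g hg => hT'.norm_Z (hn' g (h3 g hg).2 (h3 g hg).1)) tZ)) t2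
  have := h.toHyp.cover hT.syl hT.norm_Z hab hb hc fun c e => by
    rw [mul_smul, (mem_fixingSubgroup_iff G).1 (h2 tZ) c e, inv_smul_eq_iff, e z hz]
  exact tn (inv_mul_eq_one.1 this ▸ hT.le (hT.Z_le hz))

/-- an element of `Z` moving `s` inside `N b` fixes `b` -/
theorem fix_of (hab : a ≠ b) (hT : BSc (N a) T Z) (h1 : iibA N a b ⊆ Z) {s y : G} (hs : s ∈ N b) (s2 : s * s = 1)
    (sa : s • a = a) (sn : s ∉ N a) (hy : y ∈ Z) (e : y * s * y⁻¹ ∈ N b) : y • b = b := by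
  by_contra n
  have h2 : insert (y * s * y⁻¹) (iibD N a b) ⊆ iibD N b (y • b) := Set.insert_subset
    ⟨e, h.toHyp.conj_mem_N hs, (iib_sq y).2 s2⟩ fun w hw => ⟨hw.2.1, by
      rw [← conj_eq_of_mem (hT.T_le_cent (hT.Z_le hy)) (h1 ⟨hw.1, h.fix b w hw.2.1, hw.2.2⟩)]
      exact h.toHyp.conj_mem_N hw.2.1, hw.2.2⟩
  have h3 := Set.ncard_le_ncard h2
  have ya := hT.le (hT.Z_le hy)
  rw [Set.ncard_insert_of_notMem fun k => sn (by
    simpa [mul_assoc] using mul_mem (mul_mem (inv_mem ya) k.1) ya), (h.toHyp.iib_card hab (Ne.symm n)).1] at h3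
  omega

theorem false (hab : a ≠ b) : False := by
  obtain ⟨T, Z, hT, h1, hn⟩ := h.syl hab
  obtain ⟨T', Z', hT', h1', -⟩ := h.syl hab.symm
  have nf := h.not_fx hab hT h1 hn
  have nc : ∀ s ∈ Z' ⊓ stabilizer G a, s ∉ N a → s ∉ 𝒞(Z) := fun s hs sn c => nf fun y hy =>
    h.fix_of hab hT.toBSc h1 (hT'.le (hT'.Z_le hs.1)) (hT'.Z_sq hs.1) hs.2 sn hy (by
      rw [comm_of_mem c hy, mul_inv_cancel_right]; exact hT'.le (hT'.Z_le hs.1))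
  have nn : ∀ s ∈ Z' ⊓ stabilizer G a, s ∈ 𝒩(N a) ⊓ 𝒩(T) := fun s hs =>
    ⟨h.toHyp.norm hs.2, hn s hs.2 (h.fix b s (hT'.le (hT'.Z_le hs.1)))⟩
  obtain ⟨s, sb, sa, s2, sn⟩ := h.exA b a hab.symm
  have hs : s ∈ Z' ⊓ stabilizer G a := ⟨h1' ⟨sb, sa, s2⟩, sa⟩
  -- `a₀ ≤ 2 d`
  have c1 : Nat.card (Z' ⊓ stabilizer G a : Subgroup G) = 2 * Nat.card (Z' ⊓ N a : Subgroup G) := by
    have hle : Z' ⊓ N a ≤ Z' ⊓ stabilizer G a := inf_le_inf_left _ (h.fix a)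
    rw [← Nat.card_congr (subgroupOfEquivOfLe hle).toEquiv, ← ((Z' ⊓ N a).subgroupOf _).index_mul_card]
    congr 1
    refine index_eq_two_iff.2 ⟨⟨s, hs⟩, fun ⟨w, hw⟩ => ?_⟩
    by_cases k : w ∈ N a
    · exact .inr ⟨⟨hw.1, k⟩, fun l => sn (((N a).mul_mem_cancel_left k).1 l.2)⟩
    · refine .inl ⟨⟨mul_mem hw.1 hs.1, by_contra fun l => ?_⟩, fun l => k l.2⟩
      rcases hT.four w (nn w hw) s (nn s hs) (hT'.Z_sq hw.1) s2 (hT'.Z_comm hw.1 (hT'.Z_le hs.1)) with m | m | m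
      exacts [nc w hw k (hT.tc_cent m), nc s hs sn (hT.tc_cent m), nc _ (mul_mem hw hs) l (hT.tc_cent m)]
  have c2 : Nat.card (Z ⊓ stabilizer G b : Subgroup G) = Nat.card (Z' ⊓ stabilizer G a : Subgroup G) := by
    have := (h.toHyp.iib_card hab hab.symm).2
    rwa [eqA hT.toBSc h1, eqA hT'.toBSc h1'] at this
  have c3 : Nat.card (Z ⊓ N b : Subgroup G) = Nat.card (Z' ⊓ N a : Subgroup G) := by
    have := (h.toHyp.iib_card hab hab.symm).1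
    rwa [h.eqD hT.toBSc h1, h.eqD hT'.toBSc h1'] at this
  -- the commutator map
  obtain ⟨-, c4⟩ := hT.inv s (nn s hs) (s2 ▸ one_mem _) (nc s hs sn)
  have sZ : ∀ y ∈ Z, s * y * s⁻¹ ∈ Z := fun y hy => conj_mem (hT.norm_Z (nn s hs).2) hy
  let φ : Z →* G := MonoidHom.mk' (fun y => y * (s * y * s⁻¹)) fun x y => by
    rw [coe_mul, ← conj_mul, mul_assoc (x : G), mul_assoc (x : G), ← mul_assoc (y : G),
      hT.Z_comm y.2 (hT.Z_le (sZ _ x.2)), mul_assoc (s * x * s⁻¹)]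
  have e1 : ∀ y : Z, φ y = y * s * (y : G)⁻¹ * s := fun y => by
    change y * (s * y * s⁻¹) = _
    rw [inv_of_sq (hT.Z_sq y.2), inv_of_sq s2, ← mul_assoc, ← mul_assoc]
  have e2 : φ.ker = (Z ⊓ centralizer {s}).subgroupOf Z := Subgroup.ext fun y => by
    rw [MonoidHom.mem_ker, e1, mul_eq_one_iff_eq_inv, inv_of_sq s2, mul_inv_eq_iff_eq_mul, mem_subgroupOf, mem_inf,
      mem_centralizer_singleton_iff, and_iff_right y.2]
  have e3 : φ.range ≤ Z ⊓ centralizer {s} := by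
    rintro _ ⟨y, rfl⟩
    refine ⟨mul_mem y.2 (sZ _ y.2), mem_centralizer_singleton_iff.2 ?_⟩
    change y * (s * y * s⁻¹) * s = s * (y * (s * y * s⁻¹))
    rw [mul_assoc, inv_mul_cancel_right, hT.Z_comm y.2 (hT.Z_le (sZ _ y.2)), ← mul_assoc s, ← mul_assoc s,
      ← mul_assoc s, s2, one_mul, inv_of_sq s2, mul_assoc]
  have c5 := φ.ker.index_mul_card
  rw [index_ker, e2, Nat.card_congr (subgroupOfEquivOfLe inf_le_left).toEquiv, c4, sq, Nat.mul_left_inj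
    Nat.card_pos.ne'] at c5
  have e4 : Z ⊓ N b ≤ φ.range := by
    rw [eq_of_le_of_card_ge e3 c5.ge]
    exact fun w hw => ⟨hw.1, mem_centralizer_singleton_iff.2 (hT'.Z_comm
      (h1' ⟨hw.2, h.fix a w (hT.le (hT.Z_le hw.1)), hT.Z_sq hw.1⟩) (hT'.Z_le hs.1))⟩
  have c6 := ((Z ⊓ N b).comap φ).index_mul_card
  have c7 := ((Z ⊓ N b).subgroupOf φ.range).index_mul_card
  rw [Nat.card_congr (subgroupOfEquivOfLe e4).toEquiv, c5] at c7
  rw [index_comap, c4, relIndex] at c6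
  have c8 : Nat.card ((Z ⊓ N b).comap φ) ≤ Nat.card (Z ⊓ stabilizer G b : Subgroup G) := by
    rw [← Nat.card_congr (subgroupOfEquivOfLe (inf_le_left : Z ⊓ stabilizer G b ≤ Z)).toEquiv]
    refine card_le_of_le fun y hy => ⟨y.2, h.fix_of hab hT.toBSc h1 sb s2 sa sn y.2 ?_⟩
    exact ((N b).mul_mem_cancel_right sb).1 (e1 y ▸ hy.2)
  have c9 : Nat.card (Z ⊓ stabilizer G b : Subgroup G) < Nat.card Z :=
    (card_le_of_le inf_le_left).lt_of_ne fun e => nf (le_inf_iff.1 (eq_of_le_of_card_ge inf_le_left e.ge).ge).2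
  have c10 : 1 < Nat.card (Z ⊓ N b : Subgroup G) := by
    obtain ⟨u, ua, ub, u2, u1⟩ := h.exD a b hab
    exact (one_lt_card_iff_ne_bot _).2 fun e => u1 (mem_bot.1 (e ▸ ⟨h1 ⟨ua, h.fix b u ub, u2⟩, ub⟩))
  have c11 := hT.four_le
  rw [c2, c1, ← c3] at c8 c9
  rw [c4] at c9 c11
  generalize Nat.card (Z ⊓ N b : Subgroup G) = d at *
  generalize Nat.card (Z ⊓ centralizer {s} : Subgroup G) = r at *
  generalize ((Z ⊓ N b).subgroupOf φ.range).index = i at *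
  have c12 : r ^ 2 ≤ 2 * r := by rw [← c6, ← c7]; nlinarith
  have c13 : r ≤ 2 := by nlinarith
  nlinarith

end IIB

theorem iib : IIb.{u, v} := by
  intro G Ω _ _ _ _ N h ⟨a, b, hab, u, hu, u2, u1⟩ x y t ht t2 tx
  by_contra n
  have hxy : y ≠ x := fun e => n (e ▸ ht)
  refine IIB.false ⟨h, fun c d hcd => ?_, fun c d hcd => ?_⟩ hab
  · obtain ⟨g, rfl, rfl⟩ := h.two a b c d hab hcd
    exact ⟨_, h.conj_mem_N hu.1, h.conj_mem_N hu.2, (iib_sq g).2 u2, by simpa using u1⟩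
  · obtain ⟨g, rfl, rfl⟩ := h.two y x c d hxy hcd
    exact ⟨_, h.conj_mem_N ht, CL.ZD.conj_fix_iff.2 tx, (iib_sq g).2 t2, mt (h.iib_mem g).1 n⟩

end CL.Hir
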