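/-
Project HIR (S2208), job O4: in degree 11 the group is its socle of order 660.
-/
import Cfsg.Agent.Perm.Hir1

set_option autoImplicit false
open Cfsg Subgroup MulAction CL.Even CL.Grp CL.Loc
open CL.Bender (Fx st2)

namespace CL.Hir

universe u v

section Local

variable {G : Type*} [Group G] [Finite G] {L T Z : Subgroup G}

omit [Finite G] in
theorem o4_centT (h : BSc L T Z) {g : G} (hg : ∀ T', IsSylowIn 2 T' L → g ∈ 𝒩(T')) : g ∈ 𝒞(T) := by
  obtain ⟨T₁, h1, hne⟩ := h.ex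
  refine mem_centralizer_iff.2 fun x hx => ?_
  have h2 : x⁻¹ * g * x ∈ 𝒩(T₁) := mem_norm_cj.1 (hg _ (syl_cj_of_mem_norm h1 (le_normalizer (h.le hx))))
  have h3 := h.free (x⁻¹ * (g * x * g⁻¹)) (mul_mem (inv_mem hx) (conj_mem (hg T h.syl) hx)) T₁ h1 hne (by
    rw [show x⁻¹ * (g * x * g⁻¹) = x⁻¹ * g * x * g⁻¹ by group]
    exact mul_mem h2 (inv_mem (hg T₁ h1)))
  rw [inv_mul_eq_one, eq_mul_inv_iff_mul_eq] at h3
  exact h3

omit [Finite G] in
/-- an element normalising all Sylow 2-subgroups of `L` centralises `L`. -/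
theorem o4_cent (hb : ∀ T', IsSylowIn 2 T' L → ∃ Z', BSc L T' Z') (h : BSc L T Z) {g : G}
    (hg : ∀ T', IsSylowIn 2 T' L → g ∈ 𝒩(T')) : g ∈ 𝒞(L) := by
  obtain ⟨T₁, h1, hne⟩ := h.ex
  obtain ⟨Z₁, h2⟩ := hb T₁ h1
  have e : g ∈ 𝒞(T ⊔ T₁) := by
    rw [cent_sup]
    exact ⟨o4_centT h hg, o4_centT h2 hg⟩
  rwa [h.gen T₁ h1 hne] at e

theorem o4_one (h : BSc L T Z) (h4 : Nat.card T = 4) {w : G} (hw : w ∈ L) (h5 : w ^ 5 = 1) (hn : w ∈ 𝒩(T)) :
    w = 1 := by
  have h1 : orderOf (T.normalizerMonoidHom ⟨w, hn⟩) ∣ 5 := by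
    rw [orderOf_dvd_iff_pow_eq_one, ← map_pow]
    exact (congrArg _ (Subtype.ext h5)).trans (map_one _)
  have h2 : orderOf (T.normalizerMonoidHom ⟨w, hn⟩) ∣ 24 := by
    refine (_root_.orderOf_dvd_natCard _).trans ?_
    have := card_dvd_of_injective (MulAut.toPerm T) fun a b e => MulEquiv.toEquiv_injective e
    rwa [Nat.card_perm, h4] at this
  have h3 : (⟨w, hn⟩ : 𝒩(T)) ∈ T.normalizerMonoidHom.ker :=
    orderOf_eq_one_iff.1 (Nat.eq_one_of_dvd_coprimes (by norm_num) h1 h2)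
  rw [normalizerMonoidHom_ker, mem_subgroupOf] at h3
  obtain ⟨z, hz, e⟩ := h.ct (le_normalizer hw) h3
  exact eq_one_of_coprime_of_mem h.two
    (Nat.Coprime.coprime_dvd_left (orderOf_dvd_of_pow_eq_one h5) (by norm_num)) (h.tc_mem ⟨z, h.Z_le hz, e⟩ hw)

/-- an element of order 5 is transitive on the five Sylow 2-subgroups. -/
theorem o4_five (h : BSc L T Z) (h4 : Nat.card T = 4) {e : G} (he : e ∈ L) (ho : orderOf e = 5) {T₁ : Subgroup G}
    (h1 : IsSylowIn 2 T₁ L) : ∃ x ∈ zpowers e, cj x T = T₁ := by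
  have hc : Nat.card (zpowers e) = 5 := by rw [Nat.card_zpowers, ho]
  have hl : zpowers e ≤ L := zpowers_le.2 he
  have hi : Function.Injective fun x : zpowers e => cj (x : G) T := fun x y hxy => by
    have h2 : ((y⁻¹ * x : zpowers e) : G) ∈ 𝒩(T) := cj_eq_iff_mem.1 (by
      rw [coe_mul, cj_mul, show cj (x : G) T = cj (y : G) T from hxy, coe_inv, cj_inv_cj])
    have h3 := o4_one h h4 (hl (y⁻¹ * x).2) (by rw [← hc, ← coe_pow, pow_card_eq_one', coe_one]) h2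
    exact (inv_mul_eq_one.1 (Subtype.ext h3)).symm
  have h2 : (Set.range fun x : zpowers e => cj (x : G) T) = {T₁ : Subgroup G | IsSylowIn 2 T₁ L} := by
    refine Set.eq_of_subset_of_ncard_le ?_ ?_ (Set.toFinite _)
    · rintro _ ⟨x, rfl⟩
      exact syl_cj_of_mem_norm h.syl (le_normalizer (hl x.2))
    · rw [h.card_syl, h4, Set.ncard_range_of_injective hi, hc]
  obtain ⟨x, hx⟩ := h2.ge h1
  exact ⟨x, x.2, hx⟩

theorem o4_loc (hb : ∀ T', IsSylowIn 2 T' L → ∃ Z', BSc L T' Z') (h : BSc L T Z) (h4 : Nat.card T = 4) {e g : G}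
    (he : e ∈ L) (ho : orderOf e = 5) (hg : g ∈ 𝒩(L)) (hc : Commute e g) : ∃ x ∈ zpowers e, x⁻¹ * g ∈ 𝒞(L) := by
  obtain ⟨x, hx, e1⟩ := o4_five h h4 he ho (syl_cj_of_mem_norm h.syl hg)
  refine ⟨x, hx, o4_cent hb h fun T' hT' => ?_⟩
  obtain ⟨y, ⟨n, rfl⟩, rfl⟩ := o4_five h h4 he ho hT'
  obtain ⟨m, rfl⟩ := hx
  have h1 : Commute (e ^ n) ((e ^ m)⁻¹ * g) := (((Commute.refl e).zpow_right m).inv_right.mul_right hc).zpow_left n
  refine mem_norm_cj.2 ?_
  rw [mul_assoc, ← h1.eq, inv_mul_cancel_left]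
  exact cj_eq_iff_mem.1 (by rw [cj_mul, ← e1, cj_inv_cj])

/-- a simple group of order 660 has an element of order 5 normalising a subgroup of order 11. -/
theorem o4_syl {M : Subgroup G} (hs : IsSimpleGroup M) (hM : Nat.card M = 660) :
    ∃ P : Subgroup G, IsSylowIn 11 P M ∧ Nat.card P = 11 ∧ ∃ e ∈ M ⊓ 𝒩(P), orderOf e = 5 := by
  have : Fact (Nat.Prime 11) := ⟨by norm_num⟩
  have : Fact (Nat.Prime 5) := ⟨by norm_num⟩
  obtain ⟨P, hP⟩ := exists_isSylowIn 11 M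
  have h0 := card_mul_relIndex hP.1
  have h1 : Nat.card P = 11 := by
    obtain ⟨n, hn⟩ := IsPGroup.iff_card.1 hP.2.1
    have h2 := hP.2.2
    rw [hM, hn] at h0
    rcases n with _ | _ | n
    · exact absurd (by omega) h2
    · exact hn
    · rw [show 11 ^ (n + 1 + 1) * P.relIndex M = 121 * (11 ^ n * P.relIndex M) by ring] at h0
      omega
  refine ⟨P, hP, h1, ?_⟩
  have h2 : (𝒩(P)).relIndex M = Nat.card (Sylow 11 M) := by
    rw [hP.toSylow.card_eq_index_normalizer, relIndex, subgroupOf_normalizer_eq hP.1]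
    rfl
  have h3 : (𝒩(P)).relIndex M ∣ 60 := by
    have := relIndex_dvd_of_le_left M (le_normalizer : P ≤ 𝒩(P))
    rwa [show P.relIndex M = 60 by rw [h1, hM] at h0; omega] at this
  have h4 : (𝒩(P)).relIndex M % 11 = 1 := by
    rw [h2]
    exact card_sylow_modEq_one 11 M
  have h5 : (𝒩(P)).relIndex M ≠ 1 := fun e => by
    have h6 := card_subgroupOf_of_le hP.1
    rcases hs.eq_bot_or_eq_top_of_normal _
      ((normal_subgroupOf_iff_le_normalizer hP.1).2 (relIndex_eq_one.1 e)) with h7 | h7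
    · rw [h7, card_bot] at h6
      omega
    · rw [h7, card_top] at h6
      omega
  have h6 : (𝒩(P)).relIndex M = 12 := by
    have := Nat.le_of_dvd (by norm_num) h3
    generalize (𝒩(P)).relIndex M = k at *
    interval_cases k <;> omega
  have h7 := card_inf_mul_relIndex 𝒩(P) M
  rw [h6, hM] at h7
  obtain ⟨e, he⟩ := exists_prime_orderOf_dvd_card' (G := (𝒩(P) ⊓ M : Subgroup G)) 5 (by omega)
  exact ⟨e, ⟨e.2.2, e.2.1⟩, by rw [orderOf_coe, he]⟩

end Local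

theorem o4 : O4.{u, v} := by
  intro G Ω _ _ _ _ N M h _ hΩ hM
  have : Fact (Nat.Prime 11) := ⟨by norm_num⟩
  have : Fact (Nat.Prime 5) := ⟨by norm_num⟩
  have := h.normal
  obtain ⟨P, hP, cP, e, he, oe⟩ := o4_syl h.simpleM hM
  obtain ⟨a, ha⟩ := (isPGroup_zpowers (p := 5) (x := e) (k := 1)
    (by rw [pow_one, ← oe, pow_orderOf_eq_one])).nonempty_fixed_point_of_prime_not_dvd_card Ω (by rw [hΩ]; decide)
  have ea : e • a = a := ha ⟨e, mem_zpowers e⟩
  have hi : (stabilizer G a).relIndex M = 11 ^ 1 := by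
    have : IsPretransitive M Ω := ⟨fun x y => let ⟨m, hm, e⟩ := h.toSoc.trans x y; ⟨⟨m, hm⟩, e⟩⟩
    exact (index_stabilizer_of_transitive M a).trans hΩ
  obtain ⟨T, Z, hT⟩ := h.toHyp.ex_syl a
  have h4 : Nat.card T = 4 := by
    obtain ⟨h1, -, h2 | h2⟩ := h.sylM T ⟨a, hT.syl⟩
    · exact h2
    · have := card_dvd_of_le h1.1
      rw [h2, hM] at this
      omega
  have hL : N a = stabilizer G a ⊓ M := by
    refine eq_of_le_of_card_ge (le_inf (fun x hx => h.fix a x hx) (h.le a)) ?_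
    have h1 := card_inf_mul_relIndex (stabilizer G a) M
    have := (hT.q4 h4).1
    rw [hi, hM] at h1
    omega
  have eL : e ∈ N a := hL ▸ ⟨ea, he.1⟩
  have tP : ∀ b, ∃ s ∈ P, s • a = b := fun b => by
    obtain ⟨m, hm, rfl⟩ := h.toSoc.trans a b
    obtain ⟨k, hk, s, hs, e⟩ := hP.exists_mul_eq_of_relIndex_pow hi (inv_mem hm)
    refine ⟨s⁻¹, inv_mem hs, ?_⟩
    rw [← inv_inv m, e, mul_inv_rev, mul_smul, mem_stabilizer_iff.1 (inv_mem hk)]
  set H : Subgroup G := 𝒩(P) ⊓ stabilizer G a with hH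
  let φ : H →* MulAut P := P.normalizerMonoidHom.comp (inclusion inf_le_left)
  have hφ : Function.Injective φ := by
    refine (injective_iff_map_eq_one φ).2 fun x hx => Subtype.ext (h.faithful _ fun b => ?_)
    have h1 : inclusion inf_le_left x ∈ P.normalizerMonoidHom.ker := hx
    rw [normalizerMonoidHom_ker, mem_subgroupOf] at h1
    obtain ⟨s, hs, rfl⟩ := tP b
    exact fix_smul_of_comm (comm_of_mem h1 hs) x.2.2
  have hc : IsCyclic P := isCyclic_of_prime_card cP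
  have h10 : Nat.card H ∣ 10 := by
    have := card_dvd_of_injective φ hφ
    rwa [IsCyclic.card_mulAut, cP, Nat.totient_prime (by norm_num)] at this
  have eH : e ∈ H := ⟨he.2, ea⟩
  have h2 : M.relIndex H ∣ 2 := by
    have h1 := card_inf_mul_relIndex M H
    obtain ⟨k, hk⟩ := (M ⊓ H).orderOf_dvd_natCard (x := e) ⟨he.1, eH⟩
    rw [← h1, hk, oe, mul_assoc] at h10
    exact (Dvd.intro_left _ rfl).trans (Nat.dvd_of_mul_dvd_mul_left (by norm_num : 0 < 5) h10)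
  have key : H ≤ M := fun g hg => by
    have h1 : Commute e g := by
      have : φ (⟨e, eH⟩ * ⟨g, hg⟩) = φ (⟨g, hg⟩ * ⟨e, eH⟩) := by
        apply (IsCyclic.mulAutMulEquiv P).injective
        simp only [map_mul]
        exact mul_comm _ _
      exact congrArg Subtype.val (hφ this)
    obtain ⟨x, hx, hx'⟩ := o4_loc (fun T' hT' => let ⟨Z', h'⟩ := h.ben a T' hT'; ⟨Z', h'.toBSc⟩) hT.toBSc h4 eL oe
      (h.toHyp.norm hg.2) h1
    have h3 : x⁻¹ * g ∈ M := by
      refine CL.ZD.mem_of_sq_mem (CL.ZD.odd_ord_of_mem (h.codd a) hx') ?_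
      obtain ⟨k, hk⟩ := h2
      rw [← sq, hk, pow_mul]
      exact pow_mem (M.pow_relIndex_mem (mul_mem (inv_mem (zpowers_le.2 eH hx)) hg)) k
    simpa using mul_mem (zpowers_le.2 he.1 hx) h3
  refine eq_top_iff.2 fun g _ => ?_
  obtain ⟨n, hn, h1⟩ := hP.frattini (H := ⊤) (by rw [normalizer_eq_top]) (mem_top g)
  obtain ⟨s, hs, h3⟩ := tP ((n * g) • a)
  have h5 : s⁻¹ * (n * g) ∈ M := key (mem_inf.2 ⟨mul_mem (inv_mem (le_normalizer hs)) h1, by
    rw [mem_stabilizer_iff, mul_smul, ← h3, inv_smul_smul]⟩)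
  simpa using mul_mem (inv_mem hn) (mul_mem (hP.1 hs) h5)

end CL.Hir
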