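/-
Project HIR (S2208), job FP: the partial case has degree six.
-/
import Cfsg.Agent.Perm.Hir1
import Cfsg.Agent.ZD.SzTwo
import Cfsg.Agent.Grp.Coprime2
import Cfsg.Agent.Grp.Frob2

set_option autoImplicit false
set_option linter.unusedSectionVars false
open Cfsg Subgroup MulAction CL.Even CL.Grp CL.Loc
open CL.Bender (Fx st2)
open CL.ZD (inv_of_sq comm_of_sq mem_cent1)

namespace CL.Hir

universe u v

variable {G : Type*} [Group G] [Finite G]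

theorem p_cyc {K : Subgroup G} (hK : IsCyclic K) {k k' : G} (hk : k ∈ K) (hk' : k' ∈ K) (h : k ^ orderOf k' = 1) :
    k ∈ zpowers k' := by
  classical
  have := Fintype.ofFinite K
  have h1 := IsCyclic.card_pow_eq_one_le (α := K) (orderOf_pos k')
  have h2 : (Finset.univ.filter fun a : K => a ∈ zpowers (⟨k', hk'⟩ : K)) =
      Finset.univ.filter fun a : K => a ^ orderOf k' = 1 := by
    refine Finset.eq_of_subset_of_card_le (fun a ha => ?_) (h1.trans ?_)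
    · simp only [Finset.mem_filter, Finset.mem_univ, true_and] at ha ⊢
      exact orderOf_dvd_iff_pow_eq_one.1 ((orderOf_dvd_of_mem_zpowers ha).trans (orderOf_mk _ _).dvd)
    · rw [← Fintype.card_subtype, ← Nat.card_eq_fintype_card, Nat.card_zpowers, orderOf_mk]
  have h3 : (⟨k, hk⟩ : K) ∈ Finset.univ.filter fun a : K => a ^ orderOf k' = 1 := by simpa [Subtype.ext_iff] using h
  rw [← h2] at h3
  obtain ⟨n, hn⟩ := (Finset.mem_filter.1 h3).2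
  exact ⟨n, congrArg Subtype.val hn⟩

theorem p_not_cyc {A : Subgroup G} (h : ∀ a ∈ A, a * a = 1) {a b : G} (ha : a ∈ A) (hb : b ∈ A) (a1 : a ≠ 1)
    (b1 : b ≠ 1) (ab : a ≠ b) : ¬ IsCyclic A := fun hc => by
  classical
  have h1 := p_cyc hc ha hb (by rw [CL.ZD.ord_of_sq (h b hb) b1, sq, h a ha])
  rw [mem_zpowers_iff_mem_range_orderOf, CL.ZD.ord_of_sq (h b hb) b1] at h1
  simp [Finset.range_add_one, ab, a1] at h1

/-- The fibres of `x ↦ x⁻¹ s x s⁻¹` are cosets of the centraliser. -/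
theorem p_fib {T : Subgroup G} (s : G) {A B : Set G} (hA : A ⊆ T) (hB : ∀ x ∈ A, x⁻¹ * (s * x * s⁻¹) ∈ B) :
    A.ncard ≤ Nat.card (T ⊓ centralizer {s} : Subgroup G) * B.ncard := by
  classical
  rw [Set.ncard_eq_toFinset_card A, Set.ncard_eq_toFinset_card B]
  refine Finset.card_le_mul_card_image_of_maps_to (f := fun x => x⁻¹ * (s * x * s⁻¹)) (by simpa using hB) _
    fun b _ => ?_
  rcases (A.toFinite.toFinset.filter fun x => x⁻¹ * (s * x * s⁻¹) = b).eq_empty_or_nonempty with e | ⟨x, hx⟩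
  · simp [e]
  rw [← Set.ncard_coe_finset, ← SetLike.coe_sort_coe, Nat.card_coe_set_eq]
  refine Set.ncard_le_ncard_of_injOn (· * x⁻¹) (fun y hy => ?_) fun _ _ _ _ e => mul_right_cancel e
  simp only [Finset.coe_filter, Set.Finite.mem_toFinset, Set.mem_ofPred_eq, Finset.mem_filter] at hx hy
  refine ⟨T.mul_mem (hA hy.1) (T.inv_mem (hA hx.1)), mem_cent1.2 ?_⟩
  calc y * x⁻¹ * s = y * (x⁻¹ * (s * x * s⁻¹)) * s * x⁻¹ := by group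
    _ = _ := by rw [hx.2, ← hy.2]; group

/-- A four-group acting on an odd section. -/
theorem p_norm {T R R' Ker U : Subgroup G} (hR : R ≤ 𝒩(T)) (hK : Ker ≤ 𝒩(T)) (hn : R ≤ 𝒩(Ker)) (hU : U ≤ Ker)
    (ho : Odd (Nat.card U)) (hUn : ∀ y ∈ Ker, ∀ u ∈ U, ∃ x ∈ 𝒞(T), ∃ u' ∈ U, x * u' = y * u * y⁻¹)
    (sq : ∀ ρ ∈ R, ρ * ρ = 1) (cR : ∀ ρ ∈ R, ρ ≠ 1 → T ⊓ centralizer {ρ} = R') (hne : ¬ T ≤ R') (hle : R' ≤ T)
    (big : 2 < Nat.card R) : U ≤ 𝒩(R') := by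
  let φ := T.normalizerMonoidHom
  have hφ : ∀ g x, (φ g x : G) = g * x * g⁻¹ := fun _ _ => rfl
  let Φ : Subgroup G → Subgroup (MulAut T) := fun H => (H.subgroupOf 𝒩(T)).map φ
  have mem : ∀ {H : Subgroup G} {g : G} (hg : g ∈ 𝒩(T)), g ∈ H → φ ⟨g, hg⟩ ∈ Φ H := fun hg h => ⟨_, h, rfl⟩
  have inj : ∀ g : 𝒩(T), (g : G) ∈ R → φ g = 1 → (g : G) = 1 := fun g hg e => by_contra fun h1 => hne fun x hx => by
    rw [← cR g hg h1]
    exact ⟨hx, mem_cent1.2 (mul_inv_eq_iff_eq_mul.1 ((hφ g ⟨x, hx⟩).symm.trans (by rw [e]; rfl))).symm⟩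
  have nrm : ∀ {H H' : Subgroup G}, (∀ y ∈ H, ∀ u ∈ H', ∃ x ∈ 𝒞(T), ∃ u' ∈ H', x * u' = y * u * y⁻¹) →
      Φ H ≤ 𝒩(Φ H') := fun {H H'} h => by
    rintro _ ⟨y, hy, rfl⟩
    refine mem_norm_of_cj_le ?_
    rintro _ ⟨_, ⟨u, hu, rfl⟩, rfl⟩
    obtain ⟨x, hx, u', hu', e⟩ := h y hy u hu
    have hx' := cent_le_norm _ hx
    have h1 : u' ∈ 𝒩(T) := by
      rw [eq_inv_mul_of_mul_eq e]; exact mul_mem (inv_mem hx') (y * u * y⁻¹).2
    have h2 : φ ⟨x, hx'⟩ = 1 := MonoidHom.mem_ker.1 (T.normalizerMonoidHom_ker ▸ hx)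
    refine ⟨⟨u', h1⟩, hu', ?_⟩
    rw [← one_mul (φ _), ← h2, ← map_mul, show (⟨x, hx'⟩ * ⟨u', h1⟩ : 𝒩(T)) = y * u * y⁻¹ from Subtype.ext e]
    simp
  have sq' : ∀ a ∈ Φ R, a * a = 1 := by
    rintro _ ⟨g, hg, rfl⟩
    rw [← map_mul, show g * g = 1 from Subtype.ext (sq g hg), map_one]
  have : IsMulCommutative (Φ R) := ⟨⟨fun a b => Subtype.ext (comm_of_sq sq' a.2 b.2)⟩⟩
  have hc : ¬ IsCyclic (Φ R) := by
    let _ := Fintype.ofFinite R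
    rw [Nat.card_eq_fintype_card] at big
    obtain ⟨a, ha⟩ := Fintype.exists_ne_of_one_lt_card (by omega) (1 : R)
    obtain ⟨b, hb⟩ : ∃ b : R, b ≠ 1 ∧ b ≠ a := by
      by_contra h
      push Not at h
      classical
      have h1 : (Finset.univ : Finset R) ⊆ {1, a} := fun l _ => by
        by_cases e : l = 1
        · simp [e]
        · simp [h l e]
      have h2 := (Finset.card_le_card h1).trans Finset.card_le_two
      rw [Finset.card_univ] at h2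
      omega
    refine p_not_cyc sq' (mem (hR a.2) a.2) (mem (hR b.2) b.2) (fun e => ha (Subtype.ext (inj _ a.2 e)))
      (fun e => hb.1 (Subtype.ext (inj _ b.2 e))) fun e => hb.2 (Subtype.ext ?_)
    exact (inv_mul_eq_one.1 (inj (⟨a, hR a.2⟩⁻¹ * ⟨b, hR b.2⟩) (mul_mem (inv_mem a.2) b.2)
      (by rw [map_mul, map_inv, e, inv_mul_cancel]))).symm
  let M : Subgroup (MulAut T) :=
    { carrier := {α | ∀ x : T, (α x : G) ∈ R' ↔ (x : G) ∈ R'}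
      one_mem' := fun _ => Iff.rfl
      mul_mem' := fun {a b} ha hb x => (ha (b x)).trans (hb x)
      inv_mem' := fun {a} ha x => by rw [← ha (a⁻¹ x)]; simp }
  have hW : pPrimeCoreOf 2 (Φ Ker) ≤ M := by
    obtain ⟨n, hn'⟩ := IsPGroup.iff_card.1 (CL.ZD.two_of_sq sq')
    refine le_of_forall_centralizer_le hc ((nrm fun y hy u hu => ⟨1, one_mem _, _, conj_mem (hn hy) hu, one_mul _⟩).trans
      (normalizer_le_normalizer_pPrimeCoreOf 2 _)) (hn' ▸ (pPrimeCoreOf_coprime 2 _).symm.pow_left n) ?_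
    rintro _ ⟨g, hg, rfl⟩ h1 α ⟨-, hα⟩ x
    have h2 : ∀ y : T, (y : G) ∈ R' ↔ φ g y = y := fun y => by
      rw [← cR g hg fun e => h1 (by rw [show g = 1 from Subtype.ext e, map_one]), mem_inf, mem_cent1, Subtype.ext_iff, hφ]
      exact ⟨fun h => mul_inv_eq_iff_eq_mul.2 h.2.symm, fun h => ⟨y.2, (mul_inv_eq_iff_eq_mul.1 h).symm⟩⟩
    rw [h2, h2, ← MulAut.mul_apply, ← mem_cent1.1 hα, MulAut.mul_apply, α.injective.eq_iff]
  have hUW : Φ U ≤ pPrimeCoreOf 2 (Φ Ker) := le_pPrimeCoreOf (map_mono (comap_mono hU)) (nrm hUn)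
    (Nat.coprime_two_right.2 (ho.of_dvd_nat ((card_map_dvd _ _).trans
      (Nat.card_congr (subgroupOfEquivOfLe (hU.trans hK)).toEquiv).dvd)))
  refine le_norm_of_cj_le fun u hu => ?_
  rintro _ ⟨x, hx, rfl⟩
  exact (hW (hUW (mem (hK (hU hu)) hu)) ⟨x, hle hx⟩).2 hx

variable {Ω : Type*} [MulAction G Ω] [Finite Ω] {N : Ω → Subgroup G} {f : ℕ} {T T' Z : Subgroup G} {γ : Ω}
  (h : FS N f) (p : Pair N f T T') (hZ : BS (N γ) T Z)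
include h p hZ

theorem p_disj {x : G} (hx : x ∈ T) (hx' : x ∈ T') : x = 1 := by_contra fun e => p.ne (h.blk_eq p.blk p.blk' hx hx' e)

theorem p_cent {ρ x : G} (hρ : ρ ∈ T' ⊓ 𝒩(T)) (hx : x ∈ T ⊓ 𝒩(T')) : x * ρ = ρ * x := by
  by_cases e : ρ = 1
  · simp [e]
  · exact mem_cent1.1 (p.cR ρ hρ e ▸ hx).2

theorem p_exists {z : G} (hz : z ∈ Z) (hn : z ∉ 𝒩(T')) :
    ∃ u ∈ Z, u ∉ 𝒩(T') ∧ ∀ ρ ∈ T' ⊓ 𝒩(T), u * ρ * u⁻¹ * ρ⁻¹ ∈ Z ⊓ 𝒩(T') := by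
  obtain ⟨a, ha⟩ := p.blk'
  have h1 : T' ⊓ 𝒩(T) ≤ 𝒩(Z) := inf_le_right.trans hZ.norm_Z
  have h2 : T' ⊓ 𝒩(T) ≤ 𝒩(Z ⊓ 𝒩(T')) := le_norm_inf h1 (inf_le_left.trans (le_normalizer.trans le_normalizer))
  have h3 : ∀ x ∈ Z, x ∈ (Z ⊓ 𝒩(T')) ⊔ (T' ⊓ 𝒩(T)) → x ∈ 𝒩(T') := fun x _ hx =>
    (sup_le inf_le_right (inf_le_left.trans le_normalizer) : _ ≤ 𝒩(T')) hx
  have h4 := lt_inf_normalizer_of_isPGroup (isPGroup_sup' hZ.Z_two (ha.2.1.to_inf_left) h1)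
    (D := (Z ⊓ 𝒩(T')) ⊔ (T' ⊓ 𝒩(T))) (lt_of_le_of_ne (sup_le_sup_right inf_le_left _) fun e =>
      hn (h3 z hz (e ▸ mem_sup_left hz)))
  obtain ⟨x, ⟨h5, h6⟩, h7⟩ := SetLike.exists_of_lt h4
  obtain ⟨u, hu, r, hr, rfl⟩ := (mem_sup_nl h1).1 h5
  have h8 : u ∈ 𝒩((Z ⊓ 𝒩(T')) ⊔ (T' ⊓ 𝒩(T))) := (mul_mem_cancel_right (le_normalizer (mem_sup_right hr))).1 h6
  refine ⟨u, hu, fun e => h7 (mul_mem (mem_sup_left ⟨hu, e⟩) (mem_sup_right hr)), fun ρ hρ => ?_⟩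
  have h9 : u * ρ * u⁻¹ * ρ⁻¹ ∈ Z := by
    rw [show u * ρ * u⁻¹ * ρ⁻¹ = u * (ρ * u⁻¹ * ρ⁻¹) by group]
    exact mul_mem hu (conj_mem (h1 hρ) (inv_mem hu))
  exact ⟨h9, h3 _ h9 (mul_mem (conj_mem h8 (mem_sup_right hρ)) (inv_mem (mem_sup_right hρ)))⟩

variable {z : G} (hz : z ∈ Z) (hn : z ∉ 𝒩(T'))
include hz hn

theorem p_one : T ⊓ 𝒩(T') ≤ Z ∧ ∀ ρ ∈ T' ⊓ 𝒩(T), ρ * ρ = 1 := by
  obtain ⟨u, hu, h1, h2⟩ := p_exists h p hZ hz hn
  have inj : ∀ ρ ∈ T' ⊓ 𝒩(T), ∀ ρ' ∈ T' ⊓ 𝒩(T), u * ρ * u⁻¹ * ρ⁻¹ = u * ρ' * u⁻¹ * ρ'⁻¹ → ρ = ρ' := fun ρ hρ ρ' hρ' e => by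
    refine (inv_mul_eq_one.1 (by_contra fun h3 => h1 ?_)).symm
    refine ((p.cR _ (mul_mem (inv_mem hρ') hρ) h3).le (mem_inf.2 ⟨hZ.Z_le hu, mem_cent1.2 ?_⟩)).2
    calc u * (ρ'⁻¹ * ρ) = u * ρ'⁻¹ * u⁻¹ * (u * ρ * u⁻¹ * ρ⁻¹) * ρ * u := by group
      _ = _ := by rw [e]; group
  have h3 : Z ⊓ 𝒩(T') ≤ T ⊓ 𝒩(T') := inf_le_inf_right _ hZ.Z_le
  refine ⟨(eq_of_le_of_card_ge h3 ?_).ge.trans inf_le_left, fun ρ hρ => inj _ (mul_mem hρ hρ) 1 (one_mem _) ?_⟩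
  · rw [p.card_R', ← p.card_R]
    exact Nat.card_le_card_of_injective (fun ρ => ⟨_, h2 ρ ρ.2⟩) fun a b e =>
      Subtype.ext (inj _ a.2 _ b.2 (congrArg Subtype.val e))
  · calc _ = u * ρ * u⁻¹ * ρ⁻¹ * (ρ * (u * ρ * u⁻¹ * ρ⁻¹)) * ρ⁻¹ := by group
      _ = _ := by
        rw [← p_cent h p hZ hρ (h3 (h2 ρ hρ)), ← mul_assoc _ _ ρ, hZ.Z_sq (h2 ρ hρ).1]; group

theorem p_card : ∃ e, 2 ≤ e ∧ Nat.card Z = f * e := by
  obtain ⟨e, he⟩ := card_dvd_of_le (p_one h p hZ hz hn).1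
  refine ⟨e, ?_, p.card_R' ▸ he⟩
  by_contra h1
  have h2 := eq_of_le_of_card_ge (p_one h p hZ hz hn).1 (he.le.trans (mul_le_of_le_one_right' (by omega)))
  exact hn (h2.ge hz).2

theorem p_two : T = Z ∧ Nat.card T ≤ f * f := by
  have h0 := h.two_le
  obtain ⟨⟨s, hs⟩, h1⟩ := ne_bot_iff_exists_ne_one.1 ((one_lt_card_iff_ne_bot (T' ⊓ 𝒩(T))).1 (by rw [p.card_R]; omega))
  have s1 : s ≠ 1 := fun e => h1 (Subtype.ext e)
  have ss := (p_one h p hZ hz hn).2 s hs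
  have c := p.cR s hs s1
  have fib : ∀ {A B : Set G}, A ⊆ T → (∀ x ∈ A, x⁻¹ * (s * x * s⁻¹) ∈ B) → A.ncard ≤ f * B.ncard := fun hA hB => by
    have := p_fib s hA hB
    rwa [c, p.card_R'] at this
  have cR : ((T ⊓ 𝒩(T') : Subgroup G) : Set G).ncard = f := p.card_R'
  have inv : ∀ x : G, s * (x⁻¹ * (s * x * s⁻¹)) * s⁻¹ = (x⁻¹ * (s * x * s⁻¹))⁻¹ := fun x => by
    rw [show s * (x⁻¹ * (s * x * s⁻¹)) * s⁻¹ = s * x⁻¹ * s⁻¹ * (s * s) * x * (s * s)⁻¹ by group, ss]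
    group
  have key : ∀ x : G, x⁻¹ * (s * x * s⁻¹) ∈ Z → x⁻¹ * (s * x * s⁻¹) ∈ T ⊓ 𝒩(T') := fun x hx =>
    c.le (mem_inf.2 ⟨hZ.Z_le hx, mem_cent1.2 (mul_inv_eq_iff_eq_mul.1 ((inv x).trans (inv_of_sq (hZ.Z_sq hx)))).symm⟩)
  have mem : ∀ x ∈ T, x⁻¹ * (s * x * s⁻¹) ∈ T := fun x hx => mul_mem (inv_mem hx) (conj_mem hs.2 hx)
  have e : T = Z := by
    rcases hZ.cases with e | e | e
    · exact e
    · refine absurd (c.le (mem_inf.2 ⟨hZ.Z_le hz, mem_cent1.2 (comm_of_mem ?_ hz)⟩)).2 hn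
      exact CL.ZD.szTwo G T Z Z s hZ.Z_le hZ.cent le_rfl hZ.sq_mem (fun x hx => ⟨hZ.mk_Z hx, hZ.Z_sq⟩) e.sq_inj e.cent_le
        (by rw [e.card, sq]) hs.2 (hZ.norm_Z hs.2) (ss ▸ one_mem _)
    · have a1 := fib (A := T) (B := {y | y ∈ T ∧ s * y * s⁻¹ = y⁻¹}) le_rfl fun x hx => ⟨mem x hx, inv x⟩
      have a2 := fib (A := {y | y ∈ T ∧ s * y * s⁻¹ = y⁻¹}) (fun _ hy => hy.1) fun y hy =>
        key y (by rw [hy.2]; exact hZ.sq_mem _ (inv_mem hy.1))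
      obtain ⟨n, a3, a4⟩ := p_card h p hZ hz hn
      have a5 : (T : Set G).ncard = (f * n) ^ 3 := a4 ▸ e.card
      rw [cR] at a2
      have a6 : (f * 2) ^ 3 ≤ (f * n) ^ 3 := Nat.pow_le_pow_left (Nat.mul_le_mul_left f a3) 3
      have a7 := Nat.mul_le_mul_left f a2
      have a8 : 0 < f * (f * f) := by positivity
      nlinarith
  exact ⟨e, cR ▸ fib (A := T) le_rfl fun x hx => key x (e ▸ mem x hx)⟩

theorem p_three : f = 2 := by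
  by_contra h2
  have h0 := h.two_le
  have eTZ := (p_two h p hZ hz hn).1
  obtain ⟨K, hK⟩ := hZ.tor
  have hγ : Fx T γ := h.toHyp.syl_fix hZ.syl
  obtain ⟨δ, hδ, hne⟩ : ∃ δ ∈ Pt Ω T, δ ≠ γ := Set.exists_ne_of_one_lt_ncard (by rw [h.card_pt T p.blk]; omega) γ
  have KT : K ≤ 𝒩(T) := hK.le.trans inf_le_right
  have disj : ∀ d ∈ K, d ∈ T → d = 1 := fun d hd hT =>
    hK.fpfZ d hd z hz (fun e => hn (e ▸ one_mem _)) (hZ.Z_comm hz hT).symm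
  have dec : ∀ g ∈ 𝒩(T), g • γ = γ → ∀ k ∈ K, ∃ x ∈ T, ∃ k' ∈ K, x * k' = g * k * g⁻¹ := fun g h1 h3 k hk =>
    (mem_sup_nl KT).1 (conj_mem (hK.norm ⟨h.toHyp.norm h3, h1⟩) (mem_sup_right hk))
  have hU : K ⊓ stabilizer G δ ≤ fixingSubgroup G (Pt Ω T) := fun k hk => (mem_fixingSubgroup_iff G).2 fun c hc => by
    by_cases e : γ = c
    · exact e ▸ h.fix γ k (hK.le hk.1).1
    obtain ⟨g, h1, rfl⟩ := h.two γ δ γ c hne.symm e
    have h3 := h.norm_of_two p.blk hne.symm hγ hδ (h1.symm ▸ hγ) hc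
    obtain ⟨x, hx, k', hk', e1⟩ := dec g h3 h1 k hk.1
    have h4 : k' • g • δ = g • δ := by
      rw [eq_inv_mul_of_mul_eq e1, mul_smul, CL.ZD.conj_fix_iff.2 hk.2, hc _ (inv_mem hx)]
    have h5 : k ^ orderOf k' = 1 := by
      refine disj _ (pow_mem hk.1 _) ?_
      obtain ⟨y, hy, e2⟩ := exists_mul_pow_eq (KT hk') (conj_mem' (KT hk') hx) (orderOf k')
      rw [pow_orderOf_eq_one, one_mul, show k' * (k'⁻¹ * x * k') = x * k' by group, e1, conj_pow] at e2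
      rw [← e2] at hy
      have h6 := conj_mem' h3 hy
      rwa [show g⁻¹ * (g * k ^ orderOf k' * g⁻¹) * g = k ^ orderOf k' by group] at h6
    exact (zpowers_le.2 (mem_stabilizer_iff.2 h4) : _ ≤ stabilizer G _) (p_cyc hK.cyc hk.1 hk' h5)
  have hKer : fixingSubgroup G (Pt Ω T) ≤ 𝒩(T) := fun y hy => h.norm_of_two p.blk hne.symm hγ hδ
    (by rwa [(mem_fixingSubgroup_iff G).1 hy γ hγ]) (by rwa [(mem_fixingSubgroup_iff G).1 hy δ hδ])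
  obtain ⟨e, e2, he⟩ := p_card h p hZ hz hn
  have cK := hK.card
  have hodd : Odd (Nat.card K) := by
    obtain ⟨n, h3, h4⟩ := hZ.card_Z
    refine Nat.not_even_iff_odd.1 fun h5 => ?_
    have := h5.add_one
    rw [cK, h4] at this
    exact Nat.not_even_iff_odd.2 this (Nat.even_pow.2 ⟨even_two, by omega⟩)
  have hN : K ⊓ stabilizer G δ ≤ 𝒩(T ⊓ 𝒩(T')) := by
    refine p_norm (R := T' ⊓ 𝒩(T)) inf_le_right hKer (fun g hg => mem_norm_of_cj_le fun y hy => ?_) hU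
      (CL.ZD.odd_card_of_le hodd inf_le_left) (fun y hy u hu => ?_) (p_one h p hZ hz hn).2 p.cR
      (fun e => hn (e (hZ.Z_le hz)).2) inf_le_left (by rw [p.card_R]; omega)
    · refine (mem_fixingSubgroup_iff G).2 fun c hc => ?_
      have := (mem_fixingSubgroup_iff G).1 (mem_cj.1 hy) _ (fx_smul (inv_mem hg.2) hc)
      rwa [mul_smul, mul_smul, smul_inv_smul, smul_left_cancel_iff] at this
    · obtain ⟨x, hx, k', hk', e1⟩ := dec y (hKer hy) ((mem_fixingSubgroup_iff G).1 hy γ hγ) u hu.1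
      refine ⟨x, hZ.cent (eTZ ▸ hx), k', ⟨hk', ?_⟩, e1⟩
      show k' • δ = δ
      rw [eq_inv_mul_of_mul_eq e1, mul_smul, (mem_fixingSubgroup_iff G).1 (mul_mem (mul_mem hy (hU hu)) (inv_mem hy)) δ hδ,
        hδ _ (inv_mem hx)]
  have d1 := card_dvd_card_sub_one_of_fpf hN fun a ha a1 => eq_bot_iff.2 fun x hx => by_contra fun x1 =>
    a1 (hK.fpfZ a ha.1 x (eTZ ▸ hx.1.1) x1 (mem_cent1.1 hx.2).symm)
  have d2 : Nat.card (K ⊓ stabilizer G δ : Subgroup G) ∣ Nat.card K := card_dvd_of_le inf_le_left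
  have d3 : (orbit K δ).ncard * Nat.card (K ⊓ stabilizer G δ : Subgroup G) = Nat.card K := by
    rw [← index_stabilizer, ← (stabilizer K δ).index_mul_card, show stabilizer K δ = (stabilizer G δ).subgroupOf K from rfl,
      ← inf_subgroupOf_left,
      Nat.card_congr (subgroupOfEquivOfLe (inf_le_left : K ⊓ stabilizer G δ ≤ K)).toEquiv]
  have d4 : (orbit K δ).ncard ≤ f - 1 := by
    rw [← h.card_pt T p.blk, ← Set.ncard_sdiff_singleton_of_mem (show γ ∈ Pt Ω T from hγ)]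
    refine Set.ncard_le_ncard ?_
    rintro _ ⟨k, rfl⟩
    exact ⟨fx_smul (KT k.2) hδ, fun e => hne (smul_left_cancel (k : G) (e.trans (h.fix γ k (hK.le k.2).1).symm))⟩
  rw [p.card_R'] at d1
  generalize Nat.card (K ⊓ stabilizer G δ : Subgroup G) = m at d1 d2 d3
  obtain ⟨f, rfl⟩ : ∃ n, f = n + 1 := ⟨f - 1, by omega⟩
  obtain ⟨e, rfl⟩ : ∃ n, e = n + 1 := ⟨e - 1, by omega⟩
  have d5 : Nat.card K = f * (e + 1) + e := by rw [he] at cK; linarith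
  rw [Nat.add_sub_cancel] at d1 d4
  rw [d5] at d2 d3
  have d6 := Nat.le_of_dvd (by omega) ((Nat.dvd_add_right (d1.mul_right _)).1 d2)
  have d7 := Nat.mul_le_mul d4 d6
  nlinarith

omit h p hZ hz hn in
theorem fp : FP.{u, v} := by
  intro G Ω _ _ _ _ N f T T' h p ⟨z, hz, z2, hn⟩
  obtain ⟨γ, hγ⟩ := p.blk
  obtain ⟨Z, hZ⟩ := h.ben γ T hγ
  have hz' := hZ.mk_Z hz z2
  obtain rfl := p_three h p hZ hz' hn
  have h1 := (p_two h p hZ hz' hn).2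
  have h2 := hZ.four_le.trans hZ.card_le
  have h3 := h.count T p.blk
  omega

end CL.Hir
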