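/-
Doubly transitive groups of degree `p ^ 2 + 1`, part 1: counting lemmas; the two-point stabiliser of
a group that is not doubly primitive has order prime to `p`.
-/
import Cfsg.Agent.Perm.ZassBasic
import Cfsg.Agent.Grp.SylowIn

set_option autoImplicit false

open MulAction Subgroup CL.Grp
open scoped Pointwise

namespace CL.Perm

variable {G Ω : Type*} [Group G] [MulAction G Ω]

theorem ncard_orbit_dvd_card (K : Subgroup G) (x : Ω) : (orbit K x).ncard ∣ Nat.card K :=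
  ⟨_, card_eq_ncard_orbit_mul K x⟩

theorem ncard_orbit_dvd_of_le [Finite G] {M K : Subgroup G} {x : Ω} (h : M ≤ K)
    (h' : K ⊓ stabilizer G x ≤ M) : (orbit M x).ncard ∣ (orbit K x).ncard := by
  have e : M ⊓ stabilizer G x = K ⊓ stabilizer G x :=
    le_antisymm (inf_le_inf_right _ h) (le_inf h' inf_le_right)
  have := card_dvd_of_le h
  rw [card_eq_ncard_orbit_mul M x, card_eq_ncard_orbit_mul K x, e] at this
  exact Nat.dvd_of_mul_dvd_mul_right Nat.card_pos this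

theorem ncard_orbit_dvd_of_normalized [Finite G] {Z K : Subgroup G} (h : Z ≤ K)
    (hn : K ≤ normalizer (Z : Set G)) (x : Ω) : (orbit Z x).ncard ∣ (orbit K x).ncard := by
  have e : orbit ↥(Z ⊔ K ⊓ stabilizer G x) x = orbit Z x := by
    refine Set.Subset.antisymm ?_ fun _ ⟨z, hz⟩ => ⟨⟨z, mem_sup_left z.2⟩, hz⟩
    rintro _ ⟨⟨g, hg⟩, rfl⟩
    rw [← SetLike.mem_coe, coe_mul_of_right_le_normalizer_left _ _ (inf_le_left.trans hn)] at hg
    obtain ⟨z, hz, k, hk, rfl⟩ := hg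
    exact ⟨⟨z, hz⟩, by show z • x = (z * k) • x; rw [mul_smul, show k • x = x from hk.2]⟩
  exact e ▸ ncard_orbit_dvd_of_le (sup_le h inf_le_left) le_sup_right

theorem ncard_orbit_smul {K : Subgroup G} {g : G} (hg : g ∈ normalizer (K : Set G)) (x : Ω) :
    (orbit K (g • x)).ncard = (orbit K x).ncard := by
  rw [← Set.ncard_smul_set g (orbit K x)]
  congr 1
  ext y
  constructor
  · rintro ⟨k, rfl⟩
    exact ⟨_, ⟨⟨g⁻¹ * k * g, (mem_normalizer_iff''.1 hg k).1 k.2⟩, rfl⟩, by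
      simp [Subgroup.smul_def, mul_smul]⟩
  · rintro ⟨_, ⟨k, rfl⟩, rfl⟩
    exact ⟨⟨g * k * g⁻¹, (mem_normalizer_iff.1 hg k).1 k.2⟩, by simp [Subgroup.smul_def, mul_smul]⟩

theorem smul_eq_of_ncard_orbit_eq_one {K : Subgroup G} {x : Ω} (h : (orbit K x).ncard = 1) {k : G}
    (hk : k ∈ K) : k • x = x := by
  obtain ⟨y, hy⟩ := Set.ncard_eq_one.1 h
  have h1 : k • x ∈ orbit K x := ⟨⟨k, hk⟩, rfl⟩
  have h2 := mem_orbit_self (M := K) x
  rw [hy] at h1 h2
  exact h1.trans h2.symm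

theorem smul_mem_fixedPoints_of_mem_normalizer {U : Subgroup G} {g : G} (hg : g ∈ normalizer (U : Set G))
    {x : Ω} (hx : x ∈ fixedPoints U Ω) : g • x ∈ fixedPoints U Ω := fun u => by
  have := hx ⟨g⁻¹ * u * g, (mem_normalizer_iff''.1 hg u).1 u.2⟩
  rw [Subgroup.smul_def, mul_smul, mul_smul, inv_smul_eq_iff] at this
  exact this

theorem conj_mem_stab2_of_swap {a b : Ω} {t : G} (h1 : t • a = b) (h2 : t • b = a) {y : G}
    (hy : y ∈ stab2 G a b) : t * y * t⁻¹ ∈ stab2 G a b := conj_mem_stab2 (Or.inr ⟨h1, h2⟩) hy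

theorem inv_conj_mem_stab2_of_swap {a b : Ω} {t : G} (h1 : t • a = b) (h2 : t • b = a) {y : G}
    (hy : y ∈ stab2 G a b) : t⁻¹ * y * t ∈ stab2 G a b := by
  simpa using conj_mem_stab2_of_swap (t := t⁻¹) (inv_smul_eq_iff.2 h2.symm) (inv_smul_eq_iff.2 h1.symm) hy

/-- A faithful doubly transitive action of degree `p ^ 2 + 1`. -/
structure SqDeg (G Ω : Type*) [Group G] [MulAction G Ω] (p : ℕ) : Prop where
  card : Nat.card Ω = p ^ 2 + 1
  trans : ∀ {a b c d : Ω}, a ≠ b → c ≠ d → ∃ g : G, g • a = c ∧ g • b = d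
  faithful : ∀ g : G, (∀ x : Ω, g • x = x) → g = 1

namespace SqDeg

variable {p : ℕ} (h : SqDeg G Ω p) [hp : Fact p.Prime] [Finite G] [Finite Ω] {a b : Ω}
include h

omit hp [Finite G] in
theorem ncard_ne (a : Ω) : {c : Ω | c ≠ a}.ncard = p ^ 2 := by rw [IsZ.ncard_ne, h.card]; rfl

omit hp [Finite G] in
theorem ncard_orbit_stabilizer (hab : a ≠ b) : (orbit (stabilizer G a) b).ncard = p ^ 2 := by
  rw [← h.ncard_ne a]
  congr 1
  ext c
  constructor
  · rintro ⟨g, rfl⟩ hc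
    exact hab (smul_left_cancel (g : G) ((show (g : G) • a = a from g.2).trans hc.symm))
  · intro hc
    obtain ⟨g, h1, h2⟩ := h.trans hab (Ne.symm hc)
    exact ⟨⟨g, h1⟩, h2⟩

omit hp [Finite G] in
theorem card_stabilizer (hab : a ≠ b) : Nat.card (stabilizer G a) = p ^ 2 * Nat.card (stab2 G a b) := by
  rw [card_eq_ncard_orbit_mul (stabilizer G a) b, h.ncard_orbit_stabilizer hab]

omit hp [Finite G] in
theorem card_group (hab : a ≠ b) : Nat.card G = (p ^ 2 + 1) * (p ^ 2 * Nat.card (stab2 G a b)) := by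
  have : IsPretransitive G Ω := ⟨fun x y => by
    by_cases hx : x = a <;> by_cases hy : y = a
    · exact ⟨1, by rw [hx, hy, one_smul]⟩
    · exact (h.trans (b := b) (hx ▸ hab) hy).imp fun _ h => h.1
    · exact (h.trans (d := b) hx (hy ▸ hab)).imp fun _ h => h.1
    · exact (h.trans hx hy).imp fun _ h => h.1⟩
  rw [← (stabilizer G a).index_mul_card, index_stabilizer_of_transitive, h.card_stabilizer hab, h.card]

theorem not_dvd_card_stab2 (hab : a ≠ b) (hH : ¬ p ∣ Nat.card (stab2 G a b)) {x : Ω} (hx : x ≠ a) :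
    ¬ p ∣ Nat.card (stab2 G a x) := by
  rwa [← Nat.eq_of_mul_eq_mul_left (pow_pos hp.out.pos 2)
    ((h.card_stabilizer hab).symm.trans (h.card_stabilizer hx.symm))]

omit hp [Finite G] [Finite Ω] in
theorem eq_one_of_fix {g : G} (ha : g • a = a) (hg : ∀ x, x ≠ a → g • x = x) : g = 1 :=
  h.faithful g fun x => by
    by_cases hx : x = a
    · rw [hx, ha]
    · exact hg x hx

/-- There is no invariant system of lines with `p + 1` points. -/
theorem false_of_line (hab : a ≠ b) {S : Set Ω} (hS : S.ncard = p + 1) (hb : b ∈ S)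
    (h0 : ∀ g ∈ stab2 G a b, ∀ x ∈ S, g • x ∈ S)
    (h1 : ∀ c ∈ S, c ≠ a → ∃ g : G, (∀ x ∈ S, g • x ∈ S) ∧ g • b = c)
    (h2 : ∃ g : G, (∀ x ∈ S, g • x ∈ S) ∧ g • a ≠ a) : False := by
  have hM : ∀ {g : G}, (∀ x ∈ S, g • x ∈ S) ↔ g ∈ stabilizer G S := by
    intro g
    rw [mem_stabilizer_set_iff_smul_set_subset S.toFinite, Set.smul_set_subset_iff]
  simp only [hM] at h0 h1 h2
  have e : orbit (stabilizer G S) b = S := by
    refine Set.Subset.antisymm (by rintro _ ⟨g, rfl⟩; exact hM.2 g.2 b hb) fun c hc => ?_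
    by_cases hca : c = a
    · obtain ⟨g, hg, hga⟩ := h2
      obtain ⟨k, hk, e⟩ := h1 _ (hM.2 hg a (hca ▸ hc)) hga
      exact ⟨⟨g⁻¹ * k, mul_mem (inv_mem hg) hk⟩, by
        show (g⁻¹ * k) • b = c
        rw [mul_smul, e, inv_smul_smul, hca]⟩
    · obtain ⟨g, hg, e⟩ := h1 c hc hca
      exact ⟨⟨g, hg⟩, e⟩
  have e1 := card_subgroup_dvd_card (stabilizer G S)
  rw [card_eq_ncard_orbit_mul _ b, e, hS, h.card_group hab, ← mul_assoc] at e1
  have e2 := Nat.dvd_of_mul_dvd_mul_right Nat.card_pos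
    ((Nat.mul_dvd_mul_left _ (card_dvd_of_le (le_inf h0 inf_le_right))).trans e1)
  have e3 : p + 1 ∣ p ^ 2 + 1 := (Nat.Coprime.pow_right 2 (by simp)).dvd_of_dvd_mul_right e2
  have e4 : p + 1 ∣ 2 := (Nat.dvd_add_right (Dvd.intro (p - 1) (by
    obtain ⟨q, rfl⟩ := Nat.exists_eq_add_of_le' hp.out.one_le
    simp; ring_nf; omega) : p + 1 ∣ p ^ 2 - 1)).1 (by
      have := Nat.one_le_pow 2 p hp.out.pos
      rwa [show p ^ 2 - 1 + 2 = p ^ 2 + 1 by omega])
  have := Nat.le_of_dvd two_pos e4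
  have := hp.out.two_le
  omega

theorem ncard_fixedPoints (hab : a ≠ b) {U M : Subgroup G} (hU : U ≤ stab2 G a b) (hU0 : U ≠ ⊥)
    (hM : M ≤ stabilizer G a) (hMU : M ≤ normalizer (U : Set G)) {j : ℕ} (hd : (orbit M b).ncard ∣ p ^ j)
    (h1 : ∀ c ∈ fixedPoints U Ω, c ≠ a → ∃ g ∈ M, g • b = c)
    (h3 : ∃ c ∈ fixedPoints U Ω, c ≠ a ∧ c ≠ b) : (fixedPoints U Ω).ncard = p + 1 := by
  have hb : b ∈ fixedPoints U Ω := fun u => (hU u.2).2
  have hna : ∀ c ∈ orbit M b, c ≠ a := by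
    rintro _ ⟨g, rfl⟩ e
    exact hab (smul_left_cancel (g : G) ((show (g : G) • a = a from hM g.2).trans e.symm))
  have e : fixedPoints U Ω = insert a (orbit M b) := by
    ext c
    refine ⟨fun hc => or_iff_not_imp_left.2 fun hca => ?_, ?_⟩
    · obtain ⟨g, hg, e⟩ := h1 c hc hca
      exact ⟨⟨g, hg⟩, e⟩
    · rintro (rfl | ⟨g, rfl⟩)
      · exact fun u => (hU u.2).1
      · exact smul_mem_fixedPoints_of_mem_normalizer (hMU g.2) hb
  obtain ⟨i, -, hi⟩ := (Nat.dvd_prime_pow hp.out).1 hd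
  have h4 : 1 < (orbit M b).ncard := by
    obtain ⟨c, hc, hca, hcb⟩ := h3
    exact (Set.one_lt_ncard).2 ⟨c, (e.le hc).resolve_left hca, b, mem_orbit_self b, hcb⟩
  have h5 : (orbit M b).ncard < p ^ 2 := by
    rw [← h.ncard_ne a]
    refine Set.ncard_lt_ncard (lt_of_le_of_ne hna fun e' => hU0 (eq_bot_iff.2 fun u hu => ?_))
    refine h.eq_one_of_fix (hU hu).1 fun x hx => ?_
    exact (e.symm ▸ Or.inr (e'.symm ▸ hx) : x ∈ fixedPoints U Ω) ⟨u, hu⟩
  rw [e, Set.ncard_insert_of_notMem fun hc => hna a hc rfl, hi]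
  rw [hi] at h4 h5
  have := (Nat.pow_lt_pow_iff_right hp.out.one_lt).1 h5
  obtain rfl : i = 1 := by
    rcases i with _ | i
    · simp at h4
    · omega
  rw [pow_one]

theorem sylow_trans {P : Subgroup G} (hP : IsSylowIn p P (stabilizer G a)) {x y : Ω}
    (hx : x ≠ a) (hy : y ≠ a) : ∃ u ∈ P, u • x = y := by
  obtain ⟨g, h1, h2⟩ := h.trans hy.symm hx.symm
  obtain ⟨k, hk, s, hs, rfl⟩ := hP.exists_mul_eq_of_relIndex_pow (K := stabilizer G x) (n := 2) (by
    rw [← h.ncard_orbit_stabilizer hx.symm, ← index_stabilizer]; rfl) h1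
  refine ⟨s⁻¹, inv_mem hs, inv_smul_eq_iff.2 (smul_left_cancel k ?_)⟩
  rw [← mul_smul, h2]; exact hk

theorem ncard_orbit_of_lt (hab : a ≠ b) {L : Subgroup G} (h1 : stab2 G a b < L) (h2 : L < stabilizer G a) :
    (orbit L b).ncard = p := by
  have e := ncard_orbit_dvd_of_le (x := b) h2.le h1.le
  rw [h.ncard_orbit_stabilizer hab] at e
  obtain ⟨i, hi, e⟩ := (Nat.dvd_prime_pow hp.out).1 e
  obtain rfl | rfl | rfl : i = 0 ∨ i = 1 ∨ i = 2 := by omega
  · exact absurd (le_inf h2.le fun g hg => smul_eq_of_ncard_orbit_eq_one e hg) h1.not_ge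
  · rw [e, pow_one]
  · refine absurd (eq_of_le_of_card_ge h2.le ?_) h2.ne
    rw [card_eq_ncard_orbit_mul L b, e, h.card_stabilizer hab]
    exact Nat.mul_le_mul_left _ (card_le_of_le (le_inf h1.le inf_le_right))

theorem not_dvd_of_lt (hab : a ≠ b) {L : Subgroup G} (h1 : stab2 G a b < L) (h2 : L < stabilizer G a) :
    ¬ p ∣ Nat.card (stab2 G a b) := by
  have hB := h.ncard_orbit_of_lt hab h1 h2
  obtain ⟨W, hW⟩ := exists_isSylowIn p (stab2 G a b)
  by_cases hW0 : W = ⊥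
  · simpa [hW0] using hW.not_dvd
  exfalso
  obtain ⟨P, hP, hWP⟩ := exists_isSylowIn_ge hW.isPGroup (hW.le.trans inf_le_left)
  have hna : ∀ c ∈ orbit L b, c ≠ a := by
    rintro _ ⟨g, rfl⟩ e
    exact hab (smul_left_cancel (g : G) ((show (g : G) • a = a from h2.le g.2).trans e.symm))
  have hL : ∀ g ∈ L, ∀ x ∈ orbit L b, g • x ∈ orbit L b := fun g hg x hx =>
    mem_orbit_of_mem_orbit (⟨g, hg⟩ : L) hx
  have hsub : insert a (orbit L b) ⊆ fixedPoints W Ω := by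
    rintro x (rfl | hx) w
    · exact (hW.le w.2).1
    by_cases hxb : x = b
    · exact hxb ▸ (hW.le w.2).2
    refine smul_eq_of_ncard_orbit_eq_one (K := W) ?_ w.2
    obtain ⟨n, hn⟩ := IsPGroup.iff_card.1 hW.isPGroup
    obtain ⟨i, -, hi⟩ := (Nat.dvd_prime_pow hp.out).1 (hn ▸ ncard_orbit_dvd_card W x)
    have : (orbit W x).ncard < (orbit L b).ncard := Set.ncard_lt_ncard (lt_of_le_of_ne
      (by rintro _ ⟨v, rfl⟩; exact hL _ (h1.le (hW.le v.2)) x hx) fun e => by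
        obtain ⟨v, hv⟩ : b ∈ orbit W x := e ▸ mem_orbit_self b
        exact hxb (smul_left_cancel (v : G) (hv.trans (hW.le v.2).2.symm)))
    rw [hi, hB] at this
    rcases i with _ | i
    · exact hi
    · exact absurd this (not_lt.2 (Nat.le_self_pow i.succ_ne_zero p))
  obtain ⟨n, hn⟩ := IsPGroup.iff_card.1 (hP.isPGroup.to_le (inf_le_left (b := normalizer (W : Set G))))
  have hF := h.ncard_fixedPoints hab hW.le hW0 (inf_le_left.trans hP.le) inf_le_right
    (hn ▸ ncard_orbit_dvd_card _ b) (fun c hc hca => by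
      obtain ⟨u, hu, rfl⟩ := h.sylow_trans hP hab.symm hca
      refine ⟨u, ⟨hu, (normalizer (W : Set G)).inv_mem_iff.1 (mem_normalizer_fintype fun w hw => ?_)⟩, rfl⟩
      rw [← hW.eq_of_le (hP.isPGroup.to_le (inf_le_left (b := stabilizer G b)))
        (le_inf hWP (hW.le.trans inf_le_right)) (inf_le_inf_right _ hP.le)]
      refine ⟨P.mul_mem (P.mul_mem (P.inv_mem hu) (hWP hw)) (P.inv_mem (P.inv_mem hu)), ?_⟩
      show (u⁻¹ * w * u⁻¹⁻¹) • b = b
      rw [inv_inv, mul_smul, mul_smul, show w • u • b = u • b from hc ⟨w, hw⟩, inv_smul_smul]) (by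
      obtain ⟨c, hc, hcb⟩ := Set.exists_ne_of_one_lt_ncard (hB ▸ hp.out.one_lt) b
      exact ⟨c, hsub (Or.inr hc), hna c hc, hcb⟩)
  have hS : (insert a (orbit L b)).ncard = p + 1 := by
    rw [Set.ncard_insert_of_notMem fun hc => hna a hc rfl, hB]
  have hL' : ∀ g ∈ L, ∀ x ∈ insert a (orbit L b), g • x ∈ insert a (orbit L b) := by
    rintro g hg x (rfl | hx)
    · exact Or.inl (h2.le hg)
    · exact Or.inr (hL g hg x hx)
  refine h.false_of_line hab hS (Or.inr (mem_orbit_self b)) (fun g hg => hL' g (h1.le hg)) ?_ ?_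
  · rintro c (rfl | ⟨g, rfl⟩) hc
    · exact absurd rfl hc
    · exact ⟨g, hL' g g.2, rfl⟩
  · obtain ⟨t, t1, t2⟩ := h.trans hab hab.symm
    obtain ⟨k, hk, e⟩ := (hW.conj_smul_of_mem_normalizer
      (mem_normalizer_fintype fun y hy => conj_mem_stab2_of_swap t1 t2 hy)).exists_conj_eq hW
    rw [conj_smul_conj_smul, conj_smul_eq_self_iff] at e
    rw [Set.eq_of_subset_of_ncard_le hsub (by rw [hS, hF])]
    refine ⟨k * t, fun x hx => smul_mem_fixedPoints_of_mem_normalizer e hx, ?_⟩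
    rw [mul_smul, t1, show k • b = b from hk.2]
    exact hab.symm

end SqDeg

end CL.Perm
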