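/-
Automorphisms of odd order of doubly transitive groups (Cameron).
-/
import Cfsg.Agent.Perm.PrimBasic

set_option autoImplicit false

open MulAction Matrix

namespace CL.Perm

variable {G Ω : Type*} [Group G] [MulAction G Ω] [Fintype Ω] [DecidableEq Ω]

/-- Matrices intertwining the action with the action twisted by `β`. -/
def TwInv (β : MulAut G) (A : Matrix Ω Ω ℤ) : Prop := ∀ (g : G) x y, A (g • x) (β g • y) = A x y

/-- The all-one matrix. -/
def onesMat (Ω : Type*) : Matrix Ω Ω ℤ := Matrix.of fun _ _ => 1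

omit [Fintype Ω] in
theorem smul_add_onesMat_apply (s t : ℤ) (x y : Ω) :
    (s • (1 : Matrix Ω Ω ℤ) + t • onesMat Ω) x y = (if x = y then s else 0) + t := by
  simp only [Matrix.add_apply, Matrix.smul_apply, one_apply, onesMat, of_apply]
  simp

omit [Fintype Ω] [DecidableEq Ω] in
theorem onesMat_transpose : (onesMat Ω)ᵀ = onesMat Ω := rfl

omit [DecidableEq Ω] in
theorem TwInv.mul {β γ : MulAut G} {A B : Matrix Ω Ω ℤ} (hA : TwInv β A) (hB : TwInv γ B) :
    TwInv (γ * β) (A * B) := fun g x y =>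
  (Fintype.sum_equiv (toPerm (β g)) _ _ fun z => by
    simp only [toPerm_apply, hA g, MulAut.mul_apply, hB (β g)]).symm

omit [DecidableEq Ω] [Fintype Ω] in
theorem TwInv.transpose {β : MulAut G} {A : Matrix Ω Ω ℤ} (hA : TwInv β A) : TwInv β⁻¹ Aᵀ :=
  fun g x y => by simpa using hA (β⁻¹ g) y x

omit [Fintype Ω] in
theorem TwInv.exists_eq (h2 : IsMultiplyPretransitive G Ω 2) {a b : Ω} (hab : a ≠ b) {A : Matrix Ω Ω ℤ}
    (hA : TwInv (1 : MulAut G) A) : ∃ s t : ℤ, A = s • 1 + t • onesMat Ω := by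
  refine ⟨A a a - A a b, A a b, ?_⟩
  ext x y
  by_cases hxy : x = y
  · subst hxy
    obtain ⟨g, rfl⟩ : ∃ g : G, g • a = x := by
      by_cases hx : x = b
      · exact (is_two_pretransitive_iff.1 h2 hab (hx ▸ hab.symm)).imp fun _ h => h.1
      · exact (is_two_pretransitive_iff.1 h2 hab hx).imp fun _ h => h.1
    rw [smul_add_onesMat_apply]
    simpa using hA g a a
  · obtain ⟨g, rfl, rfl⟩ := is_two_pretransitive_iff.1 h2 hab hxy
    rw [smul_add_onesMat_apply]
    simpa [hxy] using hA g a b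

omit [DecidableEq Ω] in
theorem TwInv.exists_sum [IsPretransitive G Ω] {β : MulAut G} {A : Matrix Ω Ω ℤ} (hA : TwInv β A)
    (a : Ω) : A * onesMat Ω = (∑ y, A a y) • onesMat Ω ∧ onesMat Ω * A = (∑ y, A a y) • onesMat Ω := by
  have hr : ∀ {β : MulAut G} {A : Matrix Ω Ω ℤ}, TwInv β A → ∀ x, ∑ y, A x y = ∑ y, A a y :=
    fun hA x => by
      obtain ⟨g, rfl⟩ := exists_smul_eq G a x
      exact (Fintype.sum_equiv (toPerm _) _ _ fun y => (hA g a y).symm).symm
  have hc := hr hA.transpose
  simp only [transpose_apply] at hc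
  have e : ∑ x, ∑ y, A x y = ∑ y, ∑ x, A x y := Finset.sum_comm
  simp only [hr hA, hc, Finset.sum_const, Finset.card_univ, nsmul_eq_mul] at e
  have := (Fintype.card_pos_iff.2 ⟨a⟩).ne'
  replace e := mul_left_cancel₀ (by exact_mod_cast this) e
  constructor
  · ext x y; simp [mul_apply, onesMat, hr hA]
  · ext x y; simp [mul_apply, onesMat, hc, e]

omit [DecidableEq Ω] in
theorem onesMat_mul_self : onesMat Ω * onesMat Ω = (Fintype.card Ω : ℤ) • onesMat Ω := by
  ext x y; simp [mul_apply, onesMat]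

omit [Fintype Ω] in
theorem eq_of_smul_add_smul_onesMat {a b : Ω} (hab : a ≠ b) {s t s' t' : ℤ}
    (h : s • (1 : Matrix Ω Ω ℤ) + t • onesMat Ω = s' • 1 + t' • onesMat Ω) : s = s' ∧ t = t' := by
  have h1 := congrFun (congrFun h a) a
  have h2 := congrFun (congrFun h a) b
  simp only [smul_add_onesMat_apply, hab, if_true, if_false] at h1 h2
  omega

/-- The parameters of a symmetric design on which the group acts. -/
theorem TwInv.design (h2 : IsMultiplyPretransitive G Ω 2) [IsPretransitive G Ω] {a b : Ω} (hab : a ≠ b)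
    {β : MulAut G} {A : Matrix Ω Ω ℤ} (hA : TwInv β A) (h01 : ∀ x y, A x y = 0 ∨ A x y = 1) :
    ∃ m l : ℤ, A * Aᵀ = m • 1 + l • onesMat Ω ∧ Aᵀ * A = m • 1 + l • onesMat Ω ∧
      ∑ y, A a y = m + l ∧ (∑ y, A a y) ^ 2 = m + l * Fintype.card Ω := by
  have key : ∀ {β : MulAut G} {A : Matrix Ω Ω ℤ}, TwInv β A → (∀ x y, A x y = 0 ∨ A x y = 1) →
      ∃ m l : ℤ, A * Aᵀ = m • 1 + l • onesMat Ω ∧ ∑ y, A a y = m + l ∧
        (∑ y, A a y) ^ 2 = m + l * Fintype.card Ω := fun {β A} hA h01 => by
    obtain ⟨m, l, e⟩ := TwInv.exists_eq h2 hab (inv_mul_cancel β ▸ hA.mul hA.transpose)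
    refine ⟨m, l, e, ?_, ?_⟩
    · have := congrFun (congrFun e a) a
      simp only [mul_apply, transpose_apply] at this
      rw [Finset.sum_congr rfl fun y _ => show A a y = A a y * A a y by rcases h01 a y with h | h <;> simp [h],
        this, smul_add_onesMat_apply, if_pos rfl]
    · have h3 : Aᵀ * onesMat Ω = (∑ y, A a y) • onesMat Ω := by
        simpa only [transpose_mul, transpose_smul, onesMat_transpose] using
          congrArg (fun M : Matrix Ω Ω ℤ => Mᵀ) (hA.exists_sum a).2
      have := congrArg (fun M => (M * onesMat Ω) a a) e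
      simp only [Matrix.mul_assoc, h3, Matrix.mul_smul, (hA.exists_sum a).1, add_mul, smul_mul_assoc,
        one_mul, onesMat_mul_self] at this
      simpa [onesMat, sq] using this
  obtain ⟨m, l, e1, e2, e3⟩ := key hA h01
  obtain ⟨m', l', e4, e5, e6⟩ := key hA.transpose fun x y => h01 y x
  have e7 : ∑ y, Aᵀ a y = ∑ y, A a y := by
    simpa [onesMat, mul_apply] using congrFun (congrFun (hA.exists_sum a).2 a) a
  rw [e7] at e5 e6
  have hn : (Fintype.card Ω : ℤ) - 1 ≠ 0 := by
    have := Fintype.one_lt_card_iff.2 ⟨a, b, hab⟩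
    omega
  obtain rfl : l = l' := mul_right_cancel₀ hn (by linear_combination e6 - e3 + e2 - e5)
  obtain rfl : m = m' := by omega
  exact ⟨m, l, e1, by simpa using e4, e2, e3⟩

omit [DecidableEq Ω] in
theorem TwInv.exists_perm [IsPretransitive G Ω] {β : MulAut G} {A : Matrix Ω Ω ℤ} (hA : TwInv β A)
    (h01 : ∀ x y, A x y = 0 ∨ A x y = 1) {a : Ω} (h1 : ∑ y, A a y = 1) :
    ∃ σ : Equiv.Perm Ω, ∀ (g : G) x, σ (g • x) = β g • σ x := by
  have hu : ∀ x, ∃! y, A x y = 1 := fun x => by
    have e : ∑ y, A x y = 1 := by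
      simpa [onesMat, mul_apply, h1] using congrFun (congrFun (hA.exists_sum a).1 x) x
    rw [Finset.sum_congr rfl fun y _ => show A x y = if A x y = 1 then 1 else 0 by
      rcases h01 x y with h | h <;> simp [h], Finset.sum_boole] at e
    exact (existsUnique_congr fun y => Finset.mem_filter_univ y).1
      (Finset.card_eq_one_iff_existsUnique.1 (by exact_mod_cast e))
  choose σ hσ hσ' using hu
  have he : ∀ (g : G) x, σ (g • x) = β g • σ x := fun g x => (hσ' _ _ ((hA g x _).trans (hσ x))).symm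
  refine ⟨Equiv.ofBijective σ (Finite.surjective_iff_bijective.1 fun y => ?_), he⟩
  obtain ⟨g, rfl⟩ := exists_smul_eq G (σ a) y
  exact ⟨β⁻¹ g • a, by simp [he]⟩

theorem TwInv.exists_perm_of_coprime (h2 : IsMultiplyPretransitive G Ω 2) {α : MulAut G}
    (hα : Odd (orderOf α)) {A : Matrix Ω Ω ℤ} (hA : TwInv α A) (h01 : ∀ x y, A x y = 0 ∨ A x y = 1)
    {a : Ω} (hk : IsCoprime (∑ y, A a y) (Fintype.card Ω)) :
    ∃ σ : Equiv.Perm Ω, ∀ (g : G) x, σ (g • x) = α g • σ x := by
  rcases subsingleton_or_nontrivial Ω with _ | _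
  · exact ⟨1, fun _ _ => Subsingleton.elim _ _⟩
  obtain ⟨b, hab⟩ := exists_ne a
  replace hab := hab.symm
  have : IsPretransitive G Ω := is_one_pretransitive_iff.1
    (isMultiplyPretransitive_of_le one_le_two Finite.one_lt_card)
  suffices h : ∃ σ : Equiv.Perm Ω, ∀ (g : G) x, σ (g • x) = (α * α) g • σ x by
    obtain ⟨σ, hσ⟩ := h
    have hp : ∀ (j : ℕ) (g : G) x, (σ ^ j) (g • x) = ((α * α) ^ j) g • (σ ^ j) x := fun j => by
      induction j with
      | zero => simp
      | succ j ih => intro g x; rw [pow_succ', pow_succ', Equiv.Perm.mul_apply, ih, hσ]; rfl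
    obtain ⟨j, hj⟩ := hα
    refine ⟨σ ^ (j + 1), fun g x => ?_⟩
    rw [hp, ← sq, ← pow_mul, show 2 * (j + 1) = 2 * j + 1 + 1 by ring, ← hj, pow_succ, pow_orderOf_eq_one,
      one_mul]
  obtain ⟨m, l, e1, e2, e3, e4⟩ := hA.design h2 hab h01
  obtain ⟨hAJ, hJA⟩ := hA.exists_sum a
  have hAtJ : Aᵀ * onesMat Ω = (∑ y, A a y) • onesMat Ω := by
    simpa only [transpose_mul, transpose_smul, onesMat_transpose] using
      congrArg (fun M : Matrix Ω Ω ℤ => Mᵀ) hJA
  have hJAt : onesMat Ω * Aᵀ = (∑ y, A a y) • onesMat Ω := by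
    simpa only [transpose_mul, transpose_smul, onesMat_transpose] using
      congrArg (fun M : Matrix Ω Ω ℤ => Mᵀ) hAJ
  have hn : (1 : ℤ) < Fintype.card Ω := by exact_mod_cast Fintype.one_lt_card
  generalize ∑ y, A a y = k at *
  have hm : IsCoprime m (Fintype.card Ω : ℤ) := by
    have := (hk.pow_left (m := 2))
    rwa [e4, IsCoprime.add_mul_right_left_iff] at this
  have hm0 : m ≠ 0 := by
    rintro rfl
    have := Int.isUnit_iff.1 (isCoprime_zero_left.1 hm)
    omega
  have hB := hA.mul hA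
  have hBB : (A * A)ᵀ * (A * A) = (m * m) • 1 + (m * l + l * k * k) • onesMat Ω := by
    rw [transpose_mul, Matrix.mul_assoc, ← Matrix.mul_assoc Aᵀ A A, e2]
    simp only [add_mul, mul_add, smul_mul_assoc, mul_smul_comm, one_mul, e2, hJA, hAtJ]
    module
  let C : Matrix Ω Ω ℤ := Matrix.of fun x y => if (A * A) x y = (A * A) a a then 1 else 0
  have hC : TwInv (α * α) C := fun g x y => by simp only [C, of_apply, hB g]
  have hC01 : ∀ x y, C x y = 0 ∨ C x y = 1 := fun x y => by
    simp only [C, of_apply]; split_ifs <;> simp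
  obtain ⟨m', l', f1, -, f3, f4⟩ := hC.design h2 hab hC01
  obtain ⟨hCJ, hJC⟩ := hC.exists_sum a
  obtain ⟨s, t, f5⟩ := TwInv.exists_eq h2 hab (inv_mul_cancel (α * α) ▸ hC.mul hB.transpose)
  have hk0 : 0 < ∑ y, C a y := Finset.sum_pos' (fun y _ => by rcases hC01 a y with h | h <;> simp [h])
    ⟨a, Finset.mem_univ _, by simp [C]⟩
  have hkn : ∑ y, C a y < Fintype.card Ω := by
    by_contra hc
    have h3 : ∀ x y, C x y = 1 := fun x y => by
      have h4 : ∑ y, C x y = ∑ y, C a y := by
        simpa [onesMat, mul_apply] using congrFun (congrFun hCJ x) x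
      by_contra hne
      have := Finset.sum_lt_sum (s := Finset.univ) (f := C x) (g := fun _ => 1)
        (fun y _ => by rcases hC01 x y with h | h <;> simp [h])
        ⟨y, Finset.mem_univ _, by simp [(hC01 x y).resolve_right hne]⟩
      simp at this
      omega
    have h4 : A * A = (A * A) a a • onesMat Ω := by
      ext x y
      simpa [C, onesMat] using h3 x y
    rw [h4] at hBB
    simp only [transpose_smul, smul_mul_assoc, mul_smul_comm,
      onesMat_transpose, onesMat_mul_self, smul_smul] at hBB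
    exact mul_ne_zero hm0 hm0 (eq_of_smul_add_smul_onesMat hab (s := 0)
      (by rw [zero_smul, zero_add]; exact hBB)).1.symm
  have f6 : (m * m) • C = s • (A * A) + (t * k * k - (m * l + l * k * k) * ∑ y, C a y) • onesMat Ω := by
    have := congrArg (· * (A * A)) f5
    simp only [Matrix.mul_assoc C, hBB, add_mul, mul_add, smul_mul_assoc, mul_smul_comm, one_mul, mul_one,
      hCJ, ← Matrix.mul_assoc (onesMat Ω), hJA] at this
    rw [← sub_eq_zero] at this ⊢
    rw [← this]
    module
  have f7 : m * m * m' = s * s := by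
    have := congrArg (· * Cᵀ) f6
    have h5 : A * A * Cᵀ = s • 1 + t • onesMat Ω := by
      simpa only [transpose_mul, transpose_smul, onesMat_transpose, transpose_add, transpose_one,
        transpose_transpose] using congrArg (fun M : Matrix Ω Ω ℤ => Mᵀ) f5
    have h6 : onesMat Ω * Cᵀ = (∑ y, C a y) • onesMat Ω := by
      simpa only [transpose_mul, transpose_smul, onesMat_transpose] using
        congrArg (fun M : Matrix Ω Ω ℤ => Mᵀ) hCJ
    simp only [smul_mul_assoc, add_mul, f1, h5, h6, smul_add, smul_smul, add_assoc, ← add_smul] at this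
    exact (eq_of_smul_add_smul_onesMat hab this).1
  obtain ⟨c, rfl⟩ : m ∣ s := (Int.pow_dvd_pow_iff two_ne_zero).1 ⟨m', by linear_combination -f7⟩
  obtain rfl : m' = c * c := mul_left_cancel₀ (mul_ne_zero hm0 hm0) (by linear_combination f7)
  have f8 : (Fintype.card Ω : ℤ) ∣ ∑ y, C a y - c := by
    have := congrArg (fun M => (M * onesMat Ω) a a) f6
    simp only [smul_mul_assoc, add_mul, hCJ, Matrix.mul_assoc, hAJ, mul_smul_comm,
      onesMat_mul_self] at this
    simp only [onesMat, Matrix.smul_apply, Matrix.add_apply, of_apply, smul_eq_mul, mul_one] at this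
    refine (hm.mul_left hm).symm.dvd_of_dvd_mul_left
      ⟨m * c * l + (t * k * k - (m * l + l * k * k) * ∑ y, C a y), ?_⟩
    linear_combination this + m * c * e4
  have f9 : c * c * (Fintype.card Ω - 1) = (∑ y, C a y) * (Fintype.card Ω - ∑ y, C a y) := by
    linear_combination f4 - Fintype.card Ω * f3
  obtain ⟨j, hj⟩ := f8
  have : ∑ y, C a y = 1 ∨ Fintype.card Ω - ∑ y, C a y = 1 := by
    generalize ∑ y, C a y = r at *
    generalize (Fintype.card Ω : ℤ) = n at *
    have g1 : c * c ≤ r := by nlinarith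
    have g2 : c * c ≤ n - r := by nlinarith
    have g3 : c ≤ c * c := Int.le_self_sq c |>.trans_eq (sq c)
    have g4 : -c ≤ c * c := by nlinarith [Int.le_self_sq (-c)]
    have : j = 0 ∨ j = 1 := by
      have : 0 ≤ j := by nlinarith
      have : j ≤ 1 := by nlinarith
      omega
    rcases this with rfl | rfl
    · left; nlinarith
    · right; nlinarith
  rcases this with h | h
  · exact hC.exists_perm hC01 h
  · refine TwInv.exists_perm (A := onesMat Ω - C) (fun g x y => by rw [Matrix.sub_apply, Matrix.sub_apply, hC g]; rfl)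
      (fun x y => by rcases hC01 x y with h | h <;> simp [onesMat, h]) (a := a) ?_
    simpa [onesMat] using h

/-- An automorphism of odd order of a doubly transitive group is induced by a permutation if the image of
a point stabiliser has an orbit of length prime to the degree. -/
theorem exists_perm_of_odd_aut {G Ω : Type*} [Group G] [MulAction G Ω] [Finite Ω]
    (h2 : IsMultiplyPretransitive G Ω 2) (o : Ω) {α : MulAut G} (hα : Odd (orderOf α)) (ω : Ω)
    (hk : (Nat.card (orbit ((stabilizer G o).map α.toMonoidHom) ω)).Coprime (Nat.card Ω)) :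
    ∃ σ : Equiv.Perm Ω, ∀ (g : G) x, σ (g • x) = α g • σ x := by
  classical
  have := Fintype.ofFinite Ω
  refine TwInv.exists_perm_of_coprime h2 hα
    (A := Matrix.of fun x y => if ∃ g : G, g • o = x ∧ α g • ω = y then 1 else 0) (fun g x y => ?_)
    (fun x y => by simp only [of_apply]; split_ifs <;> simp) (a := o) ?_
  · simp only [of_apply]
    congr 1
    refine propext ⟨fun ⟨k, h1, h2⟩ => ⟨g⁻¹ * k, ?_, ?_⟩, fun ⟨k, h1, h2⟩ => ⟨g * k, ?_, ?_⟩⟩
    · rw [mul_smul, h1, inv_smul_smul]
    · rw [map_mul, mul_smul, h2, map_inv, inv_smul_smul]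
    · rw [mul_smul, h1]
    · rw [map_mul, mul_smul, h2]
  · simp only [of_apply, Finset.sum_boole]
    rw [Nat.isCoprime_iff_coprime, ← Nat.card_eq_fintype_card]
    convert hk
    rw [← Set.ncard_coe_finset, Nat.card_coe_set_eq]
    congr 1
    ext y
    simp only [Finset.coe_filter, Finset.mem_univ, true_and, Set.mem_ofPred_eq, mem_orbit_iff]
    exact ⟨fun ⟨g, h1, h2⟩ => ⟨⟨α g, g, h1, rfl⟩, h2⟩, fun ⟨⟨_, g, h1, rfl⟩, h2⟩ => ⟨g, h1, h2⟩⟩

theorem exists_perm_of_odd_aut_of_hall {G Ω : Type*} [Group G] [MulAction G Ω] [Finite Ω]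
    (h2 : IsMultiplyPretransitive G Ω 2) (o : Ω)
    (hH : (Nat.card (stabilizer G o)).Coprime (Nat.card Ω)) {α : MulAut G} (hα : Odd (orderOf α)) :
    ∃ σ : Equiv.Perm Ω, ∀ (g : G) x, σ (g • x) = α g • σ x := by
  refine exists_perm_of_odd_aut h2 o hα o (hH.coprime_dvd_left ?_)
  rw [← Subgroup.card_map_of_injective (f := α.toMonoidHom) α.injective, Nat.card_coe_set_eq,
    ← index_stabilizer]
  exact Subgroup.index_dvd_card _

end CL.Perm
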