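/-
Doubly transitive groups of degree `p ^ 2 + 1`, part 2: normal subgroups of the point stabiliser with
orbits of length `p`.
-/
import Cfsg.Agent.Perm.HksPrime1
import Cfsg.Agent.Perm.HksPrime2
import Cfsg.Agent.Perm.PrimeDegree3
import Cfsg.Agent.Grp.Fitting

set_option autoImplicit false

open MulAction Subgroup CL.Grp Cfsg
open scoped Pointwise

namespace CL.Perm

variable {G Ω : Type*} [Group G] [MulAction G Ω]

/-- `K` is a normal subgroup of `G_a` whose other orbits have length `p`; two-point stabilisers are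
`p'`-groups. -/
structure POrb (p : ℕ) (a : Ω) (K : Subgroup G) : Prop extends SqDeg G Ω p where
  le : K ≤ stabilizer G a
  norm : stabilizer G a ≤ normalizer (K : Set G)
  ncard : ∀ x, x ≠ a → (orbit K x).ncard = p
  not_dvd : ∀ x, x ≠ a → ¬ p ∣ Nat.card (stab2 G a x)

variable {p : ℕ} [hp : Fact p.Prime] [Finite G] [Finite Ω] {a b : Ω} {K : Subgroup G}

theorem SqDeg.pOrb (h : SqDeg G Ω p) (hab : a ≠ b) (hH : ¬ p ∣ Nat.card (stab2 G a b))
    (hK : K ≤ stabilizer G a) (hn : stabilizer G a ≤ normalizer (K : Set G)) (h0 : K ≠ ⊥)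
    (h2 : (orbit K b).ncard ≠ p ^ 2) : POrb p a K := by
  have e : ∀ x, x ≠ a → (orbit K x).ncard = (orbit K b).ncard := fun x hx => by
    obtain ⟨g, h1, rfl⟩ := h.trans hab hx.symm
    exact ncard_orbit_smul (hn h1) b
  refine ⟨h, hK, hn, fun x hx => (e x hx).trans ?_, fun x hx => h.not_dvd_card_stab2 hab hH hx⟩
  obtain ⟨i, hi, e'⟩ := (Nat.dvd_prime_pow hp.out).1
    (h.ncard_orbit_stabilizer hab ▸ ncard_orbit_dvd_of_normalized hK hn b)
  obtain rfl | rfl | rfl : i = 0 ∨ i = 1 ∨ i = 2 := by omega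
  · exact absurd (eq_bot_iff.2 fun k hk => h.eq_one_of_fix (hK hk) fun x hx =>
      smul_eq_of_ncard_orbit_eq_one ((e x hx).trans e') hk) h0
  · rw [e', pow_one]
  · exact absurd e' h2

namespace POrb

variable (h : POrb p a K)
include h

omit hp [Finite G] [Finite Ω] in
theorem ne_of_mem {x y : Ω} (hx : x ≠ a) (hy : y ∈ orbit K x) : y ≠ a := by
  obtain ⟨k, rfl⟩ := hy
  exact fun e => hx (smul_left_cancel (k : G) (e.trans (h.le k.2).symm))

omit hp [Finite G] [Finite Ω] in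
theorem card_eq {x : Ω} (hx : x ≠ a) : Nat.card K = p * Nat.card ↥(K ⊓ stabilizer G x) := by
  rw [card_eq_ncard_orbit_mul K x, h.ncard x hx]

omit [Finite Ω] in
theorem eq_bot {Z : Subgroup G} (hZ : Z ≤ K) (hn : K ≤ normalizer (Z : Set G)) (hd : ¬ p ∣ Nat.card Z) :
    Z = ⊥ :=
  eq_bot_iff.2 fun z hz => h.toSqDeg.eq_one_of_fix (h.le (hZ hz)) fun x hx =>
    smul_eq_of_ncard_orbit_eq_one (((Nat.dvd_prime hp.out).1
      (h.ncard x hx ▸ ncard_orbit_dvd_of_normalized hZ hn x)).resolve_right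
      fun e => hd (e ▸ ncard_orbit_dvd_card Z x)) hz

omit [Finite Ω] in
theorem eq_one {x : Ω} (hx : x ≠ a) {z : G} (hz : z ∈ K) (hf : ∀ y ∈ orbit K x, z • y = y) : z = 1 := by
  have := h.eq_bot (Z := K ⊓ fixingSubgroup G (orbit K x)) inf_le_left (fun k hk =>
    mem_normalizer_fintype fun w hw => ⟨K.mul_mem (K.mul_mem hk hw.1) (K.inv_mem hk),
      (mem_fixingSubgroup_iff _).2 fun y hy => by
        rw [mul_smul, mul_smul, (mem_fixingSubgroup_iff _).1 hw.2 (k⁻¹ • y)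
          (mem_orbit_of_mem_orbit (⟨k⁻¹, K.inv_mem hk⟩ : K) hy), smul_inv_smul]⟩)
    fun hd => h.not_dvd x hx (hd.trans (card_dvd_of_le fun w hw =>
      ⟨h.le hw.1, (mem_fixingSubgroup_iff _).1 hw.2 x (mem_orbit_self x)⟩))
  exact mem_bot.1 (this ▸ ⟨hz, (mem_fixingSubgroup_iff _).2 hf⟩)

omit [Finite Ω] in
theorem faithfulSMul {x : Ω} (hx : x ≠ a) : FaithfulSMul K (orbit K x) :=
  ⟨fun {k l} e => Subtype.ext (inv_mul_eq_one.1 (h.eq_one hx (K.mul_mem (K.inv_mem k.2) l.2) fun y hy => by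
    rw [mul_smul, inv_smul_eq_iff]
    exact (congrArg Subtype.val (e ⟨y, hy⟩)).symm))⟩

omit [Finite Ω] in
theorem inf_eq {x y : Ω} (hx : x ≠ a) (hy : y ≠ a) (e : K ⊓ stabilizer G x ≤ stabilizer G y) :
    K ⊓ stabilizer G x = K ⊓ stabilizer G y :=
  eq_of_le_of_card_ge (le_inf inf_le_left e)
    (Nat.eq_of_mul_eq_mul_left hp.out.pos ((h.card_eq hy).symm.trans (h.card_eq hx))).le

omit hp [Finite Ω] in
theorem conj_mem {g k : G} (hg : g • a = a) (hk : k ∈ K) : g * k * g⁻¹ ∈ K :=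
  (mem_normalizer_iff.1 (h.norm hg) k).1 hk

theorem isSolvable : Group.IsSolvable K := by
  by_contra hs
  obtain ⟨b, hab⟩ : ∃ b, a ≠ b := by
    have : Nontrivial Ω := Finite.one_lt_card_iff_nontrivial.1 (by
      have := pow_pos hp.out.pos 2
      rw [h.card]; omega)
    exact (exists_ne a).imp fun _ => Ne.symm
  have h2 : ∀ {x}, x ≠ a → IsMultiplyPretransitive K (orbit K x) 2 := fun hx =>
    have := h.faithfulSMul hx
    two_transitive_of_not_isSolvable (h.ncard _ hx) hs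
  have h2' : ∀ {x y z}, x ≠ a → y ∈ orbit K x → z ∈ orbit K x → y ≠ x → z ≠ x →
      ∃ k ∈ K ⊓ stabilizer G x, k • y = z := fun {x y z} hx hy hz h3 h4 => by
    obtain ⟨k, k1, k2⟩ := @is_two_pretransitive_iff.1 (h2 hx) ⟨x, mem_orbit_self x⟩ ⟨y, hy⟩
      ⟨x, mem_orbit_self x⟩ ⟨z, hz⟩ (fun e => h3 (congrArg Subtype.val e).symm)
      fun e => h4 (congrArg Subtype.val e).symm
    exact ⟨k, ⟨k.2, congrArg Subtype.val k1⟩, congrArg Subtype.val k2⟩
  obtain ⟨hp2, hU⟩ : p ≠ 2 ∧ p < Nat.card ↥(K ⊓ stabilizer G b) := by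
    have := h.faithfulSMul hab.symm
    obtain ⟨d, n, h1, h3, h4, h5, -, -, h6⟩ := card_eq_of_not_isSolvable (h.ncard b hab.symm) hs default
    rw [h.card_eq hab.symm, mul_assoc] at h6
    refine ⟨by rintro rfl; simp at h1; omega, ?_⟩
    rw [Nat.eq_of_mul_eq_mul_left hp.out.pos h6]
    have : p < n := lt_of_le_of_ne (not_lt.1 fun e => by rw [Nat.mod_eq_of_lt e] at h5; omega)
      (by rintro rfl; simp at h5)
    nlinarith
  obtain ⟨P, hP⟩ := exists_isSylowIn p (stabilizer G a)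
  have hσ : ∀ {x y}, x ≠ a → y ≠ a → ∃ z ∈ orbit K x, K ⊓ stabilizer G y = K ⊓ stabilizer G z :=
    fun {x y} hx hy => by
      obtain ⟨u, hu, rfl⟩ := h.toSqDeg.sylow_trans hP hx hy
      obtain ⟨σ, hσ⟩ := exists_perm_of_odd_aut_of_hall (h2 hx) ⟨x, mem_orbit_self x⟩ (by
        rw [Nat.card_coe_set_eq, h.ncard x hx]
        refine ((Nat.Prime.coprime_iff_not_dvd hp.out).2 fun hd => h.not_dvd x hx (hd.trans ?_)).symm
        exact card_dvd_of_injective (α := stabilizer K (⟨x, mem_orbit_self x⟩ : orbit K x))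
          (MonoidHom.codRestrict (K.subtype.comp (Subgroup.subtype _)) (stab2 G a x)
            fun k => mem_stab2.2 ⟨h.le k.1.2, congrArg Subtype.val (mem_stabilizer_iff.1 k.2)⟩)
          fun k l e => Subtype.ext (Subtype.ext (congrArg (fun w : stab2 G a x => (w : G)) e)))
        (α := K.normalizerMonoidHom ⟨u, h.norm (hP.le hu)⟩) (by
          obtain ⟨n, hn⟩ := IsPGroup.iff_card.1 hP.isPGroup
          refine (hp.out.odd_of_ne_two hp2).pow (n := n) |>.of_dvd_nat ((orderOf_map_dvd _ _).trans ?_)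
          rw [← hn, orderOf_mk]
          exact P.orderOf_dvd_natCard hu)
      refine ⟨σ ⟨x, mem_orbit_self x⟩, (σ _).2, h.inf_eq hy (h.ne_of_mem hx (σ _).2) fun k hk => ?_⟩
      have hk' : u⁻¹ * k * u⁻¹⁻¹ ∈ K := h.conj_mem (inv_mem (hP.le hu) : u⁻¹ ∈ stabilizer G a) hk.1
      have e := hσ ⟨_, hk'⟩ ⟨x, mem_orbit_self x⟩
      rw [show (⟨_, hk'⟩ : K) • (⟨x, mem_orbit_self x⟩ : orbit K x) = ⟨x, mem_orbit_self x⟩ from
        Subtype.ext (by
          show (u⁻¹ * k * u⁻¹⁻¹) • x = x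
          rw [inv_inv, mul_smul, mul_smul, show k • u • x = u • x from hk.2, inv_smul_smul])] at e
      have e' : (σ ⟨x, mem_orbit_self x⟩ : Ω) = (u * (u⁻¹ * k * u⁻¹⁻¹) * u⁻¹) • (σ ⟨x, _⟩ : Ω) :=
        congrArg Subtype.val e
      rw [show u * (u⁻¹ * k * u⁻¹⁻¹) * u⁻¹ = k by group] at e'
      exact e'.symm
  set U := K ⊓ stabilizer G b with hUdef
  have hUH : U ≤ stab2 G a b := inf_le_inf_right _ h.le
  have hHU : ∀ g ∈ stab2 G a b, ∀ v ∈ U, g * v * g⁻¹ ∈ U := fun g hg v hv =>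
    ⟨h.conj_mem hg.1 hv.1, (stab2 G a b).mul_mem ((stab2 G a b).mul_mem hg (hUH hv))
      ((stab2 G a b).inv_mem hg) |>.2⟩
  have hZ : ∀ z ∈ U, z ≠ 1 → ∀ c : Ω, (∀ v ∈ U, (v * z * v⁻¹) • c = c) → c ∈ fixedPoints U Ω := by
    intro z hz hz1 c hc
    by_cases hca : c = a
    · exact fun v => hca ▸ h.le v.2.1
    obtain ⟨d, hd, e⟩ := hσ hca hab.symm
    have hdU : d ∈ fixedPoints U Ω := fun v => (e.le v.2).2
    by_contra hn
    refine hz1 (h.eq_one hca hz.1 fun y hy => ?_)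
    by_cases hyd : y = d
    · exact hyd ▸ hdU ⟨z, hz⟩
    rw [← orbit_eq_iff.2 hd] at hy
    obtain ⟨k, hk, rfl⟩ := h2' (h.ne_of_mem hca hd) hy (mem_orbit_symm.1 hd) hyd
      fun e => hn (e ▸ hdU)
    have := hc k (e.ge hk)
    rw [mul_smul, inv_smul_smul, mul_smul] at this
    exact smul_left_cancel k this
  have hi : ∀ c ∈ fixedPoints U Ω, c ≠ a → ∃ g ∈ stabilizer G a ⊓ normalizer (U : Set G), g • b = c :=
    fun c hc hca => by
      obtain ⟨g, g1, rfl⟩ := h.trans hab hca.symm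
      refine ⟨g, ⟨g1, mem_normalizer_fintype fun v hv => ?_⟩, rfl⟩
      rw [hUdef, h.inf_eq hab.symm hca fun v hv => hc ⟨v, hv⟩]
      exact ⟨h.conj_mem g1 hv.1, conj_smul_fix hv.2⟩
  have hp1 := hp.out.one_lt
  have hF : (fixedPoints U Ω).ncard = p + 1 := by
    refine h.toSqDeg.ncard_fixedPoints hab hUH (fun e => by rw [e, card_bot] at hU; omega) inf_le_left
      inf_le_right (h.toSqDeg.ncard_orbit_stabilizer hab ▸ ncard_orbit_dvd_of_le inf_le_left
        (le_inf inf_le_left fun g hg => mem_normalizer_fintype (hHU g hg))) hi ?_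
    obtain ⟨c, hc, hc'⟩ := Set.exists_mem_notMem_of_ncard_lt_ncard (s := orbit K b) (t := {c | c ≠ a})
      (by rw [h.ncard b hab.symm, h.toSqDeg.ncard_ne]; nlinarith)
    obtain ⟨d, hd, e⟩ := hσ hc hab.symm
    exact ⟨d, fun v => (e.le v.2).2, h.ne_of_mem hc hd, fun e => hc' (mem_orbit_symm.1 (e ▸ hd))⟩
  refine h.toSqDeg.false_of_line hab hF (fun v => v.2.2)
    (fun g hg x hx => smul_mem_fixedPoints_of_mem_normalizer (mem_normalizer_fintype (hHU g hg)) hx)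
    (fun c hc hca => (hi c hc hca).imp fun g hg =>
      ⟨fun x hx => smul_mem_fixedPoints_of_mem_normalizer hg.1.2 hx, hg.2⟩) ?_
  obtain ⟨t, t1, t2⟩ := h.trans hab hab.symm
  have hconj : ∀ g ∈ stab2 G a b, ∀ v ∈ U, ∃ w ∈ U, g * (t * v * t⁻¹) * g⁻¹ = t * w * t⁻¹ :=
    fun g hg v hv => ⟨_, hHU _ (inv_conj_mem_stab2_of_swap t1 t2 hg) v hv, by group⟩
  by_cases hM : ∃ z ∈ U, z ≠ 1 ∧ t * z * t⁻¹ ∈ U
  · obtain ⟨z, hz, hz1, hz'⟩ := hM
    refine ⟨t, fun c hc => hZ _ hz' (by simpa using hz1) _ fun v hv => ?_, t1 ▸ hab.symm⟩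
    obtain ⟨w, hw, e⟩ := hconj v (hUH hv) z hz
    rw [e]; exact conj_smul_fix (hc ⟨w, hw⟩)
  push Not at hM
  have hcomm : ∀ z ∈ U, ∀ v ∈ U, v * (t * z * t⁻¹) = (t * z * t⁻¹) * v := fun z hz v hv => by
    obtain ⟨w, hw, e⟩ := hconj v (hUH hv) z hz
    by_contra hne
    refine hM (w * z⁻¹) (U.mul_mem hw (U.inv_mem hz)) (fun e' => hne ?_) ?_
    · rw [mul_inv_eq_one.1 e'] at e
      exact mul_inv_eq_iff_eq_mul.1 e
    · have := U.mul_mem hv (hHU _ (conj_mem_stab2_of_swap t1 t2 (hUH hz)) _ (U.inv_mem hv))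
      convert this using 1
      calc t * (w * z⁻¹) * t⁻¹ = (t * w * t⁻¹) * (t * z * t⁻¹)⁻¹ := by group
        _ = _ := by rw [← e]; group
  have hHB : ∀ g ∈ stab2 G a b, ∀ y ∈ orbit K b, g • y ∈ orbit K b := by
    rintro g hg _ ⟨k, rfl⟩
    exact ⟨⟨_, h.conj_mem hg.1 k.2⟩, by
      show (g * k * g⁻¹) • b = g • (k : G) • b
      rw [mul_smul, inv_smul_eq_iff.2 (show g • b = b from hg.2).symm, mul_smul]⟩
  obtain ⟨c, hc, hcb⟩ := Set.exists_ne_of_one_lt_ncard (h.ncard b hab.symm ▸ hp1) b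
  obtain ⟨z, hz, hz1, hzc⟩ : ∃ z ∈ U, z ≠ 1 ∧ (t * z * t⁻¹) • c = c := by
    obtain ⟨v, w, e, hvw⟩ := Function.not_injective_iff.1 fun hf => (Nat.card_le_card_of_injective
      (fun v : U => (⟨(t * v * t⁻¹) • c, hHB _ (conj_mem_stab2_of_swap t1 t2 (hUH v.2)) c hc⟩ : orbit K b))
      hf).not_gt (by rw [Nat.card_coe_set_eq, h.ncard b hab.symm]; exact hU)
    refine ⟨(v : G)⁻¹ * w, U.mul_mem (U.inv_mem v.2) w.2, fun e => hvw (Subtype.ext (inv_mul_eq_one.1 e)), ?_⟩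
    rw [show t * ((v : G)⁻¹ * w) * t⁻¹ = (t * v * t⁻¹)⁻¹ * (t * w * t⁻¹) by group, mul_smul,
      inv_smul_eq_iff]
    exact (congrArg Subtype.val e).symm
  have hzB : ∀ y ∈ orbit K b, (t * z * t⁻¹) • y = y := fun y hy => by
    by_cases hyb : y = b
    · exact hyb ▸ (conj_mem_stab2_of_swap t1 t2 (hUH hz)).2
    obtain ⟨k, hk, rfl⟩ := h2' hab.symm hc hy hcb hyb
    rw [← mul_smul, ← hcomm z hz k hk, mul_smul, hzc]
  have hsub : t⁻¹ • insert a (orbit K b) ⊆ fixedPoints U Ω := by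
    rintro _ ⟨y, rfl | hy, rfl⟩
    · intro v
      show (v : G) • t⁻¹ • y = t⁻¹ • y
      rw [inv_smul_eq_iff.2 t2.symm]; exact v.2.2
    refine hZ z hz hz1 _ fun v hv => ?_
    have h3 := conj_mem_stab2_of_swap t1 t2 (hUH hv)
    have h4 := hzB _ (hHB _ ((stab2 G a b).inv_mem h3) y hy)
    show (v * z * v⁻¹) • t⁻¹ • y = t⁻¹ • y
    rw [eq_inv_smul_iff, ← mul_smul, ← mul_smul, show t * (v * z * v⁻¹) * t⁻¹ =
      (t * v * t⁻¹) * ((t * z * t⁻¹) * (t * v * t⁻¹)⁻¹) by group, mul_smul, mul_smul (t * z * t⁻¹), h4,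
      smul_inv_smul]
  rw [← Set.eq_of_subset_of_ncard_le hsub (by
    rw [hF, Set.ncard_smul_set, Set.ncard_insert_of_notMem fun e => h.ne_of_mem hab.symm e rfl,
      h.ncard b hab.symm])]
  obtain ⟨k, rfl⟩ := hc
  refine ⟨t⁻¹ * k * t, ?_, fun e => hcb ?_⟩
  · rintro _ ⟨y, hy, rfl⟩
    refine ⟨(k : G) • y, Or.imp (fun e : y = a => e ▸ h.le k.2) (mem_orbit_of_mem_orbit k) hy, ?_⟩
    simp [mul_smul]
  · rw [mul_smul, mul_smul, t1, inv_smul_eq_iff, t1] at e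
    exact e

theorem card_pCoreOf : Nat.card (pCoreOf p K) = p := by
  obtain ⟨b, hb⟩ : ∃ b, b ≠ a := by
    have : Nontrivial Ω := Finite.one_lt_card_iff_nontrivial.1 (by
      have := pow_pos hp.out.pos 2
      rw [h.card]; omega)
    exact exists_ne a
  have hK := h.card_eq hb
  have := h.isSolvable
  have : Nontrivial K := Finite.one_lt_card_iff_nontrivial.1 (by
    have := hp.out.one_lt
    have : 0 < Nat.card ↥(K ⊓ stabilizer G b) := Nat.card_pos
    nlinarith)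
  obtain ⟨q, hq, h1⟩ := exists_pCore_ne_bot K
  have h2 : pCoreOf q K ≠ ⊥ := by
    rwa [pCoreOf_def, Ne, map_eq_bot_iff_of_injective _ K.subtype_injective]
  have := Fact.mk hq
  obtain ⟨n, hn⟩ := IsPGroup.iff_card.1 (pCoreOf_isPGroup q K)
  obtain rfl : p = q := by
    by_contra hne
    exact h2 (h.eq_bot (pCoreOf_le q K) (le_normalizer_pCoreOf q K) fun hd =>
      hne ((Nat.prime_dvd_prime_iff_eq hp.out hq).1 (hp.out.dvd_of_dvd_pow (hn ▸ hd))))
  have h3 := card_dvd_of_le (pCoreOf_le p K)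
  rw [hn, hK] at h3
  rcases n with _ | _ | n
  · exact absurd (eq_bot_of_card_eq _ hn) h2
  · simpa using hn
  · rw [pow_succ'] at h3
    exact absurd (((dvd_pow_self p n.succ_ne_zero).trans (Nat.dvd_of_mul_dvd_mul_left hq.pos h3)).trans
      (card_dvd_of_le (inf_le_inf_right _ h.le))) (h.not_dvd b hb)

end POrb

end CL.Perm
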