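/-
Doubly transitive groups of degree `p ^ 2 + 1` are doubly primitive, with one exception.
-/
import Cfsg.Agent.Perm.HksPrime3
import Cfsg.Agent.Perm.ZassMain
import Cfsg.Agent.Transfer.Control
import Cfsg.Agent.Odd.BG1d
import Cfsg.Agent.S0054

set_option autoImplicit false

open MulAction Subgroup CL.Grp CL.Odd Cfsg
open scoped Pointwise

namespace CL.Perm

variable {G Ω : Type*} [Group G] [MulAction G Ω] {p : ℕ} [hp : Fact p.Prime] [Finite G] [Finite Ω]
  {a b : Ω} {K : Subgroup G}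

theorem POrb.exists_abelian_transitive (h : POrb p a K) (hab : a ≠ b) :
    ∃ Q N : Subgroup G, Q ≤ stabilizer G a ∧ stabilizer G a ≤ N[Q] ∧ Q ≤ C[Q] ∧
      (∀ x y, x ≠ a → y ≠ a → ∃ u ∈ Q, u • x = y) ∧ N ≤ Q ∧ Nat.card N = p ∧ stabilizer G a ≤ N[N] ∧
      ⁅stabilizer G a, stabilizer G a⁆ ≤ C[Q] := by
  have hnorm : ∀ {K : Subgroup G}, POrb p a K → stabilizer G a ≤ N[pCoreOf p K] := fun h =>
    h.norm.trans (normalizer_le_normalizer_pCoreOf p _)
  have hder : ∀ {K : Subgroup G}, POrb p a K → ⁅stabilizer G a, stabilizer G a⁆ ≤ C[pCoreOf p K] :=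
    fun h => der_le_cent_of_cyclic (hnorm h) (isCyclic_of_prime_card h.card_pCoreOf)
  obtain ⟨P, hP⟩ := exists_isSylowIn p (stabilizer G a)
  have hle : ∀ {K : Subgroup G}, POrb p a K → pCoreOf p K ≤ P := fun h =>
    hP.le_of_normalized (pCoreOf_isPGroup p _) ((pCoreOf_le p _).trans h.le) (hnorm h)
  have hPc : Nat.card P = p ^ 2 := by
    rw [hP.card_eq_pow, h.toSqDeg.card_stabilizer hab, Nat.factorization_mul (pow_ne_zero 2 hp.out.ne_zero)
      Nat.card_pos.ne', Finsupp.add_apply, Nat.factorization_eq_zero_of_not_dvd (h.not_dvd b hab.symm)]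
    simp [hp.out.factorization]
  have hPa := IsPGroup.isMulCommutative_of_card_eq_prime_sq hPc
  set N := pCoreOf p K
  have hPC : P ≤ stabilizer G a ⊓ C[N] := le_inf hP.le (le_cent_of_abelian hPa le_rfl (hle h))
  have hnC : stabilizer G a ≤ N[stabilizer G a ⊓ C[N]] :=
    le_norm_inf le_normalizer (le_norm_cent (hnorm h))
  set C := stabilizer G a ⊓ C[N]
  by_cases hC : ⁅C, C⁆ = ⊥
  · have hC' := commutator_eq_bot_iff_le_centralizer.1 hC
    refine ⟨C, N, inf_le_left, hnC, hC', fun x y hx hy => ?_, (hle h).trans hPC, h.card_pCoreOf, hnorm h,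
      (le_inf (comm_le_of_le le_rfl le_rfl) (hder h)).trans hC'⟩
    exact (h.toSqDeg.sylow_trans hP hx hy).imp fun u hu => ⟨hPC hu.1, hu.2⟩
  have hPS := hP.of_le hPC inf_le_left
  have hNC : N ⊓ ⁅C, C⁆ = ⊥ := by
    rw [eq_bot_iff]
    rintro z ⟨hz, hz'⟩
    rw [← map_subtype_commutator] at hz'
    obtain ⟨w, hw, rfl⟩ := hz'
    have := CL.Transfer.inf_commutator_inf_center_le_of_hall (P.subgroupOf C) (by
      rw [card_subgroupOf_of_le hPC, hPc]
      exact ((Nat.Prime.coprime_iff_not_dvd hp.out).2 hPS.not_dvd).pow_left 2)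
      (show w ∈ _ from ⟨⟨hle h hz, hw⟩, mem_center_iff.2 fun g => Subtype.ext (g.2.2 _ hz).symm⟩)
    rw [commutator_eq_bot_iff_le_centralizer.2 fun x hx y hy => Subtype.ext
      (le_cent_of_abelian hPa le_rfl le_rfl hx _ hy)] at this
    rw [mem_bot.1 this]; exact one_mem _
  have hCC : ⁅C, C⁆ ≤ C := comm_le_of_le le_rfl le_rfl
  have h0 : N ≠ ⊥ := fun e => by
    have := h.card_pCoreOf
    rw [show pCoreOf p K = ⊥ from e, card_bot] at this
    exact hp.out.one_lt.ne this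
  have h' : POrb p a ⁅C, C⁆ := h.toSqDeg.pOrb hab (h.not_dvd b hab.symm) (hCC.trans inf_le_left)
    (le_norm_comm hnC hnC) hC fun e => h0 (by
      have h1 := hPS.inf_of_normalized hCC (le_norm_comm le_normalizer le_normalizer)
      have h2 : P ⊓ ⁅C, C⁆ = P := eq_of_le_of_card_ge inf_le_left (by
        rw [hPc, h1.card_eq_pow]
        exact Nat.pow_le_pow_right hp.out.pos ((hp.out.pow_dvd_iff_le_factorization Nat.card_pos.ne').1
          (e ▸ ncard_orbit_dvd_card _ b)))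
      exact eq_bot_iff.2 (hNC ▸ le_inf le_rfl ((hle h).trans (h2 ▸ inf_le_right))))
  have e : N ⊔ pCoreOf p ⁅C, C⁆ = P := eq_of_le_of_card_ge (sup_le (hle h) (hle h')) (by
    have := card_sup_mul_card_inf (((pCoreOf_le p K).trans h.le).trans (hnorm h'))
    rw [eq_bot_iff.2 ((inf_le_inf_left _ (pCoreOf_le p _)).trans hNC.le), card_bot, mul_one,
      h.card_pCoreOf, h'.card_pCoreOf] at this
    rw [this, hPc, sq])
  exact ⟨P, N, hP.le, e ▸ le_norm_sup (hnorm h) (hnorm h'), le_cent_of_abelian hPa le_rfl le_rfl,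
    fun x y => h.toSqDeg.sylow_trans hP, hle h, h.card_pCoreOf, hnorm h, e ▸ le_cent_sup (hder h) (hder h')⟩

theorem POrb.card_eq_twenty (h : POrb p a K) (hab : a ≠ b) : p = 2 ∧ Nat.card G = 20 := by
  obtain ⟨Q, N, hQ, hn, hc, htr, hNQ, hN, hNn, hder⟩ := h.exists_abelian_transitive hab
  have hreg : ∀ g ∈ C[Q], g • a = a → ∀ x, x ≠ a → g • x = x → g = 1 := fun g hg ha x hx e =>
    h.toSqDeg.eq_one_of_fix ha fun y hy => by
      obtain ⟨u, hu, rfl⟩ := htr x y hx hy
      rw [← mul_smul, ← hg u hu, mul_smul, e]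
  have hH : ∀ x ∈ stab2 G a b, ∀ y ∈ stab2 G a b, Commute x y := fun x hx y hy =>
    commutatorElement_eq_one_iff_commute.1 (hreg _ (hder (commutator_mem_commutator hx.1 hy.1))
      (comm_le_of_le le_rfl le_rfl (commutator_mem_commutator hx hy)).1 b hab.symm
      (comm_le_of_le le_rfl le_rfl (commutator_mem_commutator hx hy)).2)
  have key : ∀ z ∈ stab2 G a b, ∀ c, c ≠ a → z • c = c → ∃ u ∈ Q, u • b = c ∧ Commute u z :=
    fun z hz c hca e => by
      obtain ⟨u, hu, rfl⟩ := htr b c hab.symm hca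
      have h1 := Q.mul_mem (Q.inv_mem hu) ((mem_normalizer_iff.1 (hn hz.1) u).1 hu)
      refine ⟨u, hu, rfl, (mul_inv_eq_iff_eq_mul.1 (inv_mul_eq_one.1
        (hreg _ (hc h1) (hQ h1) b hab.symm ?_)).symm).symm⟩
      rw [mul_smul, mul_smul, inv_smul_eq_iff.2 (show z • b = b from hz.2).symm, mul_smul, e,
        inv_smul_smul]
  have hfix : ∀ z ∈ stab2 G a b, ∀ c, c ≠ a → c ≠ b → z • c = c → z = 1 := fun z hz c hca hcb e => by
    by_contra hz1
    have hnz : ∀ {u : G}, Commute u z → u ∈ N[zpowers z] := fun hu =>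
      mem_normalizer_fintype (by
        rintro _ ⟨k, rfl⟩
        exact ⟨k, (mul_inv_eq_iff_eq_mul.2 (hu.zpow_right k).eq).symm⟩)
    have hm : ∀ {x : Ω}, x ∈ fixedPoints (zpowers z) Ω ↔ z • x = x := fun {x} =>
      ⟨fun hx => hx ⟨z, mem_zpowers z⟩, fun hx v => (zpowers_le (H := stabilizer G x)).2 hx v.2⟩
    have hi : ∀ c ∈ fixedPoints (zpowers z) Ω, c ≠ a →
        ∃ g ∈ stabilizer G a ⊓ N[zpowers z], g • b = c := fun c hc hca => by
      obtain ⟨u, hu, h1, h2⟩ := key z hz c hca (hm.1 hc)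
      exact ⟨u, ⟨hQ hu, hnz h2⟩, h1⟩
    refine h.toSqDeg.false_of_line hab (h.toSqDeg.ncard_fixedPoints hab (zpowers_le.2 hz) (by simpa using hz1)
      inf_le_left inf_le_right (h.toSqDeg.ncard_orbit_stabilizer hab ▸ ncard_orbit_dvd_of_le inf_le_left
        (le_inf inf_le_left fun g hg => hnz (hH g hg z hz))) hi ⟨c, hm.2 e, hca, hcb⟩) (hm.2 hz.2)
      (fun g hg x hx => smul_mem_fixedPoints_of_mem_normalizer (hnz (hH g hg z hz)) hx)
      (fun c hc hca => (hi c hc hca).imp fun g hg =>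
        ⟨fun x hx => smul_mem_fixedPoints_of_mem_normalizer hg.1.2 hx, hg.2⟩) ?_
    obtain ⟨t, t1, t2⟩ := h.trans hab hab.symm
    obtain ⟨u, -, h1, h2⟩ := key _ (inv_conj_mem_stab2_of_swap t1 t2 hz) (t⁻¹ • c)
      (fun e => hcb (by rw [← t1, ← e, smul_inv_smul])) (by rw [mul_smul, smul_inv_smul, mul_smul, e])
    refine ⟨t * u * t⁻¹, fun x hx => smul_mem_fixedPoints_of_mem_normalizer (hnz ?_) hx, ?_⟩
    · show t * u * t⁻¹ * z = z * (t * u * t⁻¹)
      calc _ = t * (u * (t⁻¹ * z * t)) * t⁻¹ := by group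
        _ = _ := by rw [h2.eq]; group
    · rw [mul_smul, mul_smul, inv_smul_eq_iff.2 t2.symm, h1, smul_inv_smul]; exact hca
  have h2p := hp.out.two_le
  have hZ : IsZ G Ω := ⟨h.trans, fun {g x y z} h1 h2 h3 e1 e2 e3 => by
    obtain ⟨k, rfl, rfl⟩ := h.trans hab h1
    obtain ⟨z, rfl⟩ := MulAction.surjective k z
    have hk : ∀ {w : Ω}, g • k • w = k • w → (k⁻¹ * g * k) • w = w := fun e => by
      rw [mul_smul, mul_smul, e, inv_smul_smul]
    have := hfix _ ⟨hk e1, hk e2⟩ z (fun e => h3 (e ▸ rfl)) (fun e => h2 (e ▸ rfl)) (hk e3)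
    simpa [mul_assoc, inv_mul_eq_one] using this, three_of_card (by rw [h.card]; nlinarith)⟩
  have hQb : ∀ {X : Subgroup G}, X ≤ Q → (orbit X b).ncard = Nat.card X := fun {X} hX => by
    rw [card_eq_ncard_orbit_mul X b, eq_bot_iff.2 (show X ⊓ stabilizer G b ≤ ⊥ from fun u hu =>
      hreg u (hc (hX hu.1)) (hQ (hX hu.1)) b hab.symm hu.2), card_bot, mul_one]
  have hlt : Nat.card (stab2 G a b) < p := by
    obtain ⟨c, hc, hcb⟩ := Set.exists_ne_of_one_lt_ncard (s := orbit N b) (by rw [hQb hNQ]; omega) b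
    obtain ⟨n, rfl⟩ := hc
    have hca : (n : G) • b ≠ a := fun e => hab (smul_left_cancel (n : G) ((hQ (hNQ n.2)).trans e.symm))
    rw [card_eq_ncard_orbit_mul _ ((n : G) • b), eq_bot_iff.2 (show _ ⊓ stabilizer G ((n : G) • b) ≤ ⊥ from
      fun z hz => hfix z hz.1 _ hca hcb hz.2), card_bot, mul_one, ← hN, ← hQb hNQ]
    refine Set.ncard_lt_ncard (lt_of_le_of_ne ?_ fun e => ?_)
    · rintro _ ⟨z, rfl⟩
      exact ⟨⟨_, (mem_normalizer_iff.1 (hNn z.2.1) n).1 n.2⟩, by
        show ((z : G) * n * (z : G)⁻¹) • b = (z : G) • (n : G) • b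
        rw [mul_smul, inv_smul_eq_iff.2 (show (z : G) • b = b from z.2.2).symm, mul_smul]⟩
    · obtain ⟨z, hz⟩ : b ∈ orbit (stab2 G a b) ((n : G) • b) := e ▸ mem_orbit_self b
      exact hcb (smul_left_cancel (z : G) (hz.trans z.2.2.symm))
  have hpos : 0 < Nat.card (stab2 G a b) := Nat.card_pos
  by_cases hR : ∃ R : Subgroup G, R.Normal ∧ IsPretransitive R Ω ∧ ∀ c : Ω, stabilizer R c = ⊥
  · obtain ⟨R, _, _, hRr⟩ := hR
    have := hZ.nonempty
    obtain ⟨-, r, hr, hR⟩ := Cfsg.Agent.S0054.result hZ.two_trans R inferInstance hRr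
    have := Fact.mk hr
    obtain ⟨k, hk⟩ := IsPGroup.iff_card.1 (show IsPGroup r R from fun x => ⟨1, Subtype.ext (by
      simpa using hR x x.2)⟩)
    rw [card_eq_of_regular a (hRr a), h.card] at hk
    obtain rfl : p = 2 := by
      by_contra hp2
      obtain ⟨j, rfl⟩ := hp.out.odd_of_ne_two hp2
      have e : (2 * j + 1) ^ 2 + 1 = 4 * (j * j + j) + 2 := by ring
      rw [e] at hk
      obtain rfl : r = 2 := hr.even_iff.1 (Nat.even_pow.1
        (⟨2 * (j * j + j) + 1, by omega⟩ : Even (r ^ k))).1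
      rcases k with _ | _ | k
      · omega
      · omega
      · rw [pow_succ, pow_succ] at hk; omega
    refine ⟨rfl, ?_⟩
    rw [h.toSqDeg.card_group hab, show Nat.card (stab2 G a b) = 1 by omega]; rfl
  exfalso
  have hZs : IsZassenhausGroup G Ω := by
    refine ⟨hZ.faithful, hZ.two_trans, fun g a b c h1 h2 h3 => hZ.fix3 h1 h2 h3, ?_, fun R hR1 hR2 => ?_⟩
    · by_contra hc
      push Not at hc
      have := hZ.isPretransitive
      obtain ⟨R, h1, h2, h3⟩ := exists_regular_of_fix2 (G := G) a fun g x y hxy hx hy => by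
        by_contra hg
        exact hc g hg x y hxy hx hy
      refine hR ⟨R, h2, ⟨fun x y => ?_⟩, fun c => eq_bot_iff.2 fun g hg => ?_⟩
      · obtain ⟨g, hg, rfl⟩ := h3 x
        obtain ⟨k, hk, rfl⟩ := h3 y
        exact ⟨⟨k * g⁻¹, R.mul_mem hk (R.inv_mem hg)⟩, by simp [Subgroup.smul_def, mul_smul]⟩
      · exact ((h1 g).1 g.2).elim (fun e => mem_bot.2 (Subtype.ext e)) fun e => absurd hg (e c)
    · by_contra hc
      push Not at hc
      exact hR ⟨R, hR1, hR2, hc⟩
  have hn2 : 2 * Nat.card (stab2 G a b) + 2 < Nat.card Ω := by rw [h.card]; nlinarith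
  rcases Nat.even_or_odd (Nat.card (stab2 G a b)) with he | ho
  · have := hZ.card_le_of_even hab he
    omega
  have hF := hZ.isKer_of_card hQ (by
    rw [← hQb le_rfl, h.card, ← h.toSqDeg.ncard_ne a]
    congr 2
    ext y
    refine ⟨?_, fun hy => ?_⟩
    · rintro ⟨u, rfl⟩ e
      exact hab (smul_left_cancel (u : G) ((hQ u.2).trans e.symm))
    · obtain ⟨u, hu, e⟩ := htr b y hab.symm hy
      exact ⟨⟨u, hu⟩, e⟩) fun u hu hu1 c e => by
      by_contra hca
      exact hu1 (hreg u (hc hu) (hQ hu) c hca e)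
  rcases feit_general hZs hab hF ho with h1 | ⟨h1, -⟩ | ⟨-, ⟨u, v, h1⟩, -⟩
  · omega
  · omega
  · exact h1 (Subtype.ext (hc v.2 u u.2))

theorem SqDeg.card_eq_twenty_of_lt (h : SqDeg G Ω p) (hab : a ≠ b) {L : Subgroup G}
    (h1 : stab2 G a b < L) (h2 : L < stabilizer G a) : p = 2 ∧ Nat.card G = 20 := by
  have hB := h.ncard_orbit_of_lt hab h1 h2
  have hH := h.not_dvd_of_lt hab h1 h2
  have h2p := hp.out.two_le
  refine (h.pOrb hab hH (K := (L.subgroupOf (stabilizer G a)).normalCore.map (stabilizer G a).subtype)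
    (map_subtype_le _) (fun g hg => mem_normalizer_fintype ?_) (fun e => ?_) (ne_of_lt ?_)).card_eq_twenty hab
  · rintro _ ⟨k, hk, rfl⟩
    exact ⟨_, (normalCore_normal _).conj_mem k hk ⟨g, hg⟩, rfl⟩
  · rw [map_eq_bot_iff_of_injective _ (subtype_injective _)] at e
    have e1 : (L.subgroupOf (stabilizer G a)).normalCore.index ∣ (L.relIndex (stabilizer G a)).factorial := by
      rw [normalCore_eq_ker, index_ker, relIndex, index_eq_card, ← Nat.card_perm]
      exact card_subgroup_dvd_card _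
    have e2 : L.relIndex (stabilizer G a) = p := by
      have := card_mul_relIndex h2.le
      rw [card_eq_ncard_orbit_mul L b, hB, h.card_stabilizer hab, le_antisymm
        (inf_le_inf_right _ h2.le) (le_inf h1.le inf_le_right), sq, mul_right_comm, mul_right_comm p p,
        mul_right_comm p] at this
      exact Nat.eq_of_mul_eq_mul_left (Nat.mul_pos hp.out.pos Nat.card_pos) this
    rw [e, index_bot, e2, h.card_stabilizer hab, ← Nat.mul_factorial_pred hp.out.ne_zero, sq, mul_assoc] at e1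
    have := (hp.out.dvd_factorial).1 ((dvd_mul_right _ _).trans (Nat.dvd_of_mul_dvd_mul_left hp.out.pos e1))
    omega
  · refine lt_of_le_of_lt (Set.ncard_le_ncard (t := orbit L b) ?_) (by rw [hB]; nlinarith)
    rintro _ ⟨⟨_, k, hk, rfl⟩, rfl⟩
    exact ⟨⟨k, normalCore_le (L.subgroupOf _) hk⟩, rfl⟩

end CL.Perm
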