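import Cfsg.Agent.Perm.Huppert3
import Cfsg.Agent.Cls.SL2Dickson
import Cfsg.Agent.Odd.Lift2
import Cfsg.Agent.Char.Kernel

/-! Linear groups of order prime to the characteristic that are transitive on non-zero vectors, I:
primitive prime divisors, the complex lift, and groups of degree two. -/

set_option autoImplicit false
set_option linter.unusedSectionVars false

open Cfsg CL.Perm
open scoped MatrixGroups

namespace CL.PT

universe u

variable {G : Type*} [Group G] [Finite G] {V : Type u} [AddCommGroup V] [Finite V]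

/-- The vectors fixed by `x`. -/
def fixS (ρ : G →* AddMonoid.End V) (x : G) : AddSubgroup V where
  carrier := {v | ρ x v = v}
  zero_mem' := map_zero (ρ x)
  add_mem' := fun {a b} ha hb => by
    change ρ x (a + b) = a + b
    rw [map_add, ha, hb]
  neg_mem' := fun {a} ha => by
    change ρ x (-a) = -a
    rw [map_neg, ha]

theorem mem_fixS {ρ : G →* AddMonoid.End V} {x : G} {v : V} : v ∈ fixS ρ x ↔ ρ x v = v := Iff.rfl

/-- `A` acts irreducibly. -/
def Irr (ρ : G →* AddMonoid.End V) (A : Subgroup G) : Prop :=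
  ∀ W : AddSubgroup V, (∀ a ∈ A, ∀ v ∈ W, ρ a v ∈ W) → W = ⊥ ∨ W = ⊤

theorem Irr.mono {ρ : G →* AddMonoid.End V} {A B : Subgroup G} (h : Irr ρ A) (hAB : A ≤ B) :
    Irr ρ B := fun W hW => h W fun a ha => hW a (hAB ha)

/-- `r` is a primitive prime divisor of `p ^ n - 1`. -/
def PPD (p n r : ℕ) : Prop := r.Prime ∧ r ∣ p ^ n - 1 ∧ ∀ i, 1 ≤ i → i < n → ¬ r ∣ p ^ i - 1

theorem pow_mem_of_inv (ρ : G →* AddMonoid.End V) {x : G} {W : AddSubgroup V}
    (h : ∀ v ∈ W, ρ x v ∈ W) {a : G} (ha : a ∈ Subgroup.zpowers x) : ∀ v ∈ W, ρ a v ∈ W := by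
  obtain ⟨k, rfl⟩ := (mem_powers_iff_mem_zpowers.2 ha)
  induction k with
  | zero => intro v hv; simpa using hv
  | succ k ih =>
    intro v hv
    change ρ (x ^ (k + 1)) v ∈ W
    rw [pow_succ', end_mul_apply]
    exact h _ (ih (Subgroup.pow_mem _ (Subgroup.mem_zpowers x) k) v hv)

theorem card_modEq (ρ : G →* AddMonoid.End V) {x : G} {r : ℕ} (hr : r.Prime) (hx : x ^ r = 1)
    {W : AddSubgroup V} (h : ∀ v ∈ W, ρ x v ∈ W) :
    Nat.card W ≡ Nat.card ↥(W ⊓ fixS ρ x) [MOD r] := by
  haveI := Fact.mk hr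
  let _ : MulAction (Subgroup.zpowers x) W :=
    { smul := fun a w => ⟨ρ a w, pow_mem_of_inv ρ h a.2 w w.2⟩
      one_smul := fun w => Subtype.ext (by
        change ρ (1 : G) w = w
        rw [map_one]; rfl)
      mul_smul := fun a b w => Subtype.ext (end_mul_apply ρ a b w) }
  have hP : IsPGroup r (Subgroup.zpowers x) := by
    refine IsPGroup.of_card_dvd_pow (n := 1) ?_
    rw [Nat.card_zpowers, pow_one]
    exact orderOf_dvd_of_pow_eq_one hx
  refine (hP.card_modEq_card_fixedPoints W).trans ?_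
  suffices h : Nat.card (MulAction.fixedPoints (Subgroup.zpowers x) W) =
      Nat.card ↥(W ⊓ fixS ρ x) by rw [h]
  refine Nat.card_congr
    { toFun := fun w => ⟨w.1.1, w.1.2, congrArg Subtype.val (w.2 ⟨x, Subgroup.mem_zpowers x⟩)⟩
      invFun := fun w => ⟨⟨w.1, w.2.1⟩, fun a => Subtype.ext ?_⟩
      left_inv := fun _ => rfl
      right_inv := fun _ => rfl }
  obtain ⟨k, hk⟩ := mem_powers_iff_mem_zpowers.2 a.2
  change ρ a w.1 = w.1
  rw [← hk]
  clear hk
  induction k with
  | zero => simp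
  | succ k ih =>
    change ρ (x ^ (k + 1)) w.1 = w.1
    rw [pow_succ, end_mul_apply, mem_fixS.1 w.2.2]
    exact ih

/-- The standing hypotheses. -/
structure Tr (ρ : G →* AddMonoid.End V) (p n : ℕ) : Prop where
  prime : p.Prime
  inj : Function.Injective ρ
  tr : ∀ v w : V, v ≠ 0 → w ≠ 0 → ∃ g, ρ g v = w
  card : Nat.card V = p ^ n
  pos : 1 ≤ n
  cop : ¬ p ∣ Nat.card G
  exp : ∀ v : V, p • v = 0

theorem exists_card_eq {p n : ℕ} (hp : p.Prime) (hV : Nat.card V = p ^ n) (W : AddSubgroup V) :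
    ∃ j ≤ n, Nat.card W = p ^ j :=
  (Nat.dvd_prime_pow hp).1 (hV ▸ W.card_addSubgroup_dvd_card)

theorem dvd_of_modEq {p r i j : ℕ} (hr : r.Prime) (hp : p.Prime) (hrp : r ≠ p) (hij : j ≤ i)
    (h : p ^ i ≡ p ^ j [MOD r]) : r ∣ p ^ (i - j) - 1 := by
  have h1 : r ∣ p ^ i - p ^ j := (Nat.modEq_iff_dvd' (Nat.pow_le_pow_right hp.pos hij)).1 h.symm
  have h2 : p ^ i - p ^ j = p ^ j * (p ^ (i - j) - 1) := by
    rw [Nat.mul_sub_one, ← pow_add, Nat.add_sub_cancel' hij]
  rw [h2] at h1
  exact ((Nat.coprime_primes hr hp).2 hrp).pow_right j |>.dvd_of_dvd_mul_left h1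

namespace Tr

variable {ρ : G →* AddMonoid.End V} {p n : ℕ}

theorem nontrivial (T : Tr ρ p n) : Nontrivial V := by
  rw [← Finite.one_lt_card_iff_nontrivial, T.card]
  exact Nat.one_lt_pow (by have := T.pos; omega) T.prime.one_lt

theorem eq_one (T : Tr ρ p n) {g : G} (h : ∀ v, ρ g v = v) : g = 1 :=
  T.inj (by rw [map_one]; exact AddMonoidHom.ext h)

theorem dvd_card (T : Tr ρ p n) : p ^ n - 1 ∣ Nat.card G := by
  have := T.nontrivial
  exact T.card ▸ card_sub_one_dvd_of_transitive ρ T.tr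

theorem ne_of_dvd (T : Tr ρ p n) {r : ℕ} (h : r ∣ Nat.card G) : r ≠ p := fun e => T.cop (e ▸ h)

/-- An element of prime order `r` fixes `p ^ j` vectors with `j < n` and `r ∣ p ^ (n - j) - 1`. -/
theorem exists_fix (T : Tr ρ p n) {x : G} {r : ℕ} (hr : r.Prime) (hx : orderOf x = r) :
    ∃ j < n, Nat.card (fixS ρ x) = p ^ j ∧ r ∣ p ^ (n - j) - 1 := by
  obtain ⟨j, hj, e⟩ := exists_card_eq T.prime T.card (fixS ρ x)
  have h1 := card_modEq ρ hr (hx ▸ pow_orderOf_eq_one x) (W := ⊤) fun _ _ => trivial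
  rw [top_inf_eq, AddSubgroup.card_top, T.card, e] at h1
  refine ⟨j, lt_of_le_of_ne hj fun h => ?_, e,
    dvd_of_modEq hr T.prime (T.ne_of_dvd (hx ▸ orderOf_dvd_natCard x)) hj h1⟩
  have h2 : fixS ρ x = ⊤ := AddSubgroup.eq_top_of_card_eq _ (by rw [e, h, T.card])
  have h3 : x = 1 := T.eq_one fun v => mem_fixS.1 (h2 ▸ AddSubgroup.mem_top v)
  rw [h3, orderOf_one] at hx
  exact hr.one_lt.ne hx

theorem exists_dvd (T : Tr ρ p n) {r : ℕ} (hr : r.Prime) (h : r ∣ Nat.card G) :
    ∃ i, 1 ≤ i ∧ i ≤ n ∧ r ∣ p ^ i - 1 := by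
  haveI := Fact.mk hr
  obtain ⟨x, hx⟩ := exists_prime_orderOf_dvd_card' r h
  obtain ⟨j, hj, -, h1⟩ := T.exists_fix hr hx
  exact ⟨n - j, by omega, by omega, h1⟩

theorem irr_of_ppd (T : Tr ρ p n) {x : G} {r : ℕ} (hr : PPD p n r) (hx : orderOf x = r) :
    Irr ρ (Subgroup.zpowers x) := by
  intro W hW
  obtain ⟨j, hj, e, h1⟩ := T.exists_fix hr.1 hx
  have hj0 : j = 0 := by
    by_contra h
    exact hr.2.2 (n - j) (by omega) (by omega) h1
  have h2 : fixS ρ x = ⊥ := AddSubgroup.eq_bot_of_card_eq _ (by rw [e, hj0, pow_zero])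
  have h3 := card_modEq ρ hr.1 (hx ▸ pow_orderOf_eq_one x) (hW x (Subgroup.mem_zpowers x))
  obtain ⟨i, hi, e'⟩ := exists_card_eq T.prime T.card W
  rw [h2, inf_bot_eq, AddSubgroup.card_bot, e', ← pow_zero p] at h3
  have h4 := dvd_of_modEq hr.1 T.prime (T.ne_of_dvd (hx ▸ orderOf_dvd_natCard x)) (Nat.zero_le i) h3
  rcases Nat.eq_zero_or_pos i with h0 | h0
  · exact Or.inl (AddSubgroup.eq_bot_of_card_eq _ (by rw [e', h0, pow_zero]))
  · have h5 : i = n := by
      by_contra h
      exact hr.2.2 i h0 (by omega) h4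
    exact Or.inr (AddSubgroup.eq_top_of_card_eq _ (by rw [e', h5, T.card]))

/-- The centraliser of an irreducible element is abelian. -/
theorem comm_of_irr (T : Tr ρ p n) {x : G} (hx : Irr ρ (Subgroup.zpowers x)) {g h : G}
    (hg : g * x = x * g) (hh : h * x = x * h) : g * h = h * g := by
  have := T.nontrivial
  let H := Subgroup.centralizer ({x} : Set G)
  have hm : ∀ {g : G}, g * x = x * g → g ∈ H := fun e =>
    Subgroup.mem_centralizer_singleton_iff.2 e
  let x' : H := ⟨x, hm rfl⟩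
  have hc : ∀ y : H, y * x' = x' * y := fun y =>
    Subtype.ext (Subgroup.mem_centralizer_singleton_iff.1 y.2)
  haveI : (Subgroup.zpowers x').Normal := ⟨by
    rintro _ ⟨k, rfl⟩ y
    refine ⟨k, ?_⟩
    have h1 : Commute y (x' ^ k) := Commute.zpow_right (hc y) k
    change x' ^ k = y * x' ^ k * y⁻¹
    rw [h1.eq, mul_inv_cancel_right]⟩
  obtain ⟨K, _, _, e, c, σ, h1, h2, h3, h4⟩ := exists_semilinear_of_irreducible
    (ρ.comp H.subtype) (Subgroup.zpowers x') (by
      rintro _ ⟨a, rfl⟩ _ ⟨b, rfl⟩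
      rw [← map_mul, ← map_mul, (Commute.zpow_zpow_self x' a b).eq]) (by
      intro W hW
      refine hx W ?_
      rintro _ ⟨k, rfl⟩ v hv
      exact hW (x' ^ k) ⟨k, rfl⟩ v hv)
  have hσ : ∀ y : H, ∀ t, σ y t = t := by
    intro y
    have h5 : ∀ t ∈ Subgroup.zpowers x', σ y (c t) = c t := by
      rintro _ ⟨k, rfl⟩
      have h6 : Commute y (x' ^ k) := Commute.zpow_right (hc y) k
      have h7 := congrArg (fun z => (ρ.comp H.subtype) z (e 1)) h6.eq
      simp only [end_mul_apply] at h7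
      simp only [h1, h3 _ ⟨k, rfl⟩, map_one, mul_one, RingAut.one_apply] at h7
      have h8 := e.injective h7
      exact mul_left_cancel₀ (h2 y) (h8.trans (mul_comm _ _))
    let W : AddSubgroup K :=
      { carrier := {t | σ y t = t}
        zero_mem' := map_zero _
        add_mem' := fun {a b} ha hb => by
          change σ y (a + b) = a + b
          rw [map_add, ha, hb]
        neg_mem' := fun {a} ha => by
          change σ y (-a) = -a
          rw [map_neg, ha] }
    rcases h4 W (fun t ht z hz => by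
      change σ y (c t * z) = c t * z
      rw [map_mul, h5 t ht, hz]) with h | h
    · have h6 : (1 : K) ∈ W := map_one (σ y)
      rw [h] at h6
      exact absurd (AddSubgroup.mem_bot.1 h6) one_ne_zero
    · exact fun t => (h ▸ AddSubgroup.mem_top t : t ∈ W)
  refine T.inj (AddMonoidHom.ext fun v => ?_)
  obtain ⟨t, rfl⟩ := e.surjective v
  have a1 := h1 ⟨g, hm hg⟩
  have a2 := h1 ⟨h, hm hh⟩
  simp only [hσ, MonoidHom.comp_apply, Subgroup.coe_subtype] at a1 a2
  change ρ (g * h) (e t) = ρ (h * g) (e t)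
  rw [end_mul_apply, end_mul_apply, a1, a2, a1, a2, mul_left_comm]

/-- The complex lift of the module. -/
theorem exists_char_aux [Fact p.Prime] [Module (ZMod p) V] (T : Tr ρ p n) :
    ∃ χ : G → ℂ, IsCharacter G χ ∧ (∀ g, χ g = χ 1 → g = 1) ∧ charDegree χ = n := by
  let ρ' : G →* Module.End (ZMod p) V :=
    { toFun := fun g => AddMonoidHom.toZModLinearMap p (ρ g)
      map_one' := LinearMap.ext fun v => by
        change ρ 1 v = v
        rw [map_one]; rfl
      map_mul' := fun g h => LinearMap.ext fun v => end_mul_apply ρ g h v }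
  obtain ⟨χ, d, hχ, hd, hc⟩ := CL.Odd.exists_char_lift_rep
    ((Nat.Prime.coprime_iff_not_dvd T.prime).2 T.cop).symm ρ'
  have key : ∀ A : Subgroup G, (∀ a ∈ A, a = 1) ↔ d A = n := by
    intro A
    constructor
    · intro h
      have h1 := hc A
      rw [Nat.card_congr (Equiv.subtypeUnivEquiv fun w a ha => by
        rw [h a ha, map_one]; rfl), T.card] at h1
      exact (Nat.pow_right_injective T.prime.two_le h1).symm
    · intro h a ha
      have h1 := hc A
      rw [h, ← T.card] at h1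
      have h2 : Function.Bijective (Subtype.val : {w : V // ∀ a ∈ A, ρ' a w = w} → V) :=
        (Nat.bijective_iff_injective_and_card _).2 ⟨Subtype.val_injective, h1⟩
      refine T.eq_one fun v => ?_
      obtain ⟨w, rfl⟩ := h2.2 v
      exact w.2 a ha
  classical
  haveI := Fintype.ofFinite G
  have h1 : χ 1 = n := by
    have h2 := hd ⊥
    rw [(key ⊥).1 fun a ha => ha, Subgroup.card_bot, Fintype.sum_subsingleton _ 1] at h2
    simpa using h2
  refine ⟨χ, hχ, fun g hg => ?_, hχ.charDegree_eq_iff.2 h1⟩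
  have h2 : Subgroup.zpowers g ≤ CL.Char.charKer χ :=
    Subgroup.zpowers_le.2 (hχ.mem_charKer.2 hg)
  have h3 := hd (Subgroup.zpowers g)
  rw [Finset.sum_congr rfl fun a _ => hχ.mem_charKer.1 (h2 a.2), Finset.sum_const, h1,
    Finset.card_univ, nsmul_eq_mul, ← Nat.card_eq_fintype_card] at h3
  have h4 := mul_left_cancel₀ (Nat.cast_ne_zero.2 Nat.card_pos.ne') h3
  exact (key _).2 (Nat.cast_injective h4).symm g (Subgroup.mem_zpowers g)

theorem exists_char (T : Tr ρ p n) :
    ∃ χ : G → ℂ, IsCharacter G χ ∧ (∀ g, χ g = χ 1 → g = 1) ∧ charDegree χ = n :=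
  haveI := Fact.mk T.prime
  @exists_char_aux _ _ _ _ _ _ _ _ _ _ (AddCommGroup.zmodModule T.exp) T

end Tr

theorem comm_comap {C Q : Type*} [Group C] [Group Q] (π : C →* Q) (h : π.ker ≤ Subgroup.center C)
    (R : Subgroup Q) [IsCyclic R] : IsMulCommutative (R.comap π) :=
  (π.subgroupComap R).isMulCommutative_of_isCyclic_of_ker_le_center fun x hx =>
    Subgroup.mem_center_iff.2 fun y => Subtype.ext
      (Subgroup.mem_center_iff.1 (h (congrArg Subtype.val (MonoidHom.mem_ker.1 hx))) y.1)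

theorem index_rot (m : ℕ) : (Subgroup.zpowers (DihedralGroup.r (1 : ZMod m))).index = 2 := by
  have h1 : ∀ i : ZMod m, DihedralGroup.r i ∈ Subgroup.zpowers (DihedralGroup.r (1 : ZMod m)) := by
    intro i
    obtain ⟨k, rfl⟩ := ZMod.intCast_surjective i
    exact ⟨k, DihedralGroup.r_one_zpow k⟩
  have h2 : ∀ i : ZMod m, DihedralGroup.sr i ∉ Subgroup.zpowers (DihedralGroup.r (1 : ZMod m)) := by
    rintro i ⟨k, hk⟩
    have := (DihedralGroup.r_one_zpow (n := m) k).symm.trans hk
    cases this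
  refine Subgroup.index_eq_two_iff'.2 ⟨DihedralGroup.sr 0, ?_⟩
  rintro (i | i)
  · exact Or.inr ⟨h1 i, h2 _⟩
  · exact Or.inl ⟨h1 _, h2 i⟩

/-- Dickson's list for a linear group of degree two and order prime to the characteristic. -/
theorem dim_two {C K W : Type*} [Group C] [Finite C] [Field K] [Finite K] [AddCommGroup W]
    [Module K W] (p : ℕ) [Fact p.Prime] [CharP K p] (hd : Module.finrank K W = 2)
    (f : C →* Module.End K W) (hf : Function.Injective f) (hp : ¬ p ∣ Nat.card C) :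
    ∃ (Z : Subgroup C) (_ : Z.Normal), (∀ g, g ∈ Z ↔ ∃ c : K, ∀ v, f g v = c • v) ∧
      Z ≤ Subgroup.center C ∧ Nat.card Z ∣ Nat.card K - 1 ∧
      ((∃ B : Subgroup C, IsMulCommutative B ∧ B.index ∣ 2) ∨
        Nonempty (C ⧸ Z ≃* alternatingGroup (Fin 4)) ∨ Nonempty (C ⧸ Z ≃* Equiv.Perm (Fin 4)) ∨
        Nonempty (C ⧸ Z ≃* alternatingGroup (Fin 5))) := by
  classical
  haveI : Module.Finite K W := Module.finite_of_finrank_pos (by omega)
  haveI : Nontrivial W := Module.nontrivial_of_finrank_pos (R := K) (by omega)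
  let b : Module.Basis (Fin 2) K W := Module.finBasisOfFinrankEq K W hd
  let φ : C →* GL (Fin 2) K :=
    (((LinearMap.toMatrixAlgEquiv b).toMulEquiv.toMonoidHom).comp f).toHomUnits
  have hφ : ∀ g, (φ g : Matrix (Fin 2) (Fin 2) K) = LinearMap.toMatrixAlgEquiv b (f g) :=
    fun _ => rfl
  let ψ := Matrix.ProjGenLinGroup.mk.comp φ
  have hZ : ∀ g, g ∈ ψ.ker ↔ ∃ c : K, ∀ v, f g v = c • v := by
    intro g
    rw [MonoidHom.mem_ker, MonoidHom.comp_apply, Matrix.ProjGenLinGroup.mk_eq_one,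
      Matrix.GeneralLinearGroup.mem_center_iff_val_mem_range_scalar, hφ]
    refine exists_congr fun c => ?_
    have h1 : Matrix.scalar (Fin 2) c =
        LinearMap.toMatrixAlgEquiv b (algebraMap K (Module.End K W) c) := by
      rw [AlgEquiv.commutes]; rfl
    rw [h1, (LinearMap.toMatrixAlgEquiv b).injective.eq_iff, eq_comm, LinearMap.ext_iff]
    rfl
  have hc : ψ.ker ≤ Subgroup.center C := by
    intro g hg
    obtain ⟨c, hc⟩ := (hZ g).1 hg
    refine Subgroup.mem_center_iff.2 fun h => hf (LinearMap.ext fun v => ?_)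
    simp only [map_mul, Module.End.mul_apply, hc, map_smul]
  have hcard : Nat.card ψ.ker ∣ Nat.card K - 1 := by
    choose c hc' using fun g : ψ.ker => (hZ g).1 g.2
    obtain ⟨v, hv⟩ := exists_ne (0 : W)
    let ι : ψ.ker →* K :=
      { toFun := c
        map_one' := smul_left_injective K hv (by
          change c 1 • v = (1 : K) • v
          rw [← hc', one_smul]; simp)
        map_mul' := fun g h => smul_left_injective K hv (by
          change c (g * h) • v = (c g * c h) • v
          rw [← hc', mul_smul, ← hc' h, ← hc' g]; simp) }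
    have hι : Function.Injective ι.toHomUnits := by
      intro g h e
      have e' : c g = c h := congrArg Units.val e
      exact Subtype.ext (hf (LinearMap.ext fun w => by rw [hc', hc', e']))
    rw [← Nat.card_units]
    exact Subgroup.card_dvd_of_injective _ hι
  have hk : (QuotientGroup.mk' ψ.ker).ker ≤ Subgroup.center C := by
    rwa [QuotientGroup.ker_mk']
  refine ⟨ψ.ker, inferInstance, hZ, hc, hcard, ?_⟩
  rcases CL.SL2.dickson_coprime p (QuotientGroup.kerLift ψ) (QuotientGroup.kerLift_injective ψ)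
    (fun h => hp (h.trans (Subgroup.card_quotient_dvd_card _))) with h | ⟨m, ⟨e⟩⟩ | h
  · refine Or.inl ⟨⊤, ?_, by simp⟩
    have := comm_comap (QuotientGroup.mk' ψ.ker) hk ⊤
    rwa [Subgroup.comap_top] at this
  · let π := e.toMonoidHom.comp (QuotientGroup.mk' ψ.ker)
    refine Or.inl ⟨(Subgroup.zpowers (DihedralGroup.r (1 : ZMod m))).comap π,
      comm_comap π (fun x hx => hk ?_) _, ?_⟩
    · exact e.injective ((MonoidHom.mem_ker.1 hx).trans (map_one e).symm)
    · rw [Subgroup.index_comap_of_surjective _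
        (e.surjective.comp (QuotientGroup.mk'_surjective _)), index_rot]
  · exact Or.inr h

end CL.PT
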