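import Cfsg.Agent.Perm.PT1
import Cfsg.Agent.Cls.SL2Max
import Cfsg.Agent.Char.SmallDegree
import Cfsg.Agent.Char.Burnside
import Cfsg.Agent.S4503
import Cfsg.Agent.S4504
import Cfsg.Agent.S4485
import Cfsg.Agent.S0205
import Cfsg.Agent.Fgs.ClassFusion

/-! Linear groups of order prime to the characteristic that are transitive on non-zero vectors, II:
the structure theorem. -/

set_option autoImplicit false
set_option linter.unusedSectionVars false

open Cfsg CL.Perm
open scoped MatrixGroups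

namespace CL.PT

universe u

variable {G : Type*} [Group G] [Finite G] {V : Type u} [AddCommGroup V] [Finite V]

/-- There is an irreducible abelian normal subgroup. -/
def GL1 (ρ : G →* AddMonoid.End V) : Prop :=
  ∃ A : Subgroup G, A.Normal ∧ IsMulCommutative A ∧ Irr ρ A

/-- The quotient by a central subgroup of order dividing `p - 1` is `A₄`, `S₄` or `A₅`. -/
def Two (G : Type*) [Group G] (p : ℕ) : Prop :=
  ∃ (Z : Subgroup G) (_ : Z.Normal), Z ≤ Subgroup.center G ∧ Nat.card Z ∣ p - 1 ∧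
    (Nonempty (G ⧸ Z ≃* alternatingGroup (Fin 4)) ∨ Nonempty (G ⧸ Z ≃* Equiv.Perm (Fin 4)) ∨
      Nonempty (G ⧸ Z ≃* alternatingGroup (Fin 5)))

theorem three_dvd_psl (t : ℕ) [Fact t.Prime] (h2 : t ≠ 2) : 3 ∣ Nat.card PSL(2, ZMod t) := by
  have h1 := CL.SL2.card_psl_two_mul (F := ZMod t) (Ring.two_ne_zero (by rwa [ZMod.ringChar_zmod_n]))
  rw [ZMod.card] at h1
  refine (by norm_num : Nat.Coprime 3 2).dvd_of_dvd_mul_right (h1 ▸ ?_)
  have h3 : t ^ 2 - 1 = (t + 1) * (t - 1) := by rw [← Nat.sq_sub_sq, one_pow]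
  have h4 := (Fact.out : t.Prime).pos
  rw [h3]
  have : t % 3 = 0 ∨ (t + 1) % 3 = 0 ∨ (t - 1) % 3 = 0 := by omega
  rcases this with h | h | h
  · exact (Nat.dvd_of_mod_eq_zero h).mul_right _
  · exact ((Nat.dvd_of_mod_eq_zero h).mul_right _).mul_left _
  · exact ((Nat.dvd_of_mod_eq_zero h).mul_left _).mul_left _

theorem sylow_normal_of_card {K : Type*} [Group K] [Finite K] {t : ℕ} [ht : Fact t.Prime]
    (hsq : ¬ t ^ 2 ∣ Nat.card K) (Q : Sylow t K) {H : Subgroup K} (hH : H.Normal)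
    (hc : Nat.card H = t) : (Q : Subgroup K).Normal := by
  have h1 : H ≤ Q := by
    have h2 : IsPGroup t H := IsPGroup.of_card (n := 1) (by rw [hc, pow_one])
    have h3 := (h2.to_sup_of_normal_left Q.isPGroup')
    exact le_sup_left.trans (Q.3 h3 le_sup_right).le
  obtain ⟨j, hj⟩ := IsPGroup.iff_card.1 Q.isPGroup'
  have h2 : j ≤ 1 := by
    by_contra h
    exact hsq ((pow_dvd_pow t (by omega)).trans (hj ▸ (Q : Subgroup K).card_subgroup_dvd_card))
  have h3 : H = Q := Subgroup.eq_of_le_of_card_ge h1 (by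
    rw [hj, hc]
    exact (Nat.pow_le_pow_right ht.out.pos h2).trans (pow_one t).le)
  exact h3 ▸ hH

theorem sylow_bot {K : Type*} [Group K] [Finite K] {t : ℕ} [ht : Fact t.Prime]
    (h : ¬ t ∣ Nat.card K) (Q : Sylow t K) : (Q : Subgroup K).Normal := by
  obtain ⟨j, hj⟩ := IsPGroup.iff_card.1 Q.isPGroup'
  have h2 : j = 0 := by
    by_contra h0
    exact h ((dvd_pow_self t h0).trans (hj ▸ (Q : Subgroup K).card_subgroup_dvd_card))
  rw [Subgroup.card_eq_one.1 (by rw [hj, h2, pow_zero] : Nat.card (Q : Subgroup K) = 1)]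
  infer_instance

/-- A non-trivial normal `t`-subgroup contains a non-trivial abelian normal subgroup. -/
theorem exists_ab {t : ℕ} [ht : Fact t.Prime] (hd : t ∣ Nat.card G) (P : Sylow t G)
    (hP : (P : Subgroup G).Normal) :
    ∃ A : Subgroup G, A.Normal ∧ IsMulCommutative A ∧ t ∣ Nat.card A := by
  have h1 : (P : Subgroup G) ≠ ⊥ := P.ne_bot_of_dvd_card hd
  haveI := (Subgroup.nontrivial_iff_ne_bot _).2 h1
  haveI := P.isPGroup'.center_nontrivial
  refine ⟨(Subgroup.center P).map (P : Subgroup G).subtype, inferInstance, inferInstance, ?_⟩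
  rw [Subgroup.card_map_of_injective Subtype.val_injective]
  obtain ⟨j, hj, e⟩ := (P.isPGroup'.to_subgroup (Subgroup.center P)).nontrivial_iff_card.1
    inferInstance
  exact e ▸ dvd_pow_self t hj.ne'

namespace Tr

variable {ρ : G →* AddMonoid.End V} {p n : ℕ}

theorem exists_semi (T : Tr ρ p n) (A : Subgroup G) [A.Normal] [IsMulCommutative A] :
    ∃ (K : Type u) (_ : Field K) (_ : Finite K) (_ : Module K V) (ι : A →* K) (σ : G →* (K ≃+* K))
      (k : ℕ), SemiData ρ A ι σ ∧ Nat.card K = p ^ k ∧ k * Module.finrank K V = n ∧ CharP K p := by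
  have := T.nontrivial
  obtain ⟨K, _, _, _, ι, σ, D⟩ := exists_semiData ρ T.inj T.tr A
  have : Module.Finite K V := Module.Finite.of_finite
  have hd0 : 0 < Module.finrank K V := Module.finrank_pos
  have hKV := Module.natCard_eq_pow_finrank (K := K) (V := V)
  obtain ⟨k, -, hK⟩ := (Nat.dvd_prime_pow T.prime).1
    (T.card ▸ hKV ▸ dvd_pow_self (Nat.card K) hd0.ne')
  refine ⟨K, _, ‹_›, _, ι, σ, k, D, hK, Nat.pow_right_injective T.prime.two_le ?_, ?_⟩
  · simp only
    rw [← T.card, hKV, hK, pow_mul]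
  · obtain ⟨v, hv⟩ := exists_ne (0 : V)
    refine (CharP.charP_iff_prime_eq_zero T.prime).2 ?_
    have h1 := T.exp v
    rw [← Nat.cast_smul_eq_nsmul K] at h1
    exact (smul_eq_zero.1 h1).resolve_right hv

theorem gl1_of_ppd (T : Tr ρ p n) {r : ℕ} (hr : PPD p n r) {A : Subgroup G} (hA : A.Normal)
    (hc : IsMulCommutative A) (hd : r ∣ Nat.card A) : GL1 ρ := by
  haveI := Fact.mk hr.1
  obtain ⟨x, hx⟩ := exists_prime_orderOf_dvd_card' r hd
  exact ⟨A, hA, hc, (T.irr_of_ppd hr ((Subgroup.orderOf_coe x).trans hx)).mono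
    (Subgroup.zpowers_le.2 x.2)⟩

theorem gl1_of_sylow (T : Tr ρ p n) {r : ℕ} [Fact r.Prime] (hr : PPD p n r) (P : Sylow r G)
    (hP : (P : Subgroup G).Normal) : GL1 ρ := by
  obtain ⟨A, h1, h2, h3⟩ := exists_ab (hr.2.1.trans T.dvd_card) P hP
  exact T.gl1_of_ppd hr h1 h2 h3

/-- Large primes have a normal Sylow subgroup. -/
theorem normal_large (T : Tr ρ p n) {t : ℕ} [ht : Fact t.Prime] (h1 : n + 1 < t)
    (h2 : 2 * n + 1 < t ∨ (2 * n + 1 = t ∧ ¬ 3 ∣ Nat.card G)) (P : Sylow t G) :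
    (P : Subgroup G).Normal := by
  obtain ⟨χ, hχ, hf, hd⟩ := T.exists_char
  refine CL.Char.sylow_normal_of_small_degree hχ (CL.Char.charKer_eq_bot_of_faithful hf)
    (Or.inr ⟨hd ▸ h1, fun K hK Q => ?_⟩) P
  by_cases hdiv : t ∣ Nat.card K
  swap
  · exact sylow_bot hdiv Q
  by_contra hQ
  have hnn : ∀ H : Subgroup K, H.Normal → Nat.card H ≠ t :=
    fun H hH hc => hQ (sylow_normal_of_card hK Q hH hc)
  have hf' : ∀ g : K, χ g = χ (1 : K) → g = 1 := fun g hg => Subtype.ext (hf g hg)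
  have hd' : charDegree (fun x : K => χ x) = n := hd
  have h3 := Cfsg.Agent.S4503.result t ht.out hdiv hK hnn _ (hχ.restrict K) hf'
  rw [hd'] at h3
  obtain ⟨h4, h5⟩ := h2.resolve_left (by omega)
  obtain ⟨e⟩ := Cfsg.Agent.S4504.result t ht.out hdiv hK hnn _ (hχ.restrict K) hf' (by rw [hd', h4])
  refine h5 (Dvd.dvd.trans ?_ ((Subgroup.card_quotient_dvd_card (Subgroup.center K)).trans
    K.card_subgroup_dvd_card))
  rw [Nat.card_congr e.toEquiv]
  exact three_dvd_psl t (by have := T.pos; omega)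

theorem ppd_gt (T : Tr ρ p n) {r : ℕ} (hr : PPD p n r) : n ∣ r - 1 :=
  (CL.Fgs.dvd_sub_one_of_primitive r p n hr.1 T.prime.pos T.pos hr.2.1 hr.2.2).2

/-- Brauer's theorems for a primitive prime divisor. -/
theorem ppd_cases (T : Tr ρ p n) (hn : ¬ GL1 ρ) {r : ℕ} (hr : PPD p n r) :
    ¬ r ^ 2 ∣ Nat.card G ∧ (r = n + 1 ∨ (r = 2 * n + 1 ∧
      ∃ _ : Fact r.Prime, Nonempty (G ⧸ Subgroup.center G ≃* PSL(2, ZMod r)))) := by
  haveI := Fact.mk hr.1
  obtain ⟨χ, hχ, hf, hd⟩ := T.exists_char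
  have hdiv := hr.2.1.trans T.dvd_card
  obtain ⟨c, hc⟩ := T.ppd_gt hr
  have hr2 := hr.1.two_le
  have hpos := T.pos
  have hc0 : c ≠ 0 := by rintro rfl; omega
  have hge : n + 1 ≤ r := by
    have := Nat.le_mul_of_pos_right n (Nat.pos_of_ne_zero hc0)
    omega
  obtain ⟨P⟩ : Nonempty (Sylow r G) := inferInstance
  have hsq : ¬ r ^ 2 ∣ Nat.card G := by
    intro hsq
    obtain ⟨j, hj⟩ := IsPGroup.iff_card.1 P.isPGroup'
    have hj2 : 2 ≤ j := by
      have h1 := P.card_eq_multiplicity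
      rw [hj] at h1
      rw [Nat.pow_right_injective hr2 h1]
      exact (hr.1.pow_dvd_iff_le_factorization Nat.card_pos.ne').1 hsq
    have hel : ∀ x ∈ (P : Subgroup G), x ≠ 1 → ∃ k : ℕ, orderOf (x ^ k) = r := by
      intro x hx h1
      obtain ⟨i, -, hi⟩ := (Nat.dvd_prime_pow hr.1).1 (hj ▸ (P : Subgroup G).orderOf_dvd_natCard hx)
      refine ⟨_, orderOf_pow_orderOf_div (orderOf_pos x).ne' (hi ▸ dvd_pow_self r fun h0 => h1 ?_)⟩
      rw [h0, pow_zero] at hi
      exact orderOf_eq_one_iff.1 hi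
    have hab : ∀ x ∈ (P : Subgroup G), ∀ y ∈ (P : Subgroup G), x * y = y * x := by
      haveI := (Subgroup.nontrivial_iff_ne_bot _).2 (P.ne_bot_of_dvd_card hdiv)
      haveI := P.isPGroup'.center_nontrivial
      obtain ⟨z, hz⟩ := exists_ne (1 : Subgroup.center P)
      obtain ⟨k, hk⟩ := hel z.1 z.1.2 fun h => hz (Subtype.ext (Subtype.ext h))
      have h1 : ∀ x ∈ (P : Subgroup G), x * (z.1 : G) ^ k = (z.1 : G) ^ k * x := fun x hx =>
        (Commute.pow_right (congrArg Subtype.val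
          (Subgroup.mem_center_iff.1 z.2 ⟨x, hx⟩) : x * z.1 = z.1 * x) k).eq
      exact fun x hx y hy => T.comm_of_irr (T.irr_of_ppd hr hk) (h1 x hx) (h1 y hy)
    refine hn (T.gl1_of_sylow hr P (Cfsg.Agent.S4485.result r hr.1 hdiv P (fun x hx h1 => ?_) j hj
      χ hχ hf ?_))
    · obtain ⟨k, hk⟩ := hel x hx h1
      refine le_antisymm (fun g hg y hy => ?_)
        (Subgroup.centralizer_le (Set.singleton_subset_iff.2 hx))
      exact T.comm_of_irr (T.irr_of_ppd hr hk) (Commute.pow_right (hab y hy x hx) k).eq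
        (Commute.pow_right (Subgroup.mem_centralizer_singleton_iff.1 hg) k).eq
    · rw [hd]
      calc n ^ 2 + 1 < (n + 1) ^ 2 := by nlinarith
        _ ≤ r ^ 2 := Nat.pow_le_pow_left hge 2
        _ ≤ r ^ j := Nat.pow_le_pow_right hr.1.pos hj2
  have hnn : ∀ H : Subgroup G, H.Normal → Nat.card H ≠ r :=
    fun H hH hc => hn (T.gl1_of_sylow hr P (sylow_normal_of_card hsq P hH hc))
  have h3 := Cfsg.Agent.S4503.result r hr.1 hdiv hsq hnn χ hχ hf
  rw [hd] at h3
  refine ⟨hsq, ?_⟩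
  have hc2 : c ≤ 2 := by
    by_contra h
    have := Nat.mul_le_mul_left n (show 3 ≤ c by omega)
    omega
  interval_cases c
  · omega
  · left; omega
  · exact Or.inr ⟨by omega, inferInstance,
      Cfsg.Agent.S4504.result r hr.1 hdiv hsq hnn χ hχ hf (by rw [hd]; omega)⟩

/-- The centraliser of an abelian normal subgroup whose field has codimension two. -/
theorem cent_two {A : Subgroup G} {K : Type u} [Field K] [Finite K] [Module K V] {ι : A →* K}
    {σ : G →* (K ≃+* K)} (T : Tr ρ p n) (D : SemiData ρ A ι σ) [CharP K p]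
    (hd : Module.finrank K V = 2) {C : Type*} [Group C] [Finite C] (j : C →* G)
    (hj : Function.Injective j) (hσ : ∀ c, j c ∈ σ.ker) :
    ∃ (Z : Subgroup C) (_ : Z.Normal), Z ≤ Subgroup.center _ ∧ Nat.card Z ∣ Nat.card K - 1 ∧
      ((∃ B : Subgroup C, IsMulCommutative B ∧ B.index ∣ 2) ∨
        Nonempty (C ⧸ Z ≃* alternatingGroup (Fin 4)) ∨ Nonempty (C ⧸ Z ≃* Equiv.Perm (Fin 4)) ∨
        Nonempty (C ⧸ Z ≃* alternatingGroup (Fin 5))) := by
  haveI := Fact.mk T.prime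
  let f : C →* Module.End K V :=
    { toFun := fun c => D.lin ⟨j c, hσ c⟩
      map_one' := LinearMap.ext fun v => by
        change ρ (j 1) v = v
        rw [map_one, map_one]; rfl
      map_mul' := fun g h => LinearMap.ext fun v => by
        change ρ (j (g * h)) v = ρ (j g) (ρ (j h) v)
        rw [map_mul, end_mul_apply] }
  obtain ⟨Z, hZ, -, h⟩ := dim_two p hd f (fun g h e => hj (D.ext fun v =>
    LinearMap.congr_fun e v)) fun h => T.cop (h.trans (Subgroup.card_dvd_of_injective j hj))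
  exact ⟨Z, hZ, h⟩

theorem irr_top (T : Tr ρ p n) : Irr ρ ⊤ := by
  intro W hW
  refine or_iff_not_imp_left.2 fun h => eq_top_iff.2 fun w _ => ?_
  obtain ⟨v, hv, h0⟩ := (AddSubgroup.bot_or_exists_ne_zero W).resolve_left h
  by_cases hw : w = 0
  · exact hw ▸ W.zero_mem
  · obtain ⟨g, rfl⟩ := T.tr v w h0 hw
    exact hW g trivial v hv

theorem two (T : Tr ρ p 2) : GL1 ρ ∨ Two G p := by
  haveI := Fact.mk T.prime
  haveI := T.nontrivial
  refine or_iff_not_imp_left.2 fun hn => ?_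
  have key : ∀ (A : Subgroup G) [A.Normal] [IsMulCommutative A], ∃ (K : Type u) (_ : Field K)
      (_ : Finite K) (_ : Module K V) (ι : A →* K) (σ : G →* (K ≃+* K)), SemiData ρ A ι σ ∧
      Nat.card K = p ∧ Module.finrank K V = 2 ∧ CharP K p ∧
      Subgroup.centralizer (A : Set G) = ⊤ := by
    intro A _ _
    obtain ⟨K, _, _, _, ι, σ, k, D, hK, hk, hc⟩ := T.exists_semi A
    have h1 : Module.finrank K V ≠ 1 := fun h => hn ⟨A, ‹_›, ‹_›, D.irreducible h⟩
    have h2 : Module.finrank K V = 2 :=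
      ((Nat.dvd_prime Nat.prime_two).1 (Dvd.intro_left k hk)).resolve_left h1
    obtain rfl : k = 1 := by rw [h2] at hk; omega
    exact ⟨K, _, ‹_›, _, ι, σ, D, by rw [hK, pow_one], h2, hc,
      Subgroup.index_eq_one.1 (Nat.dvd_one.1 (D.index_dvd hK))⟩
  obtain ⟨K, _, _, _, ι, σ, D, hK, hd, hc, hC⟩ := key ⊥
  obtain ⟨Z, hZ, h1, h2, ⟨B, hB, hi⟩ | h3⟩ := T.cent_two D hd (MonoidHom.id G)
    Function.injective_id fun c => by rw [D.ker_eq, hC]; trivial
  · exfalso
    haveI : B.Normal := by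
      rcases (Nat.dvd_prime Nat.prime_two).1 hi with h | h
      · rw [Subgroup.index_eq_one.1 h]; infer_instance
      · exact Subgroup.normal_of_index_eq_two h
    obtain ⟨-, -, -, -, -, -, -, -, -, -, hC'⟩ := key B
    haveI : IsCyclic (G ⧸ B) := isCyclic_of_card_dvd_prime hi
    have h4 := comm_comap (QuotientGroup.mk' B) (fun b hb => Subgroup.mem_center_iff.2 fun g =>
      ((hC' ▸ Subgroup.mem_top g : g ∈ Subgroup.centralizer (B : Set G)) b
        (by rwa [QuotientGroup.ker_mk'] at hb)).symm) ⊤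
    rw [Subgroup.comap_top] at h4
    exact hn ⟨⊤, inferInstance, h4, T.irr_top⟩
  · exact ⟨Z, hZ, h1, hK ▸ h2, h3⟩

end Tr

theorem card_cases {Q : Type*} [Group Q] (h : Nonempty (Q ≃* alternatingGroup (Fin 4)) ∨
    Nonempty (Q ≃* Equiv.Perm (Fin 4)) ∨ Nonempty (Q ≃* alternatingGroup (Fin 5))) :
    Nat.card Q = 12 ∨ Nat.card Q = 24 ∨ Nat.card Q = 60 := by
  rcases h with ⟨⟨e⟩⟩ | ⟨⟨e⟩⟩ | ⟨⟨e⟩⟩ <;> rw [Nat.card_congr e.toEquiv]
  · left; rw [nat_card_alternatingGroup]; simp [Nat.factorial]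
  · right; left; rw [Nat.card_perm]; simp [Nat.factorial]
  · right; right; rw [nat_card_alternatingGroup]; simp [Nat.factorial]

theorem five_pow_gt (j : ℕ) (hj : 6 ≤ j) : 2 * (2 * j) * (2 * j + 1) * (2 * (2 * j) + 1) < 5 ^ j := by
  induction j, hj using Nat.le_induction with
  | base => norm_num
  | succ j hj ih => rw [pow_succ]; nlinarith [Nat.mul_le_mul hj hj, Nat.mul_le_mul hj (Nat.mul_le_mul hj hj)]

namespace Tr

variable {ρ : G →* AddMonoid.End V} {p n : ℕ}

theorem six (T : Tr ρ p 6) {t : ℕ} [ht : Fact t.Prime] (hd : t ∣ Nat.card G) (h1 : 6 + 1 < t)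
    (h2 : 2 * 6 + 1 < t ∨ (2 * 6 + 1 = t ∧ ¬ 3 ∣ Nat.card G))
    (h3 : ¬ t ∣ p ^ 1 - 1 ∧ ¬ t ∣ p ^ 2 - 1) (h7 : PPD p 6 7) : GL1 ρ := by
  haveI := Fact.mk T.prime
  haveI := Fact.mk h7.1
  haveI := T.nontrivial
  obtain ⟨P⟩ : Nonempty (Sylow t G) := inferInstance
  obtain ⟨A, hA, hc, htA⟩ := exists_ab hd P (T.normal_large h1 h2 P)
  obtain ⟨K, _, _, _, ι, σ, k, D, hK, hk, hp⟩ := T.exists_semi A
  have h4 := htA.trans (hK ▸ D.card_dvd)
  by_cases hd1 : Module.finrank K V = 1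
  · exact ⟨A, hA, hc, D.irreducible hd1⟩
  have hk6 : k ≤ 6 := Nat.le_of_dvd (by norm_num) (Dvd.intro _ hk)
  obtain rfl : k = 3 := by
    interval_cases k
    · omega
    · exact absurd h4 h3.1
    · exact absurd h4 h3.2
    all_goals omega
  have h5 : 7 ∣ Nat.card σ.ker := by
    have h6 := h7.2.1.trans T.dvd_card
    rw [← σ.ker.card_mul_index] at h6
    refine (Nat.Coprime.coprime_dvd_right ?_ (by norm_num : Nat.Coprime 7 3)).dvd_of_dvd_mul_right h6
    rw [D.ker_eq]; exact D.index_dvd hK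
  obtain ⟨Z, hZ, -, h6, ⟨B, hB, hi⟩ | h8⟩ := T.cent_two D (by omega) σ.ker.subtype
    Subtype.val_injective fun c => c.2
  · obtain ⟨Q⟩ : Nonempty (Sylow 7 σ.ker) := inferInstance
    have hQB : (Q : Subgroup σ.ker) ≤ B := by
      intro x hx
      obtain ⟨j, hj⟩ := Q.isPGroup' ⟨x, hx⟩
      obtain ⟨i, -, hi'⟩ := (Nat.dvd_prime_pow h7.1).1
        (orderOf_dvd_of_pow_eq_one (congrArg Subtype.val hj : x ^ 7 ^ j = 1))
      have h9 : x * x ∈ B := by
        rcases (Nat.dvd_prime Nat.prime_two).1 hi with h | h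
        · rw [Subgroup.index_eq_one.1 h]; trivial
        · exact Subgroup.mul_self_mem_of_index_two h x
      exact Subgroup.zpowers_le.2 h9
        (CL.Fgs.mem_zpowers_sq_of_odd (hi' ▸ Odd.pow (by norm_num)))
    have hcm : ∀ x ∈ B, ∀ y ∈ B, x * y = y * x := fun x hx y hy =>
      congrArg Subtype.val (hB.is_comm.comm (⟨x, hx⟩ : B) ⟨y, hy⟩)
    have hN : B ≤ Subgroup.normalizer ((Q : Subgroup σ.ker) : Set σ.ker) := fun b hb =>
      Subgroup.centralizer_le_normalizer _ fun x hx => hcm x (hQB hx) b hb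
    have h9 := (Subgroup.index_dvd_of_le hN).trans hi
    have h10 := card_sylow_modEq_one 7 σ.ker
    rw [Q.card_eq_index_normalizer] at h10
    haveI : (Q : Subgroup σ.ker).Normal := by
      rcases (Nat.dvd_prime Nat.prime_two).1 h9 with h | h
      · exact Subgroup.normalizer_eq_top_iff.1 (Subgroup.index_eq_one.1 h)
      · erw [h] at h10
        exact absurd h10 (by decide)
    haveI := Q.characteristic_of_normal ‹_›
    haveI : IsMulCommutative (Q : Subgroup σ.ker) :=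
      ⟨⟨fun x y => Subtype.ext (hcm _ (hQB x.2) _ (hQB y.2))⟩⟩
    refine T.gl1_of_ppd h7 (A := (Q : Subgroup σ.ker).map σ.ker.subtype) inferInstance
      inferInstance ?_
    rw [Subgroup.card_map_of_injective Subtype.val_injective]
    exact Q.dvd_card_of_dvd_card h5
  · exfalso
    rw [Subgroup.card_eq_card_quotient_mul_card_subgroup Z] at h5
    rcases (Nat.Prime.dvd_mul h7.1).1 h5 with h | h
    · rcases card_cases h8 with e | e | e <;> rw [e] at h <;> omega
    · exact h7.2.2 3 (by norm_num) (by norm_num) (h.trans (hK ▸ h6))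

theorem four (T : Tr ρ 3 4) : Group.IsSolvable G := by
  refine CL.Char.isSolvable_of_two_primes Nat.prime_two Nat.prime_five fun r hr hd => ?_
  haveI := T.nontrivial
  have h13 : r ≠ 13 := by
    rintro rfl
    haveI := Fact.mk hr
    obtain ⟨P⟩ : Nonempty (Sylow 13 G) := inferInstance
    obtain ⟨A, hA, hc, htA⟩ := exists_ab hd P (T.normal_large (by norm_num) (by norm_num) P)
    obtain ⟨K, _, _, _, ι, σ, k, D, hK, hk, hp⟩ := T.exists_semi A
    have h4 := htA.trans (hK ▸ D.card_dvd)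
    have hk6 : k ≤ 4 := Nat.le_of_dvd (by norm_num) (Dvd.intro _ hk)
    interval_cases k <;> omega
  obtain ⟨i, h1, h2, h3⟩ := T.exists_dvd hr hd
  have h4 : r ∣ 2 ^ 4 * 5 * 13 := by
    interval_cases i <;> exact h3.trans (by norm_num)
  rcases (Nat.Prime.dvd_mul hr).1 h4 with h | h
  · rcases (Nat.Prime.dvd_mul hr).1 h with h | h
    · exact Or.inl ((Nat.prime_dvd_prime_iff_eq hr Nat.prime_two).1 (hr.dvd_of_dvd_pow h))
    · exact Or.inr ((Nat.prime_dvd_prime_iff_eq hr Nat.prime_five).1 h)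
  · exact absurd ((Nat.prime_dvd_prime_iff_eq hr (by norm_num)).1 h) h13

theorem generic (T : Tr ρ p n) (hp2 : p ≠ 2) (h3 : 3 ≤ n) (hexc : (p, n) ∉ CL.Fgs.zsigExc) :
    GL1 ρ := by
  by_contra hn
  haveI := T.nontrivial
  obtain ⟨m, hm, hco, hge⟩ := CL.Fgs.exists_large_primitive_divisor p n T.prime.two_le h3 hexc
  have hppd : ∀ r : ℕ, r.Prime → r ∣ m → PPD p n r := fun r hr h =>
    ⟨hr, h.trans hm, fun i h1 h2 h4 =>
      hr.one_lt.ne' (Nat.eq_one_of_dvd_coprimes (hco i h1 h2) h h4)⟩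
  have hex : ∀ c ≤ 2 * n + 1, ∃ r : ℕ, r.Prime ∧ r ∣ m ∧ r ≠ c := by
    intro c hc
    by_contra h
    push Not at h
    have h1 := Nat.eq_prime_pow_of_unique_prime_dvd (n := m) (p := c) (by omega)
      fun {d} h1 h2 => h d h1 h2
    generalize m.primeFactorsList.length = j at h1
    obtain ⟨r, hr, hrm⟩ := Nat.exists_prime_and_dvd (show m ≠ 1 by omega)
    obtain rfl := h r hr hrm
    have h2 : j ≤ 1 := by
      by_contra h2
      exact (T.ppd_cases hn (hppd r hr hrm)).1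
        ((h1 ▸ pow_dvd_pow r (by omega) : r ^ 2 ∣ m).trans (hm.trans T.dvd_card))
    have := Nat.pow_le_pow_right hr.pos h2
    rw [pow_one] at this
    omega
  obtain ⟨r, hr, hrm, hrn⟩ := hex (n + 1) (by omega)
  obtain ⟨rfl, _, ⟨e⟩⟩ := (T.ppd_cases hn (hppd r hr hrm)).2.resolve_left hrn
  obtain ⟨s, hs, hsm, hsn⟩ := hex (2 * n + 1) le_rfl
  obtain rfl := (T.ppd_cases hn (hppd s hs hsm)).2.resolve_right fun h => hsn h.1
  obtain ⟨K, _, _, _, ι, σ, k, D, hK, hk, hp⟩ := T.exists_semi (Subgroup.center G)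
  have hd1 : Module.finrank K V ≠ 1 := fun h => hn ⟨_, inferInstance, inferInstance, D.irreducible h⟩
  have hd0 : Module.finrank K V ≠ 0 := by rintro h; rw [h] at hk; omega
  have hkn : k * 2 ≤ n := hk ▸ Nat.mul_le_mul_left k (by omega)
  obtain ⟨j, hj⟩ : Even n := by
    have := hs.odd_of_ne_two (by omega)
    exact Nat.odd_add_one.1 this |> Nat.not_odd_iff_even.1
  obtain rfl : n = 2 * j := by omega
  have hq := CL.SL2.card_psl_two_mul (F := ZMod (2 * (2 * j) + 1))
    (Ring.two_ne_zero (by rw [ZMod.ringChar_zmod_n]; omega))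
  rw [ZMod.card, ← Nat.card_congr e.toEquiv] at hq
  have hq' : Nat.card (G ⧸ Subgroup.center G) =
      2 * (2 * j) * (2 * j + 1) * (2 * (2 * j) + 1) := by
    have : (2 * (2 * j) + 1) ^ 2 - 1 = 2 * (2 * (2 * j) * (2 * j + 1)) :=
      Nat.sub_eq_of_eq_add (by ring)
    rw [this] at hq
    nlinarith
  have hp3 : p ≠ 3 := (T.ne_of_dvd (Dvd.dvd.trans (Nat.card_congr e.toEquiv ▸
    three_dvd_psl _ (by omega)) (Subgroup.card_quotient_dvd_card (Subgroup.center G)))).symm
  have hp5 : 5 ≤ p := T.prime.five_le_of_ne_two_of_ne_three hp2 hp3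
  have h1 : 1 < p ^ j := Nat.one_lt_pow (by omega) T.prime.one_lt
  have h2 : Nat.card (Subgroup.center G) ≤ p ^ j - 1 := by
    have h4 : 1 < Nat.card K := Finite.one_lt_card
    refine (Nat.le_of_dvd (by omega) D.card_dvd).trans ?_
    rw [hK]
    exact Nat.sub_le_sub_right (Nat.pow_le_pow_right T.prime.pos (by omega)) 1
  have h4 := Nat.le_of_dvd Nat.card_pos T.dvd_card
  have h11 : p ^ (2 * j) - 1 = (p ^ j + 1) * (p ^ j - 1) := by
    rw [← Nat.sq_sub_sq, one_pow, ← pow_mul, mul_comm]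
  rw [Subgroup.card_eq_card_quotient_mul_card_subgroup (Subgroup.center G), hq', h11] at h4
  clear h11
  have h5 := Nat.le_of_mul_le_mul_right (h4.trans (Nat.mul_le_mul_left _ h2)) (by omega)
  have h6 := Nat.pow_le_pow_left hp5 j
  have h7 : j ≤ 5 := by
    by_contra h
    have := five_pow_gt j (by omega)
    omega
  have h8 := (hppd _ hr hrm).2.1
  have h9 := (hppd _ hs hsm).2.1
  have h10 : 2 ≤ j := by omega
  interval_cases j
  · norm_num at hr
  · have h11 : p ≤ 10 := by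
      by_contra h
      have := Nat.pow_le_pow_left (show 11 ≤ p by omega) 3
      omega
    have := T.prime
    interval_cases p <;> simp_all (config := { decide := true })
  · norm_num at hs
  · norm_num at hr

/-- The structure theorem. -/
theorem struct (T : Tr ρ p n) :
    GL1 ρ ∨ (n = 2 ∧ Two G p) ∨ (p = 3 ∧ n = 4 ∧ Group.IsSolvable G) := by
  haveI := Fact.mk T.prime
  haveI := T.nontrivial
  by_cases hp2 : p = 2
  · subst hp2
    haveI := Cfsg.Agent.S0205.result (G := G) (Nat.odd_iff.2 (by have := T.cop; omega))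
    rcases huppert_struct ρ T.inj T.tr T.card with ⟨A, h1, h2, h3⟩ |
      ⟨-, -, A, E, -, -, -, -, -, -, h, -⟩ | ⟨-, h, -⟩
    · exact Or.inl ⟨A, h1, inferInstance, h3⟩
    · exact absurd (h.trans A.card_subgroup_dvd_card) T.cop
    · omega
  by_cases h1 : n = 1
  · subst h1
    refine Or.inl ⟨⊥, inferInstance, inferInstance, fun W _ => ?_⟩
    haveI : Fact (Nat.card V).Prime := ⟨by rw [T.card, pow_one]; exact T.prime⟩
    exact W.eq_bot_or_eq_top_of_prime_card
  by_cases h2 : n = 2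
  · subst h2
    exact T.two.imp_right fun h => Or.inl ⟨rfl, h⟩
  by_cases hexc : (p, n) ∈ CL.Fgs.zsigExc
  swap
  · exact Or.inl (T.generic hp2 (by have := T.pos; omega) hexc)
  have h7 : ∀ q : ℕ, q = 3 ∨ q = 5 → PPD q 6 7 := by
    rintro q (rfl | rfl) <;> refine ⟨by norm_num, by norm_num, fun i h1 h2 => ?_⟩ <;>
      interval_cases i <;> norm_num
  have h4 : p ≠ 4 := by rintro rfl; exact absurd T.prime (by norm_num)
  simp only [CL.Fgs.zsigExc, List.mem_cons, Prod.mk.injEq, List.not_mem_nil, hp2, h4, false_and,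
    false_or, or_false] at hexc
  rcases hexc with ⟨rfl, rfl⟩ | ⟨rfl, rfl⟩ | ⟨rfl, rfl⟩
  · exact Or.inr (Or.inr ⟨rfl, rfl, T.four⟩)
  · haveI : Fact (Nat.Prime 13) := ⟨by norm_num⟩
    exact Or.inl (T.six (t := 13) (Dvd.dvd.trans (by norm_num) T.dvd_card) (by norm_num)
      (Or.inr ⟨rfl, T.cop⟩) (by norm_num) (h7 3 (Or.inl rfl)))
  · haveI : Fact (Nat.Prime 31) := ⟨by norm_num⟩
    exact Or.inl (T.six (t := 31) (Dvd.dvd.trans (by norm_num) T.dvd_card) (by norm_num)
      (Or.inl (by norm_num)) (by norm_num) (h7 5 (Or.inr rfl)))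

end Tr

end CL.PT
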