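import Cfsg.Agent.Perm.PT2

/-! Linear groups of order prime to the characteristic that are transitive on non-zero vectors, III:
class numbers in the one-dimensional semilinear case. -/

set_option autoImplicit false
set_option linter.unusedSectionVars false

open Cfsg CL.Perm CL.Fgs Finset

namespace CL.PT

universe u

/-- the class number -/
scoped notation:max "kk(" G ")" => Nat.card (ConjClasses G)

variable {G : Type*} [Group G] [Finite G] {V : Type u} [AddCommGroup V] [Finite V]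

theorem card_le_index_mul (A H : Subgroup G) : Nat.card H ≤ A.index * Nat.card ↥(A ⊓ H) := by
  have h1 := Subgroup.relIndex_mul_relIndex ⊥ (A ⊓ H) H bot_le inf_le_right
  rw [Subgroup.relIndex_bot_left, Subgroup.relIndex_bot_left, Subgroup.inf_relIndex_right] at h1
  rw [← h1, mul_comm, ← A.relIndex_top_right]
  exact Nat.mul_le_mul_right _ (Subgroup.relIndex_le_of_le_right le_top
    (Subgroup.FiniteIndex.index_ne_zero (H := A.subgroupOf ⊤)))

theorem k_mul_index_le (A : Subgroup G) {e : ℕ} (h : ∀ g ∉ A, Nat.card ↥(A ⊓ cent(g)) ≤ e) :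
    kk(G) * A.index + e ≤ Nat.card A + A.index ^ 2 * e := by
  classical
  haveI := Fintype.ofFinite G
  have h1 := card_conjClasses_mul_card (G := G)
  rw [← sum_filter_add_sum_filter_not univ (· ∈ A)] at h1
  have hc := card_subgroup_eq_filter A
  have h2 : ∑ g ∈ univ.filter (· ∈ A), Nat.card cent(g) = ∑ x : G, Nat.card ↥(A ⊓ cent(x)) := by
    simp only [card_subgroup_eq_filter, card_filter]
    rw [sum_comm]
    refine sum_congr rfl fun x _ => ?_
    rw [sum_filter]
    refine sum_congr rfl fun g _ => ?_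
    by_cases hg : g ∈ A <;> simp [hg, mem_cent_comm (x := x)]
  rw [← sum_filter_add_sum_filter_not univ (· ∈ A)] at h2
  have h3 : ∑ x ∈ univ.filter (· ∈ A), Nat.card ↥(A ⊓ cent(x)) ≤ Nat.card A * Nat.card A := by
    rw [hc, ← smul_eq_mul]
    exact sum_le_card_nsmul _ _ _ fun x _ => hc ▸ Subgroup.card_le_of_le inf_le_left
  have h4 : ∑ x ∈ univ.filter (¬ · ∈ A), Nat.card ↥(A ⊓ cent(x)) ≤
      (univ.filter (¬ · ∈ A)).card * e :=
    sum_le_card_nsmul _ _ _ fun x hx => h x (mem_filter.1 hx).2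
  have h5 : ∑ x ∈ univ.filter (¬ · ∈ A), Nat.card cent(x) ≤
      (univ.filter (¬ · ∈ A)).card * (A.index * e) :=
    sum_le_card_nsmul _ _ _ fun x hx => (card_le_index_mul A _).trans
      (Nat.mul_le_mul_left _ (h x (mem_filter.1 hx).2))
  have h6 := card_filter_add_card_filter_not (s := (univ : Finset G)) (· ∈ A)
  rw [← hc, card_univ, ← Nat.card_eq_fintype_card, ← A.card_mul_index] at h6
  rw [← A.card_mul_index] at h1
  have hpos : 0 < Nat.card A := Nat.card_pos
  generalize (univ.filter (¬ · ∈ A)).card = m at *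
  refine Nat.le_of_mul_le_mul_left ?_ hpos
  have h7 : Nat.card A * (Nat.card A + A.index ^ 2 * e) =
      Nat.card A * Nat.card A + m * e + m * (A.index * e) + Nat.card A * e := by
    calc _ = Nat.card A * Nat.card A + (Nat.card A * A.index) * (A.index * e) := by ring
      _ = Nat.card A * Nat.card A + (Nat.card A * A.index) * e + m * (A.index * e) := by
        conv_lhs => rw [← h6]
        ring
      _ = _ := by rw [← h6]; ring
  have h8 : Nat.card A * (kk(G) * A.index + e) =
      kk(G) * (Nat.card A * A.index) + Nat.card A * e := by ring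
  omega

theorem card_le_k_mul_index (A : Subgroup G) [IsMulCommutative A] :
    Nat.card A ≤ kk(G) * A.index := by
  classical
  haveI := Fintype.ofFinite G
  have h1 := card_conjClasses_mul_card (G := G)
  have h2 : (univ.filter (· ∈ A)).card • Nat.card A ≤ ∑ g ∈ univ.filter (· ∈ A), Nat.card cent(g) :=
    card_nsmul_le_sum _ _ _ fun x hx => Subgroup.card_le_of_le fun a ha =>
      mem_cent.2 (setLike_mul_comm (s := A) ha (mem_filter.1 hx).2)
  have h3 := h2.trans (sum_le_sum_of_subset (filter_subset _ _))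
  rw [← h1, ← card_subgroup_eq_filter, smul_eq_mul, ← A.card_mul_index] at h3
  refine Nat.le_of_mul_le_mul_left (c := Nat.card A) ?_ Nat.card_pos
  linarith

theorem three_le_k (h : 3 ≤ Nat.card G) : 3 ≤ kk(G) := by
  classical
  haveI := Fintype.ofFinite G
  have h1 := card_conjClasses_mul_card (G := G)
  rw [← add_sum_erase _ _ (mem_univ 1), cent_one, Subgroup.card_top] at h1
  have h2 : (univ.erase (1 : G)).card • 2 ≤ ∑ g ∈ univ.erase (1 : G), Nat.card cent(g) :=
    card_nsmul_le_sum _ _ _ fun x hx => (Subgroup.one_lt_card_iff_ne_bot _).2 fun e =>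
      ne_of_mem_erase hx (Subgroup.mem_bot.1 (e ▸ self_mem_cent x))
  rw [card_erase_of_mem (mem_univ _), card_univ, ← Nat.card_eq_fintype_card, smul_eq_mul] at h2
  by_contra h3
  have := Nat.mul_le_mul_right (Nat.card G) (show kk(G) ≤ 2 by omega)
  omega

theorem num_upper {p n s : ℕ} (hp : p.Prime) (hn : 1 ≤ n) (hs : 2 ≤ s) (hd : s ∣ n)
    (hc : ¬ p ∣ s) :
    (s + 1) * p ^ (n / 2) < p ^ n ∨ (p = 2 ∧ n = 3 ∧ s = 3) ∨ (p = 3 ∧ n = 2 ∧ s = 2) := by
  have hsn := Nat.le_of_dvd hn hd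
  have hp2 := hp.two_le
  have h1 : p ^ n = p ^ (n - n / 2) * p ^ (n / 2) := by
    rw [← pow_add, Nat.sub_add_cancel (Nat.div_le_self n 2)]
  rw [h1, Nat.mul_lt_mul_right (by positivity)]
  have h2 : ∀ t, 3 ≤ t → 2 * t + 1 < 2 ^ t := by
    intro t ht
    induction t, ht using Nat.le_induction with
    | base => norm_num
    | succ t _ ih => rw [pow_succ]; omega
  by_cases h3 : 3 ≤ n - n / 2
  · have := h2 _ h3
    have := Nat.pow_le_pow_left hp2 (n - n / 2)
    left; omega
  have h4 : n ≤ 4 := by omega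
  by_cases h5 : p = 2
  · subst h5
    interval_cases n <;> interval_cases s <;> simp_all
  have h6 : 3 ≤ p := by omega
  have h7 : 9 ≤ p ^ 2 := Nat.pow_le_pow_left h6 2
  have h8 : p ≠ 4 := by rintro rfl; exact absurd hp (by norm_num)
  interval_cases n
  · omega
  · norm_num; omega
  · left; norm_num; omega
  · left; norm_num; omega

theorem num_lower {p n : ℕ} (hp : 5 ≤ p) (hn : 2 ≤ n) : (p - 1) * n ^ 2 + 1 < p ^ n := by
  obtain ⟨q, rfl⟩ := Nat.exists_eq_add_of_le' (show 1 ≤ p by omega)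
  rw [Nat.add_sub_cancel]
  induction n, hn using Nat.le_induction with
  | base => nlinarith
  | succ n hn ih =>
    have h1 : (n + 1) ^ 2 ≤ 5 * n ^ 2 := by nlinarith
    have h2 := Nat.mul_le_mul_left q h1
    have h3 := Nat.mul_le_mul (Nat.succ_le_of_lt ih) hp
    rw [pow_succ (q + 1)]
    nlinarith

namespace Tr

variable {ρ : G →* AddMonoid.End V} {p n : ℕ}

theorem gl1_data (T : Tr ρ p n) (h : GL1 ρ) :
    ∃ A : Subgroup G, IsCyclic A ∧ Nat.card A + 1 ≤ p ^ n ∧ A.index ∣ n ∧
      ∀ g ∉ A, Nat.card ↥(A ⊓ cent(g)) + 1 ≤ p ^ (n / 2) := by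
  haveI := Fact.mk T.prime
  haveI := T.nontrivial
  obtain ⟨B, hB, hBc, hirr⟩ := h
  obtain ⟨A, hA, hBA⟩ := exists_maxAb_ge B
  haveI := hA.normal
  haveI := hA.comm
  obtain ⟨K, _, _, _, ι, σ, k, D, hK, hk, -⟩ := T.exists_semi A
  obtain ⟨v, hv⟩ := exists_ne (0 : V)
  have hspan : ∀ w, ∃ c : K, c • v = w := by
    rcases hirr.mono hBA (Submodule.span K {v}).toAddSubgroup (fun a ha w hw => by
      rw [D.scal ⟨a, ha⟩]; exact Submodule.smul_mem _ _ hw) with h | h
    · exact absurd (h ▸ Submodule.mem_span_singleton_self v : v ∈ (⊥ : AddSubgroup V)) hv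
    · exact fun w => Submodule.mem_span_singleton.1 (h ▸ AddSubgroup.mem_top w :
        w ∈ (Submodule.span K {v}).toAddSubgroup)
  have hd : Module.finrank K V = 1 := (finrank_eq_one_iff_of_nonzero' v hv).2 hspan
  obtain rfl : k = n := by rw [hd] at hk; omega
  have hker : σ.ker ≤ A := by
    intro g hg
    obtain ⟨c, hc⟩ := hspan (ρ g v)
    refine D.mem_of_scalar hA.max (c := c) fun w => ?_
    obtain ⟨d, rfl⟩ := hspan w
    rw [D.semi, ← hc, MonoidHom.mem_ker.1 hg, smul_comm]
    rfl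
  have hK1 : 1 < Nat.card K := Finite.one_lt_card
  refine ⟨A, D.isCyclic, ?_, (Subgroup.index_dvd_of_le (D.ker_eq ▸ hker)).trans (D.index_dvd hK),
    fun g hg => ?_⟩
  · have := Nat.le_of_dvd (by omega) D.card_dvd
    omega
  let F : Subfield K := RingHom.eqLocusField (σ g : K →+* K) (RingHom.id K)
  haveI : Module.Finite F K := Module.Finite.of_finite
  have h1 := Module.natCard_eq_pow_finrank (K := F) (V := K)
  have h2 : 0 < Module.finrank F K := Module.finrank_pos
  obtain ⟨j, -, hj⟩ := (Nat.dvd_prime_pow T.prime).1 (hK ▸ h1 ▸ dvd_pow_self (Nat.card F) h2.ne')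
  have h3 : Module.finrank F K ≠ 1 := by
    intro e
    rw [e, pow_one] at h1
    have h4 : F.toAddSubgroup = ⊤ := AddSubgroup.eq_top_of_card_eq _ h1.symm
    exact hg (hker (RingEquiv.ext fun x => (h4 ▸ AddSubgroup.mem_top x : x ∈ F.toAddSubgroup)))
  rw [hK, hj, ← pow_mul] at h1
  have h4 : k = j * Module.finrank F K := Nat.pow_right_injective T.prime.two_le h1
  have h5 : j * 2 ≤ k := h4 ▸ Nat.mul_le_mul_left j (by omega)
  refine le_trans ?_ (Nat.pow_le_pow_right T.prime.pos (show j ≤ k / 2 by omega))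
  let φ : ↥(A ⊓ cent(g)) →* F :=
    { toFun := fun a => ⟨ι ⟨a, a.2.1⟩, smul_left_injective K (end_ne_zero ρ g hv) (by
        change σ g (ι ⟨a, a.2.1⟩) • ρ g v = ι ⟨a, a.2.1⟩ • ρ g v
        rw [← D.semi, ← D.scal, ← D.scal, ← end_mul_apply, ← end_mul_apply, (mem_cent.1 a.2.2).eq])⟩
      map_one' := Subtype.ext (map_one ι)
      map_mul' := fun a b => Subtype.ext (map_mul ι ⟨a, a.2.1⟩ ⟨b, b.2.1⟩) }
  have h6 := Nat.card_le_card_of_injective φ.toHomUnits fun a b e =>
    Subtype.ext (Subtype.mk.inj (D.ι_injective (congrArg Subtype.val (congrArg Units.val e))))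
  rw [Nat.card_units, hj] at h6
  have := pow_pos T.prime.pos j
  omega

theorem gl1_upper (T : Tr ρ p n) (h1 : GL1 ρ) {h : ℕ} (hh : Nat.card G = (p ^ n - 1) * h) :
    kk(G) + h ≤ p ^ n ∧ (kk(G) + h = p ^ n →
      IsCyclic G ∨ (p ^ n = 8 ∧ Nat.card G = 21) ∨ (p ^ n = 9 ∧ Nat.card G = 16)) := by
  obtain ⟨A, hA, h2, h3, h4⟩ := T.gl1_data h1
  have h5 := A.card_mul_index
  have hN : 1 < p ^ n := Nat.one_lt_pow (by have := T.pos; omega) T.prime.one_lt
  have h6 : h ≤ A.index := by
    refine Nat.le_of_mul_le_mul_left (c := p ^ n - 1) ?_ (by omega)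
    rw [← hh, ← h5]
    exact Nat.mul_le_mul_right _ (by omega)
  have hs : A.index ≠ 0 := Subgroup.FiniteIndex.index_ne_zero
  by_cases h7 : A.index = 1
  · have := card_conjClasses_le_card G
    rw [h7] at h5 h6
    refine ⟨by omega, fun _ => Or.inl ?_⟩
    rw [Subgroup.index_eq_one.1 h7] at hA
    exact isCyclic_of_surjective Subgroup.topEquiv Subgroup.topEquiv.surjective
  obtain ⟨e, he⟩ : ∃ e, p ^ (n / 2) = e + 1 :=
    Nat.exists_eq_add_of_le' (pow_pos T.prime.pos _)
  have h8 := k_mul_index_le A (e := e) fun g hg => by have := h4 g hg; omega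
  rcases num_upper T.prime T.pos (show 2 ≤ A.index by omega) h3
    (fun h => T.cop (h.trans A.index_dvd_card)) with h9 | ⟨rfl, rfl, h9⟩ | ⟨rfl, rfl, h9⟩
  · suffices kk(G) + h < p ^ n by omega
    obtain ⟨t, ht⟩ := Nat.exists_eq_add_of_le' (Nat.pos_of_ne_zero hs)
    rw [he] at h9
    rw [ht] at h9 h8 h6 h7
    refine Nat.lt_of_mul_lt_mul_right (a := t + 1) ?_
    have h10 := Nat.mul_le_mul_right (t + 1) h6
    have h11 := Nat.mul_le_mul_left t (Nat.succ_le_of_lt h9)
    have h12 : 1 ≤ t := by omega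
    nlinarith
  · rw [h9] at h5 h6 h8
    norm_num at *
    omega
  · rw [h9] at h5 h6 h8
    norm_num at *
    omega

theorem gl1_lower (T : Tr ρ p n) (h1 : GL1 ρ) (hp : 5 ≤ p) (hn : 2 ≤ n) : p ≤ kk(G) := by
  obtain ⟨A, hA, h2, h3, -⟩ := T.gl1_data h1
  have h4 := card_le_k_mul_index A
  have h5 := Nat.le_of_dvd Nat.card_pos T.dvd_card
  rw [← A.card_mul_index] at h5
  have h6 := Nat.le_of_dvd T.pos h3
  have h7 := num_lower hp hn
  by_contra h8
  have h9 := Nat.mul_le_mul (h4.trans (Nat.mul_le_mul (show kk(G) ≤ p - 1 by omega) h6)) h6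
  rw [mul_assoc, ← sq] at h9
  omega

end Tr

end CL.PT
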