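import Cfsg.Agent.Perm.PT3

/-! Linear groups of order prime to the characteristic that are transitive on non-zero vectors, IV:
class numbers of the solvable groups of degree four over the field with three elements. -/

set_option autoImplicit false
set_option linter.unusedSectionVars false

open Cfsg CL.Perm CL.Fgs CL.Grp
open scoped commutatorElement

namespace CL.PT

universe u

variable {G : Type*} [Group G] [Finite G] {V : Type u} [AddCommGroup V] [Finite V]

theorem mul_cl_le_of_cs {S : Set G} {r : ℕ} (hS : ∀ x ∈ S, ∀ y, IsConj x y → y ∈ S)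
    (h : ∀ x ∈ S, r ≤ cs(x)) : r * cl S ≤ S.ncard :=
  mul_cl_le fun x hx => (h x hx).trans (le_of_eq (by
    rw [← ncard_isConj]
    congr 1
    exact Set.ext fun y => ⟨fun hy => ⟨hS x hx y hy, hy⟩, fun hy => hy.2⟩))

theorem card_modEq_cent {Y : Subgroup G} {y : G} {r : ℕ} (hr : r.Prime) (hy : orderOf y = r)
    (hn : y ∈ Subgroup.normalizer (Y : Set G)) : Nat.card Y ≡ Nat.card ↥(Y ⊓ cent(y)) [MOD r] := by
  haveI := Fact.mk hr
  rw [← centralizer_zpowers]
  exact CL.Fgs.card_modEq_card_inf_centralizer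
    (IsPGroup.of_card (n := 1) (by rw [Nat.card_zpowers, hy, pow_one])) (Subgroup.zpowers_le.2 hn)

theorem exists_order {H : Subgroup G} {r : ℕ} (hr : r.Prime) (h : r ∣ Nat.card H) :
    ∃ y ∈ H, orderOf y = r := by
  haveI := Fact.mk hr
  obtain ⟨y, hy⟩ := exists_prime_orderOf_dvd_card' r h
  exact ⟨y, y.2, (Subgroup.orderOf_coe y).trans hy⟩

theorem k_le_34 [Group.IsSolvable G] (E : Subgroup G) [hEn : E.Normal] (hE : Nat.card E = 16)
    (hC : Subgroup.centralizer (E : Set G) ≤ E)
    (hp : ∀ r : ℕ, r.Prime → r ∣ Nat.card G → r = 2 ∨ r = 5 ∨ r = 13) (h5 : 5 ∣ Nat.card G)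
    (h25 : ¬ 25 ∣ Nat.card G) : Nat.card G ≤ 320 ∧ kk(G) ≤ 34 := by
  have hdiv : ∀ X ≤ E, Nat.card X = 1 ∨ Nat.card X = 2 ∨ Nat.card X = 4 ∨ Nat.card X = 8 ∨ X = E := by
    intro X hX
    have h1 := hE ▸ Subgroup.card_dvd_of_le hX
    have h2 : Nat.card X ∈ Nat.divisors 16 := Nat.mem_divisors.2 ⟨h1, by norm_num⟩
    rw [show Nat.divisors 16 = {1, 2, 4, 8, 16} by decide] at h2
    simp only [Finset.mem_insert, Finset.mem_singleton] at h2
    rcases h2 with h | h | h | h | h
    iterate 4 simp [h]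
    exact Or.inr (Or.inr (Or.inr (Or.inr (Subgroup.eq_of_le_of_card_ge hX (by omega)))))
  have hnorm : ∀ y, y ∈ Subgroup.normalizer (E : Set G) := fun y =>
    Subgroup.normalizer_eq_top E ▸ Subgroup.mem_top y
  have hA : ∀ (y : G) (r : ℕ), r = 5 ∨ r = 13 → orderOf y = r → r = 5 ∧ E ⊓ cent(y) = ⊥ := by
    intro y r hr hy
    have h1 := card_modEq_cent (by rcases hr with rfl | rfl <;> norm_num) hy (hnorm y)
    rw [hE] at h1
    have h2 : E ⊓ cent(y) ≠ E := fun e => by
      have h3 := E.orderOf_dvd_natCard (hC (le_cent_iff.1 (inf_eq_left.1 e)))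
      rw [hy, hE] at h3
      rcases hr with rfl | rfl <;> omega
    rw [← Subgroup.card_eq_one]
    unfold Nat.ModEq at h1
    rcases hdiv _ (inf_le_left : E ⊓ cent(y) ≤ E) with h | h | h | h | h
    iterate 4 rw [h] at h1 ⊢; rcases hr with rfl | rfl <;> omega
    exact absurd h h2
  have hp' : ∀ r : ℕ, r.Prime → r ∣ Nat.card G → r = 2 ∨ r = 5 := by
    intro r hr hd
    haveI := Fact.mk hr
    obtain ⟨y, hy⟩ := exists_prime_orderOf_dvd_card' r hd
    rcases hp r hr hd with h | h
    · exact Or.inl h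
    · exact Or.inr (hA y r h hy).1
  have hB : ∀ (y : G) (R : Subgroup G), orderOf y = 5 → IsPGroup 2 R →
      y ∈ Subgroup.normalizer (R : Set G) → R ≤ E := by
    intro y R hy hR hyR
    have h1 := CL.Fgs.card_modEq_card_inf_centralizer hR (Y := E) fun r _ => hnorm r
    have h2 : y ∈ Subgroup.normalizer ((E ⊓ Subgroup.centralizer (R : Set G) : Subgroup G) : Set G) :=
      le_normalizer_inf (H := Subgroup.zpowers y) (fun r _ => hnorm r)
        (CL.Grp.le_normalizer_centralizer' (Subgroup.zpowers_le.2 hyR))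
        (Subgroup.mem_zpowers y)
    have h3 := card_modEq_cent Nat.prime_five hy h2
    rw [inf_right_comm, (hA y 5 (Or.inl rfl) hy).2, bot_inf_eq, Subgroup.card_bot] at h3
    rw [hE] at h1
    unfold Nat.ModEq at h1 h3
    rcases hdiv _ (inf_le_left : E ⊓ Subgroup.centralizer (R : Set G) ≤ E) with h | h | h | h | h
    iterate 4 omega
    exact (Subgroup.le_centralizer_iff.1 (inf_eq_left.1 h)).trans hC
  have hD : ∀ y : G, orderOf y = 5 → Nat.card cent(y) = 5 := by
    intro y hy
    have h1 := Nat.eq_prime_pow_of_unique_prime_dvd (n := Nat.card cent(y)) (p := 5)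
      Nat.card_pos.ne' fun {r} hr hd => by
        refine (hp' r hr (hd.trans (Subgroup.card_subgroup_dvd_card _))).resolve_left ?_
        rintro rfl
        obtain ⟨t, ht, ho⟩ := exists_order hr hd
        have h2 := hB y (Subgroup.zpowers t) hy
          (IsPGroup.of_card (n := 1) (by rw [Nat.card_zpowers, ho, pow_one]))
          (Subgroup.centralizer_le_normalizer _ (by
            rw [centralizer_zpowers]; exact mem_cent_comm.1 ht)) (Subgroup.mem_zpowers t)
        have h3 : t ∈ E ⊓ cent(y) := ⟨h2, ht⟩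
        rw [(hA y 5 (Or.inl rfl) hy).2, Subgroup.mem_bot] at h3
        rw [h3, orderOf_one] at ho
        omega
    have h2 := hy ▸ (cent(y)).orderOf_dvd_natCard (self_mem_cent y)
    have h3 := (cent(y)).card_subgroup_dvd_card
    generalize (Nat.card cent(y)).primeFactorsList.length = j at h1
    rw [h1] at h2 h3 ⊢
    rcases j with _ | _ | j
    · omega
    · rfl
    · exact absurd ((pow_dvd_pow 5 (by omega) : 5 ^ 2 ∣ _).trans h3) h25
  have h16 := hE ▸ E.card_subgroup_dvd_card
  have hcard : Nat.card G ≤ 320 := by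
    haveI : Nontrivial (G ⧸ E) := by
      rw [← Finite.one_lt_card_iff_nontrivial]
      have h1 := Subgroup.card_eq_card_quotient_mul_card_subgroup E
      have h2 : 0 < Nat.card (G ⧸ E) := Nat.card_pos
      rw [hE] at h1
      omega
    obtain ⟨M, hM⟩ := exists_isMinNormal (G ⧸ E)
    obtain ⟨q, d, hq, hd, hMc⟩ := hM.exists_card_eq_pow inferInstance
    haveI := hM.normal
    have h1 := card_comap_mk' E M
    have h2 := (M.comap (QuotientGroup.mk' E)).card_subgroup_dvd_card
    rw [h1, hE, hMc] at h2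
    rw [hE, hMc] at h1
    rcases hp' q hq (((dvd_pow_self q hd.ne').mul_left 16).trans h2) with rfl | rfl
    · exfalso
      obtain ⟨y, -, hy⟩ := exists_order (H := (⊤ : Subgroup G)) Nat.prime_five
        (by rwa [Subgroup.card_top])
      have h3 := Subgroup.card_le_of_le (hB y (M.comap (QuotientGroup.mk' E)) hy
        (IsPGroup.of_card (n := 4 + d) (by rw [h1, pow_add]; norm_num))
        (Subgroup.normalizer_eq_top (M.comap (QuotientGroup.mk' E)) ▸ Subgroup.mem_top y))
      have h4 := Nat.one_lt_two_pow hd.ne'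
      omega
    · obtain rfl : d = 1 := by
        by_contra h
        exact h25 (((pow_dvd_pow 5 (by omega) : 5 ^ 2 ∣ _).mul_left 16).trans h2)
      obtain ⟨y, hyM, hy⟩ := exists_order Nat.prime_five (h1 ▸ by norm_num :
        5 ∣ Nat.card (M.comap (QuotientGroup.mk' E)))
      have h3 : cs(y) ≤ Nat.card (M.comap (QuotientGroup.mk' E)) := by
        rw [← ncard_isConj, ← ncard_coe_subgroup]
        refine Set.ncard_le_ncard (fun z hz => ?_) (Set.toFinite _)
        obtain ⟨c, rfl⟩ := isConj_iff.1 hz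
        exact Subgroup.Normal.conj_mem inferInstance y hyM c
      have h4 := card_cent_mul_cs y
      rw [hD y hy] at h4
      rw [h1] at h3
      have h6 : Nat.card G ≠ 400 := fun e => h25 (e ▸ by norm_num)
      omega
  refine ⟨hcard, ?_⟩
  have h5' : ∀ g : G, ¬ 5 ∣ Nat.card cent(g) → 5 ∣ cs(g) := fun g h =>
    ((Nat.Prime.dvd_mul Nat.prime_five).1 (card_cent_mul_cs g ▸ h5)).resolve_left h
  have hconj : ∀ {x y : G}, IsConj x y → x ∈ E → y ∈ E := fun {x y} h hx => by
    obtain ⟨c, rfl⟩ := isConj_iff.1 h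
    exact hEn.conj_mem x hx c
  have h1 := mul_cl_le_of_cs (S := (E : Set G) \ {1}) (r := 5)
    (fun x hx y h => ⟨hconj h hx.1, fun e => hx.2 (isConj_one_left.1 (e ▸ h))⟩) fun g hg => by
      refine Nat.le_of_dvd (cs_pos g) (h5' g fun h => hg.2 ?_)
      obtain ⟨y, hy, ho⟩ := exists_order Nat.prime_five h
      have h3 : g ∈ E ⊓ cent(y) := ⟨hg.1, mem_cent_comm.1 hy⟩
      rwa [(hA y 5 (Or.inl rfl) ho).2] at h3
  have h2 := mul_cl_le_of_cs (S := (E : Set G)ᶜ) (r := 10)
    (fun x hx y h hy => hx (hconj h.symm hy)) fun g hg => by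
      by_cases h : 5 ∣ Nat.card cent(g)
      · obtain ⟨y, hy, ho⟩ := exists_order Nat.prime_five h
        have h3 := hD y ho ▸ (cent(y)).orderOf_dvd_natCard (mem_cent_comm.1 hy)
        have h4 := card_cent_mul_cs g
        rw [hD g (((Nat.dvd_prime Nat.prime_five).1 h3).resolve_left fun e =>
          hg (orderOf_eq_one_iff.1 e ▸ E.one_mem))] at h4
        have := cs_pos g
        omega
      · have h3 := h5' g h
        have h4 : 2 ∣ cs(g) := by
          by_contra h4
          refine hg (hC (le_cent_iff.1 (le_of_normal_of_coprime_index ?_)))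
          rw [hE]
          exact ((Nat.Prime.coprime_iff_not_dvd Nat.prime_two).2 h4).pow_left 4
        have := cs_pos g
        omega
  rw [Set.ncard_sdiff_singleton_of_mem E.one_mem, ncard_coe_subgroup, hE] at h1
  rw [Set.ncard_compl, ncard_coe_subgroup, hE] at h2
  have h3 := cl_le_add_diff (Set.univ : Set G) E
  rw [cl_univ, ← Set.compl_eq_univ_sdiff, Set.univ_inter] at h3
  have h4 := cl_le_add_diff (E : Set G) {1}
  have h6 := (cl_mono (Set.inter_subset_right : (E : Set G) ∩ {1} ⊆ _)).trans (cl_le_ncard _)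
  rw [Set.ncard_singleton] at h6
  omega

/-- The elements centralising `A` and `E / A` are those of `E`, if `C(E) = A`. -/
theorem heis_mem {A E : Subgroup G} {p : ℕ} [IsCyclic A] (hE : HeisOver A E p)
    (hA : MaxAb A) (hC : Subgroup.centralizer (A : Set G) = ⊤)
    (hCE : Subgroup.centralizer (E : Set G) ≤ A) [A.Normal] :
    Subgroup.centralizer (E.map (QuotientGroup.mk' A) : Set (G ⧸ A)) ≤
      E.map (QuotientGroup.mk' A) := by
  let L := (Subgroup.centralizer (E.map (QuotientGroup.mk' A) : Set (G ⧸ A))).comap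
    (QuotientGroup.mk' A)
  have hker : ∀ g, g ∈ L ↔ ∀ y ∈ E, ⁅g, y⁆ ∈ A := by
    intro g
    simp only [← QuotientGroup.eq_one_iff, ← QuotientGroup.mk'_apply, map_commutatorElement,
      commutatorElement_eq_one_iff_mul_comm]
    exact ⟨fun h y hy => (h _ ⟨y, hy, rfl⟩).symm, by rintro h _ ⟨y, hy, rfl⟩; exact (h y hy).symm⟩
  have hEk : E ≤ L := fun g hg => (hker g).2 (hE.comm g hg)
  have h1 := CL.Fgs.relIndex_centralizer_eq_of_commutator_cyclic L E A
    (Subgroup.commutator_le.2 fun g hg => (hker g).1 hg)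
    (fun a ha g _ => (hC ▸ Subgroup.mem_top g : g ∈ Subgroup.centralizer (A : Set G)) a ha)
    hE.comm_left
  have hAc : ∀ X : Subgroup G, A ≤ Subgroup.centralizer (X : Set G) := fun X a ha g _ =>
    ((hC ▸ Subgroup.mem_top g : g ∈ Subgroup.centralizer (A : Set G)) a ha).symm
  rw [le_antisymm (inf_le_right.trans hCE) (le_inf (hE.le.trans hEk) (hAc E)),
    le_antisymm (inf_le_right.trans ((Subgroup.centralizer_le hEk).trans hCE))
      (le_inf hE.le (hAc _)), ← Subgroup.relIndex_mul_relIndex A E _ hE.le hEk] at h1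
  have h2 : E.relIndex L = 1 :=
    (Nat.mul_eq_left (Subgroup.FiniteIndex.index_ne_zero (H := A.subgroupOf E))).1 h1
  intro x hx
  obtain ⟨g, rfl⟩ := QuotientGroup.mk'_surjective A x
  exact ⟨g, Subgroup.relIndex_eq_one.1 h2 hx, rfl⟩

theorem Tr.four_upper {ρ : G →* AddMonoid.End V} [Group.IsSolvable G] (T : Tr ρ 3 4)
    (hn : ¬ GL1 ρ) : Nat.card G ≤ 640 ∧ kk(G) ≤ 68 := by
  haveI := Fact.mk T.prime
  haveI := T.nontrivial
  have hppd : PPD 3 4 5 := ⟨by norm_num, by norm_num, fun i h1 h2 => by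
    interval_cases i <;> norm_num⟩
  obtain ⟨A, hA, -⟩ := exists_maxAb_ge (⊥ : Subgroup G)
  haveI := hA.normal
  haveI := hA.comm
  obtain ⟨K, _, _, _, ι, σ, k, D, hK, hk, -⟩ := T.exists_semi A
  haveI := D.isCyclic
  have h5A : ¬ 5 ∣ Nat.card A := fun h => hn (T.gl1_of_ppd hppd hA.normal hA.comm h)
  have h5 : 5 ∣ Nat.card G := hppd.2.1.trans T.dvd_card
  obtain ⟨x, -, hx⟩ := exists_order (H := (⊤ : Subgroup G)) Nat.prime_five
        (by rwa [Subgroup.card_top])
  have hxr : x ^ 5 = 1 := hx ▸ pow_orderOf_eq_one x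
  have hxC : x ∈ Subgroup.centralizer (A : Set G) := by
    rw [← QuotientGroup.eq_one_iff, ← orderOf_eq_one_iff]
    exact Nat.eq_one_of_dvd_coprimes (by norm_num : Nat.Coprime 5 4)
      (orderOf_dvd_of_pow_eq_one (by rw [← QuotientGroup.mk_pow, hxr, QuotientGroup.mk_one]))
      ((orderOf_dvd_natCard _).trans ((D.index_dvd hK).trans (Dvd.intro _ hk)))
  obtain ⟨E, q, hE, hxE⟩ := hA.exists_heis hxC fun h => h5A (hx ▸ A.orderOf_dvd_natCard h)
  obtain ⟨m, hm⟩ := hE.exists_relIndex_eq_pow hA hE.le le_rfl (hE.center hA)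
  have h1 := D.heis_le hA hE
  rw [hm] at h1
  have h2 : q ^ m ≤ Module.finrank K V := (Nat.pow_le_pow_iff_left two_ne_zero).1 h1
  obtain ⟨i, -, -, hi⟩ := hE.prime_le hA Nat.prime_five h5A hxr hxC hxE hm
  have h3 : q ^ (m - i) ≤ q ^ m := Nat.pow_le_pow_right hE.prime.pos (Nat.sub_le m i)
  have h4 := Nat.le_of_dvd (by norm_num) (Dvd.intro_left k hk)
  have h6 : Module.finrank K V = 4 := by omega
  obtain rfl : k = 1 := by rw [h6] at hk; omega
  have h7 : A.relIndex E = 16 := by rw [hm, show q ^ m = 4 by omega]; rfl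
  have h8 : Nat.card A ≤ 2 := Nat.le_of_dvd two_pos (by have := D.card_dvd; rwa [hK] at this)
  haveI := hE.normal.map (QuotientGroup.mk' A) (QuotientGroup.mk'_surjective A)
  have hq := Subgroup.card_eq_card_quotient_mul_card_subgroup A
  have hd := Subgroup.card_quotient_dvd_card A
  obtain ⟨h9, h10⟩ := k_le_34 (E.map (QuotientGroup.mk' A)) (by rw [card_map_mk', h7])
    (heis_mem hE hA (Subgroup.index_eq_one.1 (Nat.dvd_one.1 (D.index_dvd hK)))
      (D.heis_cent hA hE (by rw [h7, h6]; rfl)))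
    (fun r hr h => by
      obtain ⟨j, h1, h2, h3⟩ := T.exists_dvd hr (h.trans hd)
      have h4 : r ∣ 2 ^ 4 * 5 * 13 := by
        interval_cases j <;> exact h3.trans (by norm_num)
      rcases (Nat.Prime.dvd_mul hr).1 h4 with h | h
      · rcases (Nat.Prime.dvd_mul hr).1 h with h | h
        · exact Or.inl ((Nat.prime_dvd_prime_iff_eq hr Nat.prime_two).1 (hr.dvd_of_dvd_pow h))
        · exact Or.inr (Or.inl ((Nat.prime_dvd_prime_iff_eq hr Nat.prime_five).1 h))
      · exact Or.inr (Or.inr ((Nat.prime_dvd_prime_iff_eq hr (by norm_num)).1 h)))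
    (((Nat.Prime.dvd_mul Nat.prime_five).1 (hq ▸ h5)).resolve_right h5A)
    fun h => (T.ppd_cases hn hppd).1 (h.trans hd)
  exact ⟨hq ▸ Nat.mul_le_mul h9 h8, (card_conjClasses_le_mul A).trans
    (Nat.mul_le_mul ((card_conjClasses_le_card A).trans h8) h10)⟩

end CL.PT
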