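import Cfsg.Agent.Perm.PT4
import Cfsg.Agent.Char.KGV
import Cfsg.Agent.Inv.SL2Cover
import Cfsg.Agent.S0253

/-! Linear groups of order prime to the characteristic that are transitive on non-zero vectors, V:
upper and lower bounds for the class number. -/

set_option autoImplicit false
set_option linter.unusedSectionVars false

open Cfsg CL.Perm CL.Fgs CL.Grp Finset
open scoped MatrixGroups

namespace CL.PT

universe u

variable {G : Type*} [Group G] [Finite G] {V : Type u} [AddCommGroup V] [Finite V]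

theorem k_A4 : kk(alternatingGroup (Fin 4)) = 4 := by
  rw [Nat.card_eq_fintype_card]; decide +kernel

theorem k_S4 : kk(Equiv.Perm (Fin 4)) = 5 := by
  rw [Nat.card_eq_fintype_card]; decide +kernel

theorem k_A5 : kk(alternatingGroup (Fin 5)) = 5 := by
  rw [Nat.card_eq_fintype_card]; decide +kernel

/-- a lower bound for the order of the centraliser of a lift, divided by the order of the centre -/
def wt {Q : Type*} [Group Q] [DecidableEq Q] (m : ℕ) (x : Q) : ℕ :=
  if x = 1 then m else if x * x = 1 then 2 else if x * x * x = 1 then 3 else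
    if x * x * x * x = 1 then 4 else 5

theorem wt_A4 : ∑ x : alternatingGroup (Fin 4), wt 12 x = 42 := by decide +kernel

theorem wt_S4 : ∑ x : Equiv.Perm (Fin 4), wt 24 x = 90 := by decide +kernel

theorem wt_A5 : ∑ x : alternatingGroup (Fin 5), wt 60 x = 270 := by decide +kernel

theorem wt_le {Q : Type*} [Group Q] [Finite Q] [DecidableEq Q] (m : ℕ) {x : Q} (hx : x ≠ 1) :
    wt m x ≤ orderOf x := by
  have h1 := pow_orderOf_eq_one x
  have h2 := orderOf_pos x
  by_contra h
  have h3 : orderOf x < 5 := by unfold wt at h; split_ifs at h <;> first | omega | contradiction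
  generalize orderOf x = o at *
  interval_cases o <;> simp only [pow_succ, pow_zero, one_mul] at h1 <;> unfold wt at h <;>
    split_ifs at h <;> first | omega | contradiction

theorem k_ge_of_central (Z : Subgroup G) [Z.Normal] (hZ : Z ≤ Subgroup.center G) {Q : Type*}
    [Group Q] [Fintype Q] [DecidableEq Q] (e : G ⧸ Z ≃* Q) :
    Nat.card Z * ∑ x : Q, wt (Nat.card Q) x ≤ kk(G) * Nat.card Q := by
  classical
  haveI := Fintype.ofFinite G
  let π := e.toMonoidHom.comp (QuotientGroup.mk' Z)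
  have hs : Function.Surjective π := e.surjective.comp (QuotientGroup.mk'_surjective Z)
  have hk : π.ker = Z := by
    ext g
    rw [MonoidHom.mem_ker, ← QuotientGroup.eq_one_iff]
    exact map_eq_one_iff e e.injective
  have hc : Nat.card G = Nat.card Z * Nat.card Q := by
    rw [Subgroup.card_eq_card_quotient_mul_card_subgroup Z, Nat.card_congr e.toEquiv, mul_comm]
  have h1 : ∀ g, Nat.card Z * wt (Nat.card Q) (π g) ≤ Nat.card cent(g) := by
    intro g
    by_cases h : π g = 1
    · rw [cent_eq_top_iff.2 (hZ (hk ▸ h : g ∈ Z)), Subgroup.card_top, hc, h, wt, if_pos rfl]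
    · have h2 := comm_comap π (hk ▸ hZ) (Subgroup.zpowers (π g))
      refine (Nat.mul_le_mul_left _ (wt_le _ h)).trans ?_
      rw [← Nat.card_zpowers, ← hk, ← card_comap_of_surjective hs]
      exact Subgroup.card_le_of_le fun x hx => mem_cent.2
        (setLike_mul_comm (s := (Subgroup.zpowers (π g)).comap π) hx (Subgroup.mem_zpowers _))
  have h2 := sum_le_sum (s := univ) fun g _ => h1 g
  rw [← card_conjClasses_mul_card, ← mul_sum, ← sum_fiberwise_of_maps_to (g := π) (t := univ)
    (fun _ _ => mem_univ _), sum_congr rfl (g := fun x => Nat.card Z * wt (Nat.card Q) x)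
    (fun x _ => by
      rw [sum_congr rfl (g := fun _ => wt (Nat.card Q) x) fun g hg => by rw [(mem_filter.1 hg).2],
        sum_const, smul_eq_mul, MonoidHom.card_fiber_eq_of_mem_range π (hs x) ⟨1, map_one π⟩,
        ← hk, card_subgroup_eq_filter]
      simp only [MonoidHom.mem_ker]), ← mul_sum, hc, mul_left_comm kk(G)] at h2
  exact Nat.le_of_mul_le_mul_left h2 Nat.card_pos

theorem card_A4 : Nat.card (alternatingGroup (Fin 4)) = 12 := by
  rw [nat_card_alternatingGroup]; simp [Nat.factorial]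

theorem card_S4 : Nat.card (Equiv.Perm (Fin 4)) = 24 := by
  rw [Nat.card_perm]; simp [Nat.factorial]

theorem card_A5 : Nat.card (alternatingGroup (Fin 5)) = 60 := by
  rw [nat_card_alternatingGroup]; simp [Nat.factorial]

/-- The stabiliser of a vector. -/
def stab (ρ : G →* AddMonoid.End V) (v : V) : Subgroup G :=
  @MulAction.stabilizer G V _ (MulAction.compHom V ρ) v

theorem mem_stab {ρ : G →* AddMonoid.End V} {v : V} {g : G} : g ∈ stab ρ v ↔ ρ g v = v := Iff.rfl

namespace Tr

variable {ρ : G →* AddMonoid.End V} {p n : ℕ}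

theorem card_eq (T : Tr ρ p n) {v : V} (hv : v ≠ 0) :
    Nat.card G = (p ^ n - 1) * Nat.card (stab ρ v) := by
  let _ : MulAction G V := MulAction.compHom V ρ
  have h1 : MulAction.orbit G v = {0}ᶜ :=
    Set.ext fun w => ⟨by rintro ⟨g, rfl⟩; exact end_ne_zero ρ g hv, fun hw => T.tr v w hv hw⟩
  rw [← T.card, ← Set.ncard_singleton (0 : V), ← Set.ncard_compl, ← h1,
    ← MulAction.index_stabilizer]
  exact (Subgroup.index_mul_card _).symm

theorem reg (T : Tr ρ p n) (h : Nat.card G = p ^ n - 1) {g : G} {v : V} (hv : v ≠ 0)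
    (hg : ρ g v = v) : g = 1 := by
  have h1 := T.card_eq hv
  rw [← h] at h1
  have h2 : stab ρ v = ⊥ := Subgroup.card_eq_one.1 ((Nat.mul_eq_left Nat.card_pos.ne').1 h1.symm)
  exact Subgroup.mem_bot.1 (h2 ▸ mem_stab.2 hg)

theorem inv_unique (T : Tr ρ p n) (h : Nat.card G = p ^ n - 1) {s t : G} (hs : orderOf s = 2)
    (ht : orderOf t = 2) : s = t := by
  have key : ∀ {t : G}, orderOf t = 2 → ∀ v, ρ t v = -v := by
    intro t ht v
    by_contra h1
    have h2 : t = 1 := T.reg h (v := ρ t v + v) (fun e => h1 (eq_neg_of_add_eq_zero_left e)) (by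
      rw [map_add, ← end_mul_apply, ← sq, ← ht, pow_orderOf_eq_one, map_one, add_comm]; rfl)
    rw [h2, orderOf_one] at ht
    omega
  exact T.inj (AddMonoidHom.ext fun v => (key hs v).trans (key ht v).symm)

theorem five_le (T : Tr ρ p n) (h : 6 ∣ Nat.card G) : 5 ≤ p :=
  T.prime.five_le_of_ne_two_of_ne_three (T.ne_of_dvd (Dvd.dvd.trans (by norm_num) h)).symm
    (T.ne_of_dvd (Dvd.dvd.trans (by norm_num) h)).symm

theorem two_upper (T : Tr ρ p 2) (h1 : Two G p) {h : ℕ} (hh : Nat.card G = (p ^ 2 - 1) * h) :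
    kk(G) + h < p ^ 2 := by
  obtain ⟨Z, _, -, hZ, hQ⟩ := h1
  have h2 := card_cases hQ
  have h3 : kk(G ⧸ Z) ≤ 5 := by
    rcases hQ with ⟨⟨e⟩⟩ | ⟨⟨e⟩⟩ | ⟨⟨e⟩⟩ <;> rw [CL.Char.kgv_card_conjClasses_congr e]
    · rw [k_A4]; norm_num
    · rw [k_S4]
    · rw [k_A5]
  have hd := Subgroup.card_quotient_dvd_card Z
  have h4 := T.five_le (Dvd.dvd.trans (by omega) hd)
  have h5 : Nat.card Z ≤ p - 1 := Nat.le_of_dvd (by omega) hZ
  have h6 := (card_conjClasses_le_mul Z).trans
    (Nat.mul_le_mul ((card_conjClasses_le_card Z).trans h5) h3)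
  have h7 : (p + 1) * h ≤ Nat.card (G ⧸ Z) := by
    refine Nat.le_of_mul_le_mul_right (c := p - 1) ?_ (by omega)
    rw [mul_right_comm, ← Nat.sq_sub_sq, one_pow, ← hh,
      Subgroup.card_eq_card_quotient_mul_card_subgroup Z]
    exact Nat.mul_le_mul_left _ h5
  by_cases h8 : p = 5
  · subst h8
    have : ¬ 5 ∣ Nat.card (G ⧸ Z) := fun e => T.cop (Dvd.dvd.trans e hd)
    omega
  · have h9 : 7 ≤ p := by
      have : p ≠ 6 := by rintro rfl; exact absurd T.prime (by norm_num)
      omega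
    have h10 := Nat.mul_le_mul_right h (show 8 ≤ p + 1 by omega)
    have h11 := Nat.mul_le_mul_left p h9
    rw [sq]
    omega

/-- The upper bound. -/
theorem upper (T : Tr ρ p n) {h : ℕ} (hh : Nat.card G = (p ^ n - 1) * h) :
    kk(G) + h ≤ p ^ n ∧ (kk(G) + h = p ^ n →
      IsCyclic G ∨ (p ^ n = 8 ∧ Nat.card G = 21) ∨ (p ^ n = 9 ∧ Nat.card G = 16)) := by
  by_cases h1 : GL1 ρ
  · exact T.gl1_upper h1 hh
  suffices kk(G) + h < p ^ n by omega
  rcases T.struct.resolve_left h1 with ⟨rfl, h2⟩ | ⟨rfl, rfl, h2⟩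
  · exact T.two_upper h2 hh
  · have := T.four_upper h1
    omega

theorem two_lower (T : Tr ρ p 2) (h1 : Two G p) :
    p ≤ kk(G) ∨ (p = 11 ∧ Nat.card G = 120 ∧ Nonempty (G ≃* SL(2, ZMod 5))) := by
  classical
  obtain ⟨Z, _, hc, hZ, hQ⟩ := h1
  have h4 := T.five_le (Dvd.dvd.trans (by have := card_cases hQ; omega)
    (Subgroup.card_quotient_dvd_card Z))
  obtain ⟨h, hh⟩ := T.dvd_card
  have hG := Subgroup.card_eq_card_quotient_mul_card_subgroup Z
  have h0 : 1 ≤ h := Nat.pos_of_ne_zero fun e => Nat.card_pos.ne' (by rw [hh, e, mul_zero])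
  have h5 : p ^ 2 - 1 ≤ Nat.card G := Nat.le_of_dvd Nat.card_pos T.dvd_card
  have h6 : ∀ c, c ≤ p → c * p ≤ p ^ 2 := fun c hc => sq p ▸ Nat.mul_le_mul_right p hc
  have hp := T.prime
  rcases hQ with ⟨⟨e⟩⟩ | ⟨⟨e⟩⟩ | ⟨⟨e⟩⟩ <;> have h7 := k_ge_of_central Z hc e <;>
    rw [Nat.card_congr e.toEquiv] at hG
  · rw [card_A4] at h7 hG
    rw [wt_A4] at h7
    have := h6 5 h4
    left; omega
  · rw [card_S4] at h7 hG
    rw [wt_S4] at h7
    left
    by_cases h8 : p = 5
    · rw [h8, ← k_S4, ← kPi_univ, ← kPi_univ]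
      exact kPi_le_of_surjective _ (e.toMonoidHom.comp (QuotientGroup.mk' Z))
        (e.surjective.comp (QuotientGroup.mk'_surjective Z))
    · have : p ≠ 6 := by rintro rfl; exact absurd hp (by norm_num)
      have := h6 7 (by omega)
      omega
  rw [card_A5] at h7 hG
  rw [wt_A5] at h7
  by_cases h8 : 14 ≤ p
  · have := h6 14 h8
    left; omega
  have h9 : p ≠ 5 := fun e => T.cop (by subst e; omega)
  by_cases h10 : p = 11 ∧ h = 1
  swap
  · left
    interval_cases p <;> first | omega | norm_num at hp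
  obtain ⟨rfl, rfl⟩ := h10
  refine Or.inr ⟨rfl, by omega, ?_⟩
  haveI : Fact (Nat.Prime 5) := ⟨Nat.prime_five⟩
  obtain ⟨e'⟩ := Cfsg.Agent.S0253.result (F := ZMod 5) (ZMod.card 5)
  let π := (e.trans e'.symm).toMonoidHom.comp (QuotientGroup.mk' Z)
  have hs : Function.Surjective π :=
    (e.trans e'.symm).surjective.comp (QuotientGroup.mk'_surjective Z)
  have hk : π.ker = Z := by
    ext g
    rw [MonoidHom.mem_ker, ← QuotientGroup.eq_one_iff]
    exact map_eq_one_iff (e.trans e'.symm) (e.trans e'.symm).injective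
  have hZ2 : Nat.card Z = 2 := by omega
  refine CL.Inv.nonempty_equiv_SL2_of_cover (by rw [ZMod.card]; decide) π hs (hk ▸ hZ2)
    fun H hH => ?_
  have h11 := H.card_mul_index
  obtain ⟨t, ht, ho⟩ := exists_order (H := H) Nat.prime_two (by rw [hH] at h11; omega)
  obtain ⟨z, hz, hzo⟩ := exists_order (H := Z) Nat.prime_two (hZ2 ▸ dvd_rfl)
  obtain rfl := T.inv_unique (by omega) ho hzo
  have h12 : Z ≤ H := by
    rw [← Subgroup.eq_of_le_of_card_ge (Subgroup.zpowers_le.2 hz)
      (by rw [Nat.card_zpowers, ho, hZ2])]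
    exact Subgroup.zpowers_le.2 ht
  let π' := e.toMonoidHom.comp (QuotientGroup.mk' Z)
  have h13 : (H.map π').index = 2 := by
    rw [← hH]
    refine H.index_map_eq (e.surjective.comp (QuotientGroup.mk'_surjective Z)) fun g hg => h12 ?_
    exact (QuotientGroup.eq_one_iff g).1 ((map_eq_one_iff e e.injective).1 hg)
  rcases (Subgroup.normal_of_index_eq_two h13).eq_bot_or_eq_top with h | h
  · rw [h, Subgroup.index_bot, card_A5] at h13
    omega
  · rw [h, Subgroup.index_top] at h13
    omega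

/-- The lower bound. -/
theorem lower (T : Tr ρ p n) : p ≤ kk(G) ∨ (n = 1 ∧ Nat.card G = p - 1 ∧ IsCyclic G) ∨
    (p = 11 ∧ n = 2 ∧ Nat.card G = 120 ∧ Nonempty (G ≃* SL(2, ZMod 5))) := by
  have h0 := Nat.le_of_dvd Nat.card_pos T.dvd_card
  by_cases hn : n = 1
  · subst hn
    obtain ⟨A, hA, h2, h3, -⟩ := T.gl1_data (T.struct.resolve_right (by omega))
    rw [Subgroup.index_eq_one.1 (Nat.dvd_one.1 h3)] at hA h2
    rw [Subgroup.card_top, pow_one] at h2
    rw [pow_one] at h0
    exact Or.inr (Or.inl ⟨rfl, by omega,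
      isCyclic_of_surjective Subgroup.topEquiv Subgroup.topEquiv.surjective⟩)
  have h1 : 2 ≤ n := by have := T.pos; omega
  by_cases hp : p ≤ 3
  · have h2 := (Nat.pow_le_pow_left T.prime.two_le 2).trans (Nat.pow_le_pow_right T.prime.pos h1)
    exact Or.inl (hp.trans (three_le_k (by omega)))
  rcases T.struct with h | ⟨rfl, h⟩ | h
  · exact Or.inl (T.gl1_lower h (T.prime.five_le_of_ne_two_of_ne_three (by omega) (by omega)) h1)
  · exact (T.two_lower h).imp_right fun h => Or.inr ⟨h.1, rfl, h.2⟩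
  · omega

end Tr

end CL.PT
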