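import Cfsg.Agent.Perm.PT5
import Cfsg.Agent.C2Low.EqOrdA
import Cfsg.Agent.Known.GL2Classes

/-! Linear groups of order prime to the characteristic that are transitive on non-zero vectors, VI:
the semidirect product. -/

set_option autoImplicit false
set_option linter.unusedSectionVars false

open Cfsg CL.Perm CL.Fgs CL.Grp
open scoped MatrixGroups IsMulCommutative

namespace CL.PT

variable {X : Type*} [Group X] [Finite X]

/-- The conjugation action of `G` on `V`. -/
def conjRep (V : Subgroup X) [V.Normal] [IsMulCommutative V] (G : Subgroup X) :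
    G →* AddMonoid.End (Additive V) where
  toFun h := MonoidHom.toAdditive ((MulAut.conjNormal (h : X) : MulAut V) : V →* V)
  map_one' := by rw [OneMemClass.coe_one, map_one]; rfl
  map_mul' g h := by rw [MulMemClass.coe_mul, map_mul]; rfl

theorem conjRep_eq {V : Subgroup X} [V.Normal] [IsMulCommutative V] {G : Subgroup X} {g : G}
    {v w : Additive V} : conjRep V G g v = w ↔ (g : X) * v.toMul * (g : X)⁻¹ = w.toMul :=
  Subtype.ext_iff

/-- The standing hypotheses on the semidirect product. -/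
structure Split (p : ℕ) (V G : Subgroup X) : Prop where
  prime : p.Prime
  exp : ∀ v ∈ V, v ^ p = 1
  idx : ¬ p ∣ V.index
  self : Subgroup.centralizer (V : Set X) = V
  compl : Subgroup.IsComplement' V G
  trans : ∀ v ∈ V, ∀ w ∈ V, v ≠ 1 → w ≠ 1 → ∃ g ∈ G, g * v * g⁻¹ = w

namespace Split

variable {p : ℕ} {V G : Subgroup X} [V.Normal]

theorem comm (S : Split p V G) : IsMulCommutative V :=
  Subgroup.le_centralizer_iff_isMulCommutative.1 S.self.ge

theorem cop (S : Split p V G) : ¬ p ∣ Nat.card G := S.compl.symm.index_eq_card ▸ S.idx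

theorem eq_one (S : Split p V G) {g : X} (h1 : g ∈ V) (h2 : g ∈ G) : g = 1 :=
  Subgroup.mem_bot.1 (S.compl.disjoint.le_bot ⟨h1, h2⟩)

theorem exists_card (S : Split p V G) : ∃ n, Nat.card V = p ^ n :=
  haveI := Fact.mk S.prime
  IsPGroup.iff_card.1 fun v => ⟨1, Subtype.ext (by rw [pow_one]; exact S.exp v v.2)⟩

theorem coprime (S : Split p V G) : (Nat.card V).Coprime (Nat.card G) := by
  obtain ⟨n, hn⟩ := S.exists_card
  exact hn ▸ ((Nat.Prime.coprime_iff_not_dvd S.prime).2 S.cop).pow_left n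

theorem tr (S : Split p V G) [IsMulCommutative V] (hV : V ≠ ⊥) :
    ∃ n, Nat.card V = p ^ n ∧ Tr (conjRep V G) p n := by
  obtain ⟨n, hn⟩ := S.exists_card
  refine ⟨n, hn, S.prime, (injective_iff_map_eq_one _).2 fun g hg => Subtype.ext
    (S.eq_one (S.self.le fun v hv => ?_) g.2), fun v w hv hw => ?_, hn,
    Nat.pos_of_ne_zero fun h => hV (Subgroup.card_eq_one.1 (by rw [hn, h, pow_zero])), S.cop,
    fun v => Subtype.ext (S.exp _ v.toMul.2)⟩
  · exact (mul_inv_eq_iff_eq_mul.1 (conjRep_eq.1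
      (DFunLike.congr_fun hg (Additive.ofMul (⟨v, hv⟩ : V))))).symm
  · obtain ⟨g, hg, e⟩ := S.trans _ v.toMul.2 _ w.toMul.2 (fun h => hv (Subtype.ext h))
      fun h => hw (Subtype.ext h)
    exact ⟨⟨g, hg⟩, conjRep_eq.2 e⟩

theorem upper (S : Split p V G) : kk(X) ≤ Nat.card V ∧ (kk(X) = Nat.card V →
    IsCyclic G ∨ (Nat.card V = 8 ∧ Nat.card G = 21) ∨ (Nat.card V = 9 ∧ Nat.card G = 16)) := by
  classical
  haveI := S.comm
  by_cases hV : V = ⊥
  · have h1 := S.self
    rw [hV, Subgroup.coe_bot, cent_one] at h1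
    haveI : Subsingleton X := Subgroup.subsingleton_iff.1 (subsingleton_of_top_eq_bot h1)
    exact ⟨(card_conjClasses_le_card X).trans (Finite.card_le_one_iff_subsingleton.2 ‹_› |>.trans
      Nat.card_pos), fun _ => Or.inl inferInstance⟩
  obtain ⟨n, hn, T⟩ := S.tr hV
  obtain ⟨v, hv, h1⟩ := (V.bot_or_exists_ne_one).resolve_left hV
  have h2 := CL.Char.card_conjClasses_split V (fun a ha b hb => setLike_mul_comm (s := V) ha hb) G
    S.compl S.coprime {1, v} (by simp [hv]) (fun w hw => by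
      by_cases h : w = 1
      · refine ⟨1, ⟨by simp, 1, G.one_mem, by simp [h]⟩, ?_⟩
        rintro s ⟨-, g, -, rfl⟩
        simp [h]
      · refine ⟨v, ⟨by simp, S.trans w hw v hv h h1⟩, ?_⟩
        rintro s ⟨hs, g, -, rfl⟩
        simpa [h] using hs)
  rw [Finset.sum_pair h1.symm, cent_one, inf_top_eq] at h2
  have h3 := T.card_eq (v := Additive.ofMul ⟨v, hv⟩) fun h => h1 (congrArg Subtype.val h)
  have h4 : Nat.card ↥(G ⊓ cent(v)) = Nat.card (stab (conjRep V G) (Additive.ofMul ⟨v, hv⟩)) := by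
    rw [inf_comm, ← card_subgroupOf_eq]
    congr 2
    ext g
    rw [Subgroup.mem_subgroupOf, mem_cent_iff_conj, mem_stab, conjRep_eq]
    rfl
  have h5 := card_conjClasses_le_card ↥(G ⊓ cent(v))
  obtain ⟨h6, h7⟩ := T.upper h3
  rw [hn]
  exact ⟨by omega, fun h => h7 (by omega)⟩

theorem affine (S : Split p V G) [Fact p.Prime] (hV : Nat.card V = p) (hG : Nat.card G = p - 1) :
    Nonempty (X ≃* affineGroup (ZMod p)) := by
  let ε : Multiplicative (ZMod p) ≃* V := mulEquivOfPrimeCardEq (by simp) hV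
  have hM : CL.EqOrd.Mod V fun x : ZMod p => (ε (Multiplicative.ofAdd x) : X) := by
    refine ⟨fun x y h => ε.injective (Subtype.ext h), fun g => ⟨fun hg =>
      ⟨(ε.symm ⟨g, hg⟩).toAdd, by simp⟩, by rintro ⟨x, rfl⟩; exact (ε _).2⟩,
      fun x y => by simp [ofAdd_add], fun g => ?_⟩
    let f : ZMod p ≃+ ZMod p :=
      AddEquiv.toMultiplicative.symm (ε.trans ((MulAut.conjNormal g).trans ε.symm))
    have hf : ∀ x, f x = f 1 * x := fun x => by
      rw [mul_comm, ← smul_eq_mul, ← ZMod.map_smul, smul_eq_mul, mul_one]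
    refine ⟨Units.mk0 (f 1) (by simp), RingEquiv.refl _, fun x => ?_⟩
    change _ = (ε (Multiplicative.ofAdd (f 1 * x)) : X)
    rw [← hf]
    change _ = (ε (ε.symm (MulAut.conjNormal g (ε (Multiplicative.ofAdd x)))) : X)
    rw [MulEquiv.apply_symm_apply]
    rfl
  obtain ⟨φ, h1, h2⟩ := hM.exists_emb (S.compl.symm.index_eq_card ▸ S.coprime) S.self.le
  refine CL.EqOrd.nonempty_equiv h1 (fun g => ?_) (m := (p - 1) * p)
    (by rw [← S.compl.card_mul, hV, hG, mul_comm]) (by
      have := CL.EqOrd.card_affine_le (K := ZMod p)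
      rwa [Nat.card_zmod] at this)
  obtain ⟨l, a, σ, b, -, h⟩ := h2 g
  exact ⟨a, b, fun x => by rw [h, Subsingleton.elim σ (RingEquiv.refl _)]; rfl⟩

theorem lower (S : Split p V G) [Fact p.Prime] (hV : V ≠ ⊥) : p ≤ kk(G) ∨
    (kk(G) = p - 1 ∧ Nonempty (X ≃* affineGroup (ZMod p))) ∨
    (p = 11 ∧ kk(G) = 9 ∧ Nat.card V = 121 ∧ Nat.card G = 120 ∧ IsFrobeniusComplement G ∧
      Nonempty (G ≃* SL(2, ZMod 5))) := by
  haveI := S.comm
  obtain ⟨n, hn, T⟩ := S.tr hV
  rcases T.lower with h | ⟨rfl, h1, h2⟩ | ⟨rfl, rfl, h1, ⟨e⟩⟩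
  · exact Or.inl h
  · exact Or.inr (Or.inl ⟨(card_conjClasses_of_comm inferInstance).trans h1,
      S.affine (hn.trans (pow_one p)) h1⟩)
  haveI : Fact (Nat.Prime 5) := ⟨Nat.prime_five⟩
  refine Or.inr (Or.inr ⟨rfl, (CL.Char.kgv_card_conjClasses_congr e).trans ?_, hn, h1,
    frob_of_fpf S.compl hV (fun h => by rw [h, Subgroup.card_bot] at h1; omega)
      fun g hg hg1 => eq_bot_iff.2 fun v hv => ?_, ⟨e⟩⟩)
  · have := CL.GL2.card_conjClasses_SL2_odd (F := ZMod 5) (by rw [ZMod.card]; decide)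
    rwa [ZMod.card] at this
  · by_contra h
    exact hg1 (congrArg Subtype.val (T.reg (g := ⟨g, hg⟩) (v := Additive.ofMul ⟨v, hv.1⟩) h1
      (fun e => h (congrArg Subtype.val e))
      (conjRep_eq.2 (mem_cent_iff_conj.1 (mem_cent_comm.1 hv.2)))))

end Split

end CL.PT
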