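import Cfsg.Agent.Perm.PT6
import Cfsg.Agent.Loc.PConstr

/-! `p`-solvable groups with one class of non-trivial `p`-elements. -/

set_option autoImplicit false
set_option linter.unusedSectionVars false

open Cfsg CL.Perm CL.Fgs CL.Grp
open scoped MatrixGroups

namespace CL.PT

variable {G : Type*} [Group G] [Finite G] {H : Type*} [Group H]

theorem kPi_add_le (π : Set ℕ) (f : G →* H) (hf : Function.Surjective f) (R : Set G)
    (h1 : ∀ r ∈ R, IsPiElt π r)
    (h2 : ∀ r ∈ R, ∃ u, IsPiElt π u ∧ f u = f r ∧ ∀ s ∈ R, ¬ IsConj u s) :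
    kPi π H + cl R ≤ kPi π G := by
  let U : Set (ConjClasses G) := {C | ∀ x : G, ConjClasses.mk x = C → IsPiElt π x}
  have hU : ∀ {x : G}, IsPiElt π x → ConjClasses.mk x ∈ U := fun hx y hy =>
    hx.of_isConj (ConjClasses.mk_eq_mk_iff_isConj.1 hy).symm
  have h3 : ConjClasses.mk '' R ⊆ U := by
    rintro _ ⟨r, hr, rfl⟩
    exact hU (h1 r hr)
  have h4 := Set.ncard_sdiff_add_ncard_of_subset h3
  have h5 : kPi π H ≤ (U \ ConjClasses.mk '' R).ncard := by
    refine le_trans (Set.ncard_le_ncard (s := {C | ∀ x : H, ConjClasses.mk x = C → IsPiElt π x})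
      (fun C hC => ?_) ((Set.toFinite _).image (ConjClasses.map f)))
      (Set.ncard_image_le (Set.toFinite _))
    obtain ⟨y, rfl⟩ := ConjClasses.mk_surjective C
    obtain ⟨x, hx, rfl⟩ := exists_isPiElt_map_eq f hf (hC y rfl)
    by_cases h : ConjClasses.mk x ∈ ConjClasses.mk '' R
    · obtain ⟨r, hr, e⟩ := h
      obtain ⟨u, hu, e', hn⟩ := h2 r hr
      refine ⟨ConjClasses.mk u, ⟨hU hu, ?_⟩, ?_⟩
      · rintro ⟨s, hs, e⟩
        exact hn s hs (ConjClasses.mk_eq_mk_iff_isConj.1 e.symm)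
      · change ConjClasses.mk (f u) = ConjClasses.map f (ConjClasses.mk x)
        rw [← e, e']
        rfl
    · exact ⟨ConjClasses.mk x, ⟨hU hx, h⟩, rfl⟩
  change _ + (ConjClasses.mk '' R).ncard ≤ U.ncard
  omega

theorem kPi_add_one_le (π : Set ℕ) (f : G →* H) (hf : Function.Surjective f) {a : G}
    (ha : IsPiElt π a) (h1 : f a = 1) (h2 : a ≠ 1) : kPi π H + 1 ≤ kPi π G := by
  have h := kPi_add_le π f hf {a} (by simpa using ha)
    (by simpa using ⟨1, isPiElt_one π, by simp [h1], by simpa using h2.symm⟩)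
  rwa [cl, Set.image_singleton, Set.ncard_singleton] at h

theorem kPi_add_two_le (π : Set ℕ) (f : G →* H) (hf : Function.Surjective f) {a b c : G}
    (ha : IsPiElt π a) (hb : IsPiElt π b) (hc : IsPiElt π c) (h1 : f a = 1) (h2 : f b = f c)
    (h3 : a ≠ 1) (h4 : c ≠ 1) (h5 : ¬ IsConj a c) (h6 : ¬ IsConj b a) (h7 : ¬ IsConj b c) :
    kPi π H + 2 ≤ kPi π G := by
  have h := kPi_add_le π f hf {a, c} (by simp [ha, hc]) (by
    rintro r (rfl | rfl)
    · exact ⟨1, isPiElt_one π, by simp [h1], by simp [h3.symm, h4.symm]⟩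
    · exact ⟨b, hb, h2, by rintro s (rfl | rfl) <;> assumption⟩)
  rwa [cl, Set.image_pair, Set.ncard_pair fun e => h5 (ConjClasses.mk_eq_mk_iff_isConj.1 e)] at h

theorem mem_of_isConj {N : Subgroup G} [hN : N.Normal] {x y : G} (h : IsConj x y) (hx : x ∈ N) :
    y ∈ N := by
  obtain ⟨c, rfl⟩ := isConj_iff.1 h
  exact hN.conj_mem x hx c

theorem one_class {N : Subgroup G} [N.Normal] {q : ℕ} (hq : q.Prime) (hd : q ∣ Nat.card N)
    (h : ∀ x ∈ N, ∀ y ∈ N, x ≠ 1 → y ≠ 1 → IsConj x y) :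
    (∀ x ∈ N, x ^ q = 1) ∧ IsPGroup q N ∧ N ≤ Subgroup.centralizer (N : Set G) := by
  haveI := Fact.mk hq
  obtain ⟨x, hx, ho⟩ := exists_order hq hd
  have hx1 : x ≠ 1 := by rintro rfl; rw [orderOf_one] at ho; exact hq.one_lt.ne ho
  have h1 : ∀ y ∈ N, y ^ q = 1 := fun y hy => by
    by_cases e : y = 1
    · rw [e, one_pow]
    · rw [← ho, orderOf_eq_of_isConj (h x hx y hy hx1 e), pow_orderOf_eq_one]
  have h2 : IsPGroup q N := fun v => ⟨1, Subtype.ext (by rw [pow_one]; exact h1 v v.2)⟩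
  haveI : Nontrivial N := ⟨⟨⟨x, hx⟩, 1, fun e => hx1 (congrArg Subtype.val e)⟩⟩
  haveI := h2.center_nontrivial
  obtain ⟨z, hz⟩ := exists_ne (1 : Subgroup.center N)
  refine ⟨h1, h2, fun y hy => ?_⟩
  by_cases e : y = 1
  · exact e ▸ one_mem _
  · exact mem_of_isConj (h z.1 z.1.2 y hy (fun e => hz (Subtype.ext (Subtype.ext e))) e)
      fun w hw => congrArg Subtype.val (Subgroup.mem_center_iff.1 z.2 ⟨w, hw⟩)

/-- All non-trivial `p`-elements are conjugate. -/
def OneCl (p : ℕ) (G : Type*) [Group G] : Prop :=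
  ∀ x y : G, x ≠ 1 → y ≠ 1 → IsPiElt {p} x → IsPiElt {p} y → IsConj x y

theorem isPiElt_of_order {G : Type*} [Group G] {x : G} {p : ℕ} (hp : p.Prime) (h : orderOf x = p) :
    IsPiElt {p} x ∧ x ≠ 1 :=
  ⟨isPiElt_iff_isPiNum.2 (by rw [h, ← pow_one p]; simpa using isPiNum_singleton_pow hp 1),
    by rintro rfl; rw [orderOf_one] at h; exact hp.one_lt.ne h⟩

theorem OneCl.not_dvd_index {p : ℕ} (h : OneCl p G) (hp : p.Prime) {M : Subgroup G} [M.Normal]
    (hM : p ∣ Nat.card M) : ¬ p ∣ M.index := by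
  intro hd
  haveI := Fact.mk hp
  obtain ⟨x, hx, ho⟩ := exists_order hp hM
  obtain ⟨y, hy⟩ := exists_prime_orderOf_dvd_card' (G := G ⧸ M) p hd
  obtain ⟨h1, h2⟩ := isPiElt_of_order hp hy
  obtain ⟨w, hw, rfl⟩ := exists_isPiElt_map_eq _ (QuotientGroup.mk'_surjective M) h1
  exact h2 ((QuotientGroup.eq_one_iff w).2 (mem_of_isConj (h x w (isPiElt_of_order hp ho).2
    (fun e => h2 (by rw [e, map_one])) (isPiElt_of_order hp ho).1 hw) hx))

theorem OneCl.of_surjective {p : ℕ} (h : OneCl p G) (f : G →* H) (hf : Function.Surjective f) :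
    OneCl p H := by
  intro x y hx hy h1 h2
  obtain ⟨a, ha, rfl⟩ := exists_isPiElt_map_eq f hf h1
  obtain ⟨b, hb, rfl⟩ := exists_isPiElt_map_eq f hf h2
  exact f.map_isConj (h a b (fun e => hx (by rw [e, map_one])) (fun e => hy (by rw [e, map_one]))
    ha hb)

theorem OneCl.exists_split {p : ℕ} [hp : Fact p.Prime] (h : OneCl p G) (hs : IsPSolvable p G)
    (hO : pPrimeCore p G = ⊥) (hd : p ∣ Nat.card G) :
    pCore p G ≠ ⊥ ∧ ∃ K, Split p (pCore p G) K := by
  haveI : Nontrivial G := Finite.one_lt_card_iff_nontrivial.1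
    (hp.out.one_lt.trans_le (Nat.le_of_dvd Nat.card_pos hd))
  have h1 := (CL.Loc.pCore_ne_bot_or_pPrimeCore_ne_bot hs).resolve_right fun e => e hO
  haveI := (Subgroup.nontrivial_iff_ne_bot _).2 h1
  obtain ⟨n, hn, e⟩ := (pCore_isPGroup p G).nontrivial_iff_card.1 inferInstance
  have h2 : p ∣ Nat.card (pCore p G) := e ▸ dvd_pow_self p hn.ne'
  have h3 : ∀ x ∈ pCore p G, ∀ y ∈ pCore p G, x ≠ 1 → y ≠ 1 → IsConj x y := fun x hx y hy h1 h2 =>
    h x y h1 h2 (isPiElt_singleton_of_mem (pCore_isPGroup p G) hx)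
      (isPiElt_singleton_of_mem (pCore_isPGroup p G) hy)
  obtain ⟨h4, -, h5⟩ := one_class hp.out h2 h3
  have h6 := h.not_dvd_index hp.out h2
  obtain ⟨K, hK⟩ := Subgroup.exists_right_complement'_of_coprime (N := pCore p G)
    (e ▸ ((Nat.Prime.coprime_iff_not_dvd hp.out).2 h6).pow_left n)
  refine ⟨h1, K, hp.out, h4, h6,
    le_antisymm (CL.Loc.centralizer_pCore_le_of_isPSolvable hs hO) h5, hK, fun v hv w hw a b => ?_⟩
  obtain ⟨c, rfl⟩ := isConj_iff.1 (h3 v hv w hw a b)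
  obtain ⟨⟨u, g⟩, rfl⟩ := hK.2 c
  refine ⟨g, g.2, ?_⟩
  have h7 := h5 u.2 _ (Subgroup.Normal.conj_mem inferInstance v hv g)
  calc _ = (g : G) * v * (g : G)⁻¹ * u * (u : G)⁻¹ := by group
    _ = _ := by rw [h7]; group

theorem Split.exists_hom {p : ℕ} {V K : Subgroup G} [V.Normal] (S : Split p V K) :
    ∃ f : G →* K, Function.Surjective f ∧ f.ker = V := by
  refine ⟨S.compl.symm.QuotientMulEquiv.toMonoidHom.comp (QuotientGroup.mk' V),
    S.compl.symm.QuotientMulEquiv.surjective.comp (QuotientGroup.mk'_surjective V), ?_⟩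
  ext g
  rw [MonoidHom.mem_ker, ← QuotientGroup.eq_one_iff]
  exact map_eq_one_iff _ S.compl.symm.QuotientMulEquiv.injective

theorem Split.kPi_compl {p : ℕ} {V K : Subgroup G} [V.Normal] (S : Split p V K) :
    kPi ({p}ᶜ : Set ℕ) K = kk(K) :=
  kPi_eq_card_conjClasses fun x => (isPiElt_compl_singleton_iff S.prime).2
    fun h => S.cop (h.trans (orderOf_dvd_natCard x))

theorem Split.kPi_eq {p : ℕ} {V K : Subgroup G} [V.Normal] (S : Split p V K) :
    kPi ({p}ᶜ : Set ℕ) G = kk(K) := by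
  obtain ⟨f, hf, -⟩ := S.exists_hom
  refine le_antisymm ?_ (S.kPi_compl ▸ kPi_le_of_surjective _ f hf)
  obtain ⟨n, hn⟩ := S.exists_card
  have h1 : kPi ({p}ᶜ : Set ℕ) V ≤ 1 := kPi_le_of_dvd (b := p ^ n) (by rw [hn, one_mul])
    one_ne_zero (by rw [compl_compl]; exact isPiNum_singleton_pow S.prime n)
  refine (kPi_le_mul _ V).trans ((Nat.mul_le_mul h1 (kPi_le_card_conjClasses _)).trans ?_)
  rw [one_mul, CL.Char.kgv_card_conjClasses_congr S.compl.symm.QuotientMulEquiv]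

/-- The exceptional case over a non-trivial `11'`-core. -/
theorem exc [Finite H] (f : G →* H) (hf : Function.Surjective f) (N : Subgroup G) [hNn : N.Normal]
    (hN : N ≠ ⊥) (h11 : ¬ 11 ∣ Nat.card N) (hNk : N ≤ f.ker)
    (hW : Nat.card f.ker = Nat.card N * 121) (hH : Nat.card H = 120) {z : H}
    (hz : z ∈ Subgroup.center H) (hzo : orderOf z = 2) (hc : OneCl 11 G) :
    kPi ({11}ᶜ : Set ℕ) H + 2 ≤ kPi ({11}ᶜ : Set ℕ) G := by
  by_contra hcon
  have p11 : Nat.Prime 11 := by norm_num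
  have hG : Nat.card G = Nat.card N * 14520 := by
    rw [← f.ker.card_mul_index, Subgroup.index_ker, MonoidHom.range_eq_top.2 hf, Subgroup.card_top,
      hW, hH, mul_assoc]
    rfl
  have hNπ := (isPiNum_compl_singleton_iff p11).2 h11
  obtain ⟨a, ha, ha1⟩ := (N.bot_or_exists_ne_one).resolve_left hN
  have hA : ∀ n ∈ N, n ≠ 1 → IsConj a n := fun n hn h1 => by
    by_contra h
    exact hcon (kPi_add_two_le _ f hf (isPiElt_of_mem hNπ ha) (isPiElt_one _)
      (isPiElt_of_mem hNπ hn) (hNk ha) (by rw [map_one, hNk hn]) ha1 h1 h (by simpa using ha1.symm)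
      (by simpa using h1.symm))
  have hB : ∀ g, IsPiElt ({11}ᶜ : Set ℕ) g → g ∉ f.ker → ∀ n ∈ N, IsConj g (n * g) := by
    intro g hg h1 n hn
    by_contra h
    have h2 : n * g ∉ f.ker := fun e => h1 ((mul_mem_cancel_left (hNk hn)).1 e)
    refine hcon (kPi_add_two_le _ f hf (isPiElt_of_mem hNπ ha) hg
      (isPiElt_of_pow_eq_one ((isPiElt_iff_isPiNum.1 hg).mul hNπ) ?_) (hNk ha)
      (by rw [map_mul, hNk hn, one_mul]) ha1 (fun e => h2 (by rw [e]; exact one_mem _))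
      (fun e => h2 (mem_of_isConj e (hNk ha))) (fun e => h1 (mem_of_isConj e.symm (hNk ha))) h)
    rw [pow_mul]
    refine orderOf_dvd_iff_pow_eq_one.1 (N.orderOf_dvd_natCard ?_)
    rw [← QuotientGroup.eq_one_iff, QuotientGroup.mk_pow, QuotientGroup.mk_mul,
      (QuotientGroup.eq_one_iff n).2 hn, one_mul, ← QuotientGroup.mk_pow, pow_orderOf_eq_one,
      QuotientGroup.mk_one]
  have hC : ∀ g, IsPiElt ({11}ᶜ : Set ℕ) g → g ∉ f.ker → Nat.card cent(g) ∣ 14520 := by
    intro g hg h1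
    obtain ⟨t, ht⟩ := card_dvd_card_of_free_on (A := N) {y | IsConj g y} (fun n y hy =>
      hy.trans (hB y (hg.of_isConj hy) (fun e => h1 (mem_of_isConj hy.symm e)) n n.2))
      fun n y _ e => Subtype.ext (mul_eq_right.1 e)
    have h2 := cs_mul_card_cent g
    rw [← card_isConj, show Nat.card {y // IsConj g y} = _ from ht, hG, mul_assoc] at h2
    exact Dvd.intro_left t (Nat.eq_of_mul_eq_mul_left Nat.card_pos h2)
  obtain ⟨q, hq, hqN⟩ := Nat.exists_prime_and_dvd fun e => hN (Subgroup.card_eq_one.1 e)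
  haveI := Fact.mk hq
  obtain ⟨h1, h2, h3⟩ := one_class hq hqN fun x hx y hy a b => (hA x hx a).symm.trans (hA y hy b)
  obtain ⟨m, hm⟩ := IsPGroup.iff_card.1 h2
  have hm0 : m ≠ 0 := fun e => hN (Subgroup.card_eq_one.1 (by rw [hm, e, pow_zero]))
  have hD : cs(a) + 1 = q ^ m := by
    rw [← hm, ← ncard_coe_subgroup, ← Set.ncard_sdiff_singleton_add_one N.one_mem, ← ncard_isConj]
    congr 2
    exact Set.ext fun y => ⟨fun hy => ⟨mem_of_isConj hy ha, fun e =>
      ha1 (isConj_one_left.1 (e ▸ hy))⟩, fun hy => hA y hy.1 hy.2⟩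
  have hE := cs_mul_card_cent a
  rw [hG, hm, ← hD] at hE
  have hF : cs(a) ∣ 14520 :=
    (Nat.coprime_self_add_right.2 (Nat.coprime_one_right _)).dvd_of_dvd_mul_left (Dvd.intro _ hE)
  have hr : ∀ r k : ℕ, r.Prime → r ≠ 11 → r ^ k ∣ 14520 → r = q ∨ r ^ k ∣ cs(a) := by
    intro r k hr hr11 hk
    refine or_iff_not_imp_left.2 fun hrq => (((Nat.Prime.coprime_iff_not_dvd hr).2
      fun hd => ?_).pow_left k).dvd_of_dvd_mul_right (hE ▸ hk.mul_left _)
    obtain ⟨g, hg, ho⟩ := exists_order hr hd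
    have h4 := orderOf_eq_of_isConj (hB g ((isPiElt_compl_singleton_iff p11).2 fun e =>
      hr11 ((Nat.prime_dvd_prime_iff_eq p11 hr).1 (ho ▸ e)).symm) (fun e => by
        have h5 := f.ker.orderOf_dvd_natCard e
        rw [ho, hW, hm, show 121 = 11 ^ 2 from rfl] at h5
        rcases (Nat.Prime.dvd_mul hr).1 h5 with h | h
        · exact hrq ((Nat.prime_dvd_prime_iff_eq hr hq).1 (hr.dvd_of_dvd_pow h))
        · exact hr11 ((Nat.prime_dvd_prime_iff_eq hr p11).1 (hr.dvd_of_dvd_pow h))) a ha)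
    have h5 := orderOf_eq_prime (h1 a ha) ha1
    rw [(mem_cent'.1 hg).orderOf_mul_eq_mul_orderOf_of_coprime (by
      rw [h5, ho]; exact (Nat.coprime_primes hq hr).2 (Ne.symm hrq)), h5, ho] at h4
    exact hq.one_lt.ne' ((Nat.mul_eq_right hr.ne_zero).1 h4.symm)
  have hr2 := hr 2 3 Nat.prime_two (by norm_num) (by norm_num)
  have hr3 := hr 3 1 Nat.prime_three (by norm_num) (by norm_num)
  have hr5 := hr 5 1 Nat.prime_five (by norm_num) (by norm_num)
  have hle := Nat.le_of_dvd (by norm_num) hF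
  have hlift : ∀ y : H, orderOf y = q → ∃ g, f g = y ∧ Nat.card cent(g) ∣ 14520 ∧
      q ∣ Nat.card ↥(N ⊓ cent(g)) := by
    intro y hy
    obtain ⟨h4, h5⟩ := isPiElt_of_order hq hy
    obtain ⟨g, hg, rfl⟩ := exists_isPiElt_map_eq f hf h4
    refine ⟨g, rfl, hC g (hg.mono ?_) h5, ?_⟩
    · rintro _ rfl rfl
      exact h11 hqN
    · have h6 := CL.Fgs.card_modEq_card_inf_centralizer hg.isPGroup_zpowers (Y := N)
        (le_top.trans (Subgroup.normalizer_eq_top N).ge)
      rw [centralizer_zpowers] at h6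
      exact (h6.dvd_iff dvd_rfl).1 hqN
  have hpow : ∀ b, q ^ m < q ^ b → m < b := fun b => (Nat.pow_lt_pow_iff_right hq.one_lt).1
  by_cases e2 : q = 2
  · subst e2
    have h4 := hpow 14 (by omega)
    have h5 : Nat.card N = 16 := by
      rw [hm]
      rw [show cs(a) = 2 ^ m - 1 by omega] at hF hr3 hr5
      revert hF hr3 hr5
      interval_cases m <;> norm_num
    obtain ⟨g, rfl, h6, h7⟩ := hlift z hzo
    obtain ⟨x, -, hx⟩ := exists_order (H := (⊤ : Subgroup G)) p11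
      (by rw [Subgroup.card_top]; omega)
    have h8 := card_modEq_cent p11 hx (Y := N) (Subgroup.normalizer_eq_top N ▸ Subgroup.mem_top x)
    have h9 : Nat.card ↥(N ⊓ cent(x)) ∈ Nat.divisors 16 :=
      Nat.mem_divisors.2 ⟨h5 ▸ Subgroup.card_dvd_of_le inf_le_left, by norm_num⟩
    rw [show Nat.divisors 16 = {1, 2, 4, 8, 16} by decide] at h9
    simp only [Finset.mem_insert, Finset.mem_singleton] at h9
    unfold Nat.ModEq at h8
    have h10 : x ∈ Subgroup.centralizer (N : Set G) := le_cent_iff.1 (inf_eq_left.1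
      (Subgroup.eq_of_le_of_card_ge inf_le_left (by omega)))
    have h12 := hc.not_dvd_index p11 (hx ▸ Subgroup.orderOf_dvd_natCard _ h10)
    have h13 : f.ker ≤ Subgroup.centralizer (N : Set G) := by
      have h13 := card_inf_mul_relIndex (Subgroup.centralizer (N : Set G)) f.ker
      obtain ⟨t, ht⟩ := Subgroup.card_dvd_of_le (le_inf h3 hNk)
      rw [hW, ht, mul_assoc] at h13
      exact Subgroup.relIndex_eq_one.1 (Nat.eq_one_of_dvd_coprimes
        (((Nat.Prime.coprime_iff_not_dvd p11).2 h12).pow_left 2)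
        (Dvd.intro_left t (Nat.eq_of_mul_eq_mul_left Nat.card_pos h13))
        (Subgroup.relIndex_dvd_index_of_normal _ _))
    obtain ⟨b, hb, hbo⟩ := exists_order Nat.prime_two h7
    have h14 : N ≤ cent(g) := fun n hn => by
      by_cases e : n = 1
      · exact e ▸ one_mem _
      obtain ⟨c, rfl⟩ := isConj_iff.1
        ((hA b hb.1 (isPiElt_of_order hq hbo).2).symm.trans (hA n hn e))
      rw [mem_cent_comm, mem_cent_conj, show c⁻¹ * g * c = c⁻¹ * g * c * g⁻¹ * g by group]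
      refine mul_mem (mem_cent'.2 (h13 ?_ b hb.1)) (mem_cent_comm.1 hb.2)
      rw [MonoidHom.mem_ker, map_mul, map_mul, map_mul, Subgroup.mem_center_iff.1 hz, map_inv,
        map_inv]
      group
    have := (Subgroup.card_dvd_of_le h14).trans h6
    rw [h5] at this
    omega
  by_cases e3 : q = 3
  · subst e3
    have h4 := hpow 9 (by omega)
    rw [show cs(a) = 3 ^ m - 1 by omega] at hF hr2 hr5
    revert hF hr2 hr5
    interval_cases m <;> norm_num
  by_cases e5 : q = 5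
  · subst e5
    obtain ⟨y, -, hy⟩ := exists_order (H := (⊤ : Subgroup H)) hq
      (by rw [Subgroup.card_top]; omega)
    obtain ⟨g, rfl, h6, h7⟩ := hlift y hy
    have h8 := mul_dvd_mul (h7.trans (Subgroup.card_dvd_of_le (inf_le_inf_right _ hNk)))
      (hy ▸ Subgroup.orderOf_dvd_natCard _ ⟨g, self_mem_cent g, rfl⟩ :
        5 ∣ Nat.card ((cent(g)).map f))
    rw [← card_eq_card_inf_ker_mul_card_map] at h8
    have := h8.trans h6
    omega
  obtain ⟨j, hj⟩ : 120 ∣ cs(a) := by omega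
  have h4 : j ∣ 11 ^ 2 := Nat.dvd_of_mul_dvd_mul_left (by norm_num : 0 < 120) (hj ▸ hF)
  obtain ⟨i, hi, rfl⟩ := (Nat.dvd_prime_pow p11).1 h4
  interval_cases i
  · omega
  · have h5 : q = 1321 := (Nat.prime_dvd_prime_iff_eq hq (by norm_num)).1
      (by rwa [show Nat.card N = 1321 by omega] at hqN)
    have h6 : Subgroup.zpowers a = N := Subgroup.eq_of_le_of_card_ge (Subgroup.zpowers_le.2 ha)
      (by rw [Nat.card_zpowers, orderOf_eq_prime (h1 a ha) ha1]; omega)
    rw [hj] at hE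
    rw [← centralizer_zpowers, h6] at hE hj
    exact hc.not_dvd_index p11 (M := Subgroup.centralizer (N : Set G)) (by omega) (by omega)
  · have h5 : ∀ r : ℕ, r.Prime → r ∣ 14521 → r = q := fun r hr h =>
      (Nat.prime_dvd_prime_iff_eq hr hq).1 (hr.dvd_of_dvd_pow (n := m) (by
        rwa [show q ^ m = 14521 by omega]))
    have := h5 13 (by norm_num) (by norm_num)
    have := h5 1117 (by norm_num) (by norm_num)
    omega

theorem main {p : ℕ} [hp : Fact p.Prime] (hs : IsPSolvable p G) (hd : p ∣ Nat.card G)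
    (h : OneCl p G) : p ≤ kPi ({p}ᶜ : Set ℕ) G ∨
      (kPi ({p}ᶜ : Set ℕ) G = p - 1 ∧ Nonempty (G ≃* affineGroup (ZMod p))) ∨
      (p = 11 ∧ kPi ({p}ᶜ : Set ℕ) G = 9 ∧ Nat.card G = 121 * 120 ∧
        ∃ H : Subgroup G, IsFrobeniusComplement H ∧ Nonempty (H ≃* SL(2, ZMod 5))) := by
  by_cases hO : pPrimeCore p G = ⊥
  · obtain ⟨h1, K, S⟩ := h.exists_split hs hO hd
    rw [S.kPi_eq]
    refine (S.lower h1).imp_right (Or.imp_right ?_)
    rintro ⟨h2, h3, h4, h5, h6⟩
    exact ⟨h2, h3, by rw [← S.compl.card_mul_card, h4, h5], K, h6⟩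
  left
  have hN := (Nat.Prime.coprime_iff_not_dvd hp.out).1 (pPrimeCore_coprime p G).symm
  have hs' := QuotientGroup.mk'_surjective (pPrimeCore p G)
  obtain ⟨h1, K, S⟩ := (h.of_surjective _ hs').exists_split (CL.Loc.isPSolvable_quotient hs _)
    (pPrimeCore_quotient_pPrimeCore p G) (((Nat.Prime.dvd_mul hp.out).1
      (Subgroup.card_eq_card_quotient_mul_card_subgroup (pPrimeCore p G) ▸ hd)).resolve_right hN)
  obtain ⟨f, hf, hk⟩ := S.exists_hom
  have h2 : pPrimeCore p G ≤ (f.comp (QuotientGroup.mk' _)).ker := fun x hx => by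
    rw [MonoidHom.mem_ker, MonoidHom.comp_apply, QuotientGroup.mk'_apply,
      (QuotientGroup.eq_one_iff x).2 hx, map_one]
  obtain ⟨a, ha, ha1⟩ := (Subgroup.bot_or_exists_ne_one _).resolve_left hO
  have hf' : Function.Surjective (f.comp (QuotientGroup.mk' (pPrimeCore p G))) := hf.comp hs'
  have h3 := kPi_add_one_le _ _ hf'
    (isPiElt_of_mem ((isPiNum_compl_singleton_iff hp.out).2 hN) ha) (h2 ha) ha1
  rw [S.kPi_compl] at h3
  rcases S.lower h1 with h4 | ⟨h4, -⟩ | ⟨rfl, h4, h5, h6, -, ⟨e⟩⟩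
  · omega
  · omega
  haveI : Fact (Even (Fintype.card (Fin 2))) := ⟨by simp⟩
  have h7 := exc _ hf' _ hO hN h2 (by
    rw [← MonoidHom.comap_ker, hk, card_comap_mk', h5]) h6 (z := e.symm (-1))
    (Subgroup.mem_center_iff.2 fun g => e.injective (by simp))
    ((e.symm.orderOf_eq _).trans (orderOf_eq_prime (by simp) fun e =>
      absurd (congrArg (fun A : SL(2, ZMod 5) => A 0 0) e) (by decide +revert))) h
  rw [S.kPi_compl] at h7
  omega

end CL.PT
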