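import Cfsg.Agent.Perm.PhanSL2

/-!
# Uniqueness of the Phan amalgam

An automorphism of `SU(2)` normalising the diagonal torus is a product of a diagonal and a field automorphism;
consecutive standard pairs can be parametrised compatibly.
-/

set_option autoImplicit false
set_option linter.unusedSectionVars false

namespace CL.Phan

open Module CL.Uni Matrix

universe u

variable {F : Type u} [Field F] [StarRing F] {q : ℕ}
variable {ι κ : Type} [Fintype ι] [DecidableEq ι] [Fintype κ] [DecidableEq κ]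

theorem star_comm_aut (h : IsBar (starRingEnd F) q) (τ : F ≃+* F) (x : F) : τ (star x) = star (τ x) := by
  rw [← starRingEnd_apply, ← starRingEnd_apply, h.apply, h.apply, map_pow]

theorem map_star_aut (h : IsBar (starRingEnd F) q) (τ : F ≃+* F) (P : Matrix κ ι F) :
    Pᴴ.map τ = (P.map τ)ᴴ := by
  ext i j; simp [star_comm_aut h]

/-- Field automorphisms act entrywise. -/
def fieldHom (h : IsBar (starRingEnd F) q) (τ : F ≃+* F) : SUs ι F →* SUs ι F where
  toFun A := mkSU (A.1.map τ) (by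
      rw [← map_star_aut h, ← Matrix.map_mul, su_star_mul, Matrix.map_one _ (map_zero τ) (map_one τ)])
    (by rw [← RingEquiv.mapMatrix_apply, ← RingEquiv.map_det, su_det, map_one])
  map_one' := Subtype.ext (Matrix.map_one _ (map_zero τ) (map_one τ))
  map_mul' _ _ := Subtype.ext Matrix.map_mul

theorem diag_iso {d : ι → F} (hd : ∀ i, d i * star (d i) = 1) : (diagonal d)ᴴ * diagonal d = 1 := by
  rw [diagonal_conjTranspose, diagonal_mul_diagonal, ← diagonal_one]
  congr 1
  ext i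
  rw [Pi.star_apply, mul_comm, hd]

/-- The product of a diagonal and a field automorphism. -/
def stdHom (h : IsBar (starRingEnd F) q) (d : ι → F) (hd : ∀ i, d i * star (d i) = 1) (τ : F ≃+* F) :
    SUs ι F →* SUs ι F := (emb (diagonal d) (diag_iso hd)).comp (fieldHom h τ)

theorem stdHom_apply (h : IsBar (starRingEnd F) q) (d : ι → F) (hd : ∀ i, d i * star (d i) = 1) (τ : F ≃+* F)
    (A : SUs ι F) (i j : ι) : (stdHom h d hd τ A).1 i j = d i * τ (A.1 i j) * star (d j) := by
  show embM (diagonal d) (A.1.map τ) i j = _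
  rw [embM_of_unitary (mul_eq_one_comm.1 (diag_iso hd)), diagonal_conjTranspose, mul_diagonal, diagonal_mul]
  rfl

theorem stdHom_emb (h : IsBar (starRingEnd F) q) (d : κ → F) (hd : ∀ i, d i * star (d i) = 1) (τ : F ≃+* F)
    {f : ι → κ} (hf : (Pm F f)ᴴ * Pm F f = 1) (A : SUs ι F) :
    stdHom h d hd τ (emb _ hf A) = emb _ hf (stdHom h (d ∘ f) (fun i => hd (f i)) τ A) := by
  apply Subtype.ext
  show embM (diagonal d) ((embM (Pm F f) A.1).map τ) = embM (Pm F f) (embM (diagonal (d ∘ f)) (A.1.map τ))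
  have e1 : (Pm F f).map τ = Pm F f := by
    ext i j; simp [Pm, one_apply, apply_ite τ]
  have e2 : (embM (Pm F f) A.1).map τ = embM (Pm F f) (A.1.map τ) := by
    rw [embM, Matrix.map_add _ (map_add τ), Matrix.map_mul, Matrix.map_mul, map_star_aut h, e1,
      Matrix.map_sub _ (map_sub τ), Matrix.map_one _ (map_zero τ) (map_one τ),
      Matrix.map_one _ (map_zero τ) (map_one τ), embM]
  have e3 : diagonal d * Pm F f = Pm F f * diagonal (d ∘ f) := by
    ext i j
    rw [diagonal_mul, mul_diagonal]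
    by_cases e : i = f j <;> simp [Pm, one_apply, e]
  rw [e2, embM_embM, embM_embM, e3]

theorem stdHom_injective (h : IsBar (starRingEnd F) q) (d : ι → F) (hd : ∀ i, d i * star (d i) = 1)
    (τ : F ≃+* F) : Function.Injective (stdHom h d hd τ) := by
  intro A A' e
  have e1 : fieldHom h τ A = fieldHom h τ A' := emb_injective (diag_iso hd) e
  have e2 : A.1.map τ = A'.1.map τ := congrArg Subtype.val e1
  exact Subtype.ext (map_injective τ.injective e2)

theorem finite_su (h : IsBar (starRingEnd F) q) : Finite (SUs ι F) :=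
  have := h.finite
  inferInstanceAs (Finite (Matrix.specialUnitaryGroup ι F))

theorem stdHom_surjective (h : IsBar (starRingEnd F) q) (d : ι → F) (hd : ∀ i, d i * star (d i) = 1)
    (τ : F ≃+* F) : Function.Surjective (stdHom h d hd τ) :=
  have := finite_su (ι := ι) h
  Finite.surjective_of_injective (stdHom_injective h d hd τ)

/-- The standard automorphisms. -/
noncomputable def stdAut (h : IsBar (starRingEnd F) q) (d : ι → F) (hd : ∀ i, d i * star (d i) = 1)
    (τ : F ≃+* F) : MulAut (SUs ι F) :=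
  MulEquiv.ofBijective (stdHom h d hd τ) ⟨stdHom_injective h d hd τ, stdHom_surjective h d hd τ⟩

theorem exists_norm_one_ne (h : IsBar (starRingEnd F) q) : ∃ l : F, l * star l = 1 ∧ l ≠ star l := by
  obtain ⟨l, hl⟩ := h.exists_primitiveRoot
  have h2 := h.two_le
  have e : l * star l = 1 := by rw [← starRingEnd_apply, h.norm_eq_pow, hl.pow_eq_one]
  refine ⟨l, e, fun e' => ?_⟩
  rw [← e', ← pow_two] at e
  have := Nat.le_of_dvd (by omega) (hl.dvd_of_pow_eq_one 2 e)
  omega

theorem hd_two {ν : F} (hν : ν * star ν = 1) : ∀ i : Fin 2, ![1, ν] i * star (![1, ν] i) = 1 := by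
  intro i; fin_cases i <;> simp [hν]

/-- The automorphisms of `SU(2)` normalising the diagonal torus. -/
def normD (F : Type u) [Field F] [StarRing F] : Subgroup (MulAut (SUs (Fin 2) F)) where
  carrier := {θ | ∀ u, u.1 1 0 = 0 ↔ (θ u).1 1 0 = 0}
  one_mem' _ := Iff.rfl
  mul_mem' {a b} ha hb u := (hb u).trans (ha (b u))
  inv_mem' {a} ha u := by rw [ha (a⁻¹ u), MulAut.apply_inv_self]

theorem mem_normD_of (h : IsBar (starRingEnd F) q) {θ : MulAut (SUs (Fin 2) F)}
    (hθ : ∀ u, u.1 1 0 = 0 → (θ u).1 1 0 = 0) : θ ∈ normD F := by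
  have := finite_su (ι := Fin 2) h
  intro u
  refine ⟨hθ u, fun e => ?_⟩
  have h1 : Set.BijOn θ {u | u.1 1 0 = 0} {u | u.1 1 0 = 0} :=
    (Set.Finite.injOn_iff_bijOn_of_mapsTo (Set.toFinite _) hθ).1 θ.injective.injOn
  obtain ⟨v, hv, e'⟩ := h1.surjOn e
  rwa [← θ.injective e']

theorem card_normD_comap_le (h : IsBar (starRingEnd F) q) :
    Nat.card ((normD F).comap MulAut.conj) ≤ (q + 1) + (q + 1) := by
  classical
  have := h.finite
  obtain ⟨l, l1, l2⟩ := exists_norm_one_ne h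
  have key : ∀ g : (normD F).comap MulAut.conj, g.1.1 1 0 ≠ 0 → g.1.1 0 0 = 0 := by
    rintro ⟨g, hg⟩ h1
    have h2 := (hg (su2 l 0 (by simpa using l1))).1 (by simp [su2_coe])
    rw [MulAut.conj_apply, su_coe_mul, su_coe_mul, su_coe_inv, eq_su2 g] at h2
    simp [su2_coe, mul_apply, Fin.sum_univ_two] at h2
    have h3 : star (g.1 0 0) * (g.1 1 0 * (l - star l)) = 0 := by linear_combination h2
    simpa [h1, sub_ne_zero.2 l2] using h3
  rw [← h.card_norm_one, ← Nat.card_sum]
  refine Nat.card_le_card_of_injective (fun g => if e : g.1.1 1 0 = 0 then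
    Sum.inl ⟨g.1.1 0 0, by simpa [e, starRingEnd_apply] using su2_norm g.1⟩ else
    Sum.inr ⟨g.1.1 1 0, by simpa [key g e, starRingEnd_apply] using su2_norm g.1⟩) fun g g' e => Subtype.ext ?_
  by_cases h1 : g.1.1 1 0 = 0 <;> by_cases h2 : g'.1.1 1 0 = 0 <;> simp [h1, h2] at e
  · exact su2_ext e (h1.trans h2.symm)
  · exact su2_ext ((key g h1).trans (key g' h2).symm) e

theorem card_normD_le (h : IsBar (starRingEnd F) q) : Nat.card (normD F) ≤ (q + 1) * Nat.card (F ≃+* F) := by
  have := finite_su (ι := Fin 2) h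
  have h1 := card_aut_su2_le h
  have h2 := card_normD_comap_le h
  have h3 : ((normD F).comap MulAut.conj).index ≤ (normD F).index := by
    rw [Subgroup.index_comap, ← Subgroup.relIndex_top_right]
    exact Subgroup.relIndex_le_of_le_right le_top (by
      rw [Subgroup.relIndex_top_right]; exact Subgroup.index_ne_zero_of_finite)
  rw [← (normD F).index_mul_card, ← ((normD F).comap MulAut.conj).index_mul_card] at h1
  have h4 : 0 < (normD F).index := Nat.pos_of_ne_zero Subgroup.index_ne_zero_of_finite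
  have h5 := h1.trans (Nat.mul_le_mul_left _ (Nat.mul_le_mul h3 h2))
  refine Nat.le_of_mul_le_mul_left (c := 2 * (normD F).index) ?_ (by omega)
  calc _ = 2 * ((normD F).index * Nat.card (normD F)) := by ring
    _ ≤ _ := h5
    _ = _ := by ring

theorem exists_std_of_normD (h : IsBar (starRingEnd F) q) {θ : MulAut (SUs (Fin 2) F)} (hθ : θ ∈ normD F) :
    ∃ (ν : F) (hν : ν * star ν = 1) (τ : F ≃+* F), ∀ u, θ u = stdHom h ![1, ν] (hd_two hν) τ u := by
  have := finite_su (ι := Fin 2) h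
  let j : {x : F // x * starRingEnd F x = 1} × (F ≃+* F) → normD F := fun x =>
    ⟨stdAut h ![1, x.1.1] (hd_two x.1.2) x.2, fun u => by
      have h0 : x.1.1 ≠ 0 := fun e => by simpa [e] using x.1.2
      show _ ↔ (stdHom h _ (hd_two x.1.2) _ u).1 1 0 = 0
      simp [stdHom_apply, h0]⟩
  have hj : Function.Injective j := by
    rintro ⟨⟨ν, hν⟩, τ⟩ ⟨⟨ν', hν'⟩, τ'⟩ e
    have e1 : ∀ u, stdHom h ![1, ν] (hd_two hν) τ u = stdHom h ![1, ν'] (hd_two hν') τ' u :=
      fun u => DFunLike.congr_fun (congrArg Subtype.val e) u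
    refine Prod.ext (Subtype.ext ?_) (RingEquiv.ext fun a => ?_)
    · simpa [stdHom_apply, su2_coe] using congrArg (fun A : SUs (Fin 2) F => A.1 1 0) (e1 (su2 0 1 (by simp)))
    · obtain ⟨b, hb⟩ := h.exists_norm_eq (a := 1 - a * starRingEnd F a) (by rw [map_sub, map_one, h.norm_fixed])
      have hab : a * star a + b * star b = 1 := by rw [← starRingEnd_apply, ← starRingEnd_apply, hb]; ring
      have := congrArg (fun A : SUs (Fin 2) F => A.1 0 0) (e1 (su2 a b hab))
      simp only [stdHom_apply, su2_coe] at this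
      simpa using this
  obtain ⟨⟨⟨ν, hν⟩, τ⟩, e⟩ := (hj.bijective_of_nat_card_le (by
    rw [Nat.card_prod, h.card_norm_one]; exact card_normD_le h)).2 ⟨θ, hθ⟩
  exact ⟨ν, hν, τ, fun u => (DFunLike.congr_fun (congrArg Subtype.val e) u).symm⟩

theorem al_two (u : SUs (Fin 2) F) : (al F 2 u).1 = !![u.1 0 0, u.1 0 1, 0; u.1 1 0, u.1 1 1, 0; 0, 0, 1] := by
  ext i j
  fin_cases i <;> fin_cases j <;> simp [al, emb_coe, embM, Pm, mul_apply, Fin.sum_univ_succ, one_apply]

theorem be_two (u : SUs (Fin 2) F) : (be F 2 u).1 = !![1, 0, 0; 0, u.1 0 0, u.1 0 1; 0, u.1 1 0, u.1 1 1] := by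
  ext i j
  fin_cases i <;> fin_cases j <;> simp [be, emb_coe, embM, Pm, mul_apply, Fin.sum_univ_succ, one_apply]

variable {G : Type*} [Group G]

/-- The kernel consists of scalar matrices. -/
def Good (φ : SUs ι F →* G) : Prop := ∀ g, φ g = 1 → ∃ c : F, g.1 = c • (1 : Matrix ι ι F)

theorem Good.al_injective {m : ℕ} {φ : SUs (Fin (m + 1)) F →* G} (hφ : Good φ) :
    Function.Injective (φ.comp (al F m)) := by
  rw [injective_iff_map_eq_one]
  intro u hu
  obtain ⟨c, hc⟩ := hφ _ hu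
  have h1 := al_eL u
  rw [hc, smul_mulVec, one_mulVec] at h1
  obtain rfl : c = 1 := by simpa using congrFun h1 (Fin.last m)
  exact Phan.al_injective (Subtype.ext (by rw [hc, one_smul, map_one]; rfl))

theorem Good.be_injective {m : ℕ} {φ : SUs (Fin (m + 1)) F →* G} (hφ : Good φ) :
    Function.Injective (φ.comp (be F m)) := by
  rw [injective_iff_map_eq_one]
  intro u hu
  obtain ⟨c, hc⟩ := hφ _ hu
  have h1 := be_e0 u
  rw [hc, smul_mulVec, one_mulVec] at h1
  obtain rfl : c = 1 := by simpa using congrFun h1 0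
  exact Phan.be_injective (Subtype.ext (by rw [hc, one_smul, map_one]; rfl))

theorem Good.comp_std (h : IsBar (starRingEnd F) q) {φ : SUs ι F →* G} (hφ : Good φ) (d : ι → F)
    (hd : ∀ i, d i * star (d i) = 1) (τ : F ≃+* F) : Good (φ.comp (stdHom h d hd τ)) := by
  intro g hg
  obtain ⟨c, hc⟩ := hφ _ hg
  refine ⟨τ.symm c, ?_⟩
  ext i j
  have h1 := congrFun (congrFun hc i) j
  rw [stdHom_apply] at h1
  apply τ.injective
  have : τ (g.1 i j) = star (d i) * (d i * τ (g.1 i j) * star (d j)) * d j := by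
    linear_combination -τ (g.1 i j) * (hd i) - d i * star (d i) * τ (g.1 i j) * hd j
  rw [this, h1]
  by_cases e : i = j
  · subst e
    simp
    linear_combination c * hd i
  · simp [e]

theorem Good.eq_one_of_commute {φ : SUs (Fin 3) F →* G} (hφ : Good φ) {A : SUs (Fin 2) F}
    (hA : ∀ v, Commute (φ (al F 2 A)) (φ (be F 2 v))) : A = 1 := by
  set w : SUs (Fin 2) F := su2 0 1 (by simp) with hw
  obtain ⟨c, hc⟩ := hφ (al F 2 A * be F 2 w * (be F 2 w * al F 2 A)⁻¹) (by
    rw [map_mul, map_inv, map_mul, map_mul, (hA w).eq, mul_inv_cancel])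
  have h1 : (al F 2 A * be F 2 w).1 = c • (be F 2 w * al F 2 A).1 := by
    rw [← inv_mul_cancel_right (al F 2 A * be F 2 w) (be F 2 w * al F 2 A), su_coe_mul, hc, Matrix.smul_mul,
      Matrix.one_mul]
  rw [su_coe_mul, su_coe_mul, al_two, be_two, eq_su2 A] at h1
  have h2 := su2_norm A
  have a1 := congrFun (congrFun h1 1) 0
  have a2 := congrFun (congrFun h1 0) 0
  have a3 := congrFun (congrFun h1 1) 2
  simp [hw, su2_coe] at a1 a2 a3
  rw [a1] at h2
  have a4 : c = 1 := by linear_combination -c * h2 - star (A.1 0 0) * a2 + h2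
  rw [a4, star_eq_iff_star_eq, star_one] at a3
  exact su2_ext a3.symm a1

theorem conj_be_mem {m : ℕ} {g : SUs (Fin (m + 1)) F} {c : F} (hg : g.1 *ᵥ e0 F m = c • e0 F m) (v) :
    ∃ v', g⁻¹ * be F m v * g = be F m v' := by
  obtain ⟨v', hv⟩ := mem_range_be.2 (show (g⁻¹ * be F m v * g).1 *ᵥ e0 F m = e0 F m by
    rw [su_mul_mulVec, su_mul_mulVec, hg, mulVec_smul, be_e0, ← hg, su_inv_mulVec])
  exact ⟨v', hv.symm⟩

theorem al_diag_e0 {d : SUs (Fin 2) F} (hd : d.1 1 0 = 0) : (al F 2 d).1 *ᵥ e0 F 2 = d.1 0 0 • e0 F 2 := by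
  rw [al_two]
  ext i
  fin_cases i <;> simp [hd]

/-- The two tori of the middle subgroup coincide. -/
theorem tori (h : IsBar (starRingEnd F) q) {φ φ' : SUs (Fin 3) F →* G} (hφ : Good φ) (hφ' : Good φ')
    (hr : ∀ u, ∃ v, φ (be F 2 u) = φ' (al F 2 v)) (hc : ∀ u v, Commute (φ (al F 2 u)) (φ' (be F 2 v)))
    {A d : SUs (Fin 2) F} (e : φ (be F 2 A) = φ' (al F 2 d)) (hd : d.1 1 0 = 0) : A.1 1 0 = 0 := by
  obtain ⟨l, l1, l2⟩ := exists_norm_one_ne h
  set t : SUs (Fin 2) F := su2 l 0 (by simpa using l1) with ht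
  obtain ⟨A', hA'⟩ := conj_be_mem (al_diag_e0 (d := t) (by simp [ht, su2_coe])) A
  obtain ⟨d', hd'⟩ := hr A'
  have h1 : d' * d⁻¹ = 1 := by
    refine hφ'.eq_one_of_commute fun v => ?_
    obtain ⟨v', hv⟩ := conj_be_mem (al_diag_e0 hd) v
    have e1 : (φ' (al F 2 d))⁻¹ * φ' (be F 2 v) * φ' (al F 2 d) = φ' (be F 2 v') := by
      rw [← hv, map_mul, map_mul, map_inv]
    rw [map_mul, map_mul, map_inv, map_inv, ← hd', ← hA', map_mul, map_mul, map_inv, e]
    have c1 := (hc t v).eq
    have c2 := (hc t v').eq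
    generalize φ (al F 2 t) = T, φ' (al F 2 d) = s, φ' (be F 2 v) = x, φ' (be F 2 v') = y at e1 c1 c2 ⊢
    subst e1
    show _ * x = x * _
    calc T⁻¹ * s * T * s⁻¹ * x = T⁻¹ * s * (T * (s⁻¹ * x * s)) * s⁻¹ := by group
      _ = T⁻¹ * (x * T) * T⁻¹ * s * T * s⁻¹ := by rw [c2]; group
      _ = _ := by rw [← c1]; group
  rw [mul_inv_eq_one] at h1
  rw [h1, ← e] at hd'
  obtain rfl : A' = A := hφ.be_injective hd'
  have h2 := congrArg (fun g : SUs (Fin 3) F => g.1 2 1) hA'
  simp only [su_coe_mul, su_coe_inv, al_two, be_two] at h2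
  simp [ht, su2_coe, mul_apply, Fin.sum_univ_succ] at h2
  by_contra h0
  have : star l = 1 := mul_left_cancel₀ h0 (h2.trans (mul_one _).symm)
  rw [this, mul_one] at l1
  exact l2 (l1.trans this.symm)

theorem range_comp_std (h : IsBar (starRingEnd F) q) (φ : SUs κ F →* G) (d : κ → F)
    (hd : ∀ i, d i * star (d i) = 1) (τ : F ≃+* F) {f : ι → κ} (hf : (Pm F f)ᴴ * Pm F f = 1) :
    ((φ.comp (stdHom h d hd τ)).comp (emb _ hf)).range = (φ.comp (emb _ hf)).range := by
  have : (φ.comp (stdHom h d hd τ)).comp (emb _ hf) =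
      (φ.comp (emb _ hf)).comp (stdHom h (d ∘ f) (fun i => hd (f i)) τ) :=
    MonoidHom.ext fun A => congrArg φ (stdHom_emb h d hd τ hf A)
  rw [this, MonoidHom.range_comp, MonoidHom.range_eq_top.2 (stdHom_surjective h _ _ τ), ← MonoidHom.range_eq_map]

theorem exists_aut_of_range_eq {H : Type*} [Group H] {f g : H →* G} (hf : Function.Injective f)
    (hg : Function.Injective g) (e : f.range = g.range) : ∃ θ : MulAut H, ∀ u, f u = g (θ u) :=
  ⟨((MonoidHom.ofInjective hf).trans (MulEquiv.subgroupCongr e)).trans (MonoidHom.ofInjective hg).symm,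
    fun u => (MonoidHom.apply_ofInjective_symm hg ⟨f u, e ▸ ⟨u, rfl⟩⟩).symm⟩

/-- Consecutive standard pairs can be parametrised compatibly. -/
theorem exists_adjust (h : IsBar (starRingEnd F) q) {φ φ' : SUs (Fin 3) F →* G} (hφ : Good φ) (hφ' : Good φ')
    (hr : (φ.comp (be F 2)).range = (φ'.comp (al F 2)).range)
    (hc : ∀ u v, Commute (φ (al F 2 u)) (φ' (be F 2 v))) :
    ∃ ψ : SUs (Fin 3) F →* G, Good ψ ∧ φ.comp (be F 2) = ψ.comp (al F 2) ∧ ψ.range = φ'.range ∧
      (ψ.comp (be F 2)).range = (φ'.comp (be F 2)).range := by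
  obtain ⟨θ, hθ⟩ := exists_aut_of_range_eq hφ.be_injective hφ'.al_injective hr
  have h1 : θ⁻¹ ∈ normD F := mem_normD_of h fun d hd =>
    tori h hφ hφ' (fun u => ⟨_, hθ u⟩) hc (d := d) ((hθ _).trans (by rw [MulAut.apply_inv_self]; rfl)) hd
  obtain ⟨ν, hν, τ, e⟩ := exists_std_of_normD h ((normD F).inv_mem_iff.1 h1)
  have hd : ∀ i : Fin 3, ![1, ν, 1] i * star (![1, ν, 1] i) = 1 := by
    intro i; fin_cases i <;> simp [hν]
  refine ⟨φ'.comp (stdHom h _ hd τ), hφ'.comp_std h _ hd τ, MonoidHom.ext fun u => ?_, ?_,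
    range_comp_std h φ' _ hd τ _⟩
  · rw [hθ, e]
    refine congrArg φ' (Eq.trans ?_ (stdHom_emb h _ hd τ _ u).symm)
    have : (![1, ν] : Fin 2 → F) = ![1, ν, 1] ∘ Fin.castSucc := by
      ext i
      fin_cases i <;> rfl
    show al F 2 _ = al F 2 _
    simp only [this]
  · rw [MonoidHom.range_comp, MonoidHom.range_eq_top.2 (stdHom_surjective h _ _ τ), ← MonoidHom.range_eq_map]

end CL.Phan
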