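import Cfsg.Agent.Perm.PhanStd

/-!
# Rank three Phan systems inside a quotient of `SU(4)`
-/

set_option autoImplicit false
set_option linter.unusedSectionVars false

namespace CL.Phan

open Module CL.Uni Matrix
open scoped MatrixGroups

universe u

variable {F : Type u} [Field F] [StarRing F] {q : ℕ} {G : Type*} [Group G]
variable {ι κ : Type} [Fintype ι] [DecidableEq ι] [Fintype κ] [DecidableEq κ]

theorem aut_eq_of_norm_one (h : IsBar (starRingEnd F) q) {τ τ' : F ≃+* F}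
    (e : ∀ x : F, x * star x = 1 → τ x = τ' x) : τ = τ' := by
  have := h.finite
  let E : Subfield F := (τ : F →+* F).eqLocusField (τ' : F →+* F)
  have h1 : q + 1 ≤ Nat.card E := by
    rw [← h.card_norm_one]
    exact Nat.card_le_card_of_injective (fun x => ⟨x.1, e x.1 x.2⟩) fun x y e =>
      Subtype.ext (congrArg Subtype.val e :)
  have h2 := Module.natCard_eq_pow_finrank (K := E) (V := F)
  rw [h.card] at h2
  have h3 : finrank E F = 1 := by
    by_contra hne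
    have h4 : 0 < finrank E F := Module.finrank_pos
    have h5 : Nat.card E ^ 2 ≤ Nat.card E ^ finrank E F := Nat.pow_le_pow_right (by omega) (by omega)
    have h6 : (q + 1) ^ 2 ≤ Nat.card E ^ 2 := Nat.pow_le_pow_left h1 2
    nlinarith
  rw [h3, pow_one, ← h.card] at h2
  have h4 : E.toSubring.toAddSubgroup = ⊤ := AddSubgroup.eq_top_of_card_eq _ h2.symm
  ext x
  exact (h4 ▸ AddSubgroup.mem_top x : x ∈ E.toSubring.toAddSubgroup)

theorem std_two_inj (h : IsBar (starRingEnd F) q) {ν ν' : F} (hν : ν * star ν = 1) (hν' : ν' * star ν' = 1)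
    {τ τ' : F ≃+* F} (e : ∀ u, stdHom h ![1, ν] (hd_two hν) τ u = stdHom h ![1, ν'] (hd_two hν') τ' u) :
    ν = ν' ∧ τ = τ' := by
  refine ⟨?_, aut_eq_of_norm_one h fun a ha => ?_⟩
  · simpa [stdHom_apply, su2_coe] using congrArg (fun A : SUs (Fin 2) F => A.1 1 0) (e (su2 0 1 (by simp)))
  · have := congrArg (fun A : SUs (Fin 2) F => A.1 0 0) (e (su2 a 0 (by simpa using ha)))
    simp only [stdHom_apply, su2_coe] at this
    simpa using this

theorem Good.exists_smul {φ : SUs ι F →* G} (hφ : Good φ) {x y : SUs ι F} (e : φ x = φ y) :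
    ∃ c : F, x.1 = c • y.1 := by
  obtain ⟨c, hc⟩ := hφ (x * y⁻¹) (by rw [map_mul, map_inv, e, mul_inv_cancel])
  exact ⟨c, by rw [← inv_mul_cancel_right x y, su_coe_mul, hc, Matrix.smul_mul, Matrix.one_mul]⟩

theorem conj_al_mem {m : ℕ} {g : SUs (Fin (m + 1)) F} {c : F} (hg : g.1 *ᵥ eL F m = c • eL F m) (v) :
    ∃ v', g⁻¹ * al F m v * g = al F m v' := by
  obtain ⟨v', hv⟩ := mem_range_al.2 (show (g⁻¹ * al F m v * g).1 *ᵥ eL F m = eL F m by
    rw [su_mul_mulVec, su_mul_mulVec, hg, mulVec_smul, al_eL, ← hg, su_inv_mulVec])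
  exact ⟨v', hv.symm⟩

theorem su2_zero_one {d : SUs (Fin 2) F} : d.1 0 1 = 0 ↔ d.1 1 0 = 0 := by
  conv_lhs => rw [eq_su2 d]
  simp [su2_coe]

theorem be_diag_eL {d : SUs (Fin 2) F} (hd : d.1 1 0 = 0) : (be F 2 d).1 *ᵥ eL F 2 = d.1 1 1 • eL F 2 := by
  rw [be_two]
  ext i
  fin_cases i <;> simp [su2_zero_one.2 hd, eL, Fin.ext_iff]

/-- Two parametrisations of a standard pair differ by a standard automorphism on the blocks. -/
theorem exists_std_blocks (h : IsBar (starRingEnd F) q) {φ χ : SUs (Fin 3) F →* G} (hφ : Good φ) (hχ : Good χ)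
    (h1 : (φ.comp (al F 2)).range = (χ.comp (al F 2)).range)
    (h2 : (φ.comp (be F 2)).range = (χ.comp (be F 2)).range) :
    ∃ (ν : F) (hν : ν * star ν = 1) (ν' : F) (hν' : ν' * star ν' = 1) (τ : F ≃+* F),
      (∀ u, φ (al F 2 u) = χ (al F 2 (stdHom h ![1, ν] (hd_two hν) τ u))) ∧
      ∀ u, φ (be F 2 u) = χ (be F 2 (stdHom h ![1, ν'] (hd_two hν') τ u)) := by
  obtain ⟨θ, hθ⟩ := exists_aut_of_range_eq hφ.al_injective hχ.al_injective h1
  obtain ⟨θ', hθ'⟩ := exists_aut_of_range_eq hφ.be_injective hχ.be_injective h2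
  replace hθ : ∀ u, φ (al F 2 u) = χ (al F 2 (θ u)) := hθ
  replace hθ' : ∀ u, φ (be F 2 u) = χ (be F 2 (θ' u)) := hθ'
  set w : SUs (Fin 2) F := su2 0 1 (by simp) with hw
  have a1 : θ ∈ normD F := mem_normD_of h fun d hd => by
    obtain ⟨v, hv⟩ := conj_be_mem (al_diag_e0 hd) (θ'⁻¹ w)
    have e : χ (be F 2 w * al F 2 (θ d)) = χ (al F 2 (θ d) * be F 2 (θ' v)) := by
      rw [map_mul, map_mul, ← hθ, ← hθ', ← hv, ← MulAut.apply_inv_self _ θ' w, ← hθ', MulAut.inv_apply_self,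
        ← map_mul, ← map_mul]
      congr 1
      group
    obtain ⟨c, hc⟩ := hχ.exists_smul e
    have := congrFun (congrFun hc 2) 0
    rw [su_coe_mul, su_coe_mul, al_two, be_two, be_two] at this
    simpa [hw, su2_coe] using this
  have a2 : θ' ∈ normD F := mem_normD_of h fun d hd => by
    obtain ⟨v, hv⟩ := conj_al_mem (be_diag_eL hd) (θ⁻¹ w)
    have e : χ (al F 2 w * be F 2 (θ' d)) = χ (be F 2 (θ' d) * al F 2 (θ v)) := by
      rw [map_mul, map_mul, ← hθ, ← hθ', ← hv, ← MulAut.apply_inv_self _ θ w, ← hθ, MulAut.inv_apply_self,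
        ← map_mul, ← map_mul]
      congr 1
      group
    obtain ⟨c, hc⟩ := hχ.exists_smul e
    have := congrFun (congrFun hc 0) 2
    rw [su_coe_mul, su_coe_mul, al_two, be_two, al_two] at this
    exact su2_zero_one.1 (by simpa [hw, su2_coe] using this)
  obtain ⟨ν, hν, τ, e⟩ := exists_std_of_normD h a1
  obtain ⟨ν', hν', τ', e'⟩ := exists_std_of_normD h a2
  obtain rfl : τ = τ' := aut_eq_of_norm_one h fun l hl => by
    set t : SUs (Fin 2) F := su2 l 0 (by simpa using hl) with ht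
    set w' : SUs (Fin 2) F := su2 0 l (by simpa using hl) with hw'
    have b1 : al F 2 t * be F 2 w = be F 2 w' * al F 2 t := by
      apply Subtype.ext
      rw [su_coe_mul, su_coe_mul, al_two, be_two, be_two]
      simp [hw, hw', ht, su2_coe, hl]
    have b2 := congrArg φ b1
    rw [map_mul, map_mul, hθ, hθ', hθ', ← map_mul, ← map_mul] at b2
    obtain ⟨c, hc⟩ := hχ.exists_smul b2
    rw [su_coe_mul, su_coe_mul, al_two, be_two, be_two, e, e', e'] at hc
    have c1 := congrFun (congrFun hc 0) 0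
    have c2 := congrFun (congrFun hc 2) 1
    simp [stdHom_apply, hw, hw', ht, su2_coe] at c1 c2
    have l1 : τ l * τ (star l) = 1 := by rw [← map_mul, hl, map_one]
    have c3 : c = 1 := by linear_combination -τ (star l) * c1 - (c - 1) * l1
    subst c3
    linear_combination τ l * star ν' * c2 + τ' l * (ν * star ν) * (ν' * star ν') * l1 +
      τ' l * (ν' * star ν') * hν + (τ' l - τ l) * hν'
  exact ⟨ν, hν, ν', hν', τ, fun u => by rw [hθ, e], fun u => by rw [hθ', e']⟩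

/-- The middle block of `SU(4)`. -/
abbrev mid (F : Type u) [Field F] [StarRing F] : SUs (Fin 2) F →* SUs (Fin 4) F := (al F 3).comp (be F 2)

theorem Good.comp_al {m : ℕ} {φ : SUs (Fin (m + 1)) F →* G} (hφ : Good φ) : Good (φ.comp (al F m)) :=
  fun g hg => ⟨1, by rw [(injective_iff_map_eq_one _).1 hφ.al_injective g hg, one_smul, su_coe_one]⟩

theorem Good.comp_be {m : ℕ} {φ : SUs (Fin (m + 1)) F →* G} (hφ : Good φ) : Good (φ.comp (be F m)) :=
  fun g hg => ⟨1, by rw [(injective_iff_map_eq_one _).1 hφ.be_injective g hg, one_smul, su_coe_one]⟩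

theorem stdHom_congr (h : IsBar (starRingEnd F) q) {d d' : ι → F} (hd : ∀ i, d i * star (d i) = 1)
    (hd' : ∀ i, d' i * star (d' i) = 1) (τ : F ≃+* F) {c : F} (hc : c * star c = 1) (e : ∀ i, d i = c * d' i)
    (A : SUs ι F) : stdHom h d hd τ A = stdHom h d' hd' τ A := by
  apply Subtype.ext
  ext i j
  rw [stdHom_apply, stdHom_apply, e, e, star_mul']
  linear_combination d' i * τ (A.1 i j) * star (d' j) * hc

theorem stdHom_al (h : IsBar (starRingEnd F) q) {m : ℕ} (d : Fin (m + 1) → F) (hd : ∀ i, d i * star (d i) = 1)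
    (τ : F ≃+* F) (A : SUs (Fin m) F) :
    stdHom h d hd τ (al F m A) = al F m (stdHom h (d ∘ Fin.castSucc) (fun _ => hd _) τ A) :=
  stdHom_emb h d hd τ _ A

theorem stdHom_be (h : IsBar (starRingEnd F) q) {m : ℕ} (d : Fin (m + 1) → F) (hd : ∀ i, d i * star (d i) = 1)
    (τ : F ≃+* F) (A : SUs (Fin m) F) :
    stdHom h d hd τ (be F m A) = be F m (stdHom h (d ∘ Fin.succ) (fun _ => hd _) τ A) :=
  stdHom_emb h d hd τ _ A

/-- A quotient of `SU(4)` in standard position can be adjusted to agree with the given maps on the blocks. -/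
theorem exists_agree (h : IsBar (starRingEnd F) q) {φ φ' : SUs (Fin 3) F →* G} (hφ : Good φ) (hφ' : Good φ')
    (hc : φ.comp (be F 2) = φ'.comp (al F 2)) {g : SUs (Fin 4) F →* G} (hg : Good g)
    (h1 : (φ.comp (al F 2)).range = (g.comp ((al F 3).comp (al F 2))).range)
    (h2 : (φ.comp (be F 2)).range = (g.comp (mid F)).range)
    (h3 : (φ'.comp (be F 2)).range = (g.comp ((be F 3).comp (be F 2))).range) :
    ∃ ψ : SUs (Fin 4) F →* G, Good ψ ∧ ψ.range = g.range ∧ (∀ u, φ (al F 2 u) = ψ (al F 3 (al F 2 u))) ∧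
      (∀ u, φ (be F 2 u) = ψ (al F 3 (be F 2 u))) ∧ (∀ u, φ' (al F 2 u) = ψ (be F 3 (al F 2 u))) ∧
      ∀ u, φ' (be F 2 u) = ψ (be F 3 (be F 2 u)) := by
  have e0 : (g.comp (be F 3)).comp (al F 2) = g.comp (mid F) := MonoidHom.ext fun u => congrArg g (al_be u).symm
  obtain ⟨ν₁, n1, ν₂, n2, τ, a1, a2⟩ := exists_std_blocks h hφ hg.comp_al h1 h2
  obtain ⟨ν₂', n2', ν₃, n3, τ', b1, b2⟩ := exists_std_blocks h hφ' hg.comp_be (by rw [← hc, h2, e0]) h3
  obtain ⟨rfl, rfl⟩ := std_two_inj h n2 n2' (τ := τ) (τ' := τ') fun u => hg.comp_al.be_injective (by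
    have := DFunLike.congr_fun hc u
    rw [MonoidHom.comp_apply, MonoidHom.comp_apply, a2, b1] at this
    exact this.trans (DFunLike.congr_fun e0 _))
  have hd : ∀ i : Fin 4, ![1, ν₁, ν₁ * ν₂, ν₁ * ν₂ * ν₃] i * star (![1, ν₁, ν₁ * ν₂, ν₁ * ν₂ * ν₃] i) = 1 := by
    intro i
    fin_cases i
    · simp
    · simpa using n1
    · simp; linear_combination (ν₂ * star ν₂) * n1 + n2
    · simp; linear_combination (ν₃ * star ν₃) * (ν₂ * star ν₂) * n1 + (ν₃ * star ν₃) * n2 + n3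
  have c2 : ∀ u, φ (be F 2 u) = (g.comp (stdHom h _ hd τ)) (al F 3 (be F 2 u)) := fun u => by
    rw [a2, MonoidHom.comp_apply, MonoidHom.comp_apply, stdHom_al, stdHom_be]
    refine congrArg (fun x => g (al F 3 (be F 2 x))) (stdHom_congr h _ _ τ n1 (fun i => ?_) u).symm
    fin_cases i <;> simp
  refine ⟨g.comp (stdHom h _ hd τ), hg.comp_std h _ hd τ, ?_, fun u => ?_, c2, fun u => ?_, fun u => ?_⟩
  · rw [MonoidHom.range_comp, MonoidHom.range_eq_top.2 (stdHom_surjective h _ _ τ), ← MonoidHom.range_eq_map]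
  · rw [a1, MonoidHom.comp_apply, MonoidHom.comp_apply, stdHom_al, stdHom_al]
    refine congrArg (fun x => g (al F 3 (al F 2 x))) (stdHom_congr h _ _ τ (c := 1) (by simp) (fun i => ?_) u).symm
    fin_cases i <;> simp
  · rw [← al_be, ← c2]
    exact (DFunLike.congr_fun hc u).symm
  · rw [b2, MonoidHom.comp_apply, MonoidHom.comp_apply, stdHom_be, stdHom_be]
    refine congrArg (fun x => g (be F 3 (be F 2 x))) (stdHom_congr h _ _ τ (hd 2) (fun i => ?_) u).symm
    fin_cases i <;> simp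

theorem range_emb_congr {μ : Type} [Fintype μ] [DecidableEq μ] {P : Matrix κ ι F} {Q : Matrix κ μ F}
    (hP : Pᴴ * P = 1) (hQ : Qᴴ * Q = 1) (e : P * Pᴴ = Q * Qᴴ) : (emb P hP).range = (emb Q hQ).range := by
  have key : ∀ v, Pᴴ *ᵥ v = 0 ↔ Qᴴ *ᵥ v = 0 := fun v => by
    have e1 : Pᴴ = Pᴴ * Q * Qᴴ := by rw [Matrix.mul_assoc, ← e, ← Matrix.mul_assoc, hP, Matrix.one_mul]
    have e2 : Qᴴ = Qᴴ * P * Pᴴ := by rw [Matrix.mul_assoc, e, ← Matrix.mul_assoc, hQ, Matrix.one_mul]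
    constructor
    · intro hv; rw [e2, ← mulVec_mulVec, hv, mulVec_zero]
    · intro hv; rw [e1, ← mulVec_mulVec, hv, mulVec_zero]
  ext g
  simp only [mem_range_emb, key]

theorem exists_unit_of_herm (h : IsBar (starRingEnd F) q) {N : Matrix ι ι F} (h1 : Nᴴ = N) (h2 : N * N = N)
    (h0 : N ≠ 0) : ∃ a, BB ι F a a = 1 ∧ N *ᵥ a = a := by
  have H := isHerm_stdB h ι
  by_contra hne
  push Not at hne
  have h4 : ∀ v ∈ LinearMap.range (toLin' N), BB ι F v v = 0 := by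
    rintro _ ⟨v, rfl⟩
    by_contra h0
    obtain ⟨c, -, hc⟩ := Herm.exists_unit H h0
    exact hne _ hc (by rw [mulVec_smul, toLin'_apply, mulVec_mulVec, h2])
  have h3 := H.le_perp_of_isotropic h4
  apply h0
  rw [ext_iff_mulVec]
  intro v
  rw [zero_mulVec]
  refine H.nondeg' _ fun u => ?_
  have h5 := h3 ⟨v, rfl⟩ _ ⟨u, rfl⟩
  rwa [toLin'_apply, toLin'_apply, BB_mulVec, mulVec_mulVec, h1, h2] at h5

theorem exists_diag_of_herm (h : IsBar (starRingEnd F) q) {X : Matrix (Fin 2) (Fin 2) F} (h1 : Xᴴ = X)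
    (h2 : X * X = X) (h0 : X ≠ 0) (h3 : X ≠ 1) : ∃ A : SUs (Fin 2) F, X * A.1 = A.1 * !![1, 0; 0, 0] := by
  obtain ⟨a, ha, e⟩ := exists_unit_of_herm h h1 h2 h0
  obtain ⟨A, rfl⟩ := exists_su_unit h (by simp) (BB_e 0) ha
  obtain ⟨Y, hY⟩ : ∃ Y, Y = A.1ᴴ * X * A.1 := ⟨_, rfl⟩
  have a0 : X * A.1 = A.1 * Y := by
    rw [hY, ← Matrix.mul_assoc, ← Matrix.mul_assoc, su_mul_star, Matrix.one_mul]
  have a1 : Yᴴ = Y := by
    rw [hY, conjTranspose_mul, conjTranspose_mul, conjTranspose_conjTranspose, h1, Matrix.mul_assoc]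
  have a2 : Y * Y = Y := by
    nth_rw 1 [hY]
    rw [Matrix.mul_assoc, ← a0, Matrix.mul_assoc, ← Matrix.mul_assoc X, h2, hY, Matrix.mul_assoc]
  have a3 : Y *ᵥ Pi.single 0 1 = Pi.single 0 1 := by
    rw [hY, ← mulVec_mulVec, ← mulVec_mulVec, e, mulVec_mulVec, su_star_mul, one_mulVec]
  have b0 : Y 0 0 = 1 := by simpa using congrFun a3 0
  have b1 : Y 1 0 = 0 := by simpa using congrFun a3 1
  have b2 : Y 0 1 = 0 := by rw [← a1]; simp [b1]
  have b3 : Y 1 1 * Y 1 1 = Y 1 1 := by simpa [mul_apply, b1] using congrFun (congrFun a2 1) 1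
  have b4 : Y 1 1 = 0 := by
    by_contra h4
    have : Y = 1 := by
      ext i j
      fin_cases i <;> fin_cases j <;> simp [b0, b1, b2, (mul_eq_left₀ h4).1 b3]
    rw [this, Matrix.mul_one] at a0
    exact h3 (by rw [← Matrix.mul_one X, ← su_mul_star A, ← Matrix.mul_assoc, a0])
  refine ⟨A, a0.trans (congrArg _ ?_)⟩
  ext i j
  fin_cases i <;> fin_cases j <;> simp [b0, b1, b2, b4]

/-- An orthogonal decomposition. -/
structure Split (P Q : Matrix κ ι F) : Prop where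
  left : Pᴴ * P = 1
  right : Qᴴ * Q = 1
  orth : Pᴴ * Q = 0
  add : P * Pᴴ + Q * Qᴴ = 1

namespace Split

variable {P Q : Matrix κ ι F}

theorem orth' (S : Split P Q) : Qᴴ * P = 0 := by
  rw [← conjTranspose_conjTranspose P, ← conjTranspose_mul, S.orth, conjTranspose_zero]

theorem symm (S : Split P Q) : Split Q P := ⟨S.right, S.left, S.orth', by rw [add_comm, S.add]⟩

theorem mul (S : Split P Q) (k : SUs κ F) : Split (k.1 * P) (k.1 * Q) :=
  ⟨iso_mul (su_star_mul k) S.left, iso_mul (su_star_mul k) S.right, by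
    rw [conjTranspose_mul, Matrix.mul_assoc, ← Matrix.mul_assoc _ k.1, su_star_mul, Matrix.one_mul, S.orth], by
    rw [conjTranspose_mul, conjTranspose_mul, Matrix.mul_assoc, Matrix.mul_assoc, ← Matrix.mul_add,
      ← Matrix.mul_assoc P, ← Matrix.mul_assoc Q, ← Matrix.add_mul, S.add, Matrix.one_mul, su_mul_star]⟩

theorem ext (S : Split P Q) {M M' : Matrix κ κ F} (h1 : M * P = M' * P) (h2 : M * Q = M' * Q) : M = M' := by
  rw [← Matrix.mul_one M, ← Matrix.mul_one M', ← S.add, Matrix.mul_add, Matrix.mul_add, ← Matrix.mul_assoc,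
    ← Matrix.mul_assoc, ← Matrix.mul_assoc, ← Matrix.mul_assoc, h1, h2]

theorem comm (S : Split P Q) {M : Matrix κ κ F} (h : M * (P * Pᴴ) = P * Pᴴ * M) :
    M * (Q * Qᴴ) = Q * Qᴴ * M := by
  rw [← sub_eq_iff_eq_add'.2 S.add.symm, Matrix.mul_sub, Matrix.sub_mul, h, Matrix.mul_one, Matrix.one_mul]

end Split

theorem mul_eq_of_comm {P : Matrix κ ι F} (hP : Pᴴ * P = 1) {M : Matrix κ κ F}
    (h : M * (P * Pᴴ) = P * Pᴴ * M) : M * P = P * (Pᴴ * M * P) := by
  rw [← Matrix.mul_assoc, ← Matrix.mul_assoc, ← h, Matrix.mul_assoc, Matrix.mul_assoc, hP, Matrix.mul_one]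

theorem embM_mul_of_orth {μ : Type} [Fintype μ] {P : Matrix κ ι F} {Q : Matrix κ μ F} (h : Pᴴ * Q = 0)
    (A : Matrix ι ι F) : embM P A * Q = Q := by
  rw [embM, Matrix.add_mul, Matrix.mul_assoc, h, Matrix.mul_zero, add_zero, Matrix.one_mul]

/-- The blocks of an element of order dividing the characteristic that preserves the decomposition. -/
theorem Split.exists_blocks {P Q : Matrix κ ι F} (S : Split P Q) {p : ℕ} [Fact p.Prime] [CharP F p] {M : SUs κ F}
    (h : M.1 * (P * Pᴴ) = P * Pᴴ * M.1) (hM : M ^ p = 1) : ∃ X Y : SUs ι F, X ^ p = 1 ∧ Y ^ p = 1 ∧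
      M = emb P S.left X * emb Q S.right Y := by
  have key : ∀ {P : Matrix κ ι F}, Pᴴ * P = 1 → M.1 * (P * Pᴴ) = P * Pᴴ * M.1 →
      ∃ X : SUs ι F, X ^ p = 1 ∧ M.1 * P = P * X.1 := by
    intro P hP h
    have h1 := mul_eq_of_comm hP h
    obtain ⟨X, hX⟩ : ∃ X, X = Pᴴ * M.1 * P := ⟨_, rfl⟩
    rw [← hX] at h1
    have h2 : ∀ n : ℕ, (M ^ n).1 * P = P * X ^ n := by
      intro n
      induction n with
      | zero => simp [su_coe_one]
      | succ n ih => rw [pow_succ, su_coe_mul, Matrix.mul_assoc, h1, ← Matrix.mul_assoc, ih, pow_succ,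
          Matrix.mul_assoc]
    have h3 : X ^ p = 1 := by
      have := congrArg (Pᴴ * ·) (h2 p)
      simp only [hM, su_coe_one, Matrix.one_mul, ← Matrix.mul_assoc, hP] at this
      exact this.symm
    have h4 : Xᴴ * X = 1 := by
      have := iso_mul (su_star_mul M) hP
      rwa [h1, conjTranspose_mul, Matrix.mul_assoc, ← Matrix.mul_assoc Pᴴ, hP, Matrix.one_mul] at this
    have h5 : X.det = 1 := frobenius_inj F p (by rw [frobenius_def, ← det_pow, h3, det_one, map_one])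
    exact ⟨mkSU X h4 h5, Subtype.ext (by rw [SubmonoidClass.coe_pow]; exact h3), h1⟩
  obtain ⟨X, a1, a2⟩ := key S.left h
  obtain ⟨Y, b1, b2⟩ := key S.right (S.comm h)
  refine ⟨X, Y, a1, b1, Subtype.ext (S.ext ?_ ?_)⟩
  · rw [su_coe_mul, emb_coe, emb_coe, Matrix.mul_assoc, embM_mul_of_orth S.orth', embM_mul_self S.left, a2]
  · rw [su_coe_mul, emb_coe, emb_coe, Matrix.mul_assoc, embM_mul_self S.right, ← Matrix.mul_assoc,
      embM_mul_of_orth S.orth, b2]

/-- The first two coordinates of four. -/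
abbrev P0 (F : Type u) [Field F] : Matrix (Fin 4) (Fin 2) F := Pm F (Fin.castSucc ∘ Fin.castSucc)

/-- The last two coordinates of four. -/
abbrev Q0 (F : Type u) [Field F] : Matrix (Fin 4) (Fin 2) F := Pm F (Fin.succ ∘ Fin.succ)

/-- The middle two coordinates of four. -/
abbrev R0 (F : Type u) [Field F] : Matrix (Fin 4) (Fin 2) F := Pm F (Fin.castSucc ∘ Fin.succ)

omit [StarRing F] in
theorem P0_eq : P0 F = !![1, 0; 0, 1; 0, 0; 0, 0] := by
  ext i j
  fin_cases i <;> fin_cases j <;> simp [Pm, one_apply]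

omit [StarRing F] in
theorem Q0_eq : Q0 F = !![0, 0; 0, 0; 1, 0; 0, 1] := by
  ext i j
  fin_cases i <;> fin_cases j <;> simp [Pm, one_apply]

omit [StarRing F] in
theorem R0_eq : R0 F = !![0, 0; 1, 0; 0, 1; 0, 0] := by
  ext i j
  fin_cases i <;> fin_cases j <;> simp [Pm, one_apply]

theorem R0_mul_star : R0 F * (R0 F)ᴴ = !![0, 0, 0, 0; 0, 1, 0, 0; 0, 0, 1, 0; 0, 0, 0, 0] := by
  ext i j
  fin_cases i <;> fin_cases j <;> simp [Pm, mul_apply, one_apply]

theorem split_zero : Split (P0 F) (Q0 F) :=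
  ⟨Pm_iso (by decide), Pm_iso (by decide), Pm_orth (by decide), by
    ext i j
    fin_cases i <;> fin_cases j <;> simp [Pm, mul_apply, one_apply]⟩

theorem R0_iso : (R0 F)ᴴ * R0 F = 1 := Pm_iso (by decide)

theorem exists_frame_four (h : IsBar (starRingEnd F) q) {P Q R : Matrix (Fin 4) (Fin 2) F} (S : Split P Q)
    (hR : Rᴴ * R = 1) (hc : R * Rᴴ * (P * Pᴴ) = P * Pᴴ * (R * Rᴴ)) (h1 : Rᴴ * P ≠ 0) (h2 : Rᴴ * Q ≠ 0) :
    ∃ k : Matrix (Fin 4) (Fin 4) F, kᴴ * k = 1 ∧ P * Pᴴ = k * P0 F * (k * P0 F)ᴴ ∧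
      Q * Qᴴ = k * Q0 F * (k * Q0 F)ᴴ ∧ R * Rᴴ = k * R0 F * (k * R0 F)ᴴ := by
  have e0 : R * Rᴴ * (R * Rᴴ) = R * Rᴴ := by rw [Matrix.mul_assoc, ← Matrix.mul_assoc Rᴴ, hR, Matrix.one_mul]
  have key : ∀ {P Q : Matrix (Fin 4) (Fin 2) F}, Split P Q → R * Rᴴ * (P * Pᴴ) = P * Pᴴ * (R * Rᴴ) → Rᴴ * P ≠ 0 →
      Rᴴ * Q ≠ 0 → ∃ X : Matrix (Fin 2) (Fin 2) F, R * Rᴴ * P = P * X ∧ Xᴴ = X ∧ X * X = X ∧ X ≠ 0 ∧ X ≠ 1 := by
    intro P Q S hc h1 h2
    have a1 := mul_eq_of_comm S.left hc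
    refine ⟨_, a1, by simp [Matrix.mul_assoc], ?_, fun e => h1 ?_, fun e => h2 ?_⟩
    · rw [Matrix.mul_assoc (Pᴴ * _), ← a1, Matrix.mul_assoc Pᴴ, ← Matrix.mul_assoc (R * Rᴴ), e0, Matrix.mul_assoc Pᴴ]
    · rw [e, Matrix.mul_zero] at a1
      rw [← Matrix.one_mul Rᴴ, ← hR, Matrix.mul_assoc, Matrix.mul_assoc, ← Matrix.mul_assoc R, a1, Matrix.mul_zero]
    · have a2 : (Rᴴ * P)ᴴ * (Rᴴ * P) = 1 := by
        rw [← e, conjTranspose_mul, conjTranspose_conjTranspose]; simp only [Matrix.mul_assoc]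
      rw [e, Matrix.mul_one, Matrix.mul_assoc] at a1
      have a3 : Rᴴ * P * Pᴴ = Rᴴ := by
        conv_lhs => rw [← congrArg conjTranspose a1, conjTranspose_mul, ← Matrix.mul_assoc, mul_eq_one_comm.1 a2,
          Matrix.one_mul]
      rw [← a3, Matrix.mul_assoc, S.orth, Matrix.mul_zero]
  obtain ⟨X, a1, a2, a3, a4, a5⟩ := key S hc h1 h2
  obtain ⟨Y, b1, b2, b3, b4, b5⟩ := key S.symm (S.comm hc) h2 h1
  obtain ⟨A, hA⟩ := exists_diag_of_herm h (X := 1 - X) (by simp [a2]) (by simp [Matrix.mul_sub, Matrix.sub_mul, a3])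
    (fun e => a5 (sub_eq_zero.1 e).symm) (fun e => a4 (sub_eq_self.1 e))
  obtain ⟨B, hB⟩ := exists_diag_of_herm h b2 b3 b4 b5
  have hA' : X * A.1 = A.1 * !![0, 0; 0, 1] := by
    rw [Matrix.sub_mul, Matrix.one_mul, sub_eq_iff_eq_add', ← sub_eq_iff_eq_add] at hA
    rw [← hA]
    nth_rw 1 [← Matrix.mul_one A.1]
    rw [← Matrix.mul_sub]
    congr 1
    ext i j
    fin_cases i <;> fin_cases j <;> simp
  have S0 := split_zero (F := F)
  obtain ⟨k, hk⟩ : ∃ k, k = P * A.1 * (P0 F)ᴴ + Q * B.1 * (Q0 F)ᴴ := ⟨_, rfl⟩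
  have k1 : k * P0 F = P * A.1 := by
    rw [hk, Matrix.add_mul, Matrix.mul_assoc, Matrix.mul_assoc (Q * _), S0.left, S0.orth']; simp
  have k2 : k * Q0 F = Q * B.1 := by
    rw [hk, Matrix.add_mul, Matrix.mul_assoc, Matrix.mul_assoc (Q * _), S0.right, S0.orth]; simp
  have k3 : P * Pᴴ = k * P0 F * (k * P0 F)ᴴ := by
    rw [k1, conjTranspose_mul, Matrix.mul_assoc, ← Matrix.mul_assoc A.1, su_mul_star, Matrix.one_mul]
  have k4 : Q * Qᴴ = k * Q0 F * (k * Q0 F)ᴴ := by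
    rw [k2, conjTranspose_mul, Matrix.mul_assoc, ← Matrix.mul_assoc B.1, su_mul_star, Matrix.one_mul]
  have k5 : k * kᴴ = 1 := by
    rw [← S.add, k3, k4, conjTranspose_mul, conjTranspose_mul, Matrix.mul_assoc, Matrix.mul_assoc,
      ← Matrix.mul_add, ← Matrix.mul_assoc, ← Matrix.mul_assoc, ← Matrix.add_mul, S0.add, Matrix.one_mul]
  refine ⟨k, mul_eq_one_comm.1 k5, k3, k4, ?_⟩
  have k6 : R * Rᴴ * k = k * (R0 F * (R0 F)ᴴ) := by
    have r1 : R0 F * (R0 F)ᴴ * P0 F = P0 F * !![(0 : F), 0; 0, 1] := by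
      rw [R0_mul_star, P0_eq]
      ext i j
      fin_cases i <;> fin_cases j <;> simp
    have r2 : R0 F * (R0 F)ᴴ * Q0 F = Q0 F * !![(1 : F), 0; 0, 0] := by
      rw [R0_mul_star, Q0_eq]
      ext i j
      fin_cases i <;> fin_cases j <;> simp
    refine S0.ext ?_ ?_
    · rw [Matrix.mul_assoc, k1, ← Matrix.mul_assoc, a1, Matrix.mul_assoc, hA', Matrix.mul_assoc k, r1,
        ← Matrix.mul_assoc k, k1, Matrix.mul_assoc]
    · rw [Matrix.mul_assoc, k2, ← Matrix.mul_assoc, b1, Matrix.mul_assoc, hB, Matrix.mul_assoc k, r2,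
        ← Matrix.mul_assoc k, k2, Matrix.mul_assoc]
  rw [conjTranspose_mul, Matrix.mul_assoc k, ← Matrix.mul_assoc (R0 F), ← Matrix.mul_assoc k, ← k6,
    Matrix.mul_assoc _ k, k5, Matrix.mul_one]

theorem Good.comp_emb {φ : SUs ι F →* G} (hφ : Good φ) {k : Matrix ι ι F} (hk : kᴴ * k = 1) :
    Good (φ.comp (emb k hk)) := by
  intro g hg
  obtain ⟨c, hc⟩ := hφ _ hg
  have := embM_mul_self hk g.1
  rw [← emb_coe hk, hc, Matrix.smul_mul, Matrix.one_mul] at this
  exact ⟨c, by rw [← hk, ← Matrix.mul_smul, this, ← Matrix.mul_assoc, hk, Matrix.one_mul]⟩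

theorem Good.emb_injective {φ : SUs κ F →* G} (hφ : Good φ) {P Q : Matrix κ ι F} (S : Split P Q) [Nonempty ι] :
    Function.Injective (φ.comp (emb P S.left)) := by
  rw [injective_iff_map_eq_one]
  intro u hu
  obtain ⟨c, hc⟩ := hφ _ hu
  have h1 := embM_mul_of_orth S.orth u.1
  rw [← emb_coe S.left, hc, Matrix.smul_mul, Matrix.one_mul] at h1
  have h2 := S.right
  nth_rw 2 [← h1] at h2
  rw [Matrix.mul_smul, S.right] at h2
  obtain ⟨i⟩ := ‹Nonempty ι›
  obtain rfl : c = 1 := by simpa using congrFun (congrFun h2 i) i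
  exact Phan.emb_injective S.left (Subtype.ext (by rw [hc, one_smul, map_one]; rfl))

theorem al_al_coe (u : SUs (Fin 2) F) : (al F 3 (al F 2 u)).1 = embM (P0 F) u.1 := by rw [al, al, emb_Pm_emb]

theorem al_be_coe (u : SUs (Fin 2) F) : (al F 3 (be F 2 u)).1 = embM (R0 F) u.1 := by rw [al, be, emb_Pm_emb]

theorem be_be_coe (u : SUs (Fin 2) F) : (be F 3 (be F 2 u)).1 = embM (Q0 F) u.1 := by rw [be, be, emb_Pm_emb]

theorem commute_of_range {g : SUs κ F →* G} {P Q : Matrix κ ι F} (hP : Pᴴ * P = 1) (hQ : Qᴴ * Q = 1)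
    (e : Pᴴ * Q = 0) {x y : G} (hx : x ∈ (g.comp (emb P hP)).range) (hy : y ∈ (g.comp (emb Q hQ)).range) :
    Commute x y := by
  obtain ⟨x, rfl⟩ := hx
  obtain ⟨y, rfl⟩ := hy
  exact Commute.map (emb_comm hP hQ e x y) g

/-- The three blocks in standard position. -/
theorem exists_agree_of_split (h : IsBar (starRingEnd F) q) {φ φ' : SUs (Fin 3) F →* G} (hφ : Good φ)
    (hφ' : Good φ') (hc : φ.comp (be F 2) = φ'.comp (al F 2)) {g : SUs (Fin 4) F →* G} (hg : Good g)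
    {P Q R : Matrix (Fin 4) (Fin 2) F} (S : Split P Q) (hR : Rᴴ * R = 1)
    (hPR : R * Rᴴ * (P * Pᴴ) = P * Pᴴ * (R * Rᴴ))
    (h1 : (φ.comp (al F 2)).range = (g.comp (emb P S.left)).range)
    (h2 : (φ.comp (be F 2)).range = (g.comp (emb R hR)).range)
    (h3 : (φ'.comp (be F 2)).range = (g.comp (emb Q S.right)).range) :
    ∃ ψ : SUs (Fin 4) F →* G, Good ψ ∧ ψ.range = g.range ∧ (∀ u, φ (al F 2 u) = ψ (al F 3 (al F 2 u))) ∧
      (∀ u, φ (be F 2 u) = ψ (al F 3 (be F 2 u))) ∧ (∀ u, φ' (al F 2 u) = ψ (be F 3 (al F 2 u))) ∧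
      ∀ u, φ' (be F 2 u) = ψ (be F 3 (be F 2 u)) := by
  have hw : (su2 0 1 (by simp) : SUs (Fin 2) F) ≠ 1 := fun e => by
    simpa [su2_coe, su_coe_one] using congrArg (fun A : SUs (Fin 2) F => A.1 0 0) e
  obtain ⟨k, k0, k1, k2, k3⟩ := exists_frame_four h S hR hPR 
    (fun e => hw (hφ.eq_one_of_commute fun v =>
      (commute_of_range hR S.left e (h2.le ⟨v, rfl⟩) (h1.le ⟨_, rfl⟩)).symm))
    (fun e => hw (hφ'.eq_one_of_commute fun v =>
      commute_of_range hR S.right e (h2.le ⟨_, DFunLike.congr_fun hc _⟩) (h3.le ⟨v, rfl⟩)))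
  have key : ∀ {P P₀ : Matrix (Fin 4) (Fin 2) F} (hP : Pᴴ * P = 1) (hP₀ : P₀ᴴ * P₀ = 1)
      (f : SUs (Fin 2) F →* SUs (Fin 4) F), (∀ u, (f u).1 = embM P₀ u.1) → P * Pᴴ = k * P₀ * (k * P₀)ᴴ →
      (g.comp (emb P hP)).range = ((g.comp (emb k k0)).comp f).range := by
    intro P P₀ hP hP₀ f hf e
    have : (emb k k0).comp f = emb (k * P₀) (iso_mul k0 hP₀) := MonoidHom.ext fun u => Subtype.ext (by
      rw [MonoidHom.comp_apply, emb_coe, hf, embM_embM, emb_coe])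
    rw [MonoidHom.comp_assoc, this, MonoidHom.range_comp, MonoidHom.range_comp, range_emb_congr hP _ e]
  obtain ⟨ψ, a1, a2, a3⟩ := exists_agree h hφ hφ' hc (hg.comp_emb k0)
    (h1.trans (key S.left split_zero.left _ al_al_coe k1))
    (h2.trans (key hR R0_iso _ al_be_coe k3))
    (h3.trans (key S.right split_zero.right _ be_be_coe k2))
  refine ⟨ψ, a1, a2.trans ?_, a3⟩
  have := finite_su (ι := Fin 4) h
  rw [MonoidHom.range_comp, MonoidHom.range_eq_top.2 (Finite.surjective_of_injective (emb_injective k0)),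
    ← MonoidHom.range_eq_map]

theorem exists_poly_of_commute {s x : Matrix (Fin 2) (Fin 2) F} (hs : ∀ c : F, s ≠ c • 1) (e : x * s = s * x) :
    ∃ a b : F, x = a • 1 + b • s := by
  have e1 := congrFun (congrFun e 0) 0
  have e2 := congrFun (congrFun e 0) 1
  have e3 := congrFun (congrFun e 1) 0
  simp only [mul_apply, Fin.sum_univ_two] at e1 e2 e3
  suffices hb : ∃ b, x 0 1 = b * s 0 1 ∧ x 1 0 = b * s 1 0 ∧ x 0 0 - x 1 1 = b * (s 0 0 - s 1 1) by
    obtain ⟨b, b1, b2, b3⟩ := hb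
    refine ⟨x 0 0 - b * s 0 0, b, ?_⟩
    ext i j
    fin_cases i <;> fin_cases j <;> simp [b1, b2]
    linear_combination -b3
  by_cases h1 : s 0 1 = 0
  · by_cases h2 : s 1 0 = 0
    · have h3 : s 0 0 - s 1 1 ≠ 0 := fun h3 => hs (s 0 0) (by
        ext i j
        fin_cases i <;> fin_cases j <;> simp [h1, h2, sub_eq_zero.1 h3])
      refine ⟨(x 0 0 - x 1 1) / (s 0 0 - s 1 1), ?_, ?_, by field_simp⟩
      · field_simp; linear_combination -e2
      · field_simp; linear_combination e3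
    · refine ⟨x 1 0 / s 1 0, ?_, by field_simp, ?_⟩
      · field_simp; linear_combination e1
      · field_simp; linear_combination -e3
  · refine ⟨x 0 1 / s 0 1, by field_simp, ?_, ?_⟩
    · field_simp; linear_combination -e1
    · field_simp; linear_combination e2

theorem good_of_ne (h : IsBar (starRingEnd F) q) {g : SUs (Fin 4) F →* G} (hg : g ≠ 1) : Good g := by
  have H := isHerm_stdB h (Fin 4)
  let e := (suBridge h 4).trans (suEquiv h 4)
  rcases H.normal_le_center_or_eq_top (by simp) (by simp) (g.comp e.symm.toMonoidHom).ker inferInstance with h1 | h1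
  · intro x hx
    obtain ⟨c, hc⟩ := (H.mem_center_SUG (by simp) (e x)).1 (h1 (by simpa using hx))
    exact ⟨c, ext_iff_mulVec.2 fun v => by rw [smul_mulVec, one_mulVec]; exact hc v⟩
  · refine absurd (MonoidHom.ext fun x => ?_) hg
    simpa using (h1 ▸ Subgroup.mem_top (e x) : e x ∈ (g.comp e.symm.toMonoidHom).ker)

theorem exists_conj_blocks (h : IsBar (starRingEnd F) q) : ∃ x : SUs (Fin 3) F,
    (be F 2).range = (al F 2).range.map (MulAut.conj x).toMonoidHom := by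
  obtain ⟨x, hx⟩ := exists_su_unit h (ι := Fin 3) (by simp) (BB_e (Fin.last 2)) (BB_e 0)
  exact ⟨x, by rw [range_al, range_be, ← stab_mulVec, hx]⟩

/-- Transport of a block along a conjugation. -/
theorem exists_emb_conj {g : SUs κ F →* G} {U U' : Subgroup G} {x : G} (hx : x ∈ g.range)
    (e : U' = U.map (MulAut.conj x).toMonoidHom) {P : Matrix κ ι F} (hP : Pᴴ * P = 1)
    (hU : U = (g.comp (emb P hP)).range) : ∃ k : SUs κ F,
      U' = (g.comp (emb (k.1 * P) (iso_mul (su_star_mul k) hP))).range := by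
  obtain ⟨k, rfl⟩ := hx
  refine ⟨k, ?_⟩
  rw [e, hU, MonoidHom.map_range]
  congr 1
  ext u
  show g k * g _ * (g k)⁻¹ = g _
  rw [← conj_emb, map_mul, map_mul, map_inv]

theorem range_be_eq_conj (h : IsBar (starRingEnd F) q) (φ : SUs (Fin 3) F →* G) : ∃ x ∈ φ.range,
    (φ.comp (be F 2)).range = (φ.comp (al F 2)).range.map (MulAut.conj x).toMonoidHom := by
  obtain ⟨x, hx⟩ := exists_conj_blocks h
  refine ⟨φ x, ⟨x, rfl⟩, ?_⟩
  rw [MonoidHom.range_comp, MonoidHom.range_comp, hx, Subgroup.map_map, Subgroup.map_map]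
  congr 1
  ext u
  simp

end CL.Phan
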