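import Cfsg.Agent.Perm.PhanAut
import Cfsg.Prelude.Def_PhanSystems

/-!
# Phan's theorem: the induction
-/

set_option autoImplicit false
set_option linter.unusedSectionVars false

namespace CL.Phan

open Module CL.Uni Matrix

universe u

variable {F : Type u} [Field F] [StarRing F] {q : ℕ} {G : Type*} [Group G]

theorem exists_compat (h : IsBar (starRingEnd F) q) (r : ℕ) (U V : ℕ → Subgroup G)
    (hφ : ∀ i, i < r → ∃ φ : SUs (Fin 3) F →* G, Good φ ∧ φ.range = V i ∧ (φ.comp (al F 2)).range = U i ∧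
      (φ.comp (be F 2)).range = U (i + 1))
    (hc : ∀ i, i + 1 < r → ∀ x ∈ U i, ∀ y ∈ U (i + 2), x * y = y * x) :
    ∃ φ : ℕ → (SUs (Fin 3) F →* G), (∀ i, i < r → Good (φ i) ∧ (φ i).range = V i ∧
      ((φ i).comp (al F 2)).range = U i ∧ ((φ i).comp (be F 2)).range = U (i + 1)) ∧
      ∀ i, i + 1 < r → (φ i).comp (be F 2) = (φ (i + 1)).comp (al F 2) := by
  let P : ℕ → (SUs (Fin 3) F →* G) → Prop := fun i φ => i < r → Good φ ∧ φ.range = V i ∧
    (φ.comp (al F 2)).range = U i ∧ (φ.comp (be F 2)).range = U (i + 1)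
  have h0 : ∃ φ, P 0 φ := by
    by_cases e : 0 < r
    · obtain ⟨φ, h1⟩ := hφ 0 e
      exact ⟨φ, fun _ => h1⟩
    · exact ⟨1, fun e' => absurd e' e⟩
  have step : ∀ i φ, P i φ → ∃ ψ, P (i + 1) ψ ∧ (i + 1 < r → φ.comp (be F 2) = ψ.comp (al F 2)) := by
    intro i φ hP
    by_cases e : i + 1 < r
    · obtain ⟨a1, a2, a3, a4⟩ := hP (by omega)
      obtain ⟨φ', b1, b2, b3, b4⟩ := hφ _ e
      obtain ⟨ψ, c1, c2, c3, c4⟩ := exists_adjust h a1 b1 (a4.trans b3.symm) fun u v =>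
        hc i e _ (a3 ▸ ⟨u, rfl⟩) _ (b4 ▸ ⟨v, rfl⟩)
      exact ⟨ψ, fun _ => ⟨c1, c3.trans b2, c2 ▸ a4, c4.trans b4⟩, fun _ => c2⟩
    · exact ⟨1, fun e' => absurd e' e, fun e' => absurd e' e⟩
  choose f hf using step
  obtain ⟨φ₀, h0⟩ := h0
  let s : (i : ℕ) → {φ // P i φ} := fun i => Nat.rec ⟨φ₀, h0⟩ (fun i x => ⟨f i x.1 x.2, (hf i x.1 x.2).1⟩) i
  exact ⟨fun i => (s i).1, fun i => (s i).2, fun i => (hf i (s i).1 (s i).2).2⟩

/-- `ψ` restricts to `φ s, φ (s + 1), …` on the consecutive blocks of size three. -/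
def Ext (φ : ℕ → (SUs (Fin 3) F →* G)) : (k : ℕ) → ℕ → (SUs (Fin (k + 3)) F →* G) → Prop
  | 0, s, ψ => ψ = φ s
  | k + 1, s, ψ => Ext φ k s (ψ.comp (al F _)) ∧ Ext φ k (s + 1) (ψ.comp (be F _))

variable {φ : ℕ → (SUs (Fin 3) F →* G)}

theorem Ext.unique (h : IsBar (starRingEnd F) q) : ∀ {k s : ℕ} {ψ ψ' : SUs (Fin (k + 3)) F →* G},
    Ext φ k s ψ → Ext φ k s ψ' → ψ = ψ'
  | 0, _, _, _, h1, h2 => h1.trans h2.symm
  | k + 1, _, ψ, ψ', h1, h2 => by
    have : ψ.eqLocus ψ' = ⊤ := eq_top_of_al_be h (Or.inl (by omega))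
      (fun x => DFunLike.congr_fun (h1.1.unique h h2.1) x) fun x => DFunLike.congr_fun (h1.2.unique h h2.2) x
    ext x
    exact (this ▸ Subgroup.mem_top x : x ∈ ψ.eqLocus ψ')

theorem Ext.io : ∀ {k s : ℕ} {ψ : SUs (Fin (k + 3)) F →* G}, Ext φ k s ψ →
    ∀ v, ψ (io F (by omega) v) = φ s v
  | 0, _, _, h1, v => by rw [io_refl, h1]
  | k + 1, _, ψ, h1, v => by rw [← h1.1.io v, MonoidHom.comp_apply, al_io]

theorem Ext.commute (h : IsBar (starRingEnd F) q) {g : G} : ∀ {k s : ℕ} {ψ : SUs (Fin (k + 3)) F →* G},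
    Ext φ k s ψ → (∀ j, s ≤ j → j ≤ s + k → ∀ v, Commute g (φ j v)) → ∀ x, Commute g (ψ x)
  | 0, s, _, h1, h2, x => h1 ▸ h2 s le_rfl le_rfl x
  | k + 1, _, ψ, h1, h2, x => by
    have : (Subgroup.centralizer {g}).comap ψ = ⊤ := eq_top_of_al_be h (Or.inl (by omega))
      (fun x => Subgroup.mem_centralizer_singleton_iff.2
        (h1.1.commute h (fun j a b => h2 j a (by omega)) x).symm.eq)
      fun x => Subgroup.mem_centralizer_singleton_iff.2
        (h1.2.commute h (fun j a b => h2 j (by omega) (by omega)) x).symm.eq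
    exact (Subgroup.mem_centralizer_singleton_iff.1
      (this ▸ Subgroup.mem_top x : x ∈ (Subgroup.centralizer {g}).comap ψ)).symm

theorem Ext.range_le : ∀ {k s : ℕ} {ψ : SUs (Fin (k + 3)) F →* G}, Ext φ k s ψ →
    ∀ j, s ≤ j → j ≤ s + k → (φ j).range ≤ ψ.range
  | 0, s, _, h1, j, a, b => by rw [h1, le_antisymm (show j ≤ s from b) a]
  | k + 1, s, ψ, h1, j, a, b => by
    rcases a.eq_or_lt with rfl | a
    · exact (h1.1.range_le _ le_rfl (by omega)).trans (by rintro _ ⟨x, rfl⟩; exact ⟨_, rfl⟩)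
    · exact (h1.2.range_le _ a (by omega)).trans (by rintro _ ⟨x, rfl⟩; exact ⟨_, rfl⟩)

theorem exists_Ext (h : IsBar (starRingEnd F) q) (r : ℕ)
    (hc : ∀ s j, s + 2 ≤ j → j < r → ∀ u v, Commute (φ s (al F 2 u)) (φ j v))
    (base : ∀ s, s + 1 < r → ∃ ψ, Ext φ 1 s ψ)
    (step : ∀ k s a b, s + k + 2 < r → Ext φ (k + 1) s a → Ext φ (k + 1) (s + 1) b →
      ∀ h1 h2, Function.Injective (amalOf a b h1 h2).π) :
    ∀ k s, s + k < r → ∃ ψ, Ext φ k s ψ
  | 0, s, _ => ⟨φ s, rfl⟩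
  | 1, s, hs => base s hs
  | k + 2, s, hs => by
    obtain ⟨a, ha⟩ := exists_Ext h r hc base step (k + 1) s (by omega)
    obtain ⟨b, hb⟩ := exists_Ext h r hc base step (k + 1) (s + 1) (by omega)
    have h1 : ∀ x, a (be F _ x) = b (al F _ x) := fun x => DFunLike.congr_fun (ha.2.unique h hb.1) x
    have h2 : ∀ (u : SUs (Fin 2) F) y, Commute (a (io F (by omega) u)) (b (be F _ y)) := fun u y => by
      rw [← io_io (l := 3) (by omega) (by omega), ha.io, io_succ]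
      exact hb.2.commute h (fun j a b => hc s j a (by omega) u) y
    obtain ⟨ψ, e1, e2⟩ := exists_ext_of h a b h1 h2 (step k s a b (by omega) ha hb h1 h2)
    exact ⟨ψ, e1 ▸ ha, e2 ▸ hb⟩

theorem suBlock_zero_one (h : IsBar (starRingEnd F) q) :
    Cfsg.suBlock 3 F q {0, 1} = (al F 2).range.map (suBridge h 3).toMonoidHom := by
  rw [Cfsg.suBlock, ← Subgroup.closure_eq ((al F 2).range.map _)]
  congr 1
  ext A
  constructor
  · intro hA
    obtain ⟨a1, a2⟩ := hA 2 (by simp)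
    refine ⟨(suBridge h 3).symm A, mem_range_al.2 ?_, (suBridge h 3).apply_symm_apply A⟩
    ext i
    fin_cases i
    · simpa [suBridge_symm_coe] using (a2 0 (by simp)).2
    · simpa [suBridge_symm_coe] using (a2 1 (by simp)).2
    · have : eL F 2 2 = 1 := Pi.single_eq_same _ _
      simpa [suBridge_symm_coe, this] using a1
  · rintro ⟨_, ⟨u, rfl⟩, rfl⟩ k hk
    obtain rfl : k = 2 := by
      fin_cases k <;> simp at hk ⊢
    show (al F 2 u).1 2 2 = 1 ∧ ∀ l, l ≠ 2 → (al F 2 u).1 2 l = 0 ∧ (al F 2 u).1 l 2 = 0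
    rw [al_two]
    refine ⟨rfl, fun l hl => ?_⟩
    fin_cases l <;> simp at hl ⊢

theorem suBlock_one_two (h : IsBar (starRingEnd F) q) :
    Cfsg.suBlock 3 F q {1, 2} = (be F 2).range.map (suBridge h 3).toMonoidHom := by
  rw [Cfsg.suBlock, ← Subgroup.closure_eq ((be F 2).range.map _)]
  congr 1
  ext A
  constructor
  · intro hA
    obtain ⟨a1, a2⟩ := hA 0 (by simp)
    refine ⟨(suBridge h 3).symm A, mem_range_be.2 ?_, (suBridge h 3).apply_symm_apply A⟩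
    ext i
    fin_cases i
    · simpa [suBridge_symm_coe] using a1
    · simpa [suBridge_symm_coe] using (a2 1 (by simp)).2
    · simpa [suBridge_symm_coe] using (a2 2 (by simp)).2
  · rintro ⟨_, ⟨u, rfl⟩, rfl⟩ k hk
    obtain rfl : k = 0 := by
      fin_cases k <;> simp at hk ⊢
    show (be F 2 u).1 0 0 = 1 ∧ ∀ l, l ≠ 0 → (be F 2 u).1 0 l = 0 ∧ (be F 2 u).1 l 0 = 0
    rw [be_two]
    refine ⟨rfl, fun l hl => ?_⟩
    fin_cases l <;> simp at hl ⊢

theorem exists_of_standard (h : IsBar (starRingEnd F) q) {V A B : Subgroup G}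
    (hV : Cfsg.IsStandardUnitaryPair V A B F q) : ∃ φ : SUs (Fin 3) F →* G, Good φ ∧ φ.range = V ∧
      (φ.comp (al F 2)).range = A ∧ (φ.comp (be F 2)).range = B := by
  have key : ∀ f : Cfsg.SU 3 F q →* V, Function.Surjective f → (∀ g, f g = 1 → g ∈ Subgroup.center _) →
      (Cfsg.suBlock 3 F q {0, 1}).map (V.subtype.comp f) = A →
      (Cfsg.suBlock 3 F q {1, 2}).map (V.subtype.comp f) = B → ∃ φ : SUs (Fin 3) F →* G, Good φ ∧ φ.range = V ∧
      (φ.comp (al F 2)).range = A ∧ (φ.comp (be F 2)).range = B := by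
    intro f f1 f2 f3 f4
    have := h.finite
    have := Fintype.ofFinite F
    refine ⟨(V.subtype.comp f).comp (suBridge h 3).toMonoidHom, fun g hg => ?_, ?_, ?_, ?_⟩
    · exact (mem_center_SU h.fintype_card (by omega) _).1 (f2 (suBridge h 3 g) (Subtype.ext hg))
    · rw [MonoidHom.range_comp, MonoidHom.range_eq_top.2 (suBridge h 3).surjective, ← MonoidHom.range_eq_map,
        MonoidHom.range_comp, MonoidHom.range_eq_top.2 f1, ← MonoidHom.range_eq_map, Subgroup.range_subtype]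
    · rw [← f3, suBlock_zero_one h, Subgroup.map_map, MonoidHom.range_comp]
    · rw [← f4, suBlock_one_two h, Subgroup.map_map, MonoidHom.range_comp]
  rcases hV with ⟨ψ, h1, h2⟩ | ⟨ψ, h1, h2⟩
  · refine key ψ.toMonoidHom ψ.surjective (fun g hg => ?_) h1 h2
    rw [ψ.map_eq_one_iff.1 hg]
    exact one_mem _
  · refine key _ (ψ.surjective.comp (QuotientGroup.mk'_surjective _)) (fun g hg => ?_) h1 h2
    exact (QuotientGroup.eq_one_iff g).1 (ψ.map_eq_one_iff.1 hg)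

/-- A weak Phan system, compatibly parametrised. -/
structure Sys (F : Type u) [Field F] [StarRing F] {n : ℕ} (U : Fin n → Subgroup G)
    (V : Fin n → Fin n → Subgroup G) (φ : ℕ → (SUs (Fin 3) F →* G)) : Prop where
  good : ∀ i, i + 1 < n → Good (φ i)
  range : ∀ i (hi : i + 1 < n), (φ i).range = V ⟨i, by omega⟩ ⟨i + 1, hi⟩
  left : ∀ i (hi : i + 1 < n), ((φ i).comp (al F 2)).range = U ⟨i, by omega⟩
  right : ∀ i (hi : i + 1 < n), ((φ i).comp (be F 2)).range = U ⟨i + 1, hi⟩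
  compat : ∀ i, i + 2 < n → (φ i).comp (be F 2) = (φ (i + 1)).comp (al F 2)

theorem exists_sys (h : IsBar (starRingEnd F) q) {n : ℕ} (U : Fin n → Subgroup G)
    (V : Fin n → Fin n → Subgroup G)
    (h1 : ∀ i j : Fin n, (i : ℕ) + 2 ≤ j → ∀ x ∈ U i, ∀ y ∈ U j, x * y = y * x)
    (h2 : ∀ i j : Fin n, (i : ℕ) + 1 = j → Cfsg.IsStandardUnitaryPair (V i j) (U i) (U j) F q) :
    ∃ φ, Sys F U V φ := by
  obtain ⟨φ, a1, a2⟩ := exists_compat h (n - 1) (fun i => if hi : i < n then U ⟨i, hi⟩ else ⊥)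
    (fun i => if hi : i + 1 < n then V ⟨i, by omega⟩ ⟨i + 1, hi⟩ else ⊥) (fun i hi => by
      rw [dif_pos (by omega), dif_pos (by omega), dif_pos (by omega)]
      exact exists_of_standard h (h2 _ _ rfl)) (fun i hi => by
      rw [dif_pos (by omega), dif_pos (by omega)]
      exact h1 _ _ le_rfl)
  refine ⟨φ, fun i hi => (a1 i (by omega)).1, fun i hi => ?_, fun i hi => ?_, fun i hi => ?_,
    fun i hi => a2 i (by omega)⟩
  · rw [(a1 i (by omega)).2.1, dif_pos hi]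
  · rw [(a1 i (by omega)).2.2.1, dif_pos (by omega)]
  · rw [(a1 i (by omega)).2.2.2, dif_pos hi]

namespace Sys

variable {k : ℕ} {U : Fin (k + 2) → Subgroup G} {V : Fin (k + 2) → Fin (k + 2) → Subgroup G}

theorem al_mem (S : Sys F U V φ) {i : ℕ} (hi : i + 1 < k + 2) (u) : φ i (al F 2 u) ∈ U ⟨i, by omega⟩ :=
  S.left i hi ▸ ⟨u, rfl⟩

theorem be_mem (S : Sys F U V φ) {i : ℕ} (hi : i + 1 < k + 2) (u) : φ i (be F 2 u) ∈ U ⟨i + 1, hi⟩ :=
  S.right i hi ▸ ⟨u, rfl⟩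

theorem mem (S : Sys F U V φ) {i : ℕ} (hi : i + 1 < k + 2) (u) : φ i u ∈ V ⟨i, by omega⟩ ⟨i + 1, hi⟩ :=
  S.range i hi ▸ ⟨u, rfl⟩

theorem exists_surjective (h : IsBar (starRingEnd F) q) (S : Sys F U V φ) {ψ} (hψ : Ext φ k 0 ψ)
    (hgen : (⨆ i, U i) ⊔ (⨆ (i : Fin (k + 2)) (j : Fin (k + 2)) (_ : (i : ℕ) + 1 = j), V i j) = ⊤) :
    ∃ f : Cfsg.SU (k + 2 + 1) F q →* G, Function.Surjective f := by
  suffices hs : Function.Surjective ψ from
    ⟨ψ.comp (suBridge h (k + 3)).symm.toMonoidHom, hs.comp (suBridge h (k + 3)).symm.surjective⟩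
  rw [← MonoidHom.range_eq_top, eq_top_iff, ← hgen]
  refine sup_le (iSup_le fun ⟨i, hi⟩ => ?_) (iSup_le fun ⟨i, hi⟩ => iSup_le fun ⟨j, hj⟩ => iSup_le fun e => ?_)
  · rcases i with _ | i
    · rw [← S.left 0 (by omega)]
      refine le_trans ?_ (hψ.range_le 0 le_rfl (by omega))
      rintro _ ⟨x, rfl⟩; exact ⟨_, rfl⟩
    · rw [← S.right i hi]
      refine le_trans ?_ (hψ.range_le i (by omega) (by omega))
      rintro _ ⟨x, rfl⟩; exact ⟨_, rfl⟩
  · obtain rfl : i + 1 = j := e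
    rw [← S.range i hj]
    exact hψ.range_le i (by omega) (by omega)

theorem commute_of_three (h : IsBar (starRingEnd F) q) (hq : 3 ≤ q) (S : Sys F U V φ)
    (h1 : ∀ i j : Fin (k + 2), (i : ℕ) + 2 ≤ j → ∀ x ∈ U i, ∀ y ∈ U j, x * y = y * x) :
    ∀ s j, s + 2 ≤ j → j < k + 1 → ∀ u v, Commute (φ s (al F 2 u)) (φ j v) := by
  intro s j a b u v
  have : (Subgroup.centralizer {φ s (al F 2 u)}).comap (φ j) = ⊤ := eq_top_of_al_be h (Or.inr hq)
    (fun x => Subgroup.mem_centralizer_singleton_iff.2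
      (h1 ⟨s, by omega⟩ ⟨j, by omega⟩ a _ (S.al_mem (by omega) u) _ (S.al_mem (by omega) x)).symm)
    fun x => Subgroup.mem_centralizer_singleton_iff.2
      (h1 ⟨s, by omega⟩ ⟨j + 1, by omega⟩ (Nat.le_succ_of_le a) _ (S.al_mem (by omega) u) _
        (S.be_mem (by omega) x)).symm
  exact (Subgroup.mem_centralizer_singleton_iff.1
    (this ▸ Subgroup.mem_top v : v ∈ (Subgroup.centralizer {φ s (al F 2 u)}).comap (φ j))).symm

end Sys

/-- Phan's theorem for `q ≥ 4`. -/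
theorem weak_phan (h : IsBar (starRingEnd F) q) (hq : 4 ≤ q) {n : ℕ} (hn : 2 ≤ n) (U : Fin n → Subgroup G)
    (V : Fin n → Fin n → Subgroup G)
    (h1 : ∀ i j : Fin n, (i : ℕ) + 2 ≤ j → ∀ x ∈ U i, ∀ y ∈ U j, x * y = y * x)
    (h2 : ∀ i j : Fin n, (i : ℕ) + 1 = j → Cfsg.IsStandardUnitaryPair (V i j) (U i) (U j) F q)
    (hgen : (⨆ i, U i) ⊔ (⨆ (i : Fin n) (j : Fin n) (_ : (i : ℕ) + 1 = j), V i j) = ⊤) :
    ∃ f : Cfsg.SU (n + 1) F q →* G, Function.Surjective f := by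
  obtain ⟨k, rfl⟩ : ∃ k, n = k + 2 := ⟨n - 2, by omega⟩
  obtain ⟨φ, S⟩ := exists_sys h U V h1 h2
  obtain ⟨ψ, hψ⟩ := exists_Ext h (k + 1) (S.commute_of_three h (by omega) h1) (fun s hs => by
    obtain ⟨ψ, e1, e2⟩ := exists_ext (m := 0) h (Or.inr hq) (φ s) (φ (s + 1))
      (fun x => DFunLike.congr_fun (S.compat s (by omega)) x) fun u y =>
        h1 ⟨s, by omega⟩ ⟨s + 2, by omega⟩ le_rfl _ (S.al_mem (by omega) u) _ (S.be_mem (by omega) y)
    exact ⟨ψ, e1, e2⟩) (fun _ _ a b _ _ _ h1 h2 => (amalOf a b h1 h2).π_injective h (Or.inr hq)) k 0 (by omega)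
  exact S.exists_surjective h hψ hgen

end CL.Phan
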