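import Cfsg.Agent.Perm.PhanMain

/-!
# Subgroups `SU(2)` of `SU(3)` and standard pairs
-/

set_option autoImplicit false
set_option linter.unusedSectionVars false

namespace CL.Phan

open Module CL.Uni Matrix
open scoped MatrixGroups

universe u

variable {F : Type u} [Field F] [StarRing F] {q : ℕ} {G : Type*} [Group G]
variable {ι : Type} [Fintype ι] [DecidableEq ι]

/-- The stabiliser of a vector. -/
def stab (a : ι → F) : Subgroup (SUs ι F) where
  carrier := {g | g.1 *ᵥ a = a}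
  one_mem' := one_mulVec a
  mul_mem' {g k} hg hk := by
    show (g * k).1 *ᵥ a = a
    rw [su_mul_mulVec, hk, hg]
  inv_mem' {g} hg := by
    show (g⁻¹).1 *ᵥ a = a
    conv_lhs => rw [← hg, su_inv_mulVec]

theorem mem_stab {a : ι → F} {g : SUs ι F} : g ∈ stab a ↔ g.1 *ᵥ a = a := Iff.rfl

theorem stab_mulVec (k : SUs ι F) (a : ι → F) :
    stab (k.1 *ᵥ a) = (stab a).map (MulAut.conj k).toMonoidHom := by
  ext g
  constructor
  · intro hg
    refine ⟨k⁻¹ * g * k, ?_, by simp [mul_assoc]⟩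
    show (k⁻¹ * g * k).1 *ᵥ a = a
    rw [su_mul_mulVec, su_mul_mulVec, hg, su_inv_mulVec]
  · rintro ⟨g, hg, rfl⟩
    show (k * g * k⁻¹).1 *ᵥ _ = _
    rw [su_mul_mulVec, su_inv_mulVec, su_mul_mulVec, hg]

theorem range_al (m : ℕ) : (al F m).range = stab (eL F m) := Subgroup.ext fun _ => mem_range_al

theorem range_be (m : ℕ) : (be F m).range = stab (e0 F m) := Subgroup.ext fun _ => mem_range_be

theorem card_stab (h : IsBar (starRingEnd F) q) {m : ℕ} {a : Fin (m + 2) → F} (ha : BB _ F a a = 1) :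
    Nat.card (stab a) = Nat.card (SUs (Fin (m + 1)) F) := by
  obtain ⟨k, rfl⟩ := exists_su_unit h (by simp) (BB_e (Fin.last (m + 1))) ha
  rw [stab_mulVec, Subgroup.card_map_of_injective (MulAut.conj k).injective, ← range_al,
    ← Nat.card_congr (MonoidHom.ofInjective al_injective).toEquiv]

theorem su2_pow_char {p : ℕ} [CharP F p] {u : SUs (Fin 2) F} {w : Fin 2 → F} (hw : w ≠ 0) (h : u.1 *ᵥ w = w) :
    u ^ p = 1 := by
  have h1 : (u.1 - 1).det = 0 := Matrix.exists_mulVec_eq_zero_iff.1 ⟨w, hw, by rw [sub_mulVec, h]; simp⟩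
  have h2 := su_det u
  rw [det_fin_two] at h1 h2
  simp only [Matrix.sub_apply, one_apply_eq, one_apply_ne (show (0 : Fin 2) ≠ 1 by decide),
    one_apply_ne (show (1 : Fin 2) ≠ 0 by decide)] at h1
  have h3 : (u.1 - 1) * (u.1 - 1) = 0 := by
    ext i j
    fin_cases i <;> fin_cases j <;> simp [mul_apply, Fin.sum_univ_two]
    · linear_combination (u.1 0 0 - 1) * (h2 - h1) - h1
    · linear_combination (u.1 0 1) * (h2 - h1)
    · linear_combination (u.1 1 0) * (h2 - h1)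
    · linear_combination (u.1 1 1 - 1) * (h2 - h1) - h1
  have h4 : ∀ n : ℕ, (u ^ n).1 = 1 + (n : F) • (u.1 - 1) := by
    intro n
    induction n with
    | zero => simp [su_coe_one]
    | succ n ih =>
      rw [pow_succ, su_coe_mul, ih]
      calc _ = (1 + (n : F) • (u.1 - 1)) * (1 + (u.1 - 1)) := by simp
        _ = _ := by
          rw [add_mul, mul_add, mul_add, Matrix.smul_mul, Matrix.smul_mul, h3]
          simp only [Nat.cast_succ, add_smul, one_smul, Matrix.one_mul, Matrix.mul_one, smul_zero]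
          abel
  exact Subtype.ext (by rw [h4]; simp [su_coe_one])

theorem fix_of_stab (h : IsBar (starRingEnd F) q) {p : ℕ} [CharP F p] {a v : Fin 3 → F} (ha : BB _ F a a = 1)
    {g : SUs (Fin 3) F} (h1 : g.1 *ᵥ a = a) (h2 : g.1 *ᵥ v = v) (h3 : g ^ p ≠ 1) : ∃ c : F, v = c • a := by
  obtain ⟨k, rfl⟩ := exists_su_unit h (by simp) (BB_e (Fin.last 2)) ha
  obtain ⟨_, hu, rfl⟩ := (stab_mulVec k _).le (mem_stab.2 h1)
  obtain ⟨u, rfl⟩ := mem_range_al.2 hu
  obtain ⟨v, rfl⟩ : ∃ v', v = k.1 *ᵥ v' := ⟨_, (su_mulVec_inv k v).symm⟩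
  have h4 : (al F 2 u).1 *ᵥ v = v := by
    have : (k * al F 2 u * k⁻¹).1 *ᵥ (k.1 *ᵥ v) = k.1 *ᵥ v := h2
    rw [su_mul_mulVec, su_inv_mulVec, su_mul_mulVec] at this
    rw [← su_inv_mulVec k (_ *ᵥ v), this, su_inv_mulVec]
  obtain ⟨w, hw⟩ := exists_Pa (z := v - v (Fin.last 2) • eL F 2) (by
    rw [Pi.sub_apply, Pi.smul_apply, eL, Pi.single_eq_same, smul_eq_mul, mul_one, sub_self])
  have h5 : u.1 *ᵥ w = w := by
    have : (al F 2 u).1 *ᵥ (v - v (Fin.last 2) • eL F 2) = v - v (Fin.last 2) • eL F 2 := by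
      rw [mulVec_sub, mulVec_smul, h4, al_eL]
    rw [hw, al_Pa] at this
    have := congrArg ((Pm F Fin.castSucc)ᴴ *ᵥ ·) this
    simpa only [mulVec_mulVec _ (Pm F _)ᴴ (Pm F _), Pm_iso (Fin.castSucc_injective 2), one_mulVec] using this
  by_cases h0 : w = 0
  · rw [h0, mulVec_zero, sub_eq_zero] at hw
    exact ⟨v (Fin.last 2), by rw [← mulVec_smul, ← hw]⟩
  · exact absurd (by rw [← map_pow, ← map_pow, su2_pow_char h0 h5, map_one, map_one]) h3

theorem exists_fix_of_invol (h : IsBar (starRingEnd F) q) (h2 : (2 : F) ≠ 0) {z : SUs ι F} (hz : z * z = 1)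
    (hz' : z.1 ≠ -1) : ∃ a, BB ι F a a = 1 ∧ z.1 *ᵥ a = a := by
  have H := isHerm_stdB h ι
  have z1 : z.1 * z.1 = 1 := congrArg Subtype.val hz
  have z2 : z.1ᴴ = z.1 := by rw [← su_coe_inv, inv_eq_of_mul_eq_one_right hz]
  have z3 : z.1 * (z.1 + 1) = z.1 + 1 := by rw [Matrix.mul_add, z1, Matrix.mul_one, add_comm]
  by_contra hne
  push Not at hne
  have h1 : ∀ v ∈ LinearMap.range (toLin' (z.1 + 1)), BB ι F v v = 0 := by
    rintro _ ⟨v, rfl⟩
    by_contra h0
    obtain ⟨c, -, hc⟩ := Herm.exists_unit H h0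
    exact hne _ hc (by rw [mulVec_smul, toLin'_apply, mulVec_mulVec, z3])
  have h3 := H.le_perp_of_isotropic h1
  apply hz'
  rw [← add_eq_zero_iff_eq_neg, ext_iff_mulVec]
  intro v
  rw [zero_mulVec]
  refine H.nondeg' _ fun u => ?_
  have h4 := h3 ⟨v, rfl⟩ _ ⟨u, rfl⟩
  rw [toLin'_apply, toLin'_apply, BB_mulVec, mulVec_mulVec, conjTranspose_add, z2, conjTranspose_one,
    Matrix.add_mul, z3, Matrix.one_mul, ← two_smul F, smul_mulVec, map_smul, smul_eq_mul] at h4
  exact (mul_eq_zero.1 h4).resolve_left h2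

theorem exists_smul_of_iso (h : IsBar (starRingEnd F) q) {r s : Fin 3 → F} (hr0 : r ≠ 0) (hr : BB _ F r r = 0)
    (hs : BB _ F s s = 0) (hrs : BB _ F r s = 0) : ∃ c : F, s = c • r := by
  have H := isHerm_stdB h (Fin 3)
  by_contra hne
  push Not at hne
  have h1 : LinearIndependent F ![r, s] := (LinearIndependent.pair_iff' hr0).2 fun c e => hne c e.symm
  have h2 := finrank_span_eq_card h1
  have h3 : Submodule.span F (Set.range ![r, s]) ≤ perp (BB _ F) (Submodule.span F (Set.range ![r, s])) := by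
    rw [Submodule.span_le]
    rintro _ ⟨i, rfl⟩
    refine mem_perp_span.2 ?_
    rintro _ ⟨j, rfl⟩
    fin_cases i <;> fin_cases j <;> simp [hr, hs, hrs, H.flip_zero hrs]
  have h4 := Submodule.finrank_mono h3
  have h5 := H.finrank_add_finrank_perp (Submodule.span F (Set.range ![r, s]))
  rw [finrank_fintype_fun_eq_card] at h5
  rw [Fintype.card_fin] at h2 h5
  have h6 : finrank F (Submodule.span F (Set.range ![r, s])) +
    finrank F (perp (BB _ F) (Submodule.span F (Set.range ![r, s]))) = 3 := h5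
  omega

/-- `r` is the centre of the transvection `t`. -/
structure Cen (t : SUs (Fin 3) F) (r : Fin 3 → F) : Prop where
  ne : r ≠ 0
  iso : BB _ F r r = 0
  mem : ∀ v, ∃ c : F, t.1 *ᵥ v = v + c • r
  fix : ∀ v, t.1 *ᵥ v = v ↔ BB _ F r v = 0

theorem exists_cen (h : IsBar (starRingEnd F) q) (h2 : (2 : F) = 0) {t : SUs (Fin 3) F} (ht : t * t = 1)
    (ht1 : t ≠ 1) : ∃ r, Cen t r := by
  have H := isHerm_stdB h (Fin 3)
  have z1 : t.1 * t.1 = 1 := congrArg Subtype.val ht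
  have z2 : (t.1 - 1)ᴴ = t.1 - 1 := by
    rw [conjTranspose_sub, ← su_coe_inv, inv_eq_of_mul_eq_one_right ht, conjTranspose_one]
  have z3 : (t.1 - 1) * (t.1 - 1) = 0 := by
    have : (t.1 - 1) * (t.1 - 1) = (2 : F) • (1 - t.1) := by
      rw [Matrix.sub_mul, Matrix.mul_sub, z1, two_smul, Matrix.mul_one, Matrix.one_mul]; abel
    rw [this, h2, zero_smul]
  have h3 : LinearMap.range (toLin' (t.1 - 1)) ≤ LinearMap.ker (toLin' (t.1 - 1)) := by
    rintro _ ⟨v, rfl⟩
    rw [LinearMap.mem_ker, toLin'_apply, toLin'_apply, mulVec_mulVec, z3, zero_mulVec]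
  have h4 := Submodule.finrank_mono h3
  have h5 := LinearMap.finrank_range_add_finrank_ker (toLin' (t.1 - 1))
  rw [finrank_fintype_fun_eq_card, Fintype.card_fin] at h5
  obtain ⟨v, hv⟩ : ∃ v, (t.1 - 1) *ᵥ v ≠ 0 := by
    by_contra hne
    push Not at hne
    exact ht1 (Subtype.ext (sub_eq_zero.1 (ext_iff_mulVec.2 fun v => (hne v).trans (zero_mulVec v).symm)))
  have h6 : ∀ w, ∃ c : F, (t.1 - 1) *ᵥ w = c • ((t.1 - 1) *ᵥ v) := by
    intro w
    obtain ⟨c, hc⟩ := (finrank_eq_one_iff_of_nonzero' (⟨_, v, rfl⟩ : LinearMap.range (toLin' (t.1 - 1)))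
      (fun e => hv (congrArg Subtype.val e))).1 (le_antisymm (by omega) (Submodule.one_le_finrank_iff.2 (by
        intro e
        exact hv (show toLin' (t.1 - 1) v ∈ (⊥ : Submodule F _) from e ▸ ⟨v, rfl⟩)))) ⟨_, w, rfl⟩
    exact ⟨c, (congrArg Subtype.val hc).symm⟩
  refine ⟨_, hv, by rw [BB_mulVec, z2, mulVec_mulVec, z3]; simp, fun w => ?_, fun w => ⟨fun e => ?_, fun e => ?_⟩⟩
  · obtain ⟨c, hc⟩ := h6 w
    exact ⟨c, by rw [← hc, sub_mulVec, one_mulVec, add_sub_cancel]⟩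
  · rw [BB_mulVec, z2, sub_mulVec, e]; simp
  · rw [← sub_eq_zero, ← one_mulVec w, mulVec_mulVec, Matrix.mul_one, ← sub_mulVec]
    refine H.nondeg' _ fun u => ?_
    obtain ⟨c, hc⟩ := h6 u
    rw [← z2, ← BB_mulVec, hc]
    simp [e]

theorem Cen.commute {s t : SUs (Fin 3) F} {r r' : Fin 3 → F} (hs : Cen s r) (ht : Cen t r') {c : F}
    (e : r' = c • r) : s * t = t * s := by
  have hc : c ≠ 0 := by rintro rfl; exact ht.ne (by simpa using e)
  apply Subtype.ext
  rw [ext_iff_mulVec]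
  intro v
  obtain ⟨a, ha⟩ := hs.mem v
  obtain ⟨b, hb⟩ := ht.mem v
  have e1 : s.1 *ᵥ r' = r' := (hs.fix _).2 (by simp [e, hs.iso])
  have e2 : t.1 *ᵥ r = r := (ht.fix _).2 (by simp [e, hs.iso])
  rw [su_mul_mulVec, su_mul_mulVec, ha, hb, mulVec_add, mulVec_add, mulVec_smul, mulVec_smul, ha, hb, e1, e2]
  abel

theorem Cen.exists_smul (h : IsBar (starRingEnd F) q) {s t : SUs (Fin 3) F} {r r' : Fin 3 → F} (hs : Cen s r)
    (ht : Cen t r') (e : s * t = t * s) : ∃ c : F, r' = c • r := by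
  by_cases h0 : BB _ F r r' = 0
  · exact exists_smul_of_iso h hs.ne hs.iso ht.iso h0
  have H := isHerm_stdB h (Fin 3)
  obtain ⟨a, ha⟩ := hs.mem r'
  obtain ⟨b, hb⟩ := ht.mem r
  have a0 : a ≠ 0 := by
    rintro rfl
    exact h0 ((hs.fix _).1 (by simpa using ha))
  have e1 : t.1 *ᵥ r' = r' := (ht.fix _).2 ht.iso
  have e2 : t.1 *ᵥ (s.1 *ᵥ r') = s.1 *ᵥ r' := by rw [← su_mul_mulVec, ← e, su_mul_mulVec, e1]
  have := (ht.fix _).1 e2
  rw [ha] at this
  simp [ht.iso, a0] at this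
  exact absurd (H.flip_zero this) h0

theorem exists_fix_sl2 (h : IsBar (starRingEnd F) q) {K : Type*} [Field K] {p : ℕ} [Fact p.Prime] [CharP F p]
    [CharP K p] (f : SL(2, K) →* SUs (Fin 3) F) (hf : Function.Injective f) :
    ∃ a, BB _ F a a = 1 ∧ ∀ x, (f x).1 *ᵥ a = a := by
  have H := isHerm_stdB h (Fin 3)
  have t1 : ∀ (i j : Fin 2) (hij : i ≠ j) (c : K) (n : ℕ), (SpecialLinearGroup.transvection hij c : SL(2, K)) ^ n =
      SpecialLinearGroup.transvection hij (n * c) := by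
    intro i j hij c n
    induction n with
    | zero => simp [SpecialLinearGroup.transvection_coeff_zero]
    | succ n ih => rw [pow_succ, ih, ← SpecialLinearGroup.transvection_add]; congr 1; push_cast; ring
  have t2 : ∀ (i j : Fin 2) (hij : i ≠ j) (c : K), (SpecialLinearGroup.transvection hij c : SL(2, K)) ^ p = 1 :=
    fun i j hij c => by rw [t1]; simp [SpecialLinearGroup.transvection_coeff_zero]
  suffices hs : ∃ a, BB _ F a a = 1 ∧ ∀ (i j : Fin 2) (hij : i ≠ j) (c : K),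
      (f (SpecialLinearGroup.transvection hij c)).1 *ᵥ a = a by
    obtain ⟨a, ha, h1⟩ := hs
    have := CL.SLn.eq_top_of_transvection_mem ((stab a).comap f) h1
    exact ⟨a, ha, fun x => (this ▸ Subgroup.mem_top x : x ∈ (stab a).comap f)⟩
  by_cases hp : p = 2
  · subst hp
    have h2 : (2 : F) = 0 := CharP.cast_eq_zero F 2
    have c1 : ∀ (i j : Fin 2) (hij : i ≠ j) (c : K), c ≠ 0 →
        ∃ r, Cen (f (SpecialLinearGroup.transvection hij c)) r := fun i j hij c hc =>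
      exists_cen h h2 (by rw [← map_mul, ← pow_two, t2, map_one]) fun e => hc (by
        have := congrArg (fun A : SL(2, K) => A.1 i j) (hf (e.trans (map_one f).symm))
        simpa [SpecialLinearGroup.transvection_coe, hij] using this)
    have h01 : (0 : Fin 2) ≠ 1 := by decide
    obtain ⟨r, hr⟩ := c1 0 1 h01 1 one_ne_zero
    obtain ⟨r', hr'⟩ := c1 1 0 h01.symm 1 one_ne_zero
    have h3 : BB _ F r r' ≠ 0 := fun e => by
      obtain ⟨c, hc⟩ := exists_smul_of_iso h hr.ne hr.iso hr'.iso e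
      have := hr.commute hr' hc
      rw [← map_mul, ← map_mul] at this
      have := congrArg (fun A : SL(2, K) => A.1 0 0) (hf this)
      simp [SpecialLinearGroup.transvection_coe, mul_apply, Fin.sum_univ_two] at this
    obtain ⟨a, a1, a2, a3⟩ := H.exists_perp_hyperbolic (by simp) hr.iso hr'.iso h3 (map_one _)
    refine ⟨a, a3, fun i j hij c => ?_⟩
    rcases eq_or_ne c 0 with rfl | hc
    · rw [SpecialLinearGroup.transvection_coeff_zero, map_one, su_coe_one, one_mulVec]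
    obtain ⟨s, hs⟩ := c1 i j hij c hc
    obtain ⟨r₀, b1, b2⟩ : ∃ r₀, Cen (f (SpecialLinearGroup.transvection hij 1)) r₀ ∧ BB _ F r₀ a = 0 := by
      fin_cases i <;> fin_cases j
      · exact absurd rfl hij
      · exact ⟨r, hr, a1⟩
      · exact ⟨r', hr', a2⟩
      · exact absurd rfl hij
    obtain ⟨d, rfl⟩ := b1.exists_smul h hs (by
      rw [← map_mul, ← map_mul, ← SpecialLinearGroup.transvection_add, ← SpecialLinearGroup.transvection_add,
        add_comm])
    exact (hs.fix _).2 (by simp [b2])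
  · have h2 : (2 : F) ≠ 0 := Ring.two_ne_zero (by rwa [ringChar.eq F p])
    have h2' : (2 : K) ≠ 0 := Ring.two_ne_zero (by rwa [ringChar.eq K p])
    have z1 : f (-1) * f (-1) = 1 := by rw [← map_mul]; simp
    obtain ⟨a, ha, z2⟩ := exists_fix_of_invol h h2 z1 fun e => h2 (by
      have := su_det (f (-1))
      rw [e, det_neg, det_one] at this
      norm_num at this
      linear_combination -this)
    have z3 : f (-1) ^ p ≠ 1 := by
      rw [← map_pow, Odd.neg_one_pow ((Fact.out : p.Prime).odd_of_ne_two hp)]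
      intro e
      have := congrArg (fun A : SL(2, K) => A.1 0 0) (hf (e.trans (map_one f).symm))
      simp at this
      exact h2' (by linear_combination -this)
    refine ⟨a, ha, fun i j hij c => ?_⟩
    set t := f (SpecialLinearGroup.transvection hij c) with ht
    obtain ⟨d, hd⟩ := fix_of_stab h ha z2 (v := t.1 *ᵥ a) (by
      rw [← su_mul_mulVec, ht, ← map_mul, neg_one_mul, ← mul_neg_one, map_mul, su_mul_mulVec, z2]) z3
    have e1 : ∀ n : ℕ, (t ^ n).1 *ᵥ a = d ^ n • a := by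
      intro n
      induction n with
      | zero => simp [su_coe_one]
      | succ n ih => rw [pow_succ, su_mul_mulVec, hd, mulVec_smul, ih, smul_smul, pow_succ']
    have e2 := e1 p
    rw [ht, ← map_pow, t2, map_one, su_coe_one, one_mulVec] at e2
    have e3 : d ^ p = 1 := by
      have := congrArg (BB _ F a) e2
      rw [map_smul, ha] at this
      simpa using this.symm
    rw [hd, frobenius_inj F p (show frobenius F p d = frobenius F p 1 by rw [frobenius_def, e3, map_one]),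
      one_smul]

theorem exists_eq_stab (h : IsBar (starRingEnd F) q) {A : Subgroup (SUs (Fin 3) F)} (e : SUs (Fin 2) F ≃* A) :
    ∃ a, BB _ F a a = 1 ∧ A = stab a := by
  have := h.finite
  have := finite_su (ι := Fin 3) h
  have := Fintype.ofFinite (IsBar.fixedField (starRingEnd F))
  obtain ⟨p, f, hp, hc, -, hq⟩ := h.exists_prime_pow
  have := Fact.mk hp
  obtain ⟨e'⟩ := nonempty_sl2_equiv h (K := IsBar.fixedField (starRingEnd F)) (by
    rw [← Nat.card_eq_fintype_card, h.card_fixedField])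
  obtain ⟨a, ha, h1⟩ := exists_fix_sl2 h (A.subtype.comp (e'.trans e).toMonoidHom)
    (A.subtype_injective.comp (e'.trans e).injective)
  refine ⟨a, ha, Subgroup.eq_of_le_of_card_ge (fun g hg => ?_) ?_⟩
  · obtain ⟨x, hx⟩ := (e'.trans e).surjective ⟨g, hg⟩
    have := h1 x
    rwa [show (A.subtype.comp (e'.trans e).toMonoidHom) x = g from congrArg Subtype.val hx] at this
  · rw [card_stab h ha, Nat.card_congr e.toEquiv]

theorem stab_ne_top (h : IsBar (starRingEnd F) q) {m : ℕ} {a : Fin (m + 2) → F} (ha : BB _ F a a = 1) :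
    stab a ≠ ⊤ := by
  obtain ⟨l, l1, l2⟩ := exists_norm_one_ne h
  obtain ⟨g, hg⟩ := exists_su_unit h (by simp) ha (y := l • a) (by simp [ha, starRingEnd_apply, l1])
  intro e
  have h1 : g.1 *ᵥ a = a := (e ▸ Subgroup.mem_top g : g ∈ stab a)
  have h2 := congrArg (BB _ F a) (hg.symm.trans h1)
  rw [map_smul, ha] at h2
  obtain rfl : l = 1 := by simpa using h2
  simp at l2

theorem orth_of_commute (h : IsBar (starRingEnd F) q) {p : ℕ} [CharP F p] {a b : Fin 3 → F}
    (ha : BB _ F a a = 1) (hb : BB _ F b b = 1) (hab : stab a ≠ stab b) {d d' : SUs (Fin 3) F} (hd : d ∈ stab a)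
    (hd' : d' ∈ stab b) (h1 : d ^ p ≠ 1) (h2 : d' ^ p ≠ 1) (hc : d * d' = d' * d) : BB _ F b a = 0 := by
  obtain ⟨c, e⟩ := fix_of_stab h ha hd (v := d'.1 *ᵥ a) (by rw [← su_mul_mulVec, hc, su_mul_mulVec, hd]) h1
  by_contra h0
  have h3 := BB_su d' b a
  rw [hd', e, map_smul, smul_eq_mul] at h3
  rw [(mul_eq_right₀ h0).1 h3, one_smul] at e
  obtain ⟨c', rfl⟩ := fix_of_stab h hb hd' e h2
  have hc' : c' ≠ 0 := by rintro rfl; simp at ha
  refine hab (Subgroup.ext fun g => ?_)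
  rw [mem_stab, mem_stab, mulVec_smul, (smul_right_injective _ hc').eq_iff]

theorem exists_frame (h : IsBar (starRingEnd F) q) {m : ℕ} {a b : Fin (m + 3) → F} (ha : BB _ F a a = 1)
    (hb : BB _ F b b = 1) (hab : BB _ F a b = 0) :
    ∃ k : SUs (Fin (m + 3)) F, k.1 *ᵥ eL F _ = a ∧ k.1 *ᵥ e0 F _ = b := by
  obtain ⟨k, rfl⟩ := exists_su_unit h (by simp) (BB_e (Fin.last _)) ha
  obtain ⟨w, hw⟩ := exists_Pa (z := (k⁻¹).1 *ᵥ b) (by
    rw [← BB_single (Fin.last _) (_ *ᵥ b), ← BB_su k, su_mulVec_inv, hab])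
  obtain rfl : b = k.1 *ᵥ (Pm F Fin.castSucc *ᵥ w) := by rw [← hw, su_mulVec_inv]
  rw [BB_su, BB_iso (Pm_iso (Fin.castSucc_injective _))] at hb
  obtain ⟨x, rfl⟩ := exists_su_unit h (by simp) (BB_e 0) hb
  exact ⟨k * al F _ x, by rw [su_mul_mulVec, al_eL], by rw [su_mul_mulVec, ← Pa_e0, al_Pa]⟩

theorem isStandard_of (h : IsBar (starRingEnd F) q) {V A B : Subgroup G} (ψ : SUs (Fin 3) F ≃* V)
    (h1 : (al F 2).range.map (V.subtype.comp ψ.toMonoidHom) = A)
    (h2 : (be F 2).range.map (V.subtype.comp ψ.toMonoidHom) = B) : Cfsg.IsStandardUnitaryPair V A B F q := by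
  refine Or.inl ⟨(suBridge h 3).symm.trans ψ, ?_, ?_⟩
  · rw [suBlock_zero_one h, Subgroup.map_map, ← h1]
    rfl
  · rw [suBlock_one_two h, Subgroup.map_map, ← h2]
    rfl

theorem exists_gen_pow_ne (h : IsBar (starRingEnd F) q) {p : ℕ} [hp₀ : CharP F p] {D : Subgroup G} (h1 : IsCyclic D)
    (h2 : Nat.card D = q + 1) : ∃ d ∈ D, d ^ p ≠ 1 := by
  obtain ⟨p', f, hp, hc, hf, hq⟩ := h.exists_prime_pow
  obtain rfl : p = p' := CharP.eq F hp₀ hc
  obtain ⟨d, hd⟩ := IsCyclic.exists_ofOrder_eq_natCard (α := D)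
  refine ⟨d, d.2, fun e => ?_⟩
  have h3 : orderOf d ∣ p := orderOf_dvd_of_pow_eq_one (Subtype.ext e)
  have h4 := Nat.le_of_dvd hp.pos h3
  have h5 : p ≤ p ^ f := Nat.le_self_pow hf.ne' p
  omega

/-- Two subgroups `SU(2)` generating `SU(3)` with commuting tori form a standard pair. -/
theorem isStandard_of_tori (h : IsBar (starRingEnd F) q) {A B D D' : Subgroup G} (eA : Cfsg.SU 2 F q ≃* A)
    (eB : Cfsg.SU 2 F q ≃* B) (e : ↥(A ⊔ B) ≃* Cfsg.SU 3 F q) (hD : D ≤ A ∧ IsCyclic D ∧ Nat.card D = q + 1)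
    (hD' : D' ≤ B ∧ IsCyclic D' ∧ Nat.card D' = q + 1) (hc : ∀ x ∈ D, ∀ y ∈ D', x * y = y * x) :
    Cfsg.IsStandardUnitaryPair (A ⊔ B) A B F q := by
  obtain ⟨p, -, -, hp, -, -⟩ := h.exists_prime_pow
  let ψ : SUs (Fin 3) F ≃* ↥(A ⊔ B) := (suBridge h 3).trans e.symm
  let f : SUs (Fin 3) F →* G := (A ⊔ B).subtype.comp ψ.toMonoidHom
  have f1 : Function.Injective f := (A ⊔ B).subtype_injective.comp ψ.injective
  have f2 : f.range = A ⊔ B := by
    rw [MonoidHom.range_comp, MonoidHom.range_eq_top.2 ψ.surjective, ← MonoidHom.range_eq_map,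
      Subgroup.range_subtype]
  have key : ∀ C : Subgroup G, C ≤ A ⊔ B → (Cfsg.SU 2 F q ≃* C) → ∃ a, BB _ F a a = 1 ∧ (stab a).map f = C := by
    intro C hC eC
    have e1 : (C.comap f).map f = C := Subgroup.map_comap_eq_self (f2 ▸ hC)
    obtain ⟨a, ha, e2⟩ := exists_eq_stab h (A := C.comap f) (((suBridge h 2).trans eC).trans
      (((C.comap f).equivMapOfInjective f f1).trans (MulEquiv.subgroupCongr e1)).symm)
    exact ⟨a, ha, e2 ▸ e1⟩
  obtain ⟨a, ha, hA⟩ := key A le_sup_left eA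
  obtain ⟨b, hb, hB⟩ := key B le_sup_right eB
  obtain ⟨d, d1, d2⟩ := exists_gen_pow_ne h (p := p) hD.2.1 hD.2.2
  obtain ⟨d', d1', d2'⟩ := exists_gen_pow_ne h (p := p) hD'.2.1 hD'.2.2
  have d3 := hc d d1 d' d1'
  obtain ⟨d, d4, rfl⟩ := hA.ge (hD.1 d1)
  obtain ⟨d', d4', rfl⟩ := hB.ge (hD'.1 d1')
  have hab := orth_of_commute h (p := p) hb ha (fun e' => stab_ne_top h ha (by
      apply Subgroup.map_injective f1
      rw [← MonoidHom.range_eq_map, f2, ← hA, ← hB, e', sup_idem])) d4' d4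
    (fun e => d2' (by rw [← map_pow, e, map_one])) (fun e => d2 (by rw [← map_pow, e, map_one]))
    (f1 (by rw [map_mul, map_mul, d3]))
  obtain ⟨k, k1, k2⟩ := exists_frame h (m := 0) ha hb hab
  refine isStandard_of h ((MulAut.conj k).trans ψ) ?_ ?_
  · refine Eq.trans ?_ hA
    rw [← k1, stab_mulVec, range_al, Subgroup.map_map]
    rfl
  · refine Eq.trans ?_ hB
    rw [← k2, stab_mulVec, range_be, Subgroup.map_map]
    rfl

end CL.Phan
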