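import Cfsg.Agent.Perm.PhanBase

/-!
# Phan systems over the field with nine elements
-/

set_option autoImplicit false
set_option linter.unusedSectionVars false

namespace CL.Phan

open Module CL.Uni Matrix
open scoped MatrixGroups

universe u

variable {F : Type u} [Field F] [StarRing F] {q : ℕ} {G : Type*} [Group G]
variable {ι κ : Type} [Fintype ι] [DecidableEq ι] [Fintype κ] [DecidableEq κ]

theorem charP_of_isBar (h : IsBar (starRingEnd F) q) (hq : q.Prime) : CharP F q :=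
  have := Fact.mk hq
  (CharP.charP_iff_prime_eq_zero hq).2 h.cast_q

theorem transvection_pow_char {K : Type*} [Field K] {p : ℕ} [CharP K p] {i j : Fin 2} (hij : i ≠ j) (c : K) :
    (SpecialLinearGroup.transvection hij c : SL(2, K)) ^ p = 1 := by
  have t1 : ∀ n : ℕ, (SpecialLinearGroup.transvection hij c : SL(2, K)) ^ n =
      SpecialLinearGroup.transvection hij (n * c) := by
    intro n
    induction n with
    | zero => simp [SpecialLinearGroup.transvection_coeff_zero]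
    | succ n ih => rw [pow_succ, ih, ← SpecialLinearGroup.transvection_add]; congr 1; push_cast; ring
  rw [t1]; simp [SpecialLinearGroup.transvection_coeff_zero]

theorem su2_gen (h : IsBar (starRingEnd F) q) {p : ℕ} [CharP F p] {L : Subgroup (SUs (Fin 2) F)}
    (hL : ∀ u, u ^ p = 1 → u ∈ L) (u : SUs (Fin 2) F) : u ∈ L := by
  have := h.finite
  have := Fintype.ofFinite (IsBar.fixedField (starRingEnd F))
  obtain ⟨e⟩ := nonempty_sl2_equiv h (K := IsBar.fixedField (starRingEnd F)) (by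
    rw [← Nat.card_eq_fintype_card, h.card_fixedField])
  have := CL.SLn.eq_top_of_transvection_mem (L.comap e.toMonoidHom) fun i j hij c =>
    hL _ (by rw [← map_pow, transvection_pow_char, map_one])
  obtain ⟨x, rfl⟩ := e.surjective u
  exact (this ▸ Subgroup.mem_top x : x ∈ L.comap e.toMonoidHom)

theorem exists_su2_noncomm (h : IsBar (starRingEnd F) q) {p : ℕ} [CharP F p] :
    ∃ u v : SUs (Fin 2) F, u ^ p = 1 ∧ v ^ p = 1 ∧ u * v ≠ v * u := by
  have := h.finite
  have := Fintype.ofFinite (IsBar.fixedField (starRingEnd F))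
  obtain ⟨e⟩ := nonempty_sl2_equiv h (K := IsBar.fixedField (starRingEnd F)) (by
    rw [← Nat.card_eq_fintype_card, h.card_fixedField])
  have h01 : (0 : Fin 2) ≠ 1 := by decide
  refine ⟨e (SpecialLinearGroup.transvection h01 1), e (SpecialLinearGroup.transvection h01.symm 1),
    by rw [← map_pow, transvection_pow_char, map_one], by rw [← map_pow, transvection_pow_char, map_one],
    fun e' => ?_⟩
  rw [← map_mul, ← map_mul] at e'
  have := congrArg (fun A : SL(2, IsBar.fixedField (starRingEnd F)) => A.1 0 0) (e.injective e')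
  simp [SpecialLinearGroup.transvection_coe, mul_apply, Fin.sum_univ_two] at this

theorem pow_card_of_smul {x y : SUs ι F} {c : F} (e : x.1 = c • y.1) : c ^ Fintype.card ι = 1 := by
  have := su_det x
  rwa [e, det_smul, su_det, mul_one] at this

theorem pow_of_smul_comm {M N : SUs ι F} {c : F} (e : (M * N).1 = c • (N * M).1) {n : ℕ} (hM : M ^ n = 1)
    [Nonempty ι] : c ^ n = 1 := by
  have h1 : ∀ k : ℕ, (M ^ k * N).1 = c ^ k • (N * M ^ k).1 := by
    intro k
    induction k with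
    | zero => simp
    | succ k ih =>
      rw [pow_succ, mul_assoc, su_coe_mul, e, Matrix.mul_smul, ← su_coe_mul, ← mul_assoc, su_coe_mul, ih,
        Matrix.smul_mul, smul_smul, ← su_coe_mul, mul_assoc, pow_succ']
  have h2 := h1 n
  rw [hM, one_mul, mul_one] at h2
  have h3 := su_star_mul N
  nth_rw 2 [h2] at h3
  rw [Matrix.mul_smul, su_star_mul] at h3
  obtain ⟨i⟩ := ‹Nonempty ι›
  simpa using congrFun (congrFun h3 i) i

theorem Good.exists_lift {g : SUs (Fin 4) F →* G} (hg : Good g) {x : G} (hx : x ∈ g.range) (h3 : x ^ 3 = 1) :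
    ∃ M, g M = x ∧ M ^ 3 = 1 := by
  obtain ⟨M, rfl⟩ := hx
  obtain ⟨c, hc⟩ := hg.exists_smul (x := M ^ 3) (y := 1) (by rw [map_pow, h3, map_one])
  have h4 : c ^ 4 = 1 := pow_card_of_smul hc
  refine ⟨M ^ 4, by rw [map_pow, pow_succ, h3, one_mul], Subtype.ext ?_⟩
  rw [← pow_mul, mul_comm, pow_mul, SubmonoidClass.coe_pow, hc, su_coe_one, smul_pow, h4, one_pow, one_smul]

theorem Good.commute_of {g : SUs (Fin 4) F →* G} (hg : Good g) {M N : SUs (Fin 4) F} (h3 : M ^ 3 = 1)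
    (hc : Commute (g M) (g N)) : Commute M N := by
  obtain ⟨c, e⟩ := hg.exists_smul (x := M * N) (y := N * M) (by rw [map_mul, map_mul, hc.eq])
  have h4 : c ^ 4 = 1 := pow_card_of_smul e
  have h5 := pow_of_smul_comm e h3
  obtain rfl : c = 1 := by linear_combination h4 - c * h5
  exact Subtype.ext (e.trans (one_smul _ _))

theorem comm_proj_of_comm (h2 : (2 : F) ≠ 0) {P : Matrix κ ι F} {M : Matrix κ κ F}
    (e : M * embM P (-1) = embM P (-1) * M) : M * (P * Pᴴ) = P * Pᴴ * M := by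
  have e1 : embM P (-1) = 1 - (2 : F) • (P * Pᴴ) := by
    simp [embM, Matrix.mul_sub, Matrix.sub_mul, two_smul]; abel
  rw [e1, Matrix.mul_sub, Matrix.sub_mul, Matrix.mul_one, Matrix.one_mul, Matrix.mul_smul, Matrix.smul_mul] at e
  exact smul_right_injective _ h2 (sub_right_injective e)

theorem su2_eq_neg_one (h : IsBar (starRingEnd F) q) {p : ℕ} [CharP F p] (hp : Odd p) (h2 : (2 : F) ≠ 0)
    {z : SUs (Fin 2) F} (hz : z * z = 1) (h1 : z ≠ 1) : z.1 = -1 := by
  by_contra hne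
  obtain ⟨a, ha, e⟩ := exists_fix_of_invol h h2 hz hne
  have := su2_pow_char (p := p) (by rintro rfl; simp at ha) e
  obtain ⟨k, rfl⟩ := hp
  rw [pow_succ, pow_mul, pow_two, hz, one_pow, one_mul] at this
  exact h1 this

theorem exists_eq_conj_al (h : IsBar (starRingEnd F) q) {m : ℕ} {z : SUs (Fin (m + 2)) F} {a : Fin (m + 2) → F}
    (ha : BB _ F a a = 1) (e : z.1 *ᵥ a = a) : ∃ k z', z = k * al F _ z' * k⁻¹ := by
  obtain ⟨k, rfl⟩ := exists_su_unit h (by simp) (BB_e (Fin.last (m + 1))) ha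
  obtain ⟨_, hu, rfl⟩ := (stab_mulVec k _).le (mem_stab.2 e)
  obtain ⟨u, rfl⟩ := mem_range_al.2 hu
  exact ⟨k, u, rfl⟩

theorem exists_split_of_conj {z k : SUs (Fin 4) F} {k' : SUs (Fin 3) F} {u : SUs (Fin 2) F}
    (e : z = k * al F 3 (k' * al F 2 u * k'⁻¹) * k⁻¹) :
    ∃ (P Q : Matrix (Fin 4) (Fin 2) F) (S : Split P Q), z = emb P S.left u := by
  refine ⟨_, _, split_zero.mul (k * al F 3 k'), ?_⟩
  have : al F 3 (al F 2 u) = emb (P0 F) split_zero.left u := Subtype.ext (al_al_coe u)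
  rw [← conj_emb (k * al F 3 k') split_zero.left, ← this, e, map_mul, map_mul, map_inv]
  group

theorem exists_split_of_invol (h : IsBar (starRingEnd F) q) {p : ℕ} [CharP F p] (hp : Odd p) (h2 : (2 : F) ≠ 0)
    {z : SUs (Fin 4) F} (hz : z * z = 1) (h1 : ∀ c : F, z.1 ≠ c • 1) :
    ∃ P Q : Matrix (Fin 4) (Fin 2) F, Split P Q ∧ z.1 = embM P (-1) := by
  obtain ⟨a, ha, e⟩ := exists_fix_of_invol h h2 hz (by simpa using h1 (-1))
  obtain ⟨k, z', rfl⟩ := exists_eq_conj_al h ha e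
  have h3 : z' * z' = 1 := al_injective (by
    rw [map_mul, map_one, ← (MulAut.conj k).injective.eq_iff, map_mul, map_one]; exact hz)
  obtain ⟨a', ha', e'⟩ := exists_fix_of_invol h h2 h3 fun e => h2 (by
    have := su_det z'
    rw [e, det_neg, det_one] at this
    norm_num at this
    linear_combination -this)
  obtain ⟨k', u, rfl⟩ := exists_eq_conj_al h ha' e'
  have h4 : u * u = 1 := al_injective (by
    rw [map_mul, map_one, ← (MulAut.conj k').injective.eq_iff, map_mul, map_one]; exact h3)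
  obtain ⟨P, Q, S, e⟩ := exists_split_of_conj (z := k * al F 3 (k' * al F 2 u * k'⁻¹) * k⁻¹) rfl
  refine ⟨P, Q, S, ?_⟩
  rw [e, emb_coe, su2_eq_neg_one h hp h2 h4]
  rintro rfl
  exact h1 1 (by rw [e, map_one, one_smul, su_coe_one])

theorem su2_eq_one_of_commute {p : ℕ} [Fact p.Prime] [CharP F p] {s x y : SUs (Fin 2) F} (hs : s ^ p = 1)
    (h1 : x * s = s * x) (h2 : y * s = s * y) (h3 : x * y ≠ y * x) : s = 1 := by
  by_cases h4 : ∀ c : F, s.1 ≠ c • 1
  · obtain ⟨a, b, e1⟩ := exists_poly_of_commute h4 (congrArg Subtype.val h1)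
    obtain ⟨c, d, e2⟩ := exists_poly_of_commute h4 (congrArg Subtype.val h2)
    refine absurd (Subtype.ext ?_) h3
    rw [su_coe_mul, su_coe_mul, e1, e2]
    simp only [Matrix.add_mul, Matrix.mul_add, Matrix.smul_mul, Matrix.mul_smul, Matrix.one_mul, Matrix.mul_one]
    module
  · push Not at h4
    obtain ⟨c, hc⟩ := h4
    have h5 := congrArg Subtype.val hs
    rw [SubmonoidClass.coe_pow, hc, smul_pow, one_pow] at h5
    have h6 : c ^ p = 1 := by simpa using congrFun (congrFun h5 0) 0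
    have h7 : c = 1 := frobenius_inj F p (by rw [frobenius_def, h6, map_one])
    exact Subtype.ext (by rw [hc, h7, one_smul]; rfl)

theorem Split.comm_left {P Q : Matrix κ ι F} (S : Split P Q) {X Y X' Y' : SUs ι F}
    (e : Commute (emb P S.left X * emb Q S.right Y) (emb P S.left X' * emb Q S.right Y')) : X * X' = X' * X := by
  have key : ∀ X Y : SUs ι F, (emb P S.left X * emb Q S.right Y).1 * P = P * X.1 := fun X Y => by
    rw [su_coe_mul, emb_coe, emb_coe, Matrix.mul_assoc, embM_mul_of_orth S.orth', embM_mul_self S.left]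
  have h1 := congrArg (fun M : SUs κ F => Pᴴ * (M.1 * P)) e.eq
  simp only [su_coe_mul (emb P S.left X * _), su_coe_mul (emb P S.left X' * _), Matrix.mul_assoc, key] at h1
  simp only [← Matrix.mul_assoc _ P, key] at h1
  simp only [← Matrix.mul_assoc, S.left, Matrix.one_mul] at h1
  exact Subtype.ext h1

theorem range_eq_of_le (h : IsBar (starRingEnd F) q) {f f' : SUs ι F →* G} (hf : Function.Injective f)
    (e : f.range ≤ f'.range) : f.range = f'.range := by
  have := finite_su (ι := ι) h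
  have : Finite f'.range := Finite.of_surjective _ f'.rangeRestrict_surjective
  refine Subgroup.eq_of_le_of_card_ge e ?_
  rw [← Nat.card_congr (MonoidHom.ofInjective hf).toEquiv]
  exact Nat.card_le_card_of_surjective _ f'.rangeRestrict_surjective

theorem blocks_sep (h : IsBar (starRingEnd F) 3) {g : SUs (Fin 4) F →* G} (hg : Good g)
    {f f' : SUs (Fin 2) F →* G} (hf : Function.Injective f) (hf' : Function.Injective f')
    (hc : ∀ u v, Commute (f u) (f' v)) {P Q : Matrix (Fin 4) (Fin 2) F} (S : Split P Q)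
    (h1 : ∀ u, u ^ 3 = 1 → ∃ X Y, X ^ 3 = 1 ∧ Y ^ 3 = 1 ∧ g (emb P S.left X * emb Q S.right Y) = f u)
    (h2 : ∀ u, u ^ 3 = 1 → ∃ X Y, X ^ 3 = 1 ∧ Y ^ 3 = 1 ∧ g (emb P S.left X * emb Q S.right Y) = f' u)
    {X Y X' Y' u u' : SUs (Fin 2) F} (a1 : g (emb P S.left X * emb Q S.right Y) = f u)
    (a2 : g (emb P S.left X' * emb Q S.right Y') = f u') (a3 : X * X' ≠ X' * X) :
    f.range = (g.comp (emb P S.left)).range ∧ f'.range = (g.comp (emb Q S.right)).range := by
  have := charP_of_isBar h Nat.prime_three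
  have := Fact.mk Nat.prime_three
  have hp : ∀ X Y : SUs (Fin 2) F, X ^ 3 = 1 → Y ^ 3 = 1 → (emb P S.left X * emb Q S.right Y) ^ 3 = 1 :=
    fun X Y e1 e2 => by
      rw [Commute.mul_pow (emb_comm S.left S.right S.orth X Y), ← map_pow, ← map_pow, e1, e2, map_one, map_one,
        mul_one]
  have b1 : ∀ v, v ^ 3 = 1 → ∃ Y, Y ^ 3 = 1 ∧ g (emb Q S.right Y) = f' v := fun v hv => by
    obtain ⟨X₀, Y₀, e1, e2, e3⟩ := h2 v hv
    obtain rfl : X₀ = 1 := su2_eq_one_of_commute e1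
      (S.comm_left (hg.commute_of (hp _ _ e1 e2) (by rw [e3, a1]; exact (hc _ _).symm))).symm
      (S.comm_left (hg.commute_of (hp _ _ e1 e2) (by rw [e3, a2]; exact (hc _ _).symm))).symm a3
    exact ⟨Y₀, e2, by rwa [map_one, one_mul] at e3⟩
  obtain ⟨v, v', v1, v2, v3⟩ := exists_su2_noncomm h (p := 3)
  obtain ⟨Z, z1, z2⟩ := b1 v v1
  obtain ⟨Z', z3, z4⟩ := b1 v' v2
  have z5 : Z * Z' ≠ Z' * Z := fun e => v3 (hf' (by
    rw [map_mul, map_mul, ← z2, ← z4, ← map_mul, ← map_mul, ← map_mul, ← map_mul, e]))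
  have b2 : ∀ v, v ^ 3 = 1 → ∃ X, g (emb P S.left X) = f v := fun w hw => by
    obtain ⟨X₀, Y₀, e1, e2, e3⟩ := h1 w hw
    have e4 := hp _ _ e1 e2
    rw [emb_comm S.left S.right S.orth] at e3 e4
    have key : ∀ Z v, g (emb Q S.right Z) = f' v → Z * Y₀ = Y₀ * Z := fun Z v e =>
      (S.symm.comm_left (Y' := 1) (hg.commute_of e4 (by rw [e3, map_one, mul_one, e]; exact hc _ _))).symm
    obtain rfl : Y₀ = 1 := su2_eq_one_of_commute e2 (key _ _ z2) (key _ _ z4) z5
    exact ⟨X₀, by rwa [map_one, one_mul] at e3⟩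
  refine ⟨range_eq_of_le h hf ?_, range_eq_of_le h hf' ?_⟩
  · rintro _ ⟨w, rfl⟩
    exact su2_gen h (p := 3) (L := (g.comp (emb P S.left)).range.comap f) b2 w
  · rintro _ ⟨w, rfl⟩
    exact su2_gen h (p := 3) (L := (g.comp (emb Q S.right)).range.comap f')
      (fun v hv => let ⟨Y, _, e⟩ := b1 v hv; ⟨Y, e⟩) w

/-- The element `-1` of `SU(2)`. -/
def su2neg (F : Type u) [Field F] [StarRing F] : SUs (Fin 2) F := su2 (-1) 0 (by simp)

theorem su2neg_coe : (su2neg F).1 = -1 := by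
  ext i j
  fin_cases i <;> fin_cases j <;> simp [su2neg, su2_coe]

theorem su2neg_comm (u : SUs (Fin 2) F) : Commute (su2neg F) u :=
  Subtype.ext (by rw [su_coe_mul, su_coe_mul, su2neg_coe]; simp)

theorem su2neg_ne (h2 : (2 : F) ≠ 0) : su2neg F ≠ 1 := fun e => h2 (by
  have := congrArg (fun A : SUs (Fin 2) F => A.1 0 0) e
  simp [su2neg_coe, su_coe_one] at this
  linear_combination -this)

theorem su2neg_sq : su2neg F * su2neg F = 1 := Subtype.ext (by rw [su_coe_mul, su2neg_coe]; simp [su_coe_one])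

theorem exists_outer_blocks (h : IsBar (starRingEnd F) 3) {g : SUs (Fin 4) F →* G} (hg : Good g)
    {f f' : SUs (Fin 2) F →* G} (hf : Function.Injective f) (hf' : Function.Injective f')
    (hc : ∀ u v, Commute (f u) (f' v)) (h1 : f.range ≤ g.range) (h2 : f'.range ≤ g.range)
    (h3 : ∃ x ∈ g.range, ¬ Commute (f (su2neg F)) x) : ∃ (P Q : Matrix (Fin 4) (Fin 2) F) (S : Split P Q),
      f.range = (g.comp (emb P S.left)).range ∧ f'.range = (g.comp (emb Q S.right)).range := by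
  have := charP_of_isBar h Nat.prime_three
  have := Fact.mk Nat.prime_three
  have t2 : (2 : F) ≠ 0 := Ring.two_ne_zero (by rw [ringChar.eq F 3]; decide)
  obtain ⟨l, l1, l2⟩ := exists_norm_one_ne h
  have l3 : star l = l ^ 3 := h.apply l
  have l4 : l * l = -1 := by
    have : (l - star l) * (l * l + 1) = 0 := by rw [l3] at l1 ⊢; linear_combination -l * l1
    exact eq_neg_of_add_eq_zero_left ((mul_eq_zero.1 this).resolve_left (sub_ne_zero.2 l2))
  have l5 : star l = -l := by rw [l3]; linear_combination l * l4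
  set i : SUs (Fin 2) F := su2 l 0 (by simpa using l1) with hi
  set j : SUs (Fin 2) F := su2 0 1 (by simp) with hj
  have i1 : i * i = su2neg F := Subtype.ext (by simp [su_coe_mul, hi, su2_coe, su2neg, l4, l5])
  have i2 : i * j = su2neg F * (j * i) := Subtype.ext (by simp [su_coe_mul, hi, hj, su2_coe, su2neg, l5])
  obtain ⟨I, hI⟩ := h1 ⟨i, rfl⟩
  obtain ⟨J, hJ⟩ := h1 ⟨j, rfl⟩
  obtain ⟨z, hz⟩ : ∃ z, z = I * J * (J * I)⁻¹ := ⟨_, rfl⟩
  have z1 : g z = f (su2neg F) := by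
    rw [hz, map_mul, map_inv, map_mul, map_mul, hI, hJ, ← map_mul, ← map_mul, i2, map_mul, mul_inv_cancel_right]
  have z2 : ∀ u M, g M = f u → Commute z M := fun u M e => by
    obtain ⟨M', e1, e2⟩ := su2_gen h (p := 3) (L := ((Subgroup.centralizer {z}).map g).comap f) (fun v hv => by
      obtain ⟨N, n1, n2⟩ := hg.exists_lift (h1 ⟨v, rfl⟩) (by rw [← map_pow, hv, map_one])
      exact ⟨N, Subgroup.mem_centralizer_singleton_iff.2 (hg.commute_of n2 (by
        rw [n1, z1]; exact ((su2neg_comm v).map f).symm)).eq, n1⟩) u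
    obtain ⟨c, hc⟩ := hg.exists_smul (e.trans e2.symm)
    have e3 := congrArg Subtype.val (Subgroup.mem_centralizer_singleton_iff.1 e1)
    apply Subtype.ext
    rw [su_coe_mul, su_coe_mul] at e3 ⊢
    rw [hc, Matrix.mul_smul, Matrix.smul_mul, e3]
  have z3 : z * z = 1 := by
    obtain ⟨c, hc⟩ := hg.exists_smul (x := I * I) (y := z) (by rw [map_mul, hI, ← map_mul, i1, z1])
    have e1 : I * I * J = J * (I * I) := Subtype.ext (by
      rw [su_coe_mul, su_coe_mul J, hc, Matrix.mul_smul, Matrix.smul_mul, ← su_coe_mul, (z2 _ _ hJ).eq,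
        su_coe_mul])
    have e2 : I * J = z * (J * I) := by rw [hz, inv_mul_cancel_right]
    have e3 : I * I * J = z * z * (J * (I * I)) := by
      calc I * I * J = I * z * (J * I) := by rw [mul_assoc, e2, mul_assoc]
        _ = z * (I * J) * I := by rw [← (z2 _ _ hI).eq]; group
        _ = _ := by rw [e2]; group
    rw [e1] at e3
    exact mul_right_cancel (e3.symm.trans (one_mul _).symm)
  obtain ⟨P, Q, S, e⟩ := exists_split_of_invol h (p := 3) (by decide) t2 z3 fun c e => by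
    obtain ⟨_, ⟨M, rfl⟩, hM⟩ := h3
    refine hM (z1 ▸ Commute.map (Subtype.ext ?_) g)
    rw [su_coe_mul, su_coe_mul, e]; simp
  have key : ∀ x ∈ g.range, x ^ 3 = 1 → Commute x (g z) →
      ∃ X Y, X ^ 3 = 1 ∧ Y ^ 3 = 1 ∧ g (emb P S.left X * emb Q S.right Y) = x := fun x hx x1 x2 => by
    obtain ⟨N, rfl, n2⟩ := hg.exists_lift hx x1
    obtain ⟨X, Y, a1, a2, rfl⟩ := S.exists_blocks (comm_proj_of_comm t2 (by
      rw [← e]; exact congrArg Subtype.val (hg.commute_of n2 x2).eq)) n2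
    exact ⟨X, Y, a1, a2, rfl⟩
  have k1 : ∀ u, u ^ 3 = 1 → ∃ X Y, X ^ 3 = 1 ∧ Y ^ 3 = 1 ∧ g (emb P S.left X * emb Q S.right Y) = f u :=
    fun u hu => key _ (h1 ⟨u, rfl⟩) (by rw [← map_pow, hu, map_one]) (z1 ▸ ((su2neg_comm u).map f).symm)
  have k2 : ∀ u, u ^ 3 = 1 → ∃ X Y, X ^ 3 = 1 ∧ Y ^ 3 = 1 ∧ g (emb P S.left X * emb Q S.right Y) = f' u :=
    fun u hu => key _ (h2 ⟨u, rfl⟩) (by rw [← map_pow, hu, map_one]) (z1 ▸ (hc _ u).symm)
  obtain ⟨v, v', v1, v2, v3⟩ := exists_su2_noncomm h (p := 3)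
  obtain ⟨X, Y, -, -, a1⟩ := k1 v v1
  obtain ⟨X', Y', -, -, a2⟩ := k1 v' v2
  have sw := emb_comm S.left S.right S.orth
  by_cases a3 : X * X' = X' * X
  · refine ⟨Q, P, S.symm, blocks_sep h hg hf hf' hc S.symm (fun u hu => ?_) (fun u hu => ?_) (sw X Y ▸ a1)
      (sw X' Y' ▸ a2) fun a4 => v3 (hf ?_)⟩
    · obtain ⟨X, Y, e1, e2, e3⟩ := k1 u hu
      exact ⟨Y, X, e2, e1, sw X Y ▸ e3⟩
    · obtain ⟨X, Y, e1, e2, e3⟩ := k2 u hu
      exact ⟨Y, X, e2, e1, sw X Y ▸ e3⟩
    · rw [map_mul, map_mul, ← a1, ← a2, ← map_mul, ← map_mul]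
      refine congrArg g (Commute.mul_left (Commute.mul_right (Commute.map a3 _) (sw X Y'))
        (Commute.mul_right (sw X' Y).symm (Commute.map a4 _))).eq
  · exact ⟨P, Q, S, blocks_sep h hg hf hf' hc S k1 k2 a1 a2 a3⟩

theorem Sys.exists_four (h : IsBar (starRingEnd F) q) {k : ℕ} {U : Fin (k + 2) → Subgroup G}
    {V : Fin (k + 2) → Fin (k + 2) → Subgroup G} {φ : ℕ → (SUs (Fin 3) F →* G)} (S : Sys F U V φ) {s : ℕ}
    (hs : s + 1 < k + 1) (h4 : ∀ i j l : Fin (k + 2), (i : ℕ) + 1 = j → (j : ℕ) + 1 = l →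
      ∃ g : Cfsg.SU 4 F q →* ↥(V i j ⊔ V j l), Function.Surjective g) :
    ∃ g : SUs (Fin 4) F →* G, (φ s).range ≤ g.range ∧ (φ (s + 1)).range ≤ g.range := by
  obtain ⟨g, hg⟩ := h4 ⟨s, by omega⟩ ⟨s + 1, by omega⟩ ⟨s + 1 + 1, by omega⟩ rfl rfl
  have key : ∀ {W : Subgroup G} (g : Cfsg.SU 4 F q →* W), Function.Surjective g →
      W ≤ ((W.subtype.comp g).comp (suBridge h 4).toMonoidHom).range := fun g hg x hx => by
    obtain ⟨y, hy⟩ := hg ⟨x, hx⟩
    obtain ⟨z, rfl⟩ := (suBridge h 4).surjective y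
    exact ⟨z, congrArg Subtype.val hy⟩
  refine ⟨_, le_trans ?_ (key g hg), le_trans ?_ (key g hg)⟩
  · rw [S.range s (by omega)]; exact le_sup_left
  · rw [S.range (s + 1) (by omega)]; exact le_sup_right

theorem exists_base_three (h : IsBar (starRingEnd F) 3) {φ φ' : SUs (Fin 3) F →* G} (hφ : Good φ)
    (hφ' : Good φ') (hc : φ.comp (be F 2) = φ'.comp (al F 2))
    (hcomm : ∀ u v, Commute (φ (al F 2 u)) (φ' (be F 2 v))) {g : SUs (Fin 4) F →* G}
    (h1 : φ.range ≤ g.range) (h2 : φ'.range ≤ g.range) :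
    ∃ ψ : SUs (Fin 4) F →* G, ψ.comp (al F 3) = φ ∧ ψ.comp (be F 3) = φ' := by
  have := charP_of_isBar h Nat.prime_three
  have t2 : (2 : F) ≠ 0 := Ring.two_ne_zero (by rw [ringChar.eq F 3]; decide)
  have n1 := su2neg_ne t2
  have hg : Good g := good_of_ne h (by
    rintro rfl
    obtain ⟨x, hx⟩ := h1 ⟨al F 2 (su2neg F), rfl⟩
    exact n1 (hφ.al_injective (hx.symm.trans (map_one _).symm)))
  obtain ⟨P, Q, S, a1, a3⟩ := exists_outer_blocks h hg hφ.al_injective hφ'.be_injective hcomm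
    (by rintro _ ⟨x, rfl⟩; exact h1 ⟨_, rfl⟩) (by rintro _ ⟨x, rfl⟩; exact h2 ⟨_, rfl⟩) (by
      by_contra hne
      push Not at hne
      exact n1 (hφ.eq_one_of_commute fun v => hne _ (h1 ⟨_, rfl⟩)))
  obtain ⟨x, hx, e⟩ := range_be_eq_conj h φ
  obtain ⟨k, a2⟩ := exists_emb_conj (h1 hx) e S.left a1
  have key : ∀ {f : SUs (Fin 2) F →* G} {P Q : Matrix (Fin 4) (Fin 2) F} (S : Split P Q), Function.Injective f →
      f.range = (g.comp (emb P S.left)).range → g (emb P S.left (su2neg F)) = f (su2neg F) := by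
    intro f P Q S hf e
    obtain ⟨θ, hθ⟩ := exists_aut_of_range_eq hf (hg.emb_injective S) e
    have : θ (su2neg F) = su2neg F := Subtype.ext ((su2_eq_neg_one h (p := 3) (by decide) t2
      (by rw [← map_mul, su2neg_sq, map_one]) (by rwa [Ne, map_eq_one_iff θ θ.injective])).trans su2neg_coe.symm)
    rw [hθ, this]; rfl
  have b1 := key S hφ.al_injective a1
  have b2 := key (S.mul k) hφ.be_injective a2
  set ρ := emb P S.left (su2neg F) with hρ
  set ρ' := emb (k.1 * P) (S.mul k).left (su2neg F) with hρ'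
  obtain ⟨c, e1⟩ := hg.exists_smul (x := ρ * ρ') (y := ρ' * ρ) (by
    rw [map_mul, map_mul, b1, b2, MonoidHom.comp_apply, MonoidHom.comp_apply, ← map_mul, ← map_mul]
    refine congrArg φ (Subtype.ext ?_)
    rw [su_coe_mul, su_coe_mul, al_two, be_two, su2neg_coe]
    simp)
  have e2 : c ^ 2 = 1 := pow_of_smul_comm e1 (by rw [pow_two, hρ, ← map_mul, su2neg_sq, map_one])
  have r1 : ρ.1 = 1 - (2 : F) • (P * Pᴴ) := by
    rw [hρ, emb_coe, su2neg_coe]
    simp [embM, Matrix.mul_sub, Matrix.sub_mul, two_smul]; abel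
  have e3 : c = 1 := by
    refine (sq_eq_one_iff.1 e2).resolve_right fun e3 => ?_
    subst e3
    obtain ⟨u, v, -, -, huv⟩ := exists_su2_noncomm h (p := 3)
    have e4 : ρ'.1 * (P * Pᴴ) = Q * Qᴴ * ρ'.1 := by
      rw [su_coe_mul, su_coe_mul, r1, Matrix.mul_sub, Matrix.sub_mul, Matrix.mul_one, Matrix.one_mul,
        Matrix.mul_smul, Matrix.smul_mul] at e1
      rw [← sub_eq_iff_eq_add'.2 S.add.symm, Matrix.sub_mul, Matrix.one_mul]
      apply smul_right_injective _ t2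
      simp only
      rw [smul_sub, two_smul F ρ'.1, eq_sub_iff_add_eq, ← sub_eq_zero, ← sub_eq_zero.2 e1.symm]
      simp only [neg_smul, one_smul]
      abel
    have e5 : (emb (ρ'.1 * P) (iso_mul (su_star_mul ρ') S.left)).range = (emb Q S.right).range :=
      range_emb_congr _ _ (by
        rw [conjTranspose_mul, Matrix.mul_assoc, ← Matrix.mul_assoc P, ← Matrix.mul_assoc, e4, Matrix.mul_assoc,
          su_mul_star, Matrix.mul_one])
    obtain ⟨u', hu'⟩ := conj_al_mem (be_diag_eL (d := su2neg F) (by simp [su2neg_coe])) u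
    obtain ⟨y, hy⟩ := a1.le ⟨u', rfl⟩
    obtain ⟨y', hy'⟩ := e5.le ⟨y, rfl⟩
    obtain ⟨w, hw⟩ := a3.ge ⟨y', rfl⟩
    have e6 : φ (al F 2 u) = φ' (be F 2 w) := by
      rw [MonoidHom.comp_apply, MonoidHom.comp_apply] at hy hw
      rw [MonoidHom.comp_apply] at b2
      rw [hw, hy', ← conj_emb ρ' S.left, map_mul, map_mul, map_inv, b2, hy, ← hu', map_mul, map_mul, map_inv]
      group
    refine huv (hφ.al_injective ?_)
    rw [map_mul, map_mul, MonoidHom.comp_apply, MonoidHom.comp_apply, e6, (hcomm v w).eq]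
  rw [e3, one_smul, su_coe_mul, su_coe_mul, hρ, emb_coe, su2neg_coe] at e1
  have e4 := comm_proj_of_comm t2 e1.symm
  rw [hρ', emb_coe, su2neg_coe] at e4
  obtain ⟨ψ, -, -, c1, c2, c3, c4⟩ := exists_agree_of_split h hφ hφ' hc hg S (S.mul k).left
    (comm_proj_of_comm t2 e4.symm).symm a1 a2 a3
  have gen : ∀ χ χ' : SUs (Fin 3) F →* G, (∀ u, χ (al F 2 u) = χ' (al F 2 u)) →
      (∀ u, χ (be F 2 u) = χ' (be F 2 u)) → χ = χ' := fun χ χ' e1 e2 => by
    have : χ.eqLocus χ' = ⊤ := eq_top_of_al_be (m := 0) h (Or.inr le_rfl) e1 e2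
    ext x
    exact (this ▸ Subgroup.mem_top x : x ∈ χ.eqLocus χ')
  exact ⟨ψ, (gen _ _ c1 c2).symm, (gen _ _ c3 c4).symm⟩

/-- Phan's theorem for `q = 3`. -/
theorem weak_phan_three (h : IsBar (starRingEnd F) 3) {n : ℕ} (hn : 2 ≤ n) (U : Fin n → Subgroup G)
    (V : Fin n → Fin n → Subgroup G)
    (h1 : ∀ i j : Fin n, (i : ℕ) + 2 ≤ j → ∀ x ∈ U i, ∀ y ∈ U j, x * y = y * x)
    (h2 : ∀ i j : Fin n, (i : ℕ) + 1 = j → Cfsg.IsStandardUnitaryPair (V i j) (U i) (U j) F 3)
    (hgen : (⨆ i, U i) ⊔ (⨆ (i : Fin n) (j : Fin n) (_ : (i : ℕ) + 1 = j), V i j) = ⊤)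
    (h4 : ∀ i j k : Fin n, (i : ℕ) + 1 = j → (j : ℕ) + 1 = k →
      ∃ g : Cfsg.SU 4 F 3 →* ↥(V i j ⊔ V j k), Function.Surjective g) :
    ∃ f : Cfsg.SU (n + 1) F 3 →* G, Function.Surjective f := by
  obtain ⟨k, rfl⟩ : ∃ k, n = k + 2 := ⟨n - 2, by omega⟩
  obtain ⟨φ, S⟩ := exists_sys h U V h1 h2
  obtain ⟨ψ, hψ⟩ := exists_Ext h (k + 1) (S.commute_of_three h le_rfl h1) (fun s hs => by
    obtain ⟨g, e1, e2⟩ := S.exists_four h hs h4
    obtain ⟨ψ, e1, e2⟩ := exists_base_three h (S.good s (by omega)) (S.good (s + 1) (by omega))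
      (S.compat s (by omega)) (fun u y =>
        h1 ⟨s, by omega⟩ ⟨s + 2, by omega⟩ le_rfl _ (S.al_mem (by omega) u) _ (S.be_mem (by omega) y)) e1 e2
    exact ⟨ψ, e1, e2⟩) (fun _ _ a b _ _ _ h1 h2 => (amalOf a b h1 h2).π_injective h
      (Or.inl ⟨le_rfl, by omega⟩)) k 0 (by omega)
  exact S.exists_surjective h hψ hgen

end CL.Phan
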