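import Cfsg.Agent.Perm.PhanTwoA

/-!
# Phan systems over the field with four elements
-/

set_option autoImplicit false
set_option linter.unusedSectionVars false

namespace CL.Phan

open Module CL.Uni Matrix
open scoped MatrixGroups

universe u

variable {F : Type u} [Field F] [StarRing F] {G : Type*} [Group G]
variable {ι κ : Type} [Fintype ι] [DecidableEq ι] [Fintype κ] [DecidableEq κ]

theorem add_self_two (h : IsBar (starRingEnd F) 2) (M : Matrix ι κ F) : M + M = 0 := by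
  rw [← two_smul F, two_eq_zero h, zero_smul]

theorem Good.injective_two (h : IsBar (starRingEnd F) 2) {g : SUs (Fin 4) F →* G} (hg : Good g) :
    Function.Injective g := by
  intro x y e
  obtain ⟨c, hc⟩ := hg.exists_smul e
  have h4 : c ^ 4 = 1 := pow_card_of_smul hc
  have h3 : c ^ 3 = 1 := (h.norm_eq_pow c).symm.trans (norm_eq_one h (by rintro rfl; simp at h4))
  obtain rfl : c = 1 := by linear_combination h4 - c * h3
  exact Subtype.ext (hc.trans (one_smul _ _))

theorem su2_three (h : IsBar (starRingEnd F) 2) {u : SUs (Fin 2) F} (h3 : u ^ 3 = 1) (h1 : u ≠ 1) :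
    ∃ (a : F) (ha : a * star a + 0 * star 0 = 1), u = su2 a 0 ha ∧ a ≠ star a ∧ a * a + a = 1 ∧
      star a * star a + star a = 1 := by
  have t2 := two_eq_zero h
  have hn := su2_norm u
  rcases su2_cases h u with e | e
  · refine ⟨u.1 0 0, by simpa [e] using hn, su2_ext rfl e, ?_⟩
    have a1 : u.1 0 0 ≠ 1 := fun e' => h1 (su2_ext e' e)
    rw [e, zero_mul, add_zero] at hn
    have a2 : star (u.1 0 0) = u.1 0 0 ^ 2 := h.apply _
    generalize u.1 0 0 = a at *
    have a3 : a * a + a = 1 := by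
      apply mul_left_cancel₀ (sub_ne_zero.2 a1)
      rw [a2] at hn
      linear_combination hn + (1 - a) * t2
    refine ⟨fun e' => a1 ?_, a3, by simpa using congrArg star a3⟩
    rw [← e'] at hn
    linear_combination (1 - a) * (a3 - hn) + hn
  · refine absurd ?_ h1
    have : u * u = 1 := by
      rw [e, zero_mul, zero_add] at hn
      apply Subtype.ext
      rw [su_coe_mul, eq_su2 u]
      ext i j
      fin_cases i <;> fin_cases j <;> simp [su2_coe, e, su_coe_one] <;> linear_combination -hn - t2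
    rwa [pow_succ, pow_two, this, one_mul] at h3

theorem proj_eq_two (h : IsBar (starRingEnd F) 2) {P : Matrix κ (Fin 2) F} (hP : Pᴴ * P = 1) {u : SUs (Fin 2) F}
    (h3 : u ^ 3 = 1) (h1 : u ≠ 1) : P * Pᴴ = (emb P hP u).1 * (emb P hP u).1 + (emb P hP u).1 := by
  obtain ⟨a, ha, rfl, -, a1, a2⟩ := su2_three h h3 h1
  have e : (su2 a 0 ha).1 * (su2 a 0 ha).1 - 1 + ((su2 a 0 ha).1 - 1) = 1 := by
    ext i j
    fin_cases i <;> fin_cases j <;> simp [su2_coe]
    · linear_combination a1 - two_eq_zero h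
    · linear_combination a2 - two_eq_zero h
  rw [emb_coe, ← embM_mul hP, embM, embM, add_add_add_comm, add_self_two h, zero_add, ← Matrix.add_mul,
    ← Matrix.mul_add, e, Matrix.mul_one]

theorem su2_eq_one_two (h : IsBar (starRingEnd F) 2) {X u : SUs (Fin 2) F} (h2 : X ^ 2 = 1) (h3 : u ^ 3 = 1)
    (h1 : u ≠ 1) (e : X * u = u * X) : X = 1 := by
  obtain ⟨a, ha, rfl, a0, -⟩ := su2_three h h3 h1
  have a1 := congrArg (fun A : SUs (Fin 2) F => A.1 1 0) e
  simp [su_coe_mul, su2_coe, mul_apply, Fin.sum_univ_two] at a1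
  have a2 : X.1 1 0 = 0 := (mul_eq_zero.1 (show X.1 1 0 * (a - star a) = 0 by linear_combination a1)).resolve_right
    (sub_ne_zero.2 a0)
  have a3 := congrArg (fun A : SUs (Fin 2) F => A.1 0 0) h2
  simp [pow_two, su_coe_mul, mul_apply, Fin.sum_univ_two, a2, su_coe_one] at a3
  exact su2_ext (pow_eq_zero_iff (n := 2) (by omega) |>.1 (show (X.1 0 0 - 1) ^ 2 = 0 by
    linear_combination a3 + (1 - X.1 0 0) * two_eq_zero h) |> sub_eq_zero.1) a2

theorem exists_fix_of_three (h : IsBar (starRingEnd F) 2) {z : SUs ι F} (h3 : z ^ 3 = 1)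
    (h0 : z.1 * z.1 + z.1 + 1 ≠ 0) : ∃ a, BB ι F a a = 1 ∧ z.1 *ᵥ a = a := by
  have e1 : z.1 * (z.1 * z.1) = 1 := by
    rw [← su_coe_mul, ← su_coe_mul, ← pow_three, h3, su_coe_one]
  have e2 : z.1ᴴ = z.1 * z.1 := by
    rw [← Matrix.mul_one z.1ᴴ, ← e1, ← Matrix.mul_assoc, su_star_mul, Matrix.one_mul]
  have e3 : z.1 * (z.1 * z.1 + z.1 + 1) = z.1 * z.1 + z.1 + 1 := by
    rw [Matrix.mul_add, Matrix.mul_add, e1, Matrix.mul_one]; abel
  obtain ⟨a, ha, e⟩ := exists_unit_of_herm h (N := z.1 * z.1 + z.1 + 1) (by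
      rw [conjTranspose_add, conjTranspose_add, conjTranspose_mul, e2, conjTranspose_one, Matrix.mul_assoc, e1,
        Matrix.mul_one, add_comm z.1])
    (by rw [Matrix.add_mul, Matrix.add_mul, Matrix.mul_assoc, e3, e3, add_self_two h, zero_add, Matrix.one_mul]) h0
  exact ⟨a, ha, by rw [← e, mulVec_mulVec, e3]⟩

theorem trace_conj_su (k x : SUs ι F) : (k * x * k⁻¹).1.trace = x.1.trace := by
  rw [su_coe_mul, trace_mul_comm, ← su_coe_mul, inv_mul_cancel_left]

theorem exists_split_of_three (h : IsBar (starRingEnd F) 2) {z t : SUs (Fin 4) F} (h3 : z ^ 3 = 1)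
    (h0 : z.1 * z.1 + z.1 + 1 ≠ 0) (ht : t * z * t⁻¹ = z * z) :
    ∃ (P Q : Matrix (Fin 4) (Fin 2) F) (S : Split P Q) (u : SUs (Fin 2) F), z = emb P S.left u := by
  have h1 := trace_conj_su t z
  rw [ht] at h1
  obtain ⟨a, ha, e⟩ := exists_fix_of_three h h3 h0
  obtain ⟨k, z', rfl⟩ := exists_eq_conj_al h ha e
  rw [conj_mul, ← map_mul, trace_conj_su, trace_conj_su, al_three, al_three] at h1
  obtain ⟨a', ha', e'⟩ := exists_fix_of_three h (z := z') (al_injective (by
    rw [map_pow, map_one, ← (MulAut.conj k).injective.eq_iff, map_pow, map_one]; exact h3)) fun e => by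
      have := congrArg trace e
      simp only [trace, diag, Fin.sum_univ_succ, su_coe_mul] at h1 this
      simp at h1 this
      exact one_ne_zero (α := F) (by
        linear_combination this - h1 - (z'.1 0 0 + z'.1 1 1 + z'.1 2 2 + 1) * two_eq_zero h)
  obtain ⟨k', u, rfl⟩ := exists_eq_conj_al h ha' e'
  obtain ⟨P, Q, S, e⟩ := exists_split_of_conj (z := k * al F 3 (k' * al F 2 u * k'⁻¹) * k⁻¹) rfl
  exact ⟨P, Q, S, u, e⟩

theorem quad_conj {k x : SUs ι F} (e : x.1 * x.1 + x.1 + 1 = 0) :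
    (k * x * k⁻¹).1 * (k * x * k⁻¹).1 + (k * x * k⁻¹).1 + 1 = 0 := by
  have := congrArg (fun M => k.1 * M * (k⁻¹).1) e
  simp only [Matrix.mul_add, Matrix.add_mul, Matrix.mul_one, Matrix.mul_zero, Matrix.zero_mul] at this
  rwa [← su_coe_mul, conj_mul, ← su_coe_one, ← mul_inv_cancel k]

theorem eq_of_quad (h : IsBar (starRingEnd F) 2) (φ : SUs (Fin 3) F →* SUs ι F) {a : F}
    (ha : a * star a + 0 * star 0 = 1)
    (e : (φ (be F 2 (su2 a 0 ha))).1 * (φ (be F 2 (su2 a 0 ha))).1 + (φ (be F 2 (su2 a 0 ha))).1 + 1 = 0) :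
    φ (al F 2 (su2 a 0 ha)) = φ (be F 2 (su2 a 0 ha)) := by
  set δ := su2 a 0 ha with hδ
  set w : SUs (Fin 2) F := su2 0 1 (by simp) with hw
  have ha' : a * star a = 1 := by simpa using ha
  have e1 : al F 2 w * be F 2 δ * (al F 2 w)⁻¹ = al F 2 δ * be F 2 δ := by
    rw [mul_inv_eq_iff_eq_mul]
    apply Subtype.ext
    simp [su_coe_mul, al_two, be_two, hδ, hw, su2_coe, mul_comm (star a), ha']
  have e2 : be F 2 w * (al F 2 δ * be F 2 δ) * (be F 2 w)⁻¹ = al F 2 δ := by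
    rw [mul_inv_eq_iff_eq_mul]
    apply Subtype.ext
    simp [su_coe_mul, al_two, be_two, hδ, hw, su2_coe, mul_comm (star a), ha']
  have e3 : be F 2 δ * al F 2 δ = al F 2 δ * be F 2 δ := by
    apply Subtype.ext
    simp [su_coe_mul, al_two, be_two, hδ, su2_coe, mul_comm (star a)]
  have a1 := quad_conj (k := φ (al F 2 w)) e
  rw [← map_inv, ← map_mul, ← map_mul, e1] at a1
  have a2 := quad_conj (k := φ (be F 2 w)) a1
  rw [← map_inv, ← map_mul, ← map_mul, e2] at a2
  have a3 := congrArg (fun x => (φ x).1) e3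
  simp only [map_mul, su_coe_mul] at a1 a3
  apply Subtype.ext
  generalize (φ (al F 2 δ)).1 = x, (φ (be F 2 δ)).1 = y at *
  rw [Matrix.mul_assoc, ← Matrix.mul_assoc y, a3, Matrix.mul_assoc, ← Matrix.mul_assoc,
    eq_neg_of_add_eq_zero_left ((add_assoc _ _ _).symm.trans a2),
    eq_neg_of_add_eq_zero_left ((add_assoc _ _ _).symm.trans e), neg_mul_neg, add_mul, mul_add, mul_add, one_mul,
    one_mul, mul_one] at a1
  have a4 : x - y = x * y + x + (y + 1) + x * y + 1 - (x * y + x * y) - (1 + 1) - (y + y) := by abel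
  rwa [a1, add_self_two h, add_self_two h, add_self_two h, sub_zero, sub_zero, sub_zero, sub_eq_zero] at a4

theorem exists_base_two_aux (h : IsBar (starRingEnd F) 2) {φ φ' : SUs (Fin 3) F →* SUs (Fin 4) F} (hφ : Good φ)
    (hφ' : Good φ') (hc : φ.comp (be F 2) = φ'.comp (al F 2))
    (hcomm : ∀ u v, Commute (φ (al F 2 u)) (φ' (be F 2 v))) :
    ∃ ψ : SUs (Fin 4) F →* SUs (Fin 4) F, ψ.comp (al F 3) = φ ∧ ψ.comp (be F 3) = φ' := by
  have := charP_of_isBar h Nat.prime_two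
  have := Fact.mk Nat.prime_two
  obtain ⟨l, l1, l2, -, l3, -, l4⟩ := exists_omega h
  set δ : SUs (Fin 2) F := su2 l 0 (by simpa using l1) with hδ
  set w : SUs (Fin 2) F := su2 0 1 (by simp) with hw
  have d1 : w * δ * w⁻¹ = δ * δ := by
    rw [mul_inv_eq_iff_eq_mul]
    apply Subtype.ext
    simp [su_coe_mul, hδ, hw, su2_coe, l4, ← star_mul]
  have d2 : δ ^ 3 = 1 := Subtype.ext (by
    simp [pow_three, su_coe_mul, hδ, su2_coe, l4, ← star_mul, l1, su_coe_one, one_fin_two, mul_comm (star l)])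
  have d3 : δ ≠ 1 := fun e => l2 (congrArg (fun A : SUs (Fin 2) F => A.1 0 0) e)
  have key : ∀ {f : SUs (Fin 2) F →* SUs (Fin 4) F} {P : Matrix (Fin 4) (Fin 2) F} (hP : Pᴴ * P = 1),
      Function.Injective f → f δ ∈ (emb P hP).range → P * Pᴴ = (f δ).1 * (f δ).1 + (f δ).1 := by
    rintro f P hP hf ⟨u, hu⟩
    rw [← hu]
    refine proj_eq_two h hP (emb_injective hP ?_) ?_
    · rw [map_pow, hu, ← map_pow, d2, map_one, map_one]
    · rintro rfl
      exact d3 (hf (by rw [← hu, map_one, map_one]))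
  obtain ⟨Q, P, S, u, hu⟩ := exists_split_of_three h (z := φ' (be F 2 δ)) (t := φ' (be F 2 w))
    (by rw [← map_pow, ← map_pow, d2, map_one, map_one]) (fun e => by
      have a1 := eq_of_quad h φ' _ e
      have a2 : φ (be F 2 δ) = φ' (al F 2 δ) := DFunLike.congr_fun hc δ
      have a3 := eq_of_quad h φ _ (by rw [a2, a1]; exact e)
      have a4 := (hcomm δ w).eq
      rw [a3, a2, a1, ← map_mul, ← map_mul, ← map_mul, ← map_mul] at a4
      have a5 := congrArg (fun A : SUs (Fin 2) F => A.1 1 0) (hφ'.be_injective a4)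
      simp [su_coe_mul, hδ, hw, su2_coe] at a5
      exact l3 a5.symm)
    (by rw [← map_inv, ← map_inv, ← map_mul, ← map_mul, ← map_mul, ← map_mul, d1, map_mul, map_mul])
  have q1 := key S.left hφ'.be_injective ⟨u, hu.symm⟩
  have a1 : (φ.comp (al F 2)).range = ((MonoidHom.id _).comp (emb P S.right)).range := by
    refine range_eq_of_le h hφ.al_injective ?_
    rintro _ ⟨v, rfl⟩
    refine su2_gen h (p := 2) (L := ((MonoidHom.id _).comp (emb P S.right)).range.comap (φ.comp (al F 2)))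
      (fun v hv => ?_) v
    have c1 := congrArg Subtype.val (hcomm v δ).eq
    rw [su_coe_mul, su_coe_mul] at c1
    obtain ⟨X, Y, x1, -, x2⟩ := S.exists_blocks (p := 2) (M := φ (al F 2 v)) (by
      rw [q1, MonoidHom.comp_apply, Matrix.mul_add, Matrix.add_mul, ← Matrix.mul_assoc, c1, Matrix.mul_assoc, c1,
        Matrix.mul_assoc]) (by rw [← map_pow, ← map_pow, hv, map_one, map_one])
    obtain rfl : X = 1 := su2_eq_one_two h x1 (u := u) (emb_injective S.left (by
      rw [map_pow, ← hu, ← map_pow, ← map_pow, d2, map_one, map_one, map_one])) (by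
        rintro rfl
        exact d3 (hφ'.be_injective (by rw [MonoidHom.comp_apply, hu, map_one, map_one])))
      (S.comm_left (Y := Y) (Y' := 1) (by rw [← x2, map_one, mul_one, ← hu]; exact hcomm v δ))
    exact ⟨Y, by rw [MonoidHom.comp_apply, MonoidHom.comp_apply, x2, map_one, one_mul]; rfl⟩
  obtain ⟨x, -, e⟩ := range_be_eq_conj h φ
  obtain ⟨k, a2⟩ := exists_emb_conj (g := MonoidHom.id _) ⟨x, rfl⟩ e S.right a1
  obtain ⟨x', -, e'⟩ := range_be_eq_conj h φ'
  obtain ⟨k', a3⟩ := exists_emb_conj (g := MonoidHom.id _) ⟨x', rfl⟩ e' _ (hc ▸ a2)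
  have q2 := key ((S.mul k).mul k').right hφ'.be_injective (a3.le ⟨δ, rfl⟩)
  have q3 := key (S.mul k).right hφ.be_injective (a2.le ⟨δ, rfl⟩)
  have q4 := key S.right hφ.al_injective (a1.le ⟨δ, rfl⟩)
  have c1 : Commute (φ (be F 2 δ)).1 (φ (al F 2 δ)).1 := by
    refine congrArg Subtype.val (Commute.map (Subtype.ext ?_) φ).eq
    simp [su_coe_mul, al_two, be_two, hδ, su2_coe, mul_comm (star l)]
  obtain ⟨ψ, b1, b2, c1, c2, c3, c4⟩ := exists_agree_of_split h hφ hφ' hc (g := MonoidHom.id _)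
    (fun g hg => ⟨1, by rw [show g = 1 from hg, one_smul, su_coe_one]⟩) S.symm (S.mul k).right (by
      rw [q3, q4]
      exact (((c1.mul_right c1).add_right c1).mul_left ((c1.mul_right c1).add_right c1)).add_left
        ((c1.mul_right c1).add_right c1)) a1 a2
    (a3.trans (range_emb_congr ((S.mul k).mul k').right S.left (q2.trans q1.symm)))
  have b3 : ψ.range = ⊤ := b2.trans (MonoidHom.range_eq_top.2 Function.surjective_id)
  refine ⟨ψ, eq_of_agree h (b1.injective_two h) (b3 ▸ le_top) c1 c2, ?_⟩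
  have hk : (Pm F (finRotate 4))ᴴ * Pm F (finRotate 4) = 1 := Pm_iso (finRotate 4).injective
  have k1 : ∀ v, emb _ hk (al F 3 v) = be F 3 v := fun v => Subtype.ext (by
    rw [al, emb_Pm_emb, show finRotate 4 ∘ Fin.castSucc = Fin.succ by decide]; rfl)
  have := finite_su (ι := Fin 4) h
  have k2 : Function.Injective (ψ.comp (emb _ hk)) := (b1.injective_two h).comp (emb_injective hk)
  rw [← eq_of_agree h (φ := φ') k2 ((MonoidHom.range_eq_top.2 (Finite.surjective_of_injective k2)) ▸ le_top)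
    (fun u => by rw [c3, MonoidHom.comp_apply, k1]) (fun u => by rw [c4, MonoidHom.comp_apply, k1])]
  exact MonoidHom.ext fun v => congrArg ψ (k1 v).symm

theorem exists_base_two (h : IsBar (starRingEnd F) 2) {φ φ' : SUs (Fin 3) F →* G} (hφ : Good φ)
    (hφ' : Good φ') (hc : φ.comp (be F 2) = φ'.comp (al F 2))
    (hcomm : ∀ u v, Commute (φ (al F 2 u)) (φ' (be F 2 v))) {g : SUs (Fin 4) F →* G}
    (h1 : φ.range ≤ g.range) (h2 : φ'.range ≤ g.range) :
    ∃ ψ : SUs (Fin 4) F →* G, ψ.comp (al F 3) = φ ∧ ψ.comp (be F 3) = φ' := by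
  have hg : Function.Injective g := (good_of_ne h (by
    rintro rfl
    obtain ⟨x, hx⟩ := h1 ⟨al F 2 (su2 0 1 (by simp)), rfl⟩
    simpa [su2_coe, su_coe_one] using congrArg (fun A : SUs (Fin 2) F => A.1 0 0)
      (hφ.al_injective (hx.symm.trans (map_one _).symm)))).injective_two h
  have key : ∀ χ : SUs (Fin 3) F →* G, χ.range ≤ g.range → ∃ χ₀ : SUs (Fin 3) F →* SUs (Fin 4) F, g.comp χ₀ = χ :=
    fun χ e => ⟨(MonoidHom.ofInjective hg).symm.toMonoidHom.comp (χ.codRestrict _ fun x => e ⟨x, rfl⟩),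
      MonoidHom.ext fun x => MonoidHom.apply_ofInjective_symm hg _⟩
  obtain ⟨φ, rfl⟩ := key φ h1
  obtain ⟨φ', rfl⟩ := key φ' h2
  obtain ⟨ψ, rfl, rfl⟩ := exists_base_two_aux h (φ := φ) (φ' := φ')
    (fun x e => hφ x (by rw [MonoidHom.comp_apply, e, map_one]))
    (fun x e => hφ' x (by rw [MonoidHom.comp_apply, e, map_one]))
    (MonoidHom.ext fun x => hg (DFunLike.congr_fun hc x)) fun u v => hg (by rw [map_mul, map_mul]; exact hcomm u v)
  exact ⟨g.comp ψ, rfl, rfl⟩

/-- Phan's theorem for `q = 2`. -/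
theorem weak_phan_two (h : IsBar (starRingEnd F) 2) {n : ℕ} (hn : 2 ≤ n) (U : Fin n → Subgroup G)
    (V : Fin n → Fin n → Subgroup G)
    (h1 : ∀ i j : Fin n, (i : ℕ) + 2 ≤ j → ∀ x ∈ U i, ∀ y ∈ U j, x * y = y * x)
    (h2 : ∀ i j : Fin n, (i : ℕ) + 1 = j → Cfsg.IsStandardUnitaryPair (V i j) (U i) (U j) F 2)
    (hgen : (⨆ i, U i) ⊔ (⨆ (i : Fin n) (j : Fin n) (_ : (i : ℕ) + 1 = j), V i j) = ⊤)
    (h4 : ∀ i j k : Fin n, (i : ℕ) + 1 = j → (j : ℕ) + 1 = k →
      ∃ g : Cfsg.SU 4 F 2 →* ↥(V i j ⊔ V j k), Function.Surjective g)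
    (h5 : ∀ i j k : Fin n, (j : ℕ) + 1 = k → ((i : ℕ) + 2 ≤ j ∨ (k : ℕ) + 2 ≤ i) →
      ∀ x ∈ U i, ∀ y ∈ V j k, x * y = y * x)
    (h6 : ∀ i j k l : Fin n, (i : ℕ) + 1 = j → (k : ℕ) + 1 = l → (j : ℕ) + 2 ≤ k →
      ∀ x ∈ V i j, ∀ y ∈ V k l, x * y = y * x) :
    ∃ f : Cfsg.SU (n + 1) F 2 →* G, Function.Surjective f := by
  obtain ⟨k, rfl⟩ : ∃ k, n = k + 2 := ⟨n - 2, by omega⟩
  obtain ⟨φ, S⟩ := exists_sys h U V h1 h2
  have step : ∀ j s (a b : SUs (Fin (j + 1 + 3)) F →* G), s + j + 2 < k + 1 → Ext φ (j + 1) s a →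
      Ext φ (j + 1) (s + 1) b → ∀ c1 c2, Function.Injective (amalOf a b c1 c2).π := by
    refine fun j s a b hs ha hb c1 c2 => (amalOf a b c1 c2).π_injective_two h fun v y =>
      Subtype.ext (Prod.ext ?_ ?_)
    · show al F _ _ * be F _ _ = be F _ _ * al F _ _
      rw [al_io]
      apply Subtype.ext
      rw [su_coe_mul, su_coe_mul, be, be, be, emb_emb, emb_emb, emb_coe, Pm_mul, Pm_mul]
      exact embM_comm (Pm_orth fun i j e => by have := congrArg Fin.val e; simp at this; omega) _ _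
    · show a _ * b _ = b _ * a _
      rw [ha.io]
      cases j with
      | zero =>
        have e : b (be F 3 (be F 2 y)) = φ (s + 1 + 1) (be F 2 y) := DFunLike.congr_fun hb.2 _
        rw [e]
        exact (h5 ⟨s + 1 + 1 + 1, by omega⟩ ⟨s, by omega⟩ ⟨s + 1, by omega⟩ rfl (Or.inr le_rfl) _
          (S.be_mem (by omega) y) _ (S.mem (by omega) v)).symm
      | succ j =>
        exact hb.2.2.commute h (fun i a b w => h6 ⟨s, by omega⟩ ⟨s + 1, by omega⟩ ⟨i, by omega⟩ ⟨i + 1, by omega⟩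
          rfl rfl a _ (S.mem (by omega) v) _ (S.mem (by omega) w)) y
  obtain ⟨ψ, hψ⟩ := exists_Ext h (k + 1) (fun s j a b u v => h5 ⟨s, by omega⟩ ⟨j, by omega⟩ ⟨j + 1, by omega⟩ rfl
    (Or.inl a) _ (S.al_mem (by omega) u) _ (S.mem (by omega) v)) (fun s hs => by
    obtain ⟨g, e1, e2⟩ := S.exists_four h hs h4
    obtain ⟨ψ, e1, e2⟩ := exists_base_two h (S.good s (by omega)) (S.good (s + 1) (by omega))
      (S.compat s (by omega)) (fun u y =>
        h1 ⟨s, by omega⟩ ⟨s + 2, by omega⟩ le_rfl _ (S.al_mem (by omega) u) _ (S.be_mem (by omega) y)) e1 e2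
    exact ⟨ψ, e1, e2⟩) step k 0 (by omega)
  exact S.exists_surjective h hψ hgen

end CL.Phan
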