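import Cfsg.Agent.Perm.PhanThree

/-!
# Phan systems over the field with four elements: the inductive step and the rank two groups
-/

set_option autoImplicit false
set_option linter.unusedSectionVars false

namespace CL.Phan

open Module CL.Uni Matrix
open scoped MatrixGroups

universe u

variable {F : Type u} [Field F] [StarRing F] {q : ℕ} {G : Type*} [Group G] {m : ℕ}

theorem two_eq_zero (h : IsBar (starRingEnd F) 2) : (2 : F) = 0 := by simpa using h.cast_q

theorem norm_eq_one (h : IsBar (starRingEnd F) 2) {a : F} (ha : a ≠ 0) : a * star a = 1 := by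
  have h1 : a * star a = a ^ 3 := h.norm_eq_pow a
  have := h.finite
  have := Fintype.ofFinite F
  rw [h1]
  simpa [h.fintype_card] using FiniteField.pow_card_sub_one_eq_one a ha

theorem io_three_e0 (v : SUs (Fin 3) F) : (io F (by omega : 3 ≤ m + 3) v).1 *ᵥ e0 F (m + 2) =
    vecCons (v.1 0 0) (vecCons (v.1 1 0) (vecCons (v.1 2 0) 0)) := by
  have e1 : e0 F (m + 2) = Pm F (Fin.castLE (by omega : 3 ≤ m + 3)) *ᵥ e0 F 2 :=
    (Pm_mulVec_single (Fin.castLE (by omega : 3 ≤ m + 3)) 0 1).symm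
  rw [e1]
  refine (embM_mulVec (Pm_iso (Fin.castLE_injective _)) _ _).trans ?_
  ext i
  rw [mulVec_single_one]
  refine Fin.cases ?_ (fun i => Fin.cases ?_ (fun i => Fin.cases ?_ (fun i => ?_) i) i) i <;>
    simp only [Pm, mulVec, dotProduct, Fin.sum_univ_three, submatrix_apply, one_apply, Fin.ext_iff] <;>
    simp [Nat.mod_eq_of_lt (show 2 < m + 3 by omega)]

theorem exists_su_iso (h : IsBar (starRingEnd F) 2) {r : Fin (m + 3) → F} (h0 : r ≠ 0) (hr : BB _ F r r = 0) :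
    ∃ x : SUs (Fin (m + 3)) F, x.1 *ᵥ vecCons 1 (vecCons 1 0) = r := by
  have t2 := two_eq_zero h
  obtain ⟨g, hg, e⟩ := (isHerm_stdB h _).exists_mem_SUG_family (fun _ : Unit => r)
    (fun _ => vecCons 1 (vecCons 1 0)) (linearIndependent_unique_iff.2 h0)
    (linearIndependent_unique_iff.2 (by simp)) (fun _ _ => by
      rw [hr, BB_cons, BB_cons]; simp; linear_combination -t2) (v := vecCons 0 (vecCons 0 (e0 F m)))
    (by simp [BB_cons, BB_e]) (fun _ => by simp [BB_cons])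
  obtain ⟨A, hA⟩ := exists_su_of_SUG hg
  exact ⟨A⁻¹, by rw [← e (), ← hA, su_inv_mulVec]⟩

namespace Amal

variable {K : Type*} [Group K] (A : Amal F (m + 1) K)

theorem R_star (h : IsBar (starRingEnd F) q) (g : SUs (Fin (m + 4)) F) {k : K} {y : K ⧸ A.b.range}
    (e : A.p y = (A.π k).1 *ᵥ eL F _) (h1 : A.R y (A.cs k)) : A.R y (A.cs (k * A.a g)) := by
  have hT : ∀ {a b c}, A.R a b → A.R b c → Adj (BB _ F) (A.p a) (A.p c) → A.R a c :=
    Cover.allTri (C := A.cover h (by omega)) (isHerm_stdB h _) (by simp)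
  have key : ∀ k g y, A.p y = (A.π k).1 *ᵥ eL F _ → A.p y = (A.π (k * A.a g)).1 *ᵥ eL F _ := fun k g y e => by
    rw [map_mul, su_mul_mulVec, A.πa, al_eL, e]
  have k2 : ∀ k u y, A.p y = (A.π k).1 *ᵥ eL F _ → A.R y (A.cs k) → A.R y (A.cs (k * A.c u)) :=
    fun k u y e h1 => hT h1 ⟨k, u, rfl, rfl⟩ (adj_of_orth (A.p_unit y ▸ one_ne_zero) (A.p_unit _ ▸ one_ne_zero) (by
      rw [key k _ y e, p_mk, BB_su, BB_single]
      exact Pi.single_eq_of_ne (Fin.last_pos.ne') _))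
  let L : Subgroup (SUs (Fin (m + 4)) F) :=
    { carrier := {g | ∀ k y, A.p y = (A.π k).1 *ᵥ eL F _ → (A.R y (A.cs k) ↔ A.R y (A.cs (k * A.a g)))}
      one_mem' := fun k y _ => by rw [map_one, mul_one]
      mul_mem' := fun {g g'} hg hg' k y e => by rw [hg k y e, hg' _ y (key k g y e), map_mul, mul_assoc]
      inv_mem' := fun {g} hg k y e => by
        rw [hg _ y (key k g⁻¹ y e), mul_assoc, ← map_mul, inv_mul_cancel, map_one, mul_one] }
  have : L = ⊤ := eq_top_of_be_io h (by omega) (fun x k y _ => by rw [A.compat, A.mk_mul_b]) fun u k y e =>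
    ⟨k2 k u y e, fun e' => by
      have := k2 _ u⁻¹ y (key k _ y e) e'
      rwa [c, mul_assoc, ← map_mul, ← map_mul, mul_inv_cancel, map_one, map_one, mul_one] at this⟩
  exact ((this ▸ Subgroup.mem_top g : g ∈ L) k y e).1 h1

theorem plane (h : IsBar (starRingEnd F) q)
    (hc : ∀ (v : SUs (Fin 3) F) y, Commute (A.a (io F (by omega) v)) (A.b (be F _ (be F _ y)))) {k : K}
    {v : SUs (Fin 3) F} {w : Fin (m + 2) → F} (hw : BB _ F w w = 1) {y y' : K ⧸ A.b.range}
    (e : A.p y = (A.π k).1 *ᵥ vecCons 0 (vecCons 0 (vecCons 0 w))) (h1 : A.R (A.cs k) y) (h2 : A.R y y')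
    (e' : A.p y' = A.p (A.cs (k * A.a (io F (by omega) v)))) : y' = A.cs (k * A.a (io F (by omega) v)) := by
  obtain ⟨x, rfl⟩ := exists_su_unit h (by simp) (BB_e (Fin.last _)) hw
  refine A.R_uniq h (by omega) h2 ?_ e'
  rw [← A.mk_mul_b _ (be F _ (be F _ x)), mul_assoc, (hc v x).eq, ← mul_assoc]
  refine A.R_star h _ ?_ ?_
  · rw [e, map_mul, su_mul_mulVec, A.πb, eL_eq, eL_eq, eL_eq, be_cons, be_cons, be_cons]
  · rw [A.mk_mul_b]
    exact (A.cover h (by omega)).symm h1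

theorem π_injective_two (h : IsBar (starRingEnd F) 2)
    (hc : ∀ (v : SUs (Fin 3) F) y, Commute (A.a (io F (by omega) v)) (A.b (be F _ (be F _ y)))) :
    Function.Injective A.π := by
  have H := isHerm_stdB h (Fin (m + 5))
  have t2 := two_eq_zero h
  have hT : (A.cover h (by omega)).AllTri := Cover.allTri H (by simp)
  have p0 : (A.cover h (by omega)).p (A.cs 1) = e0 F _ := by
    show A.p (A.cs 1) = _
    rw [p_mk, map_one, su_coe_one, one_mulVec]
  refine A.π_injective_of (Cover.injective_of (C := A.cover h (by omega)) H (by simp) hT (A.cs 1)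
    (fun z w w' hz hw hw' h1 _ h3 _ => ?_) (A.conn h (by omega)))
  rw [p0] at h1 h3 ⊢
  have o1 : (1 : F) ≠ 0 := one_ne_zero
  refine Cover.quad_of_orth H (by simp) hT (BB_e 0) hz (fun u u' a1 a2 a3 b1 b2 b3 => ?_) hw hw' h1 h3
  by_cases hz0 : Adj (BB _ F) (e0 F _) z
  · have n0 : BB _ F (e0 F (m + 4)) (e0 F (m + 4)) ≠ 0 := by rw [BB_e]; exact o1
    exact Cover.quad_of_center hT (BB_e 0) (Adj.refl _) hz0
      (adj_of_orth n0 (by rw [a1]; exact o1) (H.flip_zero a2)) (adj_of_orth n0 (by rw [b1]; exact o1) (H.flip_zero b2))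
  obtain ⟨c, r, rfl⟩ : ∃ a w, z = vecCons a w := ⟨_, _, (cons_head_tail z).symm⟩
  have r0 : BB _ F r r = 0 := by
    by_contra e
    refine hz0 (Or.inr ?_)
    rw [gram, e0_eq, BB_cons, BB_cons, BB_cons, BB_cons]
    simpa [mul_comm] using e
  obtain ⟨x, rfl⟩ := exists_su_iso h (fun e => hz0 (Or.inl ⟨c, by rw [e, cons_eq]; simp⟩)) r0
  rw [← be_cons] at hz a3 b3 ⊢
  have e0' : Pi.single 0 1 = (be F (m + 4) x).1 *ᵥ e0 F _ := (be_e0 x).symm
  rw [e0'] at a2 b2 ⊢
  rw [BB_su] at hz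
  obtain ⟨v, hv⟩ := exists_su_unit h (ι := Fin 3) (by simp) (BB_e 0) (y := vecCons c (vecCons 1 (vecCons 1 0)))
    (by simpa only [BB_cons, map_zero] using hz)
  have hv' : (io F (by omega : 3 ≤ m + 2 + 3) v).1 *ᵥ e0 F _ = vecCons c (vecCons 1 (vecCons 1 0)) := by
    rw [io_three_e0]
    have := congrFun hv
    simp only [mulVec_single_one] at this
    exact congrArg₂ _ (this 0) (congrArg₂ _ (this 1) (congrArg₂ _ (this 2) rfl))
  have key : ∀ u, BB _ F u u = 1 → BB _ F u ((be F _ x).1 *ᵥ e0 F _) = 0 →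
      BB _ F u ((be F _ x).1 *ᵥ vecCons c (vecCons 1 (vecCons 1 0))) = 0 → ∃ w s, BB _ F w w = 1 ∧
      s = (be F _ x).1 *ᵥ vecCons 0 (vecCons 0 (vecCons 0 w)) ∧ BB _ F s s = 1 ∧
      Adj (BB _ F) s ((be F _ x).1 *ᵥ e0 F _) ∧
      Adj (BB _ F) s ((be F _ x).1 *ᵥ vecCons c (vecCons 1 (vecCons 1 0))) ∧ Adj (BB _ F) s u := by
    intro u a1 a2 a3
    obtain ⟨u₀, u₁, u₂, w, e⟩ : ∃ a b c w, ((be F _ x)⁻¹).1 *ᵥ u = vecCons a (vecCons b (vecCons c w)) :=
      ⟨_, _, _, _, by rw [cons_head_tail, cons_head_tail, cons_head_tail]⟩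
    obtain rfl : u = (be F _ x).1 *ᵥ vecCons u₀ (vecCons u₁ (vecCons u₂ w)) := by rw [← e, su_mulVec_inv]
    rw [BB_su] at a1 a2 a3
    rw [e0_eq] at a2
    simp only [BB_cons, map_zero, mul_one, add_zero, star_eq_zero] at a1 a2 a3
    subst a2
    rw [star_zero, zero_mul, zero_add] at a1 a3
    obtain rfl : u₁ = u₂ := star_injective (by linear_combination a3 - star u₂ * t2)
    obtain ⟨y, rfl⟩ := exists_su_unit h (by simp) (BB_e (Fin.last _)) (y := w)
      (by linear_combination a1 - star u₁ * u₁ * t2)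
    have s1 : BB _ F ((be F _ x).1 *ᵥ vecCons 0 (vecCons 0 (vecCons 0 (y.1 *ᵥ e0 F _))))
        ((be F _ x).1 *ᵥ vecCons 0 (vecCons 0 (vecCons 0 (y.1 *ᵥ e0 F _)))) = 1 := by
      simp only [BB_su, BB_cons, BB_e, mul_zero, zero_add]
    refine ⟨y.1 *ᵥ e0 F _, _, by rw [BB_su, BB_e], rfl, s1, adj_of_orth (s1 ▸ o1) (by rw [BB_su, BB_e]; exact o1)
      (by rw [BB_su, e0_eq (m := m + 4)]; simp [BB_cons]), adj_of_orth (s1 ▸ o1) (by rw [BB_su, hz]; exact o1)
      (by simp [BB_su, BB_cons]), adj_of_orth (s1 ▸ o1) (by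
        rw [BB_su, BB_cons, BB_cons, BB_cons, a1]; simp) ?_⟩
    simp only [BB_su, BB_cons, star_zero, zero_mul, zero_add, BB_single]
    exact Pi.single_eq_of_ne (Fin.last_pos.ne) _
  obtain ⟨w, s, c1, rfl, c2, c3, c4, c5⟩ := key u a1 a2 a3
  obtain ⟨w', s', d1, rfl, d2, d3, d4, d5⟩ := key u' b1 b2 b3
  have n1 : BB _ F ((be F _ x).1 *ᵥ e0 F _) ((be F _ x).1 *ᵥ e0 F _) ≠ 0 := by rw [BB_su, BB_e]; exact o1
  refine ((Cover.quad_of_center hT c2 c3 c4 c5 (Adj.refl _)).trans ?_ c2 (c3.symm n1) c4).trans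
    (Cover.quad_of_center hT d2 d3 d4 (Adj.refl _) d5) d2 (d3.symm n1) d4
  rintro a b d b' d' e1 e2 e3 e4 e5 f1 f2 f3 f4
  obtain ⟨k, rfl⟩ := QuotientGroup.mk_surjective a
  obtain ⟨y, hy⟩ := mem_range_be.2 (show ((A.π k)⁻¹ * be F _ x).1 *ᵥ e0 F _ = e0 F _ by
    rw [su_mul_mulVec, ← e1]; exact su_inv_mulVec _ _)
  have e6 : A.π (k * A.b y) = be F _ x := by rw [map_mul, A.πb, hy, mul_inv_cancel_left]
  have e7 : A.p (A.cs (k * A.b y * A.a (io F (by omega) v))) =
      (be F _ x).1 *ᵥ vecCons c (vecCons 1 (vecCons 1 0)) := by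
    rw [p_mk, map_mul, e6, A.πa, al_io, su_mul_mulVec, hv']
  rw [show (k : K ⧸ A.b.range) = A.cs (k * A.b y) from (A.mk_mul_b k y).symm] at f1 f3
  exact (A.plane h hc c1 (e6 ▸ e2) f1 f2 (e3.trans e7.symm)).trans
    (A.plane h hc d1 (e6 ▸ e4) f3 f4 (e5.trans e7.symm)).symm

end Amal

theorem su2_cases (h : IsBar (starRingEnd F) 2) (u : SUs (Fin 2) F) : u.1 1 0 = 0 ∨ u.1 0 0 = 0 := by
  by_contra hne
  push Not at hne
  have := su2_norm u
  rw [norm_eq_one h hne.1, norm_eq_one h hne.2] at this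
  simp at this

theorem exists_omega (h : IsBar (starRingEnd F) 2) : ∃ l : F, l * star l = 1 ∧ l ≠ 1 ∧ star l ≠ 1 ∧ l ≠ star l ∧
    l + star l = 1 ∧ l * l = star l := by
  obtain ⟨l, l1, l2⟩ := exists_norm_one_ne h
  have l3 : star l = l ^ 2 := h.apply l
  have l4 : l ≠ 1 := by rintro rfl; simp at l2
  refine ⟨l, l1, l4, fun e => l4 (by rw [← l1, e, mul_one]), l2, ?_, by rw [l3, pow_two]⟩
  apply mul_left_cancel₀ (sub_ne_zero.2 l4)
  rw [l3] at l1 ⊢
  linear_combination l1 + (1 - l) * two_eq_zero h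

theorem mem_of_invol (h : IsBar (starRingEnd F) 2) {L : Subgroup (SUs (Fin 3) F)} (h1 : ∀ x, al F 2 x ∈ L)
    (h2 : ∀ x, be F 2 x ∈ L) {t : SUs (Fin 3) F} (ht : t * t = 1) : t ∈ L := by
  by_cases h0 : t = 1
  · exact h0 ▸ L.one_mem
  obtain ⟨r, hr⟩ := exists_cen h (two_eq_zero h) ht h0
  have key : ∀ i, r i = 0 → t.1 *ᵥ Pi.single i 1 = Pi.single i 1 := fun i e =>
    (hr.fix _).2 ((isHerm_stdB h _).flip_zero (by rw [BB_single, e]))
  by_cases a0 : r 0 = 0
  · obtain ⟨x, rfl⟩ := mem_range_be.2 (key 0 a0)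
    exact h2 x
  by_cases a2 : r 2 = 0
  · obtain ⟨x, rfl⟩ := mem_range_al.2 (key 2 a2)
    exact h1 x
  have a1 : r 1 = 0 := by
    by_contra a1
    have := hr.iso
    simp only [stdB_apply, Fin.sum_univ_three, starRingEnd_apply] at this
    exact one_ne_zero (α := F) (by
      linear_combination this - norm_eq_one h a0 - norm_eq_one h a1 - norm_eq_one h a2 - two_eq_zero h)
  set w : SUs (Fin 2) F := su2 0 1 (by simp) with hw
  have e : (al F 2 w).1 *ᵥ e0 F 2 = Pi.single 1 1 := by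
    rw [al_two]
    ext i
    fin_cases i <;> simp [hw, su2_coe]
  obtain ⟨x, hx⟩ := mem_range_be.2 (show ((al F 2 w)⁻¹ * t * al F 2 w).1 *ᵥ e0 F 2 = e0 F 2 by
    rw [su_mul_mulVec, su_mul_mulVec, e, key 1 a1, ← e, su_inv_mulVec])
  have := L.mul_mem (L.mul_mem (h1 w) (h2 x)) (L.inv_mem (h1 w))
  rwa [hx, ← mul_assoc, mul_inv_cancel_left, mul_inv_cancel_right] at this

theorem exists_fourier (h : IsBar (starRingEnd F) 2) : ∃ W : SUs (Fin 3) F, W ^ 4 = 1 ∧ ∀ i, W.1 i 0 = 1 := by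
  obtain ⟨l, l1, -, -, -, l2, l3⟩ := exists_omega h
  have t2 := two_eq_zero h
  refine ⟨mkSU !![1, 1, 1; 1, l, star l; 1, star l, l] ?_ ?_, Subtype.ext ?_, fun i => ?_⟩
  · ext i j
    fin_cases i <;> fin_cases j <;> simp [mul_apply, Fin.sum_univ_three] <;> grind
  · simp [det_fin_three]
    grind
  · have : (!![1, 1, 1; 1, l, star l; 1, star l, l] : Matrix (Fin 3) (Fin 3) F) ^ 2 = !![1, 0, 0; 0, 0, 1; 0, 1, 0] := by
      ext i j
      fin_cases i <;> fin_cases j <;> simp [pow_two, mul_apply, Fin.sum_univ_three] <;> grind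
    rw [SubmonoidClass.coe_pow, show 4 = 2 * 2 from rfl, pow_mul]
    refine (congrArg (· ^ 2) this).trans ?_
    ext i j
    fin_cases i <;> fin_cases j <;> simp [pow_two, mul_apply, Fin.sum_univ_three, su_coe_one]
  · fin_cases i <;> rfl

theorem eq_top_two (h : IsBar (starRingEnd F) 2) {L : Subgroup (SUs (Fin 3) F)} (h1 : ∀ x, al F 2 x ∈ L)
    (h2 : ∀ x, be F 2 x ∈ L) (h3 : ∀ v, v ^ 4 = 1 → v ∈ L) : L = ⊤ := by
  rw [eq_top_iff]
  intro g _
  have hz : BB _ F (g.1 *ᵥ e0 F 2) (g.1 *ᵥ e0 F 2) = 1 := by rw [BB_su, BB_e]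
  suffices hs : ∃ l ∈ L, l.1 *ᵥ e0 F 2 = g.1 *ᵥ e0 F 2 by
    obtain ⟨l, hl, e⟩ := hs
    obtain ⟨x, hx⟩ := mem_range_be.2 (show (l⁻¹ * g).1 *ᵥ e0 F _ = e0 F _ by rw [su_mul_mulVec, ← e, su_inv_mulVec])
    have := L.mul_mem hl (h2 x)
    rwa [hx, mul_inv_cancel_left] at this
  generalize g.1 *ᵥ e0 F 2 = z at hz
  by_cases h0 : ∀ i, z i ≠ 0
  · obtain ⟨W, w1, w2⟩ := exists_fourier h
    have hd : ∀ i, z i * star (z i) = 1 := fun i => norm_eq_one h (h0 i)
    refine ⟨stdHom h z hd (RingEquiv.refl F) W * al F 2 (su2 (z 0) 0 (by simpa using hd 0)),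
      L.mul_mem (h3 _ (by rw [← map_pow, w1, map_one])) (h1 _), ?_⟩
    rw [su_mul_mulVec, al_diag_e0 (by simp [su2_coe]), mulVec_smul, mulVec_single_one]
    ext i
    simp [stdHom_apply, w2, su2_coe]
    linear_combination z i * hd 0
  · obtain ⟨x, u, e⟩ := exists_dec (m := 0) h hz (by
      by_cases a0 : z 0 = 0
      · exact adj_of_orth (by rw [BB_e]; exact one_ne_zero) (hz ▸ one_ne_zero) (by rw [BB_single, a0])
      simp only [stdB_apply, Fin.sum_univ_three, starRingEnd_apply] at hz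
      have a1 : star (z 1) * z 1 + star (z 2) * z 2 = 0 := by linear_combination hz - norm_eq_one h a0
      have a2 : z 1 = 0 ∧ z 2 = 0 := by
        push Not at h0
        obtain ⟨i, hi⟩ := h0
        fin_cases i
        · exact absurd hi a0
        · exact ⟨hi, by simpa [show z 1 = 0 from hi] using a1⟩
        · exact ⟨by simpa [show z 2 = 0 from hi] using a1, hi⟩
      refine Or.inl ⟨z 0, ?_⟩
      ext i
      fin_cases i <;> simp [a2])
    exact ⟨_, L.mul_mem (h2 x) (h1 u), e⟩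

theorem al_three (u : SUs (Fin 3) F) : (al F 3 u).1 = !![u.1 0 0, u.1 0 1, u.1 0 2, 0; u.1 1 0, u.1 1 1, u.1 1 2, 0;
    u.1 2 0, u.1 2 1, u.1 2 2, 0; 0, 0, 0, 1] := by
  ext i j
  fin_cases i <;> fin_cases j <;> simp [al, emb_coe, embM, Pm, mul_apply, Fin.sum_univ_succ, one_apply]

theorem eq_zero_of_comm_diag {ι : Type} [Fintype ι] [DecidableEq ι] {C : Matrix ι ι F} {d : ι → F}
    (e : C * diagonal d = diagonal d * C) {i j : ι} (hij : d i ≠ d j) : C i j = 0 := by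
  have := congrFun (congrFun e i) j
  rw [mul_diagonal, diagonal_mul] at this
  exact (mul_eq_zero.1 (show (d i - d j) * C i j = 0 by linear_combination -this)).resolve_left (sub_ne_zero.2 hij)

theorem centralizer_blocks (h : IsBar (starRingEnd F) 2) {C : SUs (Fin 4) F}
    (h1 : ∀ u, C * al F 3 (al F 2 u) = al F 3 (al F 2 u) * C) (h2 : ∀ u, C * al F 3 (be F 2 u) = al F 3 (be F 2 u) * C) :
    C ^ 3 = 1 ∧ ∀ v, Commute (al F 3 v) C := by
  obtain ⟨l, l1, l2, l3, l4, -, -⟩ := exists_omega h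
  set δ : SUs (Fin 2) F := su2 l 0 (by simpa using l1) with hδ
  set w : SUs (Fin 2) F := su2 0 1 (by simp) with hw
  have d1 : (al F 3 (al F 2 δ)).1 = diagonal ![l, star l, 1, 1] := by
    rw [al_three, al_two]
    ext i j
    fin_cases i <;> fin_cases j <;> simp [hδ, su2_coe]
  have d2 : (al F 3 (be F 2 δ)).1 = diagonal ![1, l, star l, 1] := by
    rw [al_three, be_two]
    ext i j
    fin_cases i <;> fin_cases j <;> simp [hδ, su2_coe]
  have e1 := congrArg Subtype.val (h1 δ)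
  have e2 := congrArg Subtype.val (h2 δ)
  rw [su_coe_mul, su_coe_mul, d1] at e1
  rw [su_coe_mul, su_coe_mul, d2] at e2
  have a1 : C.1 = diagonal fun i => C.1 i i := by
    ext i j
    by_cases hij : i = j
    · rw [hij, diagonal_apply_eq]
    rw [diagonal_apply_ne _ hij]
    fin_cases i <;> fin_cases j <;> first
      | exact absurd rfl hij
      | (refine eq_zero_of_comm_diag e1 ?_; simp [l2, l3, l4, l2.symm, l3.symm, l4.symm]; done)
      | (refine eq_zero_of_comm_diag e2 ?_; simp [l2, l3, l4, l2.symm, l3.symm, l4.symm])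
  obtain ⟨d, hd⟩ : ∃ d, C.1 = diagonal d := ⟨_, a1⟩
  have a2 := congrArg (fun A : SUs (Fin 4) F => A.1 1 0) (h1 w)
  have a3 := congrArg (fun A : SUs (Fin 4) F => A.1 2 1) (h2 w)
  simp only [su_coe_mul, hd, mul_diagonal, diagonal_mul, al_three, al_two, be_two] at a2 a3
  simp [hw, su2_coe] at a2 a3
  refine ⟨Subtype.ext ?_, fun v => Subtype.ext ?_⟩
  · rw [SubmonoidClass.coe_pow, hd, diagonal_pow, su_coe_one, ← diagonal_one]
    refine congrArg diagonal (funext fun i => ?_)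
    have := congrFun (congrFun (su_mul_star C) i) i
    rw [hd, diagonal_conjTranspose, diagonal_mul_diagonal, diagonal_apply_eq, one_apply_eq] at this
    exact (h.norm_eq_pow (d i)).symm.trans this
  · ext i j
    rw [su_coe_mul, su_coe_mul, hd, mul_diagonal, diagonal_mul, al_three]
    fin_cases i <;> fin_cases j <;> simp [a2, a3, mul_comm]

theorem eq_of_agree (h : IsBar (starRingEnd F) 2) {φ : SUs (Fin 3) F →* G} {ψ : SUs (Fin 4) F →* G}
    (hψ : Function.Injective ψ) (hr : φ.range ≤ ψ.range) (e1 : ∀ u, φ (al F 2 u) = ψ (al F 3 (al F 2 u)))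
    (e2 : ∀ u, φ (be F 2 u) = ψ (al F 3 (be F 2 u))) : ψ.comp (al F 3) = φ := by
  have := charP_of_isBar h Nat.prime_two
  have h0 : φ.eqLocus (ψ.comp (al F 3)) = ⊤ := eq_top_two h e1 e2 fun v hv => by
    obtain ⟨M, hM⟩ := hr ⟨v, rfl⟩
    have key : ∀ t, t * t = 1 → al F 3 t ∈ Subgroup.centralizer {(al F 3 v)⁻¹ * M} := fun t ht => by
      have a1 : φ t = ψ (al F 3 t) := mem_of_invol h (L := φ.eqLocus (ψ.comp (al F 3))) e1 e2 ht
      have a2 : φ (v * t * v⁻¹) = ψ (al F 3 (v * t * v⁻¹)) := mem_of_invol h (L := φ.eqLocus (ψ.comp (al F 3))) e1 e2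
        (by rw [conj_mul, ht, mul_one, mul_inv_cancel])
      rw [map_mul, map_mul, map_inv, ← hM, a1, ← map_inv, ← map_mul, ← map_mul, map_mul (al F 3), map_mul (al F 3),
        map_inv] at a2
      rw [Subgroup.mem_centralizer_singleton_iff, eq_comm, mul_assoc, inv_mul_eq_iff_eq_mul,
        mul_inv_eq_iff_eq_mul.1 (hψ a2)]
      group
    obtain ⟨c1, c2⟩ := centralizer_blocks h (C := (al F 3 v)⁻¹ * M)
      (fun u => (Subgroup.mem_centralizer_singleton_iff.1 (su2_gen h (p := 2)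
        (L := (Subgroup.centralizer _).comap ((al F 3).comp (al F 2)))
        (fun u hu => key _ (by rw [← map_mul, ← pow_two, hu, map_one])) u)).symm)
      (fun u => (Subgroup.mem_centralizer_singleton_iff.1 (su2_gen h (p := 2)
        (L := (Subgroup.centralizer _).comap ((al F 3).comp (be F 2)))
        (fun u hu => key _ (by rw [← map_mul, ← pow_two, hu, map_one])) u)).symm)
    have c3 : M ^ 4 = 1 := hψ (by rw [map_pow, hM, ← map_pow, hv, map_one, map_one])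
    rw [← mul_inv_cancel_left (al F 3 v) M, (c2 v).mul_pow, ← map_pow, hv, map_one, one_mul, pow_succ, c1,
      one_mul, inv_mul_eq_one] at c3
    exact hM.symm.trans (congrArg ψ c3.symm)
  ext x
  exact (h0 ▸ Subgroup.mem_top x : x ∈ φ.eqLocus (ψ.comp (al F 3))).symm

end CL.Phan
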