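/-
Generators satisfying the relators of a presentation.
Generated by tools/pg.
-/
import Cfsg.Agent.Spor.PGCtx
import Cfsg.Agent.Spor.StdSU42

set_option autoImplicit false
set_option maxRecDepth 200000
set_option Elab.async false
set_option linter.unusedVariables false

namespace CL.PresSU42
open CL.PG

noncomputable def xa11 : Net := (.cons 24 (nat_lit 0x32597d)
 (.cons 12 (nat_lit 0x30d0001ee)
 (.cons 6 (nat_lit 0x2302800400a)
 (.cons 3 (nat_lit 0x102046107000)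
 (.cons 1 (nat_lit 0x201048049041)
 (.cons 1 (nat_lit 0x402092092082)
 (.cons 1 (nat_lit 0x201048001001)
 (.cons 3 (nat_lit 0x4102004)
 (.cons 6 (nat_lit 0x20028004002)
 (.cons 12 (nat_lit 0x3000000c0)
 (.cons 24 (nat_lit 0x228970)
 .nil)))))))))))
noncomputable def xa12 : Net := (.cons 24 (nat_lit 0xc0edbb)
 (.cons 12 (nat_lit 0x630007a2)
 (.cons 6 (nat_lit 0x1202e02b01f)
 (.cons 3 (nat_lit 0x1861411061c0)
 (.cons 1 (nat_lit 0x1001048008)
 (.cons 1 (nat_lit 0x412482490010)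
 (.cons 1 (nat_lit 0x49000000009)
 (.cons 3 (nat_lit 0x84004106000)
 (.cons 6 (nat_lit 0x2001603e01e)
 (.cons 12 (nat_lit 0x428000600)
 (.cons 24 (nat_lit 0xccb818)
 .nil)))))))))))
noncomputable def xa13 : Net := (.cons 24 (nat_lit 0x5f7c28)
 (.cons 12 (nat_lit 0x3a6000f4e)
 (.cons 6 (nat_lit 0x603f02700a)
 (.cons 3 (nat_lit 0x1c60021460c6)
 (.cons 1 (nat_lit 0x9240201208)
 (.cons 1 (nat_lit 0x412492412412)
 (.cons 1 (nat_lit 0x41040008008)
 (.cons 3 (nat_lit 0x102080082082)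
 (.cons 6 (nat_lit 0x1801c00a008)
 (.cons 12 (nat_lit 0x6e8000fa0)
 (.cons 24 (nat_lit 0x551848)
 .nil)))))))))))
noncomputable def xa14 : Net := (.cons 24 (nat_lit 0x81b600)
 (.cons 12 (nat_lit 0x55f000e00)
 (.cons 6 (nat_lit 0x2102703c024)
 (.cons 3 (nat_lit 0x106007006106)
 (.cons 1 (nat_lit 0x1001201040)
 (.cons 1 (nat_lit 0x402012412090)
 (.cons 1 (nat_lit 0x1049200048)
 (.cons 3 (nat_lit 0x104000100006)
 (.cons 6 (nat_lit 0x2402003e024)
 (.cons 12 (nat_lit 0xc48000c00)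
 (.cons 24 (nat_lit 0x80b400)
 .nil)))))))))))
noncomputable def xa15 : Net := (.cons 24 (nat_lit 0x3a8078)
 (.cons 12 (nat_lit 0xe72000e78)
 (.cons 6 (nat_lit 0x34009038030)
 (.cons 3 (nat_lit 0x182007100180)
 (.cons 1 (nat_lit 0x201049240048)
 (.cons 1 (nat_lit 0x412092492090)
 (.cons 1 (nat_lit 0x8000009000)
 (.cons 3 (nat_lit 0x182000000180)
 (.cons 6 (nat_lit 0x3400e038020)
 (.cons 12 (nat_lit 0xe72000e00)
 (.cons 24 (nat_lit 0x3a8078)
 .nil)))))))))))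
noncomputable def xa16 : Net := (.cons 24 (nat_lit 0x14d268)
 (.cons 12 (nat_lit 0x3f40003f8)
 (.cons 6 (nat_lit 0xb02e017030)
 (.cons 3 (nat_lit 0x2082141080)
 (.cons 1 (nat_lit 0x92492492490)
 (.cons 1 (nat_lit 0x49241249248)
 (.cons 3 (nat_lit 0x2000000)
 (.cons 6 (nat_lit 0x8008000000)
 (.cons 12 (nat_lit 0x390000f00)
 (.cons 24 (nat_lit 0x9a6d0)
 .nil))))))))))
noncomputable def xa17 : Net := (.cons 12 (nat_lit 0x7e40001c0)
 (.cons 6 (nat_lit 0x1f03c007038)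
 (.cons 3 (nat_lit 0x41c4000000)
 (.cons 1 (nat_lit 0x2000000)
 (.cons 3 (nat_lit 0x4000000)
 (.cons 6 (nat_lit 0x38000000)
 (.cons 12 (nat_lit 0x6c00001c0)
 .nil)))))))
noncomputable def xws : List (List ℕ) :=
  [W (nat_lit 0x540f044090140500401),
  W (nat_lit 0x130140f01005),
  W (nat_lit 0x1a05c1905c1a0601a05c19),
  W (nat_lit 0x1a0601a05c170681806818),
  W (nat_lit 0x1b0781c),
  W (nat_lit 0x701c0781b),
  W (nat_lit 0x2107c2207c1f0841f)]
noncomputable def xns : List Net := [CL.Std.SU42.a0, CL.Std.SU42.a1, CL.Std.SU42.a2, CL.Std.SU42.a3, CL.Std.SU42.a4, CL.Std.SU42.a5, CL.Std.SU42.a6, CL.Std.SU42.a7, CL.Std.SU42.a8, CL.Std.SU42.a9, CL.Std.SU42.a10, xa11, xa12, xa13, xa14, xa15, xa16, xa17]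
noncomputable def xD : List (ℕ × List ℕ) := app CL.Std.SU42.D (mkDefs xws 11)
noncomputable def xchk : List (List ℕ × List ℕ) → Bool := CL.Std.SU42.P.relsB xns
noncomputable def xzR0 : List (List ℕ × List ℕ) :=
  [(W (nat_lit 0x1705c17), []),
  (W (nat_lit 0x641906419), []),
  (W (nat_lit 0x64170641706417064170641706417064170641706417064170641706417), []),
  (W (nat_lit 0x681706817068170681706817), []),
  (W (nat_lit 0x68170641905c1a05c1906417068170641806417), [])]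
noncomputable def xH_v0 : Lev :=
  ⟨0, 45, sg (W (nat_lit 0x1906417064170641706417)), [[26], [28]], 11, 2⟩
noncomputable def xH_v1 : Lev :=
  ⟨1, 32, sg (W (nat_lit 0x1b06c1b06c1d06c1b0741b)), [[30], [32]], 13, 2⟩
noncomputable def xH_v2 : Lev :=
  ⟨16, 9, sg (W (nat_lit 0x7c1f0841f)), [[34]], 15, 1⟩
noncomputable def xH_v3 : Lev :=
  ⟨3, 2, sg [34], [], 16, 0⟩
noncomputable def xH_vs4 : List Lev :=
  []
noncomputable def xH_vs3 : List Lev :=
  xH_v3 :: xH_vs4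
noncomputable def xH_vs2 : List Lev :=
  xH_v2 :: xH_vs3
noncomputable def xH_vs1 : List Lev :=
  xH_v1 :: xH_vs2
noncomputable def xH_vs : List Lev :=
  xH_v0 :: xH_vs1

theorem xzr1 : xchk xzR0 = true := by decide +kernel
theorem xzc2 : CL.Std.SU42.P.chainB xns xD xH_vs [[22], [24]] = true := by decide +kernel
theorem xzm3 : leB xD [[22], [24]] [[0], [2]] = true := by decide +kernel
theorem xze4 : extB CL.Std.SU42.ns xns 11 xws CL.Std.SU42.D = true := by decide +kernel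
theorem xzn5 : CL.Std.SU42.P.netsB xns (mkDefs xws 11) = true := by decide +kernel

section
variable {G X : Type*} [Group G] [MulAction G X] {e : ℕ → X} {gs : List G}

theorem xlen {k} (c : Ctx CL.Std.SU42.P e gs CL.Std.SU42.ns CL.Std.SU42.D k) : gs.length = 11 := c.len xze4

theorem xctx0 {k} (c : Ctx CL.Std.SU42.P e gs CL.Std.SU42.ns CL.Std.SU42.D k) : Ctx CL.Std.SU42.P e (ext gs xws) xns xD chk0 :=
  c.ext rfl xze4 xzn5

theorem xctx {k} (c : Ctx CL.Std.SU42.P e gs CL.Std.SU42.ns CL.Std.SU42.D k) {H : Subgroup G} (hF : Faithful e CL.Std.SU42.P.n H) (hH : ∀ g ∈ gs, g ∈ H) :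
    Ctx CL.Std.SU42.P e (ext gs xws) xns xD xchk :=
  (xctx0 c).withB hF (mem_of_mem_ext hH _)

theorem xrels (c : Ctx CL.Std.SU42.P e gs xns xD xchk) :
    Rels gs xzR0 :=
  (c.rels _ xzr1)

theorem xH_c : CL.Std.SU42.P.chainB xns xD xH_vs [[22], [24]] = true :=
  xzc2

theorem xH_o : prodL xH_vs 1 = 25920 := by decide +kernel

theorem xH_lb (c : Ctx CL.Std.SU42.P e gs xns xD xchk) :
    LB (subW gs [[22], [24]]) 25920 :=
  c.lb xH_c xH_o

theorem xle (c : Ctx CL.Std.SU42.P e gs xns xD xchk) :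
    (subW gs [[22], [24]]) ≤ (subW gs [[0], [2]]) :=
  (c.le xzm3)

end
end CL.PresSU42

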