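import Cfsg.Agent.Perm.PrimDerange
import Cfsg.Agent.Perm.Sharp2

/-!
Actions with an abelian regular normal subgroup; conjugacy classes of derangements.
-/

set_option autoImplicit false

open MulAction

namespace CL.Perm

variable {G α : Type*} [Group G] [MulAction G α]

theorem eq_one_of_smul_eq_of_regular {N : Subgroup G} {a : α} (hreg : stabilizer N a = ⊥) {n : G}
    (hn : n ∈ N) (h : n • a = a) : n = 1 := by
  have h1 : (⟨n, hn⟩ : N) ∈ stabilizer N a := h
  rw [hreg, Subgroup.mem_bot] at h1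
  exact congrArg Subtype.val h1

/-- Conjugate elements of an abelian transitive normal subgroup are conjugate under a point stabiliser. -/
theorem exists_stabilizer_smul_of_isConj {N : Subgroup G} [IsPretransitive N α]
    (hab : IsMulCommutative N) (a : α) {n n' : G} (hn : n ∈ N) (h : IsConj n n') :
    ∃ k : G, k • a = a ∧ k • n • a = n' • a := by
  obtain ⟨g, rfl⟩ := isConj_iff.1 h
  obtain ⟨⟨u, hu⟩, hua⟩ := exists_smul_eq N a (g⁻¹ • a)
  replace hua : u • a = g⁻¹ • a := hua
  refine ⟨g * u, by rw [mul_smul, hua, smul_inv_smul], ?_⟩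
  rw [mul_smul, ← mul_smul u, setLike_mul_comm (s := N) hu hn, mul_smul, hua, mul_smul, mul_smul]

theorem isConj_of_stabilizer_smul {N : Subgroup G} [hN : N.Normal] {a : α}
    (hreg : stabilizer N a = ⊥) {n n' k : G} (hn : n ∈ N) (hn' : n' ∈ N) (hk : k • a = a)
    (h : k • n • a = n' • a) : IsConj n n' := by
  refine isConj_iff.2 ⟨k, ?_⟩
  rw [eq_comm, ← inv_mul_eq_one]
  apply eq_one_of_smul_eq_of_regular hreg (N.mul_mem (N.inv_mem hn') (hN.conj_mem n hn k))
  rw [mul_smul, mul_smul, mul_smul, inv_smul_eq_iff.2 hk.symm, h, inv_smul_smul]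

/-- If the non-identity elements of an abelian transitive normal subgroup are all conjugate, the action
is doubly transitive. -/
theorem two_pretransitive_of_isConj {N : Subgroup G} [IsPretransitive N α]
    (hab : IsMulCommutative N) (h : ∀ n ∈ N, ∀ n' ∈ N, n ≠ 1 → n' ≠ 1 → IsConj n n') :
    IsMultiplyPretransitive G α 2 := by
  rw [is_two_pretransitive_iff]
  intro a b c d hab' hcd
  obtain ⟨⟨u, hu⟩, hua⟩ := exists_smul_eq N a c
  replace hua : u • a = c := hua
  obtain ⟨⟨n, hn⟩, hnc⟩ := exists_smul_eq N c (u • b)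
  replace hnc : n • c = u • b := hnc
  obtain ⟨⟨n', hn'⟩, hnc'⟩ := exists_smul_eq N c d
  replace hnc' : n' • c = d := hnc'
  obtain ⟨k, hk, hk'⟩ := exists_stabilizer_smul_of_isConj hab c hn (h n hn n' hn' (by
    rintro rfl
    rw [one_smul, ← hua, smul_left_cancel_iff] at hnc
    exact hab' hnc) (by
    rintro rfl
    exact hcd (by rw [← hnc', one_smul])))
  exact ⟨k * u, by rw [mul_smul, hua, hk], by rw [mul_smul, ← hnc, hk', hnc']⟩

theorem eq_one_of_fix_two_of_card_fixedBy_le [Finite α] {g : G} (h : Nat.card (fixedBy α g) ≤ 1)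
    {a b : α} (ha : g • a = a) (hb : g • b = b) : a = b :=
  congrArg Subtype.val ((Finite.card_le_one_iff_subsingleton.1 h).elim
    (⟨a, ha⟩ : fixedBy α g) ⟨b, hb⟩)

/-- If all derangements lie in a semiregular subgroup, non-identity elements fix at most one point. -/
theorem card_fixedBy_le_one_of_derangements_le [Finite G] [Finite α] [IsPretransitive G α]
    {N : Subgroup G} (hreg : ∀ a : α, stabilizer N a = ⊥)
    (hD : ∀ g : G, (∀ x : α, g • x ≠ x) → g ∈ N) {g : G} (hg : g ≠ 1) :
    Nat.card (fixedBy α g) ≤ 1 := by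
  by_cases hgN : g ∈ N
  · have : IsEmpty (fixedBy α g) := ⟨fun x => hg (eq_one_of_smul_eq_of_regular (hreg x) hgN x.2)⟩
    rw [Nat.card_of_isEmpty]; exact zero_le_one
  · exact ((isPretransitive_and_card_fixedBy_of_derangements_le N hD).2 g hgN).le

/-- A sharply 2-transitive finite action has exactly one class of derangements. -/
theorem IsSharp2.card_derangement_classes [Finite α] [Nontrivial α] (h : IsSharp2 G α) :
    Nat.card {c : ConjClasses G // ∃ g : G, ConjClasses.mk g = c ∧ ∀ ω : α, g • ω ≠ ω} = 1 := by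
  rw [Nat.card_eq_one_iff_unique]
  obtain ⟨a⟩ := (inferInstance : Nonempty α)
  constructor
  · refine ⟨?_⟩
    rintro ⟨_, x, rfl, hx⟩ ⟨_, y, rfl, hy⟩
    refine Subtype.ext (ConjClasses.mk_eq_mk_iff_isConj.2 (h.kernel_isConj (Or.inr hx) ?_ (Or.inr hy) ?_))
    · rintro rfl; exact hx a (one_smul _ _)
    · rintro rfl; exact hy a (one_smul _ _)
  · obtain ⟨x, hx⟩ := h.exists_fpf
    exact ⟨⟨_, x, rfl, hx⟩⟩

/-- With at most two classes of derangements, two of any three derangements are conjugate. -/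
theorem isConj_or_of_card_derangement_classes_le [Finite G]
    (h : Nat.card {c : ConjClasses G // ∃ g : G, ConjClasses.mk g = c ∧ ∀ ω : α, g • ω ≠ ω} ≤ 2)
    {x y z : G} (hx : ∀ ω : α, x • ω ≠ ω) (hy : ∀ ω : α, y • ω ≠ ω) (hz : ∀ ω : α, z • ω ≠ ω) :
    IsConj x y ∨ IsConj x z ∨ IsConj y z := by
  by_contra hcon
  simp only [not_or, ← ConjClasses.mk_eq_mk_iff_isConj] at hcon
  have := Fintype.ofFinite
    {c : ConjClasses G // ∃ g : G, ConjClasses.mk g = c ∧ ∀ ω : α, g • ω ≠ ω}
  rw [Nat.card_eq_fintype_card, ← not_lt, Fintype.two_lt_card_iff] at h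
  exact h ⟨⟨_, x, rfl, hx⟩, ⟨_, y, rfl, hy⟩, ⟨_, z, rfl, hz⟩,
    fun e => hcon.1 (congrArg Subtype.val e), fun e => hcon.2.1 (congrArg Subtype.val e),
    fun e => hcon.2.2 (congrArg Subtype.val e)⟩

/-- A primitive group that is not almost simple and has at most two classes of derangements has an
abelian regular normal subgroup. -/
theorem exists_abelian_regular_of_card_derangement_classes_le [Finite G] [Finite α] [Nontrivial α]
    [FaithfulSMul G α] [IsPreprimitive G α]
    (hnas : ¬ ∃ T : Subgroup G, T.Normal ∧ IsSimpleGroup T ∧ ¬ IsMulCommutative T ∧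
      Subgroup.centralizer (T : Set G) = ⊥)
    (h : Nat.card {c : ConjClasses G // ∃ g : G, ConjClasses.mk g = c ∧ ∀ ω : α, g • ω ≠ ω} ≤ 2) :
    ∃ N : Subgroup G, N.Normal ∧ N ≠ ⊥ ∧ IsMulCommutative N ∧ IsPretransitive N α ∧
      ∀ ω : α, stabilizer N ω = ⊥ := by
  have : Nontrivial G := by
    obtain ⟨a, b, hab⟩ := exists_pair_ne α
    obtain ⟨g, rfl⟩ := exists_smul_eq G a b
    exact ⟨⟨g, 1, by rintro rfl; exact hab (one_smul _ _).symm⟩⟩
  obtain ⟨N, hN⟩ := CL.Grp.exists_isMinNormal G
  have := hN.normal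
  have hNt : IsPretransitive N α := isPretransitive_of_normal_of_ne_bot hN.ne_bot
  by_cases hab : IsMulCommutative N
  · exact ⟨N, hN.normal, hN.ne_bot, hab, hNt,
      stabilizer_eq_bot_of_commute N N fun m hm n hn => setLike_mul_comm (s := N) hm hn⟩
  · exfalso
    obtain ⟨x, y, z, hx, hy, hz, h1, h2, h3⟩ := exists_three_derangements (α := α) hN hab
      fun h => hnas ⟨N, hN.normal, h.1, hab, h.2⟩
    rcases isConj_or_of_card_derangement_classes_le h hx hy hz with h | h | h <;> contradiction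

end CL.Perm
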