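import Cfsg.Agent.Perm.Derange2

/-! Permutations of prime order: cycle structure and invariant subsets. -/

set_option autoImplicit false
open Cfsg MulAction Equiv Equiv.Perm

namespace CL.Perm

variable {α : Type*} [Fintype α] [DecidableEq α]

theorem orderOf_of_cycleType_replicate {σ : Perm α} {j r : ℕ} (hj : 0 < j)
    (h : σ.cycleType = Multiset.replicate j r) : orderOf σ = r := by
  rw [← lcm_cycleType, h]
  apply Nat.dvd_antisymm
  · exact Multiset.lcm_dvd.mpr fun b hb => by rw [Multiset.eq_of_mem_replicate hb]
  · exact Multiset.dvd_lcm (Multiset.mem_replicate.mpr ⟨hj.ne', rfl⟩)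

theorem exists_cycleType_replicate {j r : ℕ} (hr : 2 ≤ r) (h : j * r ≤ Fintype.card α) :
    ∃ σ : Perm α, σ.cycleType = Multiset.replicate j r :=
  (exists_with_cycleType_iff α).mpr ⟨by simpa using h, fun a ha => by
    rw [Multiset.eq_of_mem_replicate ha]; exact hr⟩

theorem card_support_of_cycleType_replicate {σ : Perm α} {j r : ℕ}
    (h : σ.cycleType = Multiset.replicate j r) : σ.support.card = j * r := by
  rw [← sum_cycleType, h]; simp

/-- The part of an invariant set inside the support of a permutation of prime order has size divisible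
by the order. -/
theorem dvd_card_inter_support {σ : Perm α} {r : ℕ} (hr : r.Prime) (hσ : orderOf σ = r)
    {s : Finset α} (hs : ∀ x ∈ s, σ x ∈ s) : r ∣ (s ∩ σ.support).card := by
  have h1 := index_dvd_ncard_of_stab_le (H := Subgroup.zpowers σ) ⊥
    ((s ∩ σ.support : Finset α) : Set α) (Set.toFinite _) (by
      rintro ⟨h, hh⟩ y hy
      obtain ⟨k, rfl⟩ := (Submonoid.mem_powers_iff _ _).mp (mem_powers_iff_mem_zpowers.mpr hh)
      change (σ ^ k) y ∈ _
      simp only [Finset.coe_inter, Set.mem_inter_iff, Finset.mem_coe] at hy ⊢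
      refine ⟨?_, pow_apply_mem_support.mpr hy.2⟩
      clear hh
      induction k with
      | zero => exact hy.1
      | succ k ih => rw [pow_succ', Perm.mul_apply]; exact hs _ ih) (by
      intro y hy
      have hc : (Nat.card (Subgroup.zpowers σ)).Prime := by rw [Nat.card_zpowers, hσ]; exact hr
      have : Fact (Nat.card (Subgroup.zpowers σ)).Prime := ⟨hc⟩
      rcases (stabilizer (Subgroup.zpowers σ) y).eq_bot_or_eq_top_of_prime_card with h | h
      · exact h.le
      · have h2 : (⟨σ, Subgroup.mem_zpowers σ⟩ : Subgroup.zpowers σ) ∈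
            stabilizer (Subgroup.zpowers σ) y := h ▸ Subgroup.mem_top _
        simp only [Finset.coe_inter, Set.mem_inter_iff, Finset.mem_coe] at hy
        exact absurd h2 (mem_support.mp hy.2))
  rwa [Subgroup.index_bot, Nat.card_zpowers, hσ, Set.ncard_coe_finset] at h1

/-- Invariant sets built from `i` cycles and `f` fixed points. -/
theorem exists_invariant_finset {σ : Perm α} {j r : ℕ} (h : σ.cycleType = Multiset.replicate j r)
    {i f : ℕ} (hi : i ≤ j) (hf : f ≤ Fintype.card α - j * r) :
    ∃ s : Finset α, s.card = i * r + f ∧ s.image σ = s := by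
  have hc : σ.cycleFactorsFinset.card = j := by
    have := congrArg Multiset.card h
    rwa [cycleType_def, Multiset.card_map, Multiset.card_replicate] at this
  obtain ⟨T, hT, hTc⟩ := Finset.exists_subset_card_eq (hc ▸ hi)
  obtain ⟨F, hF, hFc⟩ := Finset.exists_subset_card_eq (s := σ.supportᶜ) (n := f)
    (by rw [Finset.card_compl, card_support_of_cycleType_replicate h]; exact hf)
  have hcard : ∀ c ∈ σ.cycleFactorsFinset, c.support.card = r := by
    intro c hc
    apply Multiset.eq_of_mem_replicate (n := j)
    rw [← h, cycleType_def]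
    exact Multiset.mem_map_of_mem _ hc
  refine ⟨T.biUnion Perm.support ∪ F, ?_, ?_⟩
  · rw [Finset.card_union_of_disjoint, Finset.card_biUnion, hFc,
      Finset.sum_congr rfl fun c hc => hcard c (hT hc)]
    · simp [hTc]
    · intro c hc d hd hcd
      exact (cycleFactorsFinset_pairwise_disjoint σ (hT hc) (hT hd) hcd).disjoint_support
    · rw [Finset.disjoint_left]
      intro x hx hxF
      obtain ⟨c, hc, hxc⟩ := Finset.mem_biUnion.mp hx
      exact Finset.mem_compl.mp (hF hxF) (mem_cycleFactorsFinset_support_le (hT hc) hxc)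
  · apply Finset.eq_of_subset_of_card_le _ (by rw [Finset.card_image_of_injective _ σ.injective])
    intro y hy
    obtain ⟨x, hx, rfl⟩ := Finset.mem_image.mp hy
    rcases Finset.mem_union.mp hx with hx | hx
    · obtain ⟨c, hc, hxc⟩ := Finset.mem_biUnion.mp hx
      refine Finset.mem_union_left _ (Finset.mem_biUnion.mpr ⟨c, hc, ?_⟩)
      rw [← (mem_cycleFactorsFinset_iff.mp (hT hc)).2 x hxc]
      exact apply_mem_support.mpr hxc
    · have : σ x = x := notMem_support.mp (Finset.mem_compl.mp (hF hx))
      rw [this]
      exact Finset.mem_union_right _ hx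

/-- All permutations of prime order `r ≤ n` fix a `k`-subset iff `k mod r ≤ n mod r`. -/
theorem forall_prime_order_fix_subset_iff {r k : ℕ} (hr : r.Prime) (hrn : r ≤ Fintype.card α)
    (hk : k ≤ Fintype.card α) :
    (∀ σ : Perm α, orderOf σ = r → ∃ s : Finset α, s.card = k ∧ s.image σ = s) ↔
      k % r ≤ Fintype.card α % r := by
  set n := Fintype.card α with hn
  constructor
  · intro h
    obtain ⟨σ, hσ⟩ := exists_cycleType_replicate (α := α) (j := n / r) hr.two_le
      (Nat.div_mul_le_self _ _)
    have ho := orderOf_of_cycleType_replicate (Nat.div_pos hrn hr.pos) hσ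
    obtain ⟨s, hs, hsi⟩ := h σ ho
    obtain ⟨c, hc⟩ := dvd_card_inter_support hr ho (s := s) fun x hx =>
      hsi ▸ Finset.mem_image_of_mem σ hx
    have h1 := Finset.card_inter_add_card_sdiff s σ.support
    have h2 : (s \ σ.support).card ≤ σ.supportᶜ.card :=
      Finset.card_le_card fun x hx => Finset.mem_compl.mpr (Finset.mem_sdiff.mp hx).2
    rw [Finset.card_compl, card_support_of_cycleType_replicate hσ, ← hn] at h2
    have h3 : n - n / r * r = n % r := by
      have := Nat.div_add_mod' n r
      omega
    rw [← hs, ← h1, hc, Nat.mul_add_mod]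
    exact (Nat.mod_le _ _).trans (h3 ▸ h2)
  · intro h σ hσ
    obtain ⟨j, hj⟩ := cycleType_prime_order (σ := σ) (hσ ▸ hr)
    rw [hσ] at hj
    have h1 : (j + 1) * r ≤ n := by
      rw [← card_support_of_cycleType_replicate hj]
      exact Finset.card_le_univ _
    by_cases hc : j + 1 ≤ k / r
    · have h2 : (j + 1) * r ≤ k := (Nat.le_div_iff_mul_le hr.pos).mp hc
      obtain ⟨s, hs, hsi⟩ := exists_invariant_finset hj (i := j + 1) (f := k - (j + 1) * r) le_rfl
        (by omega)
      exact ⟨s, by omega, hsi⟩
    · have h2 : n % r ≤ n - (j + 1) * r := by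
        have h3 : j + 1 ≤ n / r := (Nat.le_div_iff_mul_le hr.pos).mpr h1
        have h4 := Nat.mul_le_mul_right r h3
        have := Nat.div_add_mod' n r
        omega
      obtain ⟨s, hs, hsi⟩ := exists_invariant_finset hj (i := k / r) (f := k % r) (by omega)
        (h.trans h2)
      exact ⟨s, by rw [hs, Nat.div_add_mod'], hsi⟩

end CL.Perm
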