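/-
Rank three extensions of Frobenius groups (S2207), part g: construction of the configuration and conclusion.
-/
import Cfsg.Agent.Perm.Rk3f
import Cfsg.Agent.Perm.SL25Pres
import Cfsg.Agent.Grp.MinNormal
import Cfsg.Agent.S4252
import Cfsg.Agent.S0042
import Cfsg.Agent.S0547
import Cfsg.Agent.S0144

set_option autoImplicit false

namespace CL.Rk3

open MulAction Subgroup

variable {G X : Type*} [Group G] [Finite G] [Finite X] [MulAction G X]

/-- The orbital of `(A, B)`. -/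
def Orb (G : Type*) {X : Type*} [Group G] [MulAction G X] (A B p q : X) : Prop := ∃ g : G, g • A = p ∧ g • B = q

theorem exists_third {A B : X} (h3 : Nat.card (orbitRel.Quotient (stabilizer G A) X) = 3) (hBA : B ≠ A) :
    ∃ C, A ≠ C ∧ ¬ Orb G A B A C ∧ ∀ q, q = A ∨ Orb G A B A q ∨ Orb G A C A q := by
  have key : ∀ p q : X, (Quotient.mk'' q : orbitRel.Quotient (stabilizer G A) X) = Quotient.mk'' p ↔ Orb G A p A q :=
    fun p q => by
    rw [Quotient.eq'', orbitRel_apply]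
    exact ⟨fun ⟨g, h⟩ => ⟨g, g.2, h⟩, fun ⟨g, h, e⟩ => ⟨⟨g, h⟩, e⟩⟩
  have hA : ∀ q, Orb G A A A q ↔ q = A := fun q => ⟨fun ⟨g, h, e⟩ => e.symm.trans h, fun e => ⟨1, by simp, by simp [e]⟩⟩
  have h1 := Set.ncard_add_ncard_compl
    ({Quotient.mk'' A, Quotient.mk'' B} : Set (orbitRel.Quotient (stabilizer G A) X))
  rw [Set.ncard_pair (fun e => hBA ((hA B).1 ((key _ _).1 e.symm))), h3] at h1
  obtain ⟨c, hc⟩ := Set.ncard_eq_one.1 (Nat.add_left_cancel (h1.trans (by rfl : 3 = 2 + 1)))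
  obtain ⟨C, rfl⟩ := Quotient.exists_rep c
  have h2 : ∀ q : X, ¬ (q = A ∨ Orb G A B A q) ↔ Orb G A C A q := fun q => by
    rw [← hA, ← key, ← key, ← key]
    exact Set.ext_iff.1 hc _
  have h4 := not_or.1 ((h2 C).2 ⟨1, by simp, by simp⟩)
  exact ⟨C, Ne.symm h4.1, h4.2, fun q => or_assoc.1 ((em _).imp id (h2 q).1)⟩

omit [Finite X] in
theorem exists_sym [FaithfulSMul G X] [IsPretransitive G X] (heven : Even (Nat.card G)) {A B C : X} (hBA : B ≠ A)
    (h1 : ¬ Orb G A B A C) (h2 : ∀ q, q = A ∨ Orb G A B A q ∨ Orb G A C A q) : Orb G A B B A := by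
  have : Fact (Nat.Prime 2) := ⟨Nat.prime_two⟩
  obtain ⟨t, ht⟩ := exists_prime_orderOf_dvd_card' 2 heven.two_dvd
  have h3 : t * t = 1 := by rw [← pow_two, ← ht, pow_orderOf_eq_one]
  obtain ⟨p, hp⟩ : ∃ p : X, t • p ≠ p := by
    by_contra h
    push Not at h
    rw [eq_of_smul_eq_smul (fun p : X => (h p).trans (one_smul G p).symm), orderOf_one] at ht
    omega
  obtain ⟨w, rfl⟩ := exists_smul_eq G A p
  have key : ∀ {D}, Orb G A D A ((w⁻¹ * t * w) • A) → Orb G A D D A := fun ⟨g, h, e⟩ =>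
    ⟨g⁻¹ * (w⁻¹ * t * w) * g, by rw [mul_smul, mul_smul, h, ← e, inv_smul_smul], by
      rw [mul_smul, mul_smul, e, ← mul_smul (w⁻¹ * t * w), show w⁻¹ * t * w * (w⁻¹ * t * w) = w⁻¹ * (t * t) * w by group,
        h3, inv_smul_eq_iff, h]
      simp⟩
  rcases h2 ((w⁻¹ * t * w) • A) with h | h | h
  · exact (hp (by rwa [mul_smul, mul_smul, inv_smul_eq_iff] at h)).elim
  · exact key h
  obtain ⟨s, hs, hs'⟩ := key h
  obtain ⟨g, hg⟩ := exists_smul_eq G B A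
  rcases h2 (g • A) with h | ⟨g', h, e⟩ | ⟨g', h, e⟩
  · exact (hBA (smul_left_cancel g (hg.trans h.symm))).elim
  · exact ⟨g⁻¹ * g', by rw [mul_smul, h, inv_smul_eq_iff, hg], by rw [mul_smul, e, inv_smul_smul]⟩
  · exact (h1 ⟨s * g'⁻¹ * g, by rw [mul_smul, mul_smul, ← e, inv_smul_smul, hs'], by
      rw [mul_smul, mul_smul, hg, inv_smul_eq_iff.2 h.symm, hs]⟩).elim

variable {A B : X} (hfaith : ∀ g ∈ stabilizer G A, (∀ h ∈ stabilizer G A, g • (h • B) = h • B) → g = 1)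
    (hfix : ∃ g ∈ stabilizer G A, g ≠ 1 ∧ g • B = B)
    (hfrob : ∀ g ∈ stabilizer G A, ∀ h ∈ stabilizer G A, g • B = B → g • (h • B) = h • B → h • B ≠ B → g = 1)

omit [Finite G] [Finite X] in
include hfrob in
theorem orb_frob {a b b' : X} {g : G} (hb : Orb G A B a b) (hb' : Orb G A B a b') (hne : b ≠ b') (ha : g • a = a)
    (e : g • b = b) (e' : g • b' = b') : g = 1 := by
  obtain ⟨m, rfl, rfl⟩ := hb
  obtain ⟨m', hm, rfl⟩ := hb'
  have := hfrob (m⁻¹ * g * m) (by rw [mem_stabilizer_iff, mul_smul, mul_smul, ha, inv_smul_smul]) (m⁻¹ * m')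
    (by rw [mem_stabilizer_iff, mul_smul, hm, inv_smul_smul]) (by rw [mul_smul, mul_smul, e, inv_smul_smul])
    (by rw [mul_smul, mul_smul, mul_smul, smul_inv_smul, e'])
    (fun h => hne (by rw [mul_smul, inv_smul_eq_iff] at h; exact h.symm))
  simpa [mul_assoc, inv_mul_eq_one] using this

omit [Finite G] [Finite X] in
include hfaith hfix in
theorem orb_two : ∃ B', Orb G A B A B' ∧ B' ≠ B := by
  by_contra h
  push Not at h
  obtain ⟨g, hg, h1, e⟩ := hfix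
  exact h1 (hfaith g hg fun m hm => by rw [h _ ⟨m, hm, rfl⟩, e])

include hfaith hfix hfrob in
theorem exists_ker : ∃ N : Subgroup G, (∀ g, g ∈ N ↔ g • A = A ∧ (g = 1 ∨ ∀ b, Orb G A B A b → g • b ≠ b)) ∧
    (∀ b b', Orb G A B A b → Orb G A B A b' → ∃ g ∈ N, g • b = b') ∧ Group.IsNilpotent N := by
  have := Fintype.ofFinite (orbit (stabilizer G A) B)
  have hO : ∀ b, Orb G A B A b ↔ b ∈ orbit (stabilizer G A) B := fun b =>
    ⟨fun ⟨g, h, e⟩ => ⟨⟨g, h⟩, e⟩, fun ⟨g, h⟩ => ⟨g, g.2, h⟩⟩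
  obtain ⟨B', hB', hne⟩ := orb_two hfaith hfix
  obtain ⟨g₀, hg₀, h1, e₀⟩ := hfix
  have key := Cfsg.Agent.S4252.result (G := stabilizer G A) (Ω := orbit (stabilizer G A) B)
    (Fintype.one_lt_card_iff.2 ⟨⟨B', (hO _).1 hB'⟩, ⟨B, mem_orbit_self B⟩, fun e => hne (congrArg Subtype.val e)⟩)
    (exists_smul_eq _) ⟨⟨g₀, hg₀⟩, fun e => h1 (congrArg Subtype.val e), ⟨B, mem_orbit_self B⟩, Subtype.ext e₀⟩
    fun g hg α β e e' => by
      by_contra h
      exact hg (Subtype.ext (orb_frob hfrob ((hO _).2 α.2) ((hO _).2 β.2) (fun e => h (Subtype.ext e)) g.2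
        (congrArg Subtype.val e) (congrArg Subtype.val e')))
  obtain ⟨N, hN, -, hn⟩ := Cfsg.Agent.S0042.result _ (key ⟨B, mem_orbit_self B⟩).1
  rw [(key _).2] at hN
  refine ⟨N.map (stabilizer G A).subtype, fun g => ⟨?_, fun h => ⟨⟨g, h.1⟩, ?_, rfl⟩⟩, fun b b' hb hb' => ?_,
    nilpotent_of_mulEquiv (N.equivMapOfInjective _ (stabilizer G A).subtype_injective)⟩
  · rintro ⟨g, hg, rfl⟩
    rw [hN] at hg
    exact ⟨g.2, hg.imp (congrArg Subtype.val) fun h b hb e => h ⟨b, (hO b).1 hb⟩ (Subtype.ext e)⟩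
  · rw [hN]
    exact h.2.imp (fun e => Subtype.ext e) fun h b e => h b ((hO b).2 b.2) (congrArg Subtype.val e)
  · obtain ⟨K, hK, -, hc, -⟩ := CL.Grp.exists_frobenius_kernel (key ⟨b, (hO b).1 hb⟩).1
    obtain rfl : K = N := SetLike.coe_injective (by rw [hK, hN, (key _).2])
    obtain ⟨m, hm⟩ := exists_smul_eq (stabilizer G A) (⟨b, (hO b).1 hb⟩ : orbit (stabilizer G A) B) ⟨b', (hO b').1 hb'⟩
    obtain ⟨⟨k, h⟩, rfl⟩ := hc.2 m
    refine ⟨(k : stabilizer G A), mem_map_of_mem _ k.2, ?_⟩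
    rw [mul_smul, show (h : stabilizer G A) • _ = _ from h.2] at hm
    exact congrArg Subtype.val hm

include hfaith hfix hfrob in
theorem nonempty_cfg [FaithfulSMul G X] (heven : Even (Nat.card G)) (hprim : IsPreprimitive G X)
    (h3 : Nat.card (orbitRel.Quotient (stabilizer G A) X) = 3) (hBA : B ≠ A) : Nonempty (Cfg G X) := by
  obtain ⟨C, hC, hC', h1⟩ := exists_third h3 hBA
  obtain ⟨s, hs, hs'⟩ := exists_sym heven hBA hC' h1
  obtain ⟨N, hN, hN1, hN2⟩ := exists_ker hfaith hfix hfrob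
  obtain ⟨B', ⟨m, hm, rfl⟩, hne⟩ := orb_two hfaith hfix
  obtain ⟨g₀, hg₀, h0, e₀⟩ := hfix
  have : Nontrivial X := ⟨B, A, hBA⟩
  choose w hw using exists_smul_eq G A
  have h2 : ∀ (g : G) {D p q : X}, Orb G A D p q → Orb G A D (g • p) (g • q) := fun g _ _ _ ⟨g', h, e⟩ =>
    ⟨g * g', by rw [mul_smul, h], by rw [mul_smul, e]⟩
  have h4 : ∀ {D a b a' b' : X}, Orb G A D a b → Orb G A D a' b' → ∃ g : G, g • a = a' ∧ g • b = b' := by
    rintro D _ _ _ _ ⟨g, rfl, rfl⟩ ⟨g', rfl, rfl⟩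
    exact ⟨g' * g⁻¹, by simp [mul_smul], by simp [mul_smul]⟩
  have h5 : ∀ {a c : X}, a ≠ c ∧ ¬ Orb G A B a c → Orb G A C a c := fun {a c} h => by
    obtain ⟨g, rfl⟩ := exists_smul_eq G A a
    rw [← smul_inv_smul g c] at h ⊢
    exact h2 g (((h1 _).resolve_left fun e => h.1 (by rw [e])).resolve_left fun e => h.2 (h2 g e))
  have h6 : ∀ a (b : X), Orb G A B a b ↔ Orb G A B A ((w a)⁻¹ • b) := fun a b =>
    ⟨fun h => by simpa only [inv_smul_eq_iff.2 (hw a).symm] using h2 (w a)⁻¹ h,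
      fun h => by simpa only [hw, smul_inv_smul] using h2 (w a) h⟩
  refine ⟨{
    adj := Orb G A B
    K := fun a => N.map (MulAut.conj (w a)).toMonoidHom
    symm := fun ⟨g, h, e⟩ => ⟨g * s, by rw [mul_smul, hs, e], by rw [mul_smul, hs', h]⟩
    irr := fun _ ⟨g, h, e⟩ => hBA (smul_left_cancel g (e.trans h.symm))
    smul := fun g => h2 g
    tr1 := h4
    tr2 := fun h h' => h4 (h5 h) (h5 h')
    frob := orb_frob hfrob
    two := fun ⟨g, h, e⟩ => ⟨g • m • B, h ▸ h2 g ⟨m, hm, rfl⟩, fun e' => hne (smul_left_cancel g (e'.trans e.symm))⟩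
    ntriv := fun ⟨g, h, e⟩ => ⟨g * g₀ * g⁻¹, fun e => h0 (by simpa [mul_inv_eq_iff_eq_mul] using e),
      h ▸ (conj_smul_iff g g₀ _ _).2 hg₀, e ▸ (conj_smul_iff g g₀ _ _).2 e₀⟩
    max := fun a => hprim.isCoatom_stabilizer_of_isPreprimitive G a
    memK := fun {a g} => ?_
    trK := fun {a b b'} hb hb' => ?_
    nilp := fun a => nilpotent_of_mulEquiv (N.equivMapOfInjective _ (MulAut.conj (w a)).injective)
    trans := exists_smul_eq G
    a₀ := A, b₀ := B, c₀ := C, hb₀ := ⟨1, by simp, by simp⟩, hc₀ := ⟨hC, hC'⟩ }⟩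
  · rw [mem_map_equiv, hN, MulAut.conj_symm_apply, mul_smul, mul_smul, hw, inv_smul_eq_iff, hw]
    refine and_congr Iff.rfl (or_congr (by simp [mul_assoc, inv_mul_eq_one]) ⟨fun h b hb e => ?_, fun h b hb e => ?_⟩)
    · exact h _ ((h6 a b).1 hb) (by rw [mul_smul, mul_smul, smul_inv_smul, e])
    · exact h (w a • b) ((h6 _ _).2 (by rwa [inv_smul_smul])) (by rwa [mul_smul, mul_smul, inv_smul_eq_iff] at e)
  · obtain ⟨g, hg, e⟩ := hN1 _ _ ((h6 a b).1 hb) ((h6 a b').1 hb')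
    exact ⟨_, mem_map_of_mem _ hg, by simp [mul_smul, e]⟩

theorem exists_regular [FaithfulSMul G X] [Nontrivial G] [Nonempty X] [Group.IsSolvable G] (hprim : IsPreprimitive G X) :
    ∃ N : Subgroup G, N.Normal ∧ Nat.card N = Nat.card X ∧ (∃ p d : ℕ, p.Prime ∧ Nat.card X = p ^ d) ∧
      ∀ x y : X, ∃! n : N, (n : G) • x = y := by
  obtain ⟨N, hN, -⟩ := CL.Grp.exists_isMinNormal_le (⊤ : Subgroup G) top_ne_bot
  have := hN.normal
  obtain ⟨h1, h2, p, d, hp, -, h3, h4⟩ := Cfsg.Agent.S0547.result hprim N hN.ne_bot hN.min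
  refine ⟨N, this, h4.trans h3.symm, ⟨p, d, hp, h3⟩, fun x y => ?_⟩
  obtain ⟨n, rfl⟩ := exists_smul_eq N x y
  refine ⟨n, rfl, fun n' e => ?_⟩
  have h5 : n⁻¹ * n' ∈ stabilizer N x := by rw [mem_stabilizer_iff, mul_smul, inv_smul_eq_iff]; exact e
  exact (inv_mul_eq_one.1 (mem_bot.1 (h2 x ▸ h5))).symm

theorem Cfg.main [FaithfulSMul G X] (C : Cfg G X) (heven : Even (Nat.card G)) (hprim : IsPreprimitive G X) :
    (Nonempty (G ≃* alternatingGroup (Fin 5)) ∧ Nat.card X = 10) ∨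
    (Group.IsSolvable G ∧ ∃ N : Subgroup G, N.Normal ∧ Nat.card N = 16 ∧ ∀ x y : X, ∃! n : N, (n : G) • x = y) := by
  have h1 : ¬ Even C.k := C.k_even_false
  have h2 : Even C.h := by
    by_contra h
    have h3 := C.kh_eq
    have h4 : ¬ Even C.l := fun h' => by
      have : Even (C.k * C.h) := h3 ▸ h'.mul_right _
      simp [Nat.even_mul, h, h1] at this
    simp [C.card_G, C.card_X, parity_simps, h, h1, h4] at heven
  have : Nonempty X := ⟨C.a₀⟩
  have : Nontrivial G := Finite.one_lt_card_iff_nontrivial.1 (Nat.le_of_dvd Nat.card_pos heven.two_dvd)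
  rcases Cfg.h_even h2 with ⟨h, h'⟩ | ⟨h, h'⟩
  · refine Or.inl ⟨CL.Perm.nonempty_alt_five_of_not_isSolvable h' fun hs => ?_, h⟩
    obtain ⟨-, -, -, ⟨p, d, hp, h3⟩, -⟩ := exists_regular hprim
    rw [h] at h3
    have h4 := (Nat.prime_dvd_prime_iff_eq Nat.prime_two hp).1 (Nat.prime_two.dvd_of_dvd_pow (h3 ▸ (by norm_num : 2 ∣ 10)))
    have h5 := (Nat.prime_dvd_prime_iff_eq Nat.prime_five hp).1
      (Nat.prime_five.dvd_of_dvd_pow (h3 ▸ (by norm_num : 5 ∣ 10)))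
    omega
  · have : Group.IsSolvable G := h'.elim
      (fun h' => Cfsg.Agent.S0144.result 2 5 6 1 Nat.prime_two Nat.prime_five h')
      fun h' => Cfsg.Agent.S0144.result 2 3 6 2 Nat.prime_two Nat.prime_three h'
    obtain ⟨N, h3, h4, -, h5⟩ := exists_regular hprim
    exact Or.inr ⟨this, N, h3, h4.trans h, h5⟩

end CL.Rk3
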