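/-
Doubly transitive groups with simple two-point stabiliser: the local data of `PSL₂(2 ^ r)`.
-/
import Cfsg.Agent.Perm.SabDefs
import Cfsg.Agent.Abel2.PSLOdd
import Cfsg.Agent.Abel2.Struct
import Cfsg.Agent.Cls.SmallIso

set_option autoImplicit false

namespace CL.Perm.Sab

open MulAction Cfsg Subgroup CL.Even CL.Grp CL.Abel2
open scoped MatrixGroups

universe u

/-- `N(T) / T` is cyclic -/
def clsl_Cyc {L : Type*} [Group L] (T : Subgroup L) : Prop :=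
  ∃ z ∈ 𝒩(T), ∀ h ∈ 𝒩(T), ∃ k : ℕ, h * (z ^ k)⁻¹ ∈ T

theorem clsl_comap {L L' : Type*} [Group L] [Group L'] {T : Subgroup L} (h : clsl_Cyc T) (e : L' ≃* L) :
    clsl_Cyc (T.comap e.toMonoidHom) := by
  have hN : ∀ g : L', g ∈ 𝒩(T.comap e.toMonoidHom) ↔ e g ∈ 𝒩(T) := fun g => by
    rw [← comap_normalizer_eq_of_surjective _ e.surjective]; rfl
  obtain ⟨z, hz, h⟩ := h
  exact ⟨e.symm z, (hN _).2 (by simpa using hz), fun g hg => (h _ ((hN g).1 hg)).imp fun k hk => by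
    simpa [mem_comap] using hk⟩

open CL.SL2 CL.GL2 Matrix in
theorem clsl_psl {F : Type*} [Field F] [Fintype F] [CharP F 2] : clsl_Cyc ((uhyp_psl (F := F) 2).Q (pinf : P1 F)) := by
  have hN := (uhyp_psl (F := F) 2).normalizer_Q (Q_psl_ne_bot (F := F) 2 pinf)
  obtain ⟨ζ, hζ⟩ := IsCyclic.exists_monoid_generator (α := Fˣ)
  refine ⟨(diagSL ζ : SL(2, F)), by rw [hN, mem_stabilizer_iff, psl_mk_smul]; exact diagSL_smul_pinf _, fun h hh => ?_⟩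
  induction h using QuotientGroup.induction_on with | H g => ?_
  rw [hN, mem_stabilizer_iff, psl_mk_smul, sl_smul_pinf_eq_pinf] at hh
  have hd := sl_det g
  rw [hh, mul_zero, sub_zero] at hd
  have h0 := left_ne_zero_of_mul_eq_one hd
  obtain ⟨k, hk⟩ := hζ (Units.mk0 (g 0 0) h0)
  refine ⟨k, (mem_Q_psl_pinf 2).2 ⟨g 0 1 * g 0 0, ?_⟩⟩
  rw [mul_inv_eq_iff_eq_mul, ← QuotientGroup.mk_pow, ← map_pow, show ζ ^ k = _ from hk, ← QuotientGroup.mk_mul]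
  congr 1
  apply ext_SL
  rw [coe_mul_SL, coe_upT, coe_diagSL]
  apply ext2 <;> simp [mul00, mul01, mul10, mul11, hh, h0, eq_inv_of_mul_eq_one_right hd]

theorem clsl_cyc {L : Type*} [Group L] [Finite L] {n : ℕ} (hn : 2 ≤ n) (h : IsPSL2 L (2 ^ n)) {T : Subgroup L}
    (hT : IsSylowIn 2 T ⊤) : clsl_Cyc T := by
  obtain ⟨F, _, _, hF, ⟨e⟩⟩ := h
  have : CharP F 2 := charP_of_card_eq_prime_pow hF
  obtain ⟨g, -, rfl⟩ := ((seData_psl (hF ▸ Nat.pow_le_pow_right two_pos hn : 2 ^ 2 ≤ _)).comap e).syl.exists_conj_eq hT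
  convert clsl_comap (clsl_comap clsl_psl e) (MulAut.conj g⁻¹) using 1
  ext a
  rw [mem_conj_smul_iff, mem_comap (f := (MulAut.conj g⁻¹).toMonoidHom)]; simp

theorem clsL : ClsL.{u} := by
  intro G _ _ H T r hr h hT
  have h4 : 2 ^ 2 ≤ 2 ^ r := Nat.pow_le_pow_right two_pos hr
  have hS : IsSylowIn 2 (T.subgroupOf H) ⊤ := isSylowIn_top hT.toSylow
  obtain ⟨T0, h0, hc⟩ := h.exists_seData hr
  have D := h0.of_sylow hS
  have c1 : Nat.card T = 2 ^ r := by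
    rw [← Nat.card_congr (subgroupOfEquivOfLe hT.le).toEquiv, hS.card_eq h0.syl, hc]
  have ce : ∀ t ∈ T, t ≠ 1 → ∀ h ∈ H, h * t = t * h → h ∈ T := fun t ht t1 x hx e =>
    (D.cent ⟨t, hT.le ht⟩ ht (fun e => t1 (congrArg Subtype.val e)) ⟨x, hx⟩).1 (Subtype.ext e)
  obtain ⟨z, hz, cy⟩ := clsl_cyc hr h hS
  have c2 : Nat.card H = 2 ^ r * (4 ^ r - 1) := by
    obtain ⟨F, _, _, hF, ⟨e⟩⟩ := h
    rw [Nat.card_congr e.toEquiv]
    refine CL.Cls.card_PSL_two_of_card (d := 1) hF ?_ one_pos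
      (by rw [one_mul, ← pow_mul, mul_comm r, pow_mul]; rfl)
    obtain ⟨s, rfl⟩ := Nat.exists_eq_add_of_le' hr
    exact Nat.coprime_two_left.2 (Nat.Even.sub_odd (by omega) (by simp [pow_succ, parity_simps]) odd_one)
  refine ⟨⟨h.isSimpleGroup (by omega), h.not_comm, hT,
    fun t ht => by simpa [pow_two] using congrArg Subtype.val (D.sq ⟨t, hT.le ht⟩ ht), c1 ▸ h4,
    fun s hs t ht s1 t1 => ?_, fun x hx e => ?_⟩, ?_⟩
  · obtain ⟨y, hy, e⟩ := D.trans ⟨s, hT.le hs⟩ hs ⟨t, hT.le ht⟩ ht (fun e => s1 (congrArg Subtype.val e))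
      fun e => t1 (congrArg Subtype.val e)
    exact ⟨y, y.2, (mem_norm_subgroupOf hT.le).1 hy, congrArg Subtype.val e⟩
  · obtain ⟨⟨t, ht⟩, t1⟩ := ne_bot_iff_exists_ne_one.1 (show T ≠ ⊥ from fun e => by rw [e, card_bot] at c1; omega)
    exact ce t ht (fun e => t1 (Subtype.ext e)) x hx (e t ht)
  rcases hr.eq_or_lt with rfl | h3
  · obtain ⟨F, _, _, hF, ⟨e⟩⟩ := h
    exact .inr ⟨⟨e.trans (CL.Cls.nonempty_PSL2_four hF).some⟩, c1, c2, ce⟩
  · exact .inl ⟨h3, c1, c2, ce, z, z.2, (mem_norm_subgroupOf hT.le).1 hz, fun x hx hn =>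
      cy ⟨x, hx⟩ ((mem_norm_subgroupOf hT.le).2 hn)⟩

end CL.Perm.Sab
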