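/-
Doubly transitive groups with a simple two-point stabiliser: the local data of `PSL₂(q)` (job SAB-CLSO, helper52).
-/
import Cfsg.Agent.Perm.SabDefs
import Cfsg.Agent.Abel2.PSLOdd
import Cfsg.Agent.Abel2.Small

set_option autoImplicit false

namespace CL.Perm.Sab

open MulAction Cfsg Subgroup CL.Perm.V4 CL.Perm.V4D CL.Perm.Kos CL.Even CL.Grp
open CL.Abel2 (IsPSL2)

universe u v

variable {G : Type u} [Group G]

theorem clso_dih {M : Subgroup G} {Q : ℕ} {t : G} (h : IsPSL2 M Q) (hQ : Odd Q) (ht : t ∈ M) (h2 : orderOf t = 2) :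
    ∃ z ∈ M, (2 * orderOf z = Q + 1 ∨ 2 * orderOf z + 1 = Q) ∧ z * t = t * z ∧
      Nat.card ↥(M ⊓ Ce t) = 2 * orderOf z ∧
      ∀ x ∈ M, x * t = t * x → x ∉ zpowers z → x * x = 1 ∧ x * z * x⁻¹ = z⁻¹ := by
  obtain ⟨F, _, _, rfl, ⟨e⟩⟩ := h
  obtain ⟨p, hp⟩ := CharP.exists F
  have hpp : Fact p.Prime := ⟨CharP.char_is_prime F p⟩
  obtain ⟨k, -, hk⟩ := FiniteField.card F p
  have hpq : p ∣ Fintype.card F := hk ▸ dvd_pow_self p k.ne_zero
  have hq := Nat.odd_iff.1 hQ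
  have hp2 : ¬ 2 ∣ p := fun h => by have := h.trans hpq; omega
  have hu : orderOf (e ⟨t, ht⟩) = 2 := by rw [e.orderOf_eq, ← h2, ← orderOf_coe]
  obtain ⟨n, -, h1, ⟨e'⟩⟩ := CL.SL2.normalizer_psl p (x := e ⟨t, ht⟩) fun h => hp2 (hu ▸ orderOf_dvd_of_pow_eq_one h)
  rw [CL.Abel2.normalizer_zpowers_of_two hu] at e'
  rw [Nat.gcd_eq_left (by omega)] at h1
  have := Fintype.one_lt_card (α := F)
  have : NeZero n := ⟨by omega⟩
  let ψ : DihedralGroup n →* G :=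
    (M.subtype.comp e.symm.toMonoidHom).comp ((Subgroup.subtype _).comp e'.symm.toMonoidHom)
  have hψ : Function.Injective ψ :=
    (Subtype.val_injective.comp e.symm.injective).comp (Subtype.val_injective.comp e'.symm.injective)
  have hr : ψ.range = M ⊓ Ce t := by
    ext x
    constructor
    · rintro ⟨d, rfl⟩
      refine ⟨(e.symm _).2, mem_Ce.2 ?_⟩
      have := congrArg (fun y => (e.symm y : G)) (mem_centralizer_singleton_iff.1 (e'.symm d).2)
      simpa [ψ] using this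
    · rintro ⟨h1, h3⟩
      refine ⟨e' ⟨e ⟨x, h1⟩, mem_centralizer_singleton_iff.2 ?_⟩, by simp [ψ]⟩
      rw [← map_mul, ← map_mul]
      exact congrArg e (Subtype.ext (mem_Ce.1 h3))
  have ho : orderOf (ψ (.r 1)) = n := (orderOf_injective ψ hψ _).trans DihedralGroup.orderOf_r_one
  have hz : ψ (.r 1) ∈ M ⊓ Ce t := hr ▸ ⟨_, rfl⟩
  refine ⟨ψ (.r 1), hz.1, by omega, mem_Ce.1 hz.2, ?_, fun x hx h3 h4 => ?_⟩
  · rw [← hr, ho, ← Nat.card_congr (MonoidHom.ofInjective hψ).toEquiv, DihedralGroup.nat_card]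
  · obtain ⟨i | i, rfl⟩ : x ∈ ψ.range := hr ▸ ⟨hx, mem_Ce.2 h3⟩
    · exact (h4 ⟨i.val, by simp only [zpow_natCast, ← map_pow, DihedralGroup.r_one_pow, ZMod.natCast_zmod_val]⟩).elim
    · rw [← map_inv, ← map_inv, ← map_mul, ← map_mul, ← map_mul]
      exact ⟨by simp, congrArg ψ (by simp)⟩

theorem dh : DH.{u} := fun _ _ _ _ _ _ h hQ ht h2 =>
  let ⟨z, h1, _, h3⟩ := clso_dih h hQ ht h2
  ⟨z, h1, h3⟩

theorem clso_do [Finite G] {H T : Subgroup G} {q : ℕ} (hq : q % 8 = 3 ∨ q % 8 = 5) (h5 : 5 < q) (h : IsPSL2 H q)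
    (hT : T ≤ H) (h4 : Nat.card T = 4) (sq : ∀ t ∈ T, t * t = 1) {t : G} (ht : t ∈ T) (t1 : t ≠ 1) :
    ∃ Y : Subgroup G, DO H T t Y q := by
  have cm : ∀ s ∈ T, ∀ t ∈ T, s * t = t * s := fun s hs t ht => by
    rw [← inv_eq_of_mul_eq_one_right (sq _ (mul_mem hs ht)), mul_inv_rev, inv_eq_of_mul_eq_one_right (sq s hs),
      inv_eq_of_mul_eq_one_right (sq t ht)]
  obtain ⟨z, zH, hn, zt, hc, hx⟩ := clso_dih h (Nat.odd_iff.2 (by omega)) (hT ht)
    (orderOf_eq_prime (by rw [pow_two, sq t ht]) t1)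
  have hd : 4 ∣ 2 * orderOf z := by
    rw [← h4, ← hc]; exact card_dvd_of_le (le_inf hT fun s hs => mem_Ce.2 (cm s hs t ht))
  obtain ⟨y, hy⟩ : ∃ y, orderOf z = 2 * (2 * y + 1) := ⟨orderOf z / 4, by omega⟩
  have z2 : z ≠ z⁻¹ := fun e => by
    have := Nat.le_of_dvd two_pos (orderOf_dvd_of_pow_eq_one (x := z) (n := 2) (by
      rw [pow_two]; nth_rw 2 [e]; exact mul_inv_cancel z))
    omega
  have nc : ∀ x ∈ H, x * t = t * x → x * z = z * x → x ∈ zpowers z := fun x h1 h2 h3 => by_contra fun h6 =>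
    z2 (by rw [← (hx x h1 h2 h6).2, h3, mul_inv_cancel_right])
  have un : ∀ v ∈ zpowers z, v * v = 1 → v = 1 ∨ v = z ^ (2 * y + 1) := fun v hv e => by
    obtain ⟨k, rfl⟩ := (mem_powers_iff_mem_zpowers.2 hv :)
    obtain ⟨j, rfl⟩ : 2 * y + 1 ∣ k := Nat.dvd_of_mul_dvd_mul_left two_pos
      (hy ▸ orderOf_dvd_of_pow_eq_one (by rw [two_mul, pow_add]; exact e))
    have e1 : (z ^ (2 * y + 1)) ^ 2 = 1 := by rw [← pow_mul, mul_comm, ← hy, pow_orderOf_eq_one]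
    simp only [pow_mul]
    rw [pow_eq_pow_mod j e1]
    rcases Nat.mod_two_eq_zero_or_one j with e2 | e2 <;> simp [e2, pow_mul]
  have tz := (un t (nc t (hT ht) rfl zt.symm) (sq t ht)).resolve_left t1
  have vi : ∀ v ∈ T, v ≠ 1 → v ≠ t → v * z * v⁻¹ = z⁻¹ := fun v hv v1 vt =>
    (hx v (hT hv) (cm v hv t ht) fun h6 => (un v h6 (sq v hv)).elim v1 fun e => vt (e.trans tz.symm)).2
  have cY : Nat.card (zpowers (z ^ 2)) = 2 * y + 1 := by
    rw [Nat.card_zpowers, orderOf_pow_of_dvd two_ne_zero (by omega), hy]; omega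
  have dz : ∀ g ∈ zpowers z, ∃ a ∈ zpowers (z ^ 2), ∃ w ∈ T, g = a * w := fun g hg => by
    obtain ⟨k, rfl⟩ := (mem_powers_iff_mem_zpowers.2 hg :)
    obtain ⟨j, rfl | rfl⟩ := Nat.even_or_odd' k
    · exact ⟨_, pow_mem (mem_zpowers _) j, 1, one_mem _, by simp [pow_mul]⟩
    · refine ⟨_, pow_mem (mem_zpowers _) (j + y + 1), t, ht, ?_⟩
      rw [← pow_mul, show 2 * (j + y + 1) = 2 * j + 1 + (2 * y + 1) by ring, pow_add, ← tz, mul_assoc, sq t ht, mul_one]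
  refine ⟨zpowers (z ^ 2), zpowers_le.2 (pow_mem zH 2), inferInstance, cY ▸ ⟨y, rfl⟩, by omega,
    fun a ha => mem_Ce.1 (zpowers_le.2 (pow_mem (mem_Ce.2 zt) 2) ha),
    fun v hv v1 vt a ha => inv_zpowers (vi v hv v1 vt) (zpowers_le.2 (pow_mem (mem_zpowers z) 2) ha),
    fun g hg gt => ?_, by omega, by omega⟩
  by_cases h6 : g ∈ zpowers z
  · exact dz g h6
  classical
  obtain ⟨v, hv, h7⟩ : ∃ v ∈ T, v ∉ ({1, t} : Finset G) := by
    by_contra! hc
    have := Set.ncard_le_ncard (s := (T : Set G)) (t := (({1, t} : Finset G) : Set G)) hc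
    rw [Set.ncard_coe_finset, ← Nat.card_coe_set_eq] at this
    exact absurd ((h4.ge.trans this).trans Finset.card_le_two) (by omega)
  simp only [Finset.mem_insert, Finset.mem_singleton, not_or] at h7
  obtain ⟨a, ha, w, hw, e⟩ := dz (g * v) (nc _ (mul_mem hg (hT hv)) (Commute.mul_left gt (cm v hv t ht)) (by
    rw [← mul_inv_eq_iff_eq_mul, show g * v * z * (g * v)⁻¹ = g * (v * z * v⁻¹) * g⁻¹ by group, vi v hv h7.1 h7.2,
      ← conj_inv, (hx g hg gt h6).2, inv_inv]))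
  exact ⟨a, ha, w * v, mul_mem hw hv, by rw [← mul_assoc, ← e, mul_assoc, sq v hv, mul_one]⟩

theorem clsO : ClsO.{u} := fun G _ _ H T q hq h5 h hT => by
  have hK := h.kProps_odd hq (by omega)
  have hT' : IsSylowIn 2 (T.subgroupOf H) ⊤ := isSylowIn_top_iff.2 ⟨hT.toSylow, rfl⟩
  have h4 := h.isKleinFour hq hT'
  have c4 : Nat.card T = 4 := (Nat.card_congr (subgroupOfEquivOfLe hT.le).toEquiv).symm.trans h4.card_four
  have sq : ∀ t ∈ T, t * t = 1 := fun t ht => by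
    have := congrArg (fun x : T.subgroupOf H => ((x : H) : G))
      (Monoid.pow_exponent_eq_one (⟨⟨t, hT.le ht⟩, ht⟩ : T.subgroupOf H))
    rw [h4.exponent_two] at this
    simpa [pow_two] using this
  have dat := fun t (ht : t ∈ T) t1 => clso_do hq h5 h hT.le c4 sq ht t1
  refine ⟨⟨hK.simple, hK.noncomm, hT, sq, c4.ge, fun s hs t ht s1 t1 => ?_, fun g hg hc => ?_⟩,
    h, hq, by omega, ?_, c4, CL.Abel2.two_mul_card_of_isPSL2 h (Nat.odd_iff.2 (by omega)), dat⟩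
  · obtain ⟨Y, hY⟩ := (hK.ea _ hT').2.2
    obtain ⟨y, hy, e⟩ := hY.trans ⟨s, hT.le hs⟩ hs ⟨t, hT.le ht⟩ ht (fun e => s1 (congrArg Subtype.val e))
      fun e => t1 (congrArg Subtype.val e)
    exact ⟨y, y.2, (CL.Abel2.mem_norm_subgroupOf hT.le).1 (hY.norm hy), congrArg Subtype.val e⟩
  · classical
    obtain ⟨t, ht, t1⟩ := (T.bot_or_exists_ne_one).resolve_left fun e => by simp [e] at c4
    obtain ⟨Y, hY⟩ := dat t ht t1
    obtain ⟨v, hv, h7⟩ : ∃ v ∈ T, v ∉ ({1, t} : Finset G) := by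
      by_contra! hc
      have := Set.ncard_le_ncard (s := (T : Set G)) (t := (({1, t} : Finset G) : Set G)) hc
      rw [Set.ncard_coe_finset, ← Nat.card_coe_set_eq] at this
      exact absurd ((c4.ge.trans this).trans Finset.card_le_two) (by omega)
    simp only [Finset.mem_insert, Finset.mem_singleton, not_or] at h7
    obtain ⟨y, hy, w, hw, rfl⟩ := hY.dec g hg (hc t ht)
    have cm : w * v = v * w := by
      rw [← inv_eq_of_mul_eq_one_right (sq _ (mul_mem hw hv)), mul_inv_rev, inv_eq_of_mul_eq_one_right (sq v hv),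
        inv_eq_of_mul_eq_one_right (sq w hw)]
    have e : y * v = v * y := mul_right_cancel (b := w) (by rw [mul_assoc, ← cm, ← mul_assoc, hc v hv, mul_assoc])
    rw [eq_one_of_odd_of_inv (hY.odd.of_dvd_nat (orderOf_dvd_natCard Y hy))
      (by rw [← hY.inv v hv h7.1 h7.2 y hy, ← e, mul_inv_cancel_right]), one_mul]
    exact hw
  · obtain ⟨F, _, _, rfl, -⟩ := h
    obtain ⟨p, hp⟩ := CharP.exists F
    obtain ⟨k, h1, hk⟩ := FiniteField.card F p
    exact ⟨p, k, h1, hk⟩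

end CL.Perm.Sab
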