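/-
Doubly transitive groups with two-point stabiliser `A₄` or `A₅`: the set-up.
-/
import Cfsg.Agent.Perm.V4Defs
import Cfsg.Agent.S2119

set_option autoImplicit false
set_option linter.unusedSectionVars false
set_option linter.style.haveILetI false

namespace CL.Perm.V4

open MulAction Cfsg Equiv Equiv.Perm

universe u v

/-- The facts about the alternating and symmetric groups of degree four and five that are used. -/
structure AltData (n : ℕ) (z v t : alternatingGroup (Fin n)) (u : Perm (Fin n)) (r β : ℕ) : Prop where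
  zz : z * z = 1
  z1 : z ≠ 1
  vv : v * v = 1
  v1 : v ≠ 1
  vz : v ≠ z
  comm : v * z = z * v
  cent : ∀ σ, σ * z = z * σ → σ = 1 ∨ σ = z ∨ σ = v ∨ σ = z * v
  conj : ∀ σ : alternatingGroup (Fin n), σ * σ = 1 → σ ≠ 1 → ∃ κ, κ * z * κ⁻¹ = σ
  card : Nat.card (alternatingGroup (Fin n)) = 4 * r
  odd : Odd r
  center : ∀ σ : alternatingGroup (Fin n), σ * z = z * σ → σ * t = t * σ → σ = 1
  su : sign u = -1
  uu : u * u = 1
  uz : u * z = z * u
  uv : u * v * (u * v) = z
  cj : ∀ σ : Perm (Fin n), σ * σ = 1 → sign σ = -1 → ∃ κ : alternatingGroup (Fin n), κ * u * κ⁻¹ = σ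
  cardβ : (Finset.univ.filter fun σ : Perm (Fin n) => σ * σ = 1 ∧ sign σ = -1).card = β
  ut : u * t * u⁻¹ = t⁻¹
  bij : Function.Bijective (MulAut.conjNormal : Perm (Fin n) →* MulAut (alternatingGroup (Fin n)))

def z4 : alternatingGroup (Fin 4) := ⟨swap 0 1 * swap 2 3, mem_alternatingGroup.2 (by decide)⟩
def v4 : alternatingGroup (Fin 4) := ⟨swap 0 2 * swap 1 3, mem_alternatingGroup.2 (by decide)⟩
def t4 : alternatingGroup (Fin 4) := ⟨swap 0 1 * swap 1 2, mem_alternatingGroup.2 (by decide)⟩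
def z5 : alternatingGroup (Fin 5) := ⟨swap 0 1 * swap 2 3, mem_alternatingGroup.2 (by decide)⟩
def v5 : alternatingGroup (Fin 5) := ⟨swap 0 2 * swap 1 3, mem_alternatingGroup.2 (by decide)⟩
def t5 : alternatingGroup (Fin 5) := ⟨swap 0 1 * swap 1 2, mem_alternatingGroup.2 (by decide)⟩

theorem altData4 : AltData 4 z4 v4 t4 (swap 0 1) 3 6 where
  zz := by decide
  z1 := by decide
  vv := by decide
  v1 := by decide
  vz := by decide
  comm := by decide
  cent := by decide +kernel
  conj := by decide +kernel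
  card := by rw [nat_card_alternatingGroup]; simp [Nat.factorial]
  odd := by decide
  center := by decide +kernel
  su := by decide
  uu := by decide
  uz := by decide
  uv := by decide
  cj := by decide +kernel
  cardβ := by decide +kernel
  ut := by decide
  bij := Cfsg.Agent.S2119.result 4 le_rfl (by decide)

theorem altData5 : AltData 5 z5 v5 t5 (swap 0 1) 15 10 where
  zz := by decide
  z1 := by decide
  vv := by decide
  v1 := by decide
  vz := by decide
  comm := by decide
  cent := by decide +kernel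
  conj := by decide +kernel
  card := by rw [nat_card_alternatingGroup]; simp [Nat.factorial]
  odd := by decide
  center := by decide +kernel
  su := by decide
  uu := by decide
  uz := by decide
  uv := by decide
  cj := by decide +kernel
  cardβ := by decide +kernel
  ut := by decide
  bij := Cfsg.Agent.S2119.result 5 (by decide) (by decide)

theorem a4_inv : ∀ σ : alternatingGroup (Fin 4), σ * σ = 1 → σ * z4 = z4 * σ := by decide +kernel

theorem a4_norm : ∀ σ : alternatingGroup (Fin 4), (σ * t4 * σ⁻¹ = t4 ∨ σ * t4 * σ⁻¹ = t4⁻¹) →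
    σ * t4 = t4 * σ := by decide +kernel

theorem a4_cent : ∀ σ : alternatingGroup (Fin 4), σ * t4 = t4 * σ → σ = 1 ∨ σ = t4 ∨ σ = t4⁻¹ := by
  decide +kernel

theorem a4_t : t4 ^ 3 = 1 ∧ t4 ≠ 1 ∧ ∃ x y : alternatingGroup (Fin 4), x * y * x⁻¹ * y⁻¹ = z4 := by
  decide +kernel

variable {G : Type u} {Ω : Type v} [Group G] [MulAction G Ω] {a b : Ω} {n r β : ℕ}
  {z v t : alternatingGroup (Fin n)} {u : Perm (Fin n)}

/-- The embedding of the alternating group onto the two-point stabiliser. -/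
def emb (e : stab2 G a b ≃* alternatingGroup (Fin n)) : alternatingGroup (Fin n) →* G :=
  (stab2 G a b).subtype.comp e.symm.toMonoidHom

variable (e : stab2 G a b ≃* alternatingGroup (Fin n))

theorem emb_inj : Function.Injective (emb e) := Subtype.val_injective.comp e.symm.injective

theorem emb_mem (σ : alternatingGroup (Fin n)) : emb e σ ∈ stab2 G a b := (e.symm σ).2

theorem emb_apply {h : G} (hh : h ∈ stab2 G a b) : emb e (e ⟨h, hh⟩) = h := by simp [emb]

theorem exists_emb {h : G} (hh : h ∈ stab2 G a b) : ∃ σ, emb e σ = h := ⟨_, emb_apply e hh⟩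

theorem AltData.hyp (d : AltData n z v t u r β)
    (t2 : ∀ {x y x' y' : Ω}, x ≠ y → x' ≠ y' → ∃ g : G, g • x = x' ∧ g • y = y')
    (faith : ∀ g : G, (∀ x : Ω, g • x = x) → g = 1) (hab : a ≠ b) :
    Hyp G Ω a b (emb e z) (emb e v) r where
  t2 := t2
  faith := faith
  ne := hab
  hz := emb_mem e z
  hv := emb_mem e v
  oz := orderOf_two_of (by rw [← map_mul, d.zz, map_one]) ((map_ne_one_iff _ (emb_inj e)).2 d.z1)
  ov := orderOf_two_of (by rw [← map_mul, d.vv, map_one]) ((map_ne_one_iff _ (emb_inj e)).2 d.v1)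
  vz := (emb_inj e).ne d.vz
  comm := by rw [← map_mul, d.comm, map_mul]
  cent := fun h hh hc => by
    obtain ⟨σ, rfl⟩ := exists_emb e hh
    rw [← map_mul, ← map_mul] at hc
    rcases d.cent σ (emb_inj e hc) with rfl | rfl | rfl | rfl <;> simp
  conj := fun h hh ho => by
    obtain ⟨σ, rfl⟩ := exists_emb e hh
    obtain ⟨κ, rfl⟩ := d.conj σ (emb_inj e (by rw [map_mul, mul_self_of_orderOf ho, map_one]))
      (by rintro rfl; simp at ho)
    exact ⟨_, emb_mem e κ, by simp⟩
  card := (Nat.card_congr e.toEquiv).trans d.card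
  odd := d.odd

theorem swap_of_mem {g : G} (hg : g ∈ pairStab G a b) (h : g ∉ stab2 G a b) : g • a = b ∧ g • b = a :=
  Or.resolve_left hg h

theorem AltData.type (d : AltData n z v t u r β)
    (t2 : ∀ {x y x' y' : Ω}, x ≠ y → x' ≠ y' → ∃ g : G, g • x = x' ∧ g • y = y') (hab : a ≠ b) :
    (∃ w : G, TypeD a b w) ∨
      ∃ w : G, TypeS a b (emb e z) (emb e v) w β ∧ w * emb e t * w⁻¹ = (emb e t)⁻¹ := by
  rw [or_iff_not_imp_left]
  intro hD
  have hN : pairStab G a b ≤ Subgroup.normalizer (stab2 G a b : Set G) := fun g hg =>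
    Subgroup.mem_normalizer_iff.2 fun h => ⟨CL.Perm.conj_mem_stab2 hg, fun hh => by
      simpa [mul_assoc] using CL.Perm.conj_mem_stab2 (inv_mem hg) hh⟩
  let φ : pairStab G a b →* Perm (Fin n) :=
    (MulEquiv.ofBijective _ d.bij).symm.toMonoidHom.comp ((MulAut.congr e).toMonoidHom.comp
      ((stab2 G a b).normalizerMonoidHom.comp (Subgroup.inclusion hN)))
  have hφ : ∀ (g : pairStab G a b) (σ : alternatingGroup (Fin n)),
      emb e (MulAut.conjNormal (φ g) σ) = g * emb e σ * (g : G)⁻¹ := fun g σ => by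
    have h1 : MulAut.conjNormal (φ g) = MulAut.congr e
        ((stab2 G a b).normalizerMonoidHom (Subgroup.inclusion hN g)) :=
      (MulEquiv.ofBijective _ d.bij).apply_symm_apply _
    rw [h1]
    exact emb_apply e _
  have hφe : ∀ σ, φ ⟨emb e σ, stab2_le_pairStab a b (emb_mem e σ)⟩ = σ := fun σ =>
    d.bij.1 (MulEquiv.ext fun τ => emb_inj e (by
      rw [hφ, ← map_inv, ← map_mul, ← map_mul]; rfl))
  have hsw : ∀ {g h : G}, g • a = b → g • b = a → h • a = b → h • b = a → g * h ∈ stab2 G a b :=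
    fun h1 h2 h3 h4 => mem_stab2.2 ⟨by rw [mul_smul, h3, h2], by rw [mul_smul, h4, h1]⟩
  have hinj : Function.Injective φ := (injective_iff_map_eq_one φ).2 fun g hg => by
    have hc : ∀ σ, g * emb e σ = emb e σ * g := fun σ => by
      rw [← mul_inv_eq_iff_eq_mul, ← hφ, hg, map_one, MulAut.one_apply]
    by_cases h1 : (g : G) ∈ stab2 G a b
    · obtain ⟨σ, hσ⟩ := exists_emb e h1
      have h2 := hφe σ
      simp only [hσ, Subtype.coe_eta, hg] at h2
      rw [Subtype.ext_iff, ← hσ, show σ = 1 from Subtype.ext h2.symm, map_one]; rfl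
    · obtain ⟨h2, h3⟩ := swap_of_mem g.2 h1
      obtain ⟨σ, hσ⟩ := exists_emb e (hsw h2 h3 h2 h3)
      have h4 : ∀ τ, σ * τ = τ * σ := fun τ => emb_inj e (by
        rw [map_mul, map_mul, hσ, mul_assoc, hc, ← mul_assoc, hc, mul_assoc])
      rw [d.center σ (h4 z) (h4 t), map_one] at hσ
      refine absurd ⟨g, orderOf_two_of hσ.symm fun h5 => h1 (h5 ▸ one_mem _), h2, fun h hh => ?_⟩ hD
      obtain ⟨τ, rfl⟩ := exists_emb e hh
      exact hc τ
  have hsign : ∀ g : pairStab G a b, (g : G) • a = b ↔ sign (φ g) = -1 := fun g => by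
    rcases Int.units_eq_one_or (sign (φ g)) with h1 | h1
    · have h2 : g = ⟨_, stab2_le_pairStab a b (emb_mem e ⟨φ g, h1⟩)⟩ := hinj (by rw [hφe])
      rw [h1]
      refine iff_of_false (fun h3 => hab ?_) (by decide)
      rw [← h3, h2]
      exact (emb_mem e _).1.symm
    · refine iff_of_true (swap_of_mem g.2 fun h2 => ?_).1 h1
      obtain ⟨σ, hσ⟩ := exists_emb e h2
      have h3 := hφe σ
      simp only [hσ, Subtype.coe_eta] at h3
      rw [h3, show sign (σ : Perm (Fin n)) = 1 from σ.2] at h1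
      exact absurd h1 (by decide)
  have hsurj : Function.Surjective φ := fun σ => by
    rcases Int.units_eq_one_or (sign σ) with h1 | h1
    · exact ⟨_, hφe ⟨σ, h1⟩⟩
    · obtain ⟨g, h2, h3⟩ := t2 hab hab.symm
      have hg : g ∈ pairStab G a b := Or.inr ⟨h2, h3⟩
      have h5 : σ * (φ ⟨g, hg⟩)⁻¹ ∈ alternatingGroup (Fin n) := by
        rw [mem_alternatingGroup, map_mul, map_inv, h1, (hsign ⟨g, hg⟩).1 h2]; rfl
      exact ⟨⟨_, stab2_le_pairStab a b (emb_mem e ⟨_, h5⟩)⟩ * ⟨g, hg⟩,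
        by rw [map_mul, hφe, inv_mul_cancel_right]⟩
  have hmem : ∀ {s : G}, orderOf s = 2 → s • a = b → s ∈ pairStab G a b := fun {s} h1 h2 =>
    Or.inr ⟨h2, by rw [← h2, ← mul_smul, mul_self_of_orderOf h1, one_smul]⟩
  obtain ⟨w, hw⟩ := hsurj u
  have hwa := (hsign w).2 (hw ▸ d.su)
  have key : ∀ {x y : pairStab G a b}, φ x = φ y → (x : G) = y := fun h => congrArg _ (hinj h)
  refine ⟨w, ⟨orderOf_two_of ?_ fun h => hab ?_, hwa, ?_, ?_, fun s h1 h2 => ?_, ?_⟩, ?_⟩
  · exact key (x := w * w) (y := 1) (by rw [map_mul, hw, d.uu, map_one])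
  · rw [← hwa, h, one_smul]
  · exact key (x := w * ⟨_, stab2_le_pairStab a b (emb_mem e z)⟩)
      (y := ⟨_, stab2_le_pairStab a b (emb_mem e z)⟩ * w) (by rw [map_mul, map_mul, hw, hφe, d.uz])
  · exact key (x := w * ⟨_, stab2_le_pairStab a b (emb_mem e v)⟩ *
      (w * ⟨_, stab2_le_pairStab a b (emb_mem e v)⟩)) (y := ⟨_, stab2_le_pairStab a b (emb_mem e z)⟩)
      (by rw [map_mul, map_mul, hw, hφe, hφe, d.uv])
  · obtain ⟨κ, hκ⟩ := d.cj (φ ⟨s, hmem h1 h2⟩) (by
      rw [← map_mul, ← map_one φ]; exact congrArg φ (Subtype.ext (mul_self_of_orderOf h1)))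
      ((hsign _).1 h2)
    refine ⟨_, emb_mem e κ, key (x := ⟨_, stab2_le_pairStab a b (emb_mem e κ)⟩ * w *
      (⟨_, stab2_le_pairStab a b (emb_mem e κ)⟩ : pairStab G a b)⁻¹) (y := ⟨s, hmem h1 h2⟩) ?_⟩
    rw [map_mul, map_mul, map_inv, hφe, hw, ← hκ]; rfl
  · rw [← d.cardβ, ← Set.ncard_coe_finset]
    refine Set.ncard_congr (fun s hs => φ ⟨s, hmem hs.1 hs.2⟩) (fun s hs => ?_)
      (fun s s' hs hs' h => key h) fun σ hσ => ?_
    · simp only [Finset.coe_filter, Finset.mem_univ, true_and, Set.mem_ofPred_eq]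
      exact ⟨by rw [← map_mul, ← map_one φ]; exact congrArg φ (Subtype.ext (mul_self_of_orderOf hs.1)),
        (hsign _).1 hs.2⟩
    · simp only [Finset.coe_filter, Finset.mem_univ, true_and, Set.mem_ofPred_eq] at hσ
      obtain ⟨s, rfl⟩ := hsurj σ
      have h1 := (hsign s).2 hσ.2
      exact ⟨s, ⟨orderOf_two_of (key (x := s * s) (y := 1) (by rw [map_mul, hσ.1, map_one]))
        fun h => hab (by rw [← h1, h, one_smul]), h1⟩, rfl⟩
  · rw [← hφ, ← map_inv, hw]
    exact congrArg _ (Subtype.ext d.ut)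

end CL.Perm.V4
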