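/-
Project SAXL (normal subgroups of triply transitive groups of degree divisible by three): definitions and the steps
as propositions.
-/
import Cfsg.Agent.Even.Amb
import Cfsg.Agent.Grp.SylowIn

set_option autoImplicit false

namespace CL.Perm.Saxl

open Subgroup Equiv CL.Even

universe u

section
variable {Ω : Type*}

/-- doubly transitive -/
def T2 (H : Subgroup (Perm Ω)) : Prop := ∀ a b a' b' : Ω, a ≠ b → a' ≠ b' → ∃ h ∈ H, h a = a' ∧ h b = b'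

/-- triply transitive -/
def T3 (G : Subgroup (Perm Ω)) : Prop := ∀ a b c a' b' c' : Ω, a ≠ b → a ≠ c → b ≠ c → a' ≠ b' → a' ≠ c' → b' ≠ c' →
  ∃ g ∈ G, g a = a' ∧ g b = b' ∧ g c = c'

/-- `c` and `c'` lie in the same orbit of `H_{ab}` -/
def Rel (H : Subgroup (Perm Ω)) (a b c c' : Ω) : Prop := ∃ h ∈ H, h a = a ∧ h b = b ∧ h c = c'

/-- the two-point stabilisers have at most two orbits on the remaining points -/
def Two (H : Subgroup (Perm Ω)) : Prop := ∀ a b c₁ c₂ c₃ : Ω, a ≠ b → c₁ ≠ a → c₁ ≠ b → c₂ ≠ a → c₂ ≠ b → c₃ ≠ a →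
  c₃ ≠ b → Rel H a b c₁ c₂ ∨ Rel H a b c₁ c₃ ∨ Rel H a b c₂ c₃

/-- the elements of order `p` have no fixed points -/
def Fpf (p : ℕ) (H : Subgroup (Perm Ω)) : Prop := ∀ h ∈ H, h ^ p = 1 → ∀ a : Ω, h a = a → h = 1

/-- the permutations of the subtype induced by elements of `J` -/
def Rs (p : Ω → Prop) (J : Subgroup (Perm Ω)) : Subgroup (Perm (Subtype p)) where
  carrier := {σ | ∃ g ∈ J, ∀ x : Subtype p, (σ x : Ω) = g x}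
  one_mem' := ⟨1, one_mem _, fun _ => rfl⟩
  mul_mem' := fun ⟨g, hg, e⟩ ⟨g', hg', e'⟩ => ⟨g * g', mul_mem hg hg', fun x => by
    rw [Perm.mul_apply, Perm.mul_apply, e, e']⟩
  inv_mem' := fun {σ} ⟨g, hg, e⟩ => ⟨g⁻¹, inv_mem hg, fun x => by
    rw [Perm.eq_inv_iff_eq, ← e]; exact congrArg Subtype.val (σ.apply_symm_apply x)⟩

theorem mem_Rs {p : Ω → Prop} {J : Subgroup (Perm Ω)} {σ : Perm (Subtype p)} :
    σ ∈ Rs p J ↔ ∃ g ∈ J, ∀ x : Subtype p, (σ x : Ω) = g x := Iff.rfl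

theorem exists_Rs {p : Ω → Prop} {J : Subgroup (Perm Ω)} {g : Perm Ω} (hg : g ∈ J) (h : ∀ x, p (g x) ↔ p x) :
    ∃ σ ∈ Rs p J, ∀ x : Subtype p, (σ x : Ω) = g x := ⟨g.subtypePerm h, ⟨g, hg, fun _ => rfl⟩, fun _ => rfl⟩

theorem Rs_mono {p : Ω → Prop} {J J' : Subgroup (Perm Ω)} (h : J ≤ J') : Rs p J ≤ Rs p J' :=
  fun _ ⟨g, hg, e⟩ => ⟨g, h hg, e⟩

theorem Rs_norm {p : Ω → Prop} {J J' : Subgroup (Perm Ω)} (h : J' ≤ 𝒩(J)) : Rs p J' ≤ 𝒩(Rs p J) :=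
  le_norm_of_cj_le fun σ ⟨g, hg, e⟩ τ hτ => by
    obtain ⟨k, hk, e'⟩ := mem_cj.1 hτ
    refine ⟨g * k * g⁻¹, conj_mem (h hg) hk, fun x => ?_⟩
    have h1 := e' (σ⁻¹ x)
    have h2 : (σ (σ⁻¹ x)) = x := σ.apply_symm_apply x
    have h3 : g⁻¹ x = (σ⁻¹ x : Subtype p) := by rw [Perm.inv_eq_iff_eq, ← e, h2]
    rw [Perm.mul_apply, Perm.mul_apply, h2] at h1
    rw [Perm.mul_apply, Perm.mul_apply, h3, ← h1, ← e]
    exact congrArg Subtype.val (σ.apply_symm_apply _).symm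

end

/-- (job SAXL-LIN) transitive linear groups in odd dimension -/
def Lin : Prop := ∀ (Γ : Type u) [Group Γ] [Finite Γ] (U D E : Subgroup Γ) (r f : ℕ), r.Prime → r ≠ 2 → Odd f →
  Nat.card U = r ^ f → (∀ u ∈ U, u ^ r = 1) → (∀ u ∈ U, ∀ v ∈ U, u * v = v * u) → D ≤ 𝒩(U) → D ⊓ 𝒞(U) = ⊥ →
  (∀ u ∈ U, ∀ v ∈ U, u ≠ 1 → v ≠ 1 → ∃ d ∈ D, d * u * d⁻¹ = v) → E ≤ D → D ≤ 𝒩(E) →
  (¬ 3 ∣ Nat.card E ∨ Odd (Nat.card E)) →
  ∃ y ∈ E, 𝒩(E) ≤ 𝒩(zpowers y) ∧ ∀ e ∈ E, e * y = y * e → ∀ u ∈ U, e * u = u * e → e = 1 ∨ u = 1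

/-- the reduced case -/
def Core : Prop := ∀ (Ω : Type u) [Fintype Ω] [DecidableEq Ω] (H : Subgroup (Perm Ω)), T3 𝒩(H) → T2 H →
  6 ∣ Fintype.card Ω → Fpf 3 H → Two H

/-- the case of fixed-point-free involutions -/
def Core2 : Prop := ∀ (Ω : Type u) [Fintype Ω] [DecidableEq Ω] (H : Subgroup (Perm Ω)), T3 𝒩(H) → T2 H →
  6 ∣ Fintype.card Ω → 0 < Fintype.card Ω → Two H → ¬ T3 H → Fpf 2 H →
  ∃ (N : Subgroup (Perm Ω)) (F : Type) (_ : Field F) (_ : Fintype F), N ≤ H ∧ H ≤ 𝒩(N) ∧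
    Fintype.card F + 1 = Fintype.card Ω ∧ Nonempty (N ≃* Matrix.ProjectiveSpecialLinearGroup (Fin 2) F)

end CL.Perm.Saxl
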