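/-
Project SAXL: abelian root groups, the inversions `ν`, and the count of the orbits.
-/
import Cfsg.Agent.Perm.SaxlDefs

set_option autoImplicit false
set_option linter.unusedSectionVars false

namespace CL.Perm.Saxl

open Subgroup Equiv CL.Even CL.Grp

universe u

variable {Ω : Type u} [Fintype Ω] [DecidableEq Ω]

/-- a family of abelian root groups -/
structure Mou (H : Subgroup (Perm Ω)) (U : Ω → Subgroup (Perm Ω)) (r : ℕ) : Prop where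
  t3 : T3 𝒩(H)
  t2 : T2 H
  six : 6 ∣ Fintype.card Ω
  le : ∀ x, U x ≤ H
  fix : ∀ x, ∀ u ∈ U x, u x = x
  tr : ∀ x y z, y ≠ x → z ≠ x → ∃ u ∈ U x, u y = z
  reg : ∀ x y, y ≠ x → ∀ u ∈ U x, u y = y → u = 1
  comm : ∀ x, ∀ u ∈ U x, ∀ v ∈ U x, u * v = v * u
  conj : ∀ g ∈ 𝒩(H), ∀ x, ∀ u ∈ U x, g * u * g⁻¹ ∈ U (g x)
  prime : r.Prime
  pw : ∀ x, ∀ u ∈ U x, u ^ r = 1

/-- `ν` fixes `x` and `y` and inverts `U x` -/
def Inv (U : Ω → Subgroup (Perm Ω)) (x y : Ω) (ν : Perm Ω) : Prop := ν x = x ∧ ∀ u ∈ U x, ν (u y) = u⁻¹ y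

/-- the special condition -/
def Sp (U : Ω → Subgroup (Perm Ω)) : Prop := ∀ x y ν, y ≠ x → Inv U x y ν → Inv U y x ν

/-- the two-point stabiliser in `J` -/
def st (J : Subgroup (Perm Ω)) (x y : Ω) : Subgroup (Perm Ω) where
  carrier := {g | g ∈ J ∧ g x = x ∧ g y = y}
  one_mem' := ⟨one_mem _, rfl, rfl⟩
  mul_mem' := fun h k => ⟨mul_mem h.1 k.1, by rw [Perm.mul_apply, k.2.1, h.2.1], by rw [Perm.mul_apply, k.2.2, h.2.2]⟩
  inv_mem' := fun h => ⟨inv_mem h.1, Perm.inv_eq_iff_eq.2 h.2.1.symm, Perm.inv_eq_iff_eq.2 h.2.2.symm⟩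

theorem mem_st {J : Subgroup (Perm Ω)} {x y : Ω} {g : Perm Ω} : g ∈ st J x y ↔ g ∈ J ∧ g x = x ∧ g y = y := Iff.rfl

theorem ia (g : Perm Ω) (x : Ω) : g⁻¹ (g x) = x := g.symm_apply_apply x
theorem ai (g : Perm Ω) (x : Ω) : g (g⁻¹ x) = x := g.apply_symm_apply x

theorem exists_third (h : 6 ∣ Fintype.card Ω) (x y : Ω) : ∃ c, c ≠ x ∧ c ≠ y := by
  by_contra hc
  push Not at hc
  have h1 : (Finset.univ : Finset Ω).card ≤ ({x, y} : Finset Ω).card := Finset.card_le_card fun c _ => by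
    by_cases e : c = x
    · simp [e]
    · simp [hc c e]
  have h2 := Finset.card_le_two (a := x) (b := y)
  have h3 : 0 < Fintype.card Ω := Fintype.card_pos_iff.2 ⟨x⟩
  rw [Finset.card_univ] at h1
  omega

/-- three points under a semiregular group whose order is at least half the number of points -/
theorem three_pts {A β : Type*} [Group A] [Finite A] [MulAction A β] [Finite β] (S : Set β)
    (hS : ∀ a : A, ∀ c ∈ S, a • c ∈ S) (hr : ∀ a : A, ∀ c ∈ S, a • c = c → a = 1)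
    (hc : Nat.card S ≤ 2 * Nat.card A) {c₁ c₂ c₃ : β} (h1 : c₁ ∈ S) (h2 : c₂ ∈ S) (h3 : c₃ ∈ S) :
    (∃ a : A, a • c₁ = c₂) ∨ (∃ a : A, a • c₁ = c₃) ∨ ∃ a : A, a • c₂ = c₃ := by
  by_contra hn
  push Not at hn
  let c : Fin 3 → β := ![c₁, c₂, c₃]
  have hm : ∀ i, c i ∈ S := fun i => by fin_cases i <;> assumption
  have hne : ∀ i j (a : A), a • c i = c j → i = j := fun i j a e => by
    have e' : a⁻¹ • c j = c i := inv_smul_eq_iff.2 e.symm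
    fin_cases i <;> fin_cases j <;>
      first | rfl | exact absurd e (hn.1 a) | exact absurd e (hn.2.1 a) | exact absurd e (hn.2.2 a) |
        exact absurd e' (hn.1 _) | exact absurd e' (hn.2.1 _) | exact absurd e' (hn.2.2 _)
  have h4 := Nat.card_le_card_of_injective (fun p : Fin 3 × A => (⟨p.2 • c p.1, hS _ _ (hm _)⟩ : S))
    fun ⟨i, a⟩ ⟨j, b⟩ e => by
      have e1 : (b⁻¹ * a) • c i = c j := by rw [mul_smul, inv_smul_eq_iff]; exact congrArg Subtype.val e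
      obtain rfl := hne i j _ e1
      rw [(inv_mul_eq_one.1 (hr _ _ (hm i) e1))]
  rw [Nat.card_prod, Nat.card_eq_fintype_card, Fintype.card_fin] at h4
  have h5 : 3 * Nat.card A ≤ Nat.card S := h4
  have := Nat.card_pos (α := A)
  omega

theorem card_ne_ne {x y : Ω} (hxy : y ≠ x) : Nat.card {c | c ≠ x ∧ c ≠ y} + 2 = Fintype.card Ω := by
  have h1 : {c | c ≠ x ∧ c ≠ y} = ((({x, y} : Finset Ω)ᶜ : Finset Ω) : Set Ω) := by
    ext c; simp only [Set.mem_ofPred_eq, Finset.coe_compl, Set.mem_compl_iff, Finset.coe_pair, Set.mem_insert_iff,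
      Set.mem_singleton_iff, not_or]
  have h2 := Finset.card_le_univ ({x, y} : Finset Ω)
  rw [h1, Nat.card_coe_set_eq, Set.ncard_coe_finset, Finset.card_compl]
  rw [Finset.card_pair hxy.symm] at h2 ⊢
  omega

namespace Mou

variable {H : Subgroup (Perm Ω)} {U : Ω → Subgroup (Perm Ω)} {r : ℕ} (m : Mou H U r) {x y : Ω} {ν : Perm Ω}
include m

theorem ne (hxy : y ≠ x) {u : Perm Ω} (hu : u ∈ U x) : u y ≠ x := fun e =>
  hxy (u.injective (e.trans (m.fix x u hu).symm))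

theorem ext' (hxy : y ≠ x) {u v : Perm Ω} (hu : u ∈ U x) (hv : v ∈ U x) (e : u y = v y) : u = v :=
  (inv_mul_eq_one.1 (m.reg x y hxy _ (mul_mem (inv_mem hv) hu) (by rw [Perm.mul_apply, e, ia]))).symm

theorem card (x : Ω) : Nat.card (U x) + 1 = Fintype.card Ω := by
  obtain ⟨y, hxy, -⟩ := exists_third m.six x x
  have h1 : Nat.card (U x) = Nat.card {z // z ≠ x} := Nat.card_eq_of_bijective (fun u => ⟨u.1 y, m.ne hxy u.2⟩)
    ⟨fun u v e => Subtype.ext (m.ext' hxy u.2 v.2 (congrArg Subtype.val e)), fun z => by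
      obtain ⟨u, hu, e⟩ := m.tr x y z hxy z.2
      exact ⟨⟨u, hu⟩, Subtype.ext e⟩⟩
  have h2 : 0 < Fintype.card Ω := Fintype.card_pos_iff.2 ⟨x⟩
  rw [h1, Nat.card_eq_fintype_card, Fintype.card_subtype_compl, Fintype.card_subtype_eq]
  omega

theorem exists_pow (x : Ω) : r ≠ 2 ∧ ∃ f, Odd f ∧ Nat.card (U x) = r ^ f := by
  have := Fact.mk m.prime
  obtain ⟨f, hf⟩ := IsPGroup.iff_card.1 (isPGroup_iff_forall.2 fun u hu => ⟨1, by rw [pow_one, m.pw x u hu]⟩ :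
    IsPGroup r (U x))
  have h1 := m.card x
  have h2 := m.six
  have h3 : 0 < Fintype.card Ω := Fintype.card_pos_iff.2 ⟨x⟩
  rw [hf] at h1
  refine ⟨?_, f, Nat.not_even_iff_odd.1 fun ⟨k, hk⟩ => ?_, hf⟩
  · rintro rfl
    rcases f with _ | f
    · omega
    · rw [pow_succ] at h1; omega
  · rw [hk, pow_add] at h1
    generalize r ^ k = s at h1
    have h4 : s * s % 3 = 2 := by omega
    rw [Nat.mul_mod] at h4
    have h5 : s % 3 < 3 := Nat.mod_lt _ (by norm_num)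
    generalize s % 3 = t at h4 h5
    interval_cases t <;> omega

theorem sqrt {u : Perm Ω} (hu : u ∈ U x) : ∃ v ∈ U x, v * v = u := by
  obtain ⟨k, hk⟩ := m.prime.odd_of_ne_two (m.exists_pow x).1
  exact ⟨u ^ (k + 1), pow_mem hu _, by
    rw [← pow_add, show k + 1 + (k + 1) = r + 1 by omega, pow_succ, m.pw x u hu, one_mul]⟩

theorem eq_one {u : Perm Ω} (hu : u ∈ U x) (h : u * u = 1) : u = 1 := by
  obtain ⟨k, hk⟩ := m.prime.odd_of_ne_two (m.exists_pow x).1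
  have h1 := m.pw x u hu
  rwa [hk, pow_succ, pow_mul, pow_two, h, one_pow, one_mul] at h1

theorem exists_inv (hxy : y ≠ x) : ∃ ν, Inv U x y ν := by
  choose! f hf e using fun z => m.tr x y z hxy
  have h1 : ∀ u ∈ U x, f (u y) = u := fun u hu => m.ext' hxy (hf _ (m.ne hxy hu)) hu (e _ (m.ne hxy hu))
  let g : Ω → Ω := fun z => if z = x then x else (f z)⁻¹ y
  have h2 : ∀ u ∈ U x, g (u y) = u⁻¹ y := fun u hu => by simp only [g, if_neg (m.ne hxy hu), h1 u hu]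
  have h3 : g x = x := if_pos rfl
  refine ⟨Function.Involutive.toPerm g fun z => ?_, h3, h2⟩
  by_cases hz : z = x
  · rw [hz, h3, h3]
  · obtain ⟨u, hu, rfl⟩ := m.tr x y z hxy hz
    rw [h2 u hu, h2 _ (inv_mem hu), inv_inv]

theorem ext_inv (hxy : y ≠ x) {g g' : Perm Ω} (h1 : g x = g' x) (h2 : ∀ u ∈ U x, g (u y) = g' (u y)) : g = g' := by
  ext z
  by_cases hz : z = x
  · rw [hz, h1]
  · obtain ⟨u, hu, rfl⟩ := m.tr x y z hxy hz
    exact h2 u hu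

theorem unique (hxy : y ≠ x) {ν' : Perm Ω} (h : Inv U x y ν) (h' : Inv U x y ν') : ν = ν' :=
  m.ext_inv hxy (h.1.trans h'.1.symm) fun u hu => (h.2 u hu).trans (h'.2 u hu).symm

omit m in
theorem _root_.CL.Perm.Saxl.Inv.snd (h : Inv U x y ν) : ν y = y := h.2 1 (one_mem _)

theorem sq (hxy : y ≠ x) (h : Inv U x y ν) : ν * ν = 1 :=
  m.ext_inv hxy (by rw [Perm.mul_apply, h.1, h.1]; rfl) fun u hu => by
    rw [Perm.mul_apply, h.2 u hu, h.2 _ (inv_mem hu), inv_inv]; rfl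

theorem inv_conj (h : Inv U x y ν) {g : Perm Ω} (hg : g ∈ 𝒩(H)) : Inv U (g x) (g y) (g * ν * g⁻¹) := by
  refine ⟨by rw [Perm.mul_apply, Perm.mul_apply, ia, h.1], fun u hu => ?_⟩
  have h1 := m.conj _ (inv_mem hg) _ u hu
  rw [ia] at h1
  have h2 := h.2 _ h1
  simp only [mul_inv_rev, inv_inv, Perm.mul_apply] at h2 ⊢
  rw [h2, ai]

theorem inv_comm (hxy : y ≠ x) (h : Inv U x y ν) {g : Perm Ω} (hg : g ∈ st 𝒩(H) x y) : g * ν = ν * g := by
  have h1 := m.inv_conj h hg.1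
  rw [hg.2.1, hg.2.2] at h1
  exact mul_inv_eq_iff_eq_mul.1 (m.unique hxy h1 h)

theorem inverts (hxy : y ≠ x) (h : Inv U x y ν) {u : Perm Ω} (hu : u ∈ U x) : ν * u * ν⁻¹ = u⁻¹ := by
  rw [mul_inv_eq_iff_eq_mul]
  refine m.ext_inv hxy ?_ fun v hv => ?_
  · rw [Perm.mul_apply, Perm.mul_apply, m.fix x u hu, h.1, m.fix x _ (inv_mem hu)]
  · rw [Perm.mul_apply, Perm.mul_apply, h.2 v hv, ← Perm.mul_apply u, h.2 _ (mul_mem hu hv), m.comm x u hu v hv,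
      mul_inv_rev, Perm.mul_apply]

theorem fixed (hxy : y ≠ x) (h : Inv U x y ν) {z : Ω} (hz : ν z = z) : z = x ∨ z = y := by
  refine or_iff_not_imp_left.2 fun hx => ?_
  obtain ⟨u, hu, rfl⟩ := m.tr x y z hxy hx
  rw [h.2 u hu] at hz
  rw [m.eq_one hu (mul_eq_one_iff_inv_eq.2 (m.ext' hxy (inv_mem hu) hu hz))]; rfl

theorem inv_ne (hxy : y ≠ x) (h : Inv U x y ν) {c : Ω} (h1 : c ≠ x) (h2 : c ≠ y) : ν c ≠ x ∧ ν c ≠ y ∧ ν c ≠ c :=
  ⟨fun e => h1 (ν.injective (e.trans h.1.symm)), fun e => h2 (ν.injective (e.trans h.snd.symm)),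
    fun e => (m.fixed hxy h e).elim h1 h2⟩

theorem sp_of_pt (hxy : y ≠ x) {ν' : Perm Ω} (h : Inv U x y ν) (h' : Inv U y x ν') {c : Ω} (h1 : c ≠ x) (h2 : c ≠ y)
    (e : ν c = ν' c) : Sp U := by
  have h3 : ν = ν' := by
    ext z
    by_cases hx : z = x
    · rw [hx, h.1, h'.snd]
    by_cases hy : z = y
    · rw [hy, h'.1, h.snd]
    obtain ⟨d, hd, e1, e2, rfl⟩ := m.t3 x y c x y z hxy.symm h1.symm h2.symm hxy.symm (Ne.symm hx) (Ne.symm hy)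
    rw [← Perm.mul_apply, ← m.inv_comm hxy h ⟨hd, e1, e2⟩, ← Perm.mul_apply ν',
      ← m.inv_comm hxy.symm h' ⟨hd, e2, e1⟩, Perm.mul_apply, Perm.mul_apply, e]
  intro a b μ hab hμ
  obtain ⟨g, hg, rfl, rfl⟩ := m.t2 x y a b hxy.symm hab.symm
  rw [m.unique hab hμ (m.inv_conj h (le_normalizer hg)), h3]
  exact m.inv_conj h' (le_normalizer hg)

theorem comm_of_fix (hxy : y ≠ x) {u k : Perm Ω} (hu : u ∈ U x) (hk : k ∈ st 𝒩(H) x y) (e : k (u y) = u y) :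
    k * u * k⁻¹ = u := by
  have h1 := m.conj k hk.1 x u hu
  rw [hk.2.1] at h1
  exact m.ext' hxy h1 hu (by rw [Perm.mul_apply, Perm.mul_apply, (inv_mem hk).2.2, e])

/-- an element acting on the fixed points of `K` as an involution with two fixed points -/
theorem sp_pt (hxy : y ≠ x) (h : Inv U x y ν) {K : Subgroup (Perm Ω)} (hK : K ≤ st 𝒩(H) x y) {z : Perm Ω}
    (hz : z ∈ st 𝒩(H) x y) (hn : z ∈ 𝒩(K)) (h2 : ∀ b, (∀ k ∈ K, k b = b) → z (z b) = b)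
    (hf : ∀ b, (∀ k ∈ K, k b = b) → z b = b → b = x ∨ b = y) {c : Ω} (hx : c ≠ x) (hc : ∀ k ∈ K, k c = c) :
    ν c = z c := by
  obtain ⟨u, hu, rfl⟩ := m.tr x y c hxy hx
  have h3 : z * u * z⁻¹ ∈ U x := by simpa only [hz.2.1] using m.conj z hz.1 x u hu
  have h4 : (z * u * z⁻¹) y = z (u y) := by rw [Perm.mul_apply, Perm.mul_apply, (inv_mem hz).2.2]
  have h5 := m.comm_of_fix hxy hu (mul_mem hz hz) (h2 _ hc)
  have h6 : z * (u * (z * u * z⁻¹)) * z⁻¹ = u * (z * u * z⁻¹) := by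
    rw [m.comm x u hu _ h3]
    calc z * (z * u * z⁻¹ * u) * z⁻¹ = (z * z * u * (z * z)⁻¹) * (z * u * z⁻¹) := by group
      _ = _ := by rw [h5, m.comm x u hu _ h3]
  have h7 : u * (z * u * z⁻¹) = 1 := by
    refine m.reg x y hxy _ (mul_mem hu h3) ((hf _ (fun k hk => ?_) ?_).resolve_left (m.ne hxy (mul_mem hu h3)))
    · have e1 := m.comm_of_fix hxy hu (hK hk) (hc k hk)
      have e2 := hc _ (conj_mem' hn hk)
      rw [Perm.mul_apply, Perm.mul_apply, Perm.inv_eq_iff_eq] at e2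
      rw [Perm.mul_apply, h4, ← Perm.mul_apply k, mul_inv_eq_iff_eq_mul.1 e1, Perm.mul_apply, e2]
    · rw [← Perm.mul_apply, mul_inv_eq_iff_eq_mul.1 h6, Perm.mul_apply _ z, hz.2.2]
  rw [h.2 u hu, ← h4, eq_inv_of_mul_eq_one_right h7]

/-- with at most two orbits of a group of odd order, every involution has only two fixed points -/
theorem two_pt (hxy : y ≠ x) (h : Inv U x y ν) {K J : Subgroup (Perm Ω)} (hK : K ≤ st 𝒩(H) x y)
    (hJ : J ≤ st 𝒩(H) x y) {z : Perm Ω} (hz : z ∈ st 𝒩(H) x y) (hn : z ∈ 𝒩(K)) (hnJ : z ∈ 𝒩(J))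
    (h2 : ∀ b, (∀ k ∈ K, k b = b) → z (z b) = b) {w : Ω} (hw : ∀ k ∈ K, k w = w) (hzw : z w ≠ w)
    (hodd : ∀ e ∈ J, ∀ v, (∀ k ∈ K, k v = v) → e (e v) = v → e v = v)
    (htwo : ∀ c₁ c₂ c₃, (∀ k ∈ K, k c₁ = c₁) → (∀ k ∈ K, k c₂ = c₂) → (∀ k ∈ K, k c₃ = c₃) → c₁ ≠ x → c₁ ≠ y →
      c₂ ≠ x → c₂ ≠ y → c₃ ≠ x → c₃ ≠ y → (∃ e ∈ J, e c₁ = c₂) ∨ (∃ e ∈ J, e c₁ = c₃) ∨ ∃ e ∈ J, e c₂ = c₃)
    (b : Ω) (hb : ∀ k ∈ K, k b = b) (hzb : z b = b) : b = x ∨ b = y := by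
  by_contra hne
  push Not at hne
  obtain ⟨u, hu, rfl⟩ := m.tr x y w hxy fun e => hzw (by rw [e, hz.2.1])
  have h3 : z * u * z⁻¹ ∈ U x := by simpa only [hz.2.1] using m.conj z hz.1 x u hu
  have h4 : (z * u * z⁻¹) y = z (u y) := by rw [Perm.mul_apply, Perm.mul_apply, (inv_mem hz).2.2]
  have h5 := m.comm_of_fix hxy hu (mul_mem hz hz) (h2 _ hw)
  have hs : u * (z * u * z⁻¹)⁻¹ ∈ U x := mul_mem hu (inv_mem h3)
  generalize hs' : u * (z * u * z⁻¹)⁻¹ = s at hs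
  have h6 : z * s = s⁻¹ * z := by
    rw [← mul_inv_eq_iff_eq_mul, ← hs']
    calc z * (u * (z * u * z⁻¹)⁻¹) * z⁻¹ = (z * u * z⁻¹) * (z * z * u * (z * z)⁻¹)⁻¹ := by group
      _ = _ := by rw [h5]; group
  have h7 : z (s y) = ν (s y) := by rw [h.2 s hs, ← Perm.mul_apply, h6, Perm.mul_apply, hz.2.2]
  have h8 : s y ≠ y := fun e => hzw (by
    rw [← h4, ← mul_inv_eq_one.1 (hs'.trans (m.reg x y hxy s hs e))])
  have h9 : ∀ k ∈ K, k (s y) = s y := fun k hk => by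
    have e1 := m.comm_of_fix hxy hu (hK hk) (hw k hk)
    have e2 := hw _ (conj_mem' hn hk)
    rw [Perm.mul_apply, Perm.mul_apply, Perm.inv_eq_iff_eq, ← h4] at e2
    have e3 := m.comm_of_fix hxy h3 (hK hk) e2
    have e4 : k * s * k⁻¹ = s := by
      rw [← hs']
      calc k * (u * (z * u * z⁻¹)⁻¹) * k⁻¹ = (k * u * k⁻¹) * (k * (z * u * z⁻¹) * k⁻¹)⁻¹ := by group
        _ = _ := by rw [e1, e3]
    rw [← Perm.mul_apply, mul_inv_eq_iff_eq_mul.1 e4, Perm.mul_apply, (hK hk).2.2]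
  have hx := m.ne hxy hs
  generalize s y = v at h7 h8 h9 hx
  obtain ⟨n1, n2, n3⟩ := m.inv_ne hxy h hx h8
  have hνν : ν (ν v) = v := by rw [← Perm.mul_apply, m.sq hxy h]; rfl
  have h10 : ∀ e ∈ J, e v ≠ ν v := fun e he e1 => n3 (e1.symm.trans (hodd e he v h9 (by
    rw [e1, ← Perm.mul_apply, m.inv_comm hxy h (hJ he), Perm.mul_apply, e1, hνν])))
  have h11 : ∀ k ∈ K, k (ν v) = ν v := fun k hk => by
    rw [← Perm.mul_apply, m.inv_comm hxy h (hK hk), Perm.mul_apply, h9 k hk]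
  rcases htwo v (ν v) b h9 h11 hb hx h8 n1 n2 hne.1 hne.2 with ⟨e, he, e1⟩ | ⟨e, he, e1⟩ | ⟨e, he, e1⟩
  · exact h10 e he e1
  · refine h10 _ (mul_mem (conj_mem hnJ (inv_mem he)) he) ?_
    simp only [Perm.mul_apply]
    rw [e1, Perm.inv_eq_iff_eq.2 hzb.symm, ← e1, ia, h7]
  · refine h10 _ (mul_mem (inv_mem he) (conj_mem hnJ he)) ?_
    have e2 : z⁻¹ v = ν v := by rw [Perm.inv_eq_iff_eq, ← h7, h2 v h9]
    simp only [Perm.mul_apply]
    rw [e2, e1, hzb, ← e1, ia]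

theorem mem_norm (sp : Sp U) (hxy : y ≠ x) (h : Inv U x y ν) : ν ∈ 𝒩(H) := by
  have hi : ν⁻¹ = ν := inv_eq_of_mul_eq_one_right (m.sq hxy h)
  refine mem_norm_of_cj_le (cj_le_iff.2 fun g hg => ?_)
  have h1 : U x ≤ cj ν⁻¹ H := fun u hu => mem_cj.2 (by
    rw [inv_inv, m.inverts hxy h hu]; exact inv_mem (m.le x hu))
  have h2 : U y ≤ cj ν⁻¹ H := fun u hu => mem_cj.2 (by
    rw [inv_inv, m.inverts hxy.symm (sp x y ν hxy h) hu]; exact inv_mem (m.le y hu))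
  have h3 : ∀ g ∈ H, g x = x → g ∈ cj ν⁻¹ H := fun g hg e => by
    obtain ⟨u, hu, e1⟩ := m.tr x (g y) y (fun e' => hxy (g.injective (e'.trans e.symm))) hxy
    have h4 : u * g ∈ H := mul_mem (m.le x hu) hg
    refine (mul_mem_cancel_left (h1 hu)).1 (mem_cj.2 ?_)
    rw [inv_inv, ← m.inv_comm hxy h ⟨le_normalizer h4, by rw [Perm.mul_apply, e, m.fix x u hu], e1⟩,
      mul_inv_cancel_right]
    exact h4
  have h4 : ∀ g ∈ H, g x ≠ y → g ∈ cj ν⁻¹ H := fun g hg e => by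
    obtain ⟨u, hu, e1⟩ := m.tr y (g x) x e hxy.symm
    exact (mul_mem_cancel_left (h2 hu)).1 (h3 _ (mul_mem (m.le y hu) hg) e1)
  by_cases e : g x = y
  · obtain ⟨c, hc, hc'⟩ := exists_third m.six x y
    obtain ⟨u, hu, e1⟩ := m.tr x y c hxy hc
    exact (mul_mem_cancel_left (h1 hu)).1 (h4 _ (mul_mem (m.le x hu) hg) (by rw [Perm.mul_apply, e, e1]; exact hc'))
  · exact h4 g hg e

theorem mul_mem_H (sp : Sp U) (hxy : y ≠ x) (h : Inv U x y ν) {a b : Ω} {μ : Perm Ω} (hab : b ≠ a)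
    (h' : Inv U a b μ) : μ * ν ∈ H := by
  obtain ⟨g, hg, rfl, rfl⟩ := m.t2 x y a b hxy.symm hab.symm
  have hi : ν⁻¹ = ν := inv_eq_of_mul_eq_one_right (m.sq hxy h)
  rw [m.unique hab h' (m.inv_conj h (le_normalizer hg)), mul_assoc, mul_assoc, ← mul_assoc ν]
  nth_rewrite 2 [← hi]
  exact mul_mem hg (conj_mem (m.mem_norm sp hxy h) (inv_mem hg))

theorem swap (sp : Sp U) (hxy : y ≠ x) (h : Inv U x y ν) {c : Ω} (h1 : c ≠ x) (h2 : c ≠ y) {ρ : Perm Ω}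
    (hρ : Inv U c (ν c) ρ) : ρ x = y ∧ ρ y = x := by
  obtain ⟨n1, n2, n3⟩ := m.inv_ne hxy h h1 h2
  have h3 := m.inv_conj hρ (m.mem_norm sp hxy h)
  rw [← Perm.mul_apply, m.sq hxy h, Perm.one_apply] at h3
  have h4 := mul_inv_eq_iff_eq_mul.1 (m.unique n3.symm h3 (sp _ _ _ n3 hρ))
  have h5 : ∀ z, ν z = z → ν (ρ z) = ρ z := fun z e => by rw [← Perm.mul_apply, h4, Perm.mul_apply, e]
  exact ⟨(m.fixed hxy h (h5 x h.1)).resolve_left fun e => (m.fixed n3 hρ e).elim h1.symm n1.symm,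
    (m.fixed hxy h (h5 y h.snd)).resolve_right fun e => (m.fixed n3 hρ e).elim h2.symm n2.symm⟩

end Mou

end CL.Perm.Saxl
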