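import Cfsg.Agent.Perm.PrimExtreme

/-! Elementary facts on suborbits of primitive groups. -/

set_option autoImplicit false
open Cfsg MulAction

namespace CL.Perm

variable {G α : Type*} [Group G] [MulAction G α]

theorem card_stabilizer_eq_of_transitive [Finite G] [IsPretransitive G α] (a b : α) :
    Nat.card (stabilizer G a) = Nat.card (stabilizer G b) := by
  have e1 := (stabilizer G a).index_mul_card
  have e2 := (stabilizer G b).index_mul_card
  rw [index_stabilizer_of_transitive] at e1 e2
  have : Nat.card α ≠ 0 := by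
    rw [← index_stabilizer_of_transitive G a]
    exact Subgroup.index_ne_zero_of_finite
  exact Nat.eq_of_mul_eq_mul_left (Nat.pos_of_ne_zero this) (e1.trans e2.symm)

theorem stabilizer_eq_of_le [Finite G] [IsPretransitive G α] {a b : α}
    (h : stabilizer G a ≤ stabilizer G b) : stabilizer G a = stabilizer G b :=
  Subgroup.eq_of_le_of_card_ge h (card_stabilizer_eq_of_transitive b a).le

/-- In a faithful primitive group a subgroup of `G_a` normalised by `G_a` and by an element moving `a`
is trivial. -/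
theorem eq_bot_of_normalized_prim [FaithfulSMul G α] [IsPreprimitive G α] {K : Subgroup G} {a : α}
    (h : K ≤ stabilizer G a) (h1 : stabilizer G a ≤ Subgroup.normalizer (K : Set G)) {g : G}
    (hg : g • a ≠ a) (h2 : g ∈ Subgroup.normalizer (K : Set G)) : K = ⊥ := by
  have : Nontrivial α := ⟨⟨_, _, hg⟩⟩
  have hc := IsPreprimitive.isCoatom_stabilizer_of_isPreprimitive G a
  have h3 : Subgroup.normalizer (K : Set G) = ⊤ :=
    hc.2 _ (lt_of_le_of_ne h1 fun e => hg (by rw [← e] at h2; exact h2))
  have := Subgroup.normalizer_eq_top_iff.mp h3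
  exact eq_bot_of_normal_of_le_stabilizer h

theorem stabilizer_eq_bot_of_le [Finite G] [FaithfulSMul G α] [IsPreprimitive G α] {a b : α}
    (hab : a ≠ b) (h : stabilizer G a ≤ stabilizer G b) : stabilizer G a = ⊥ := by
  obtain ⟨g, rfl⟩ := exists_smul_eq G a b
  refine eq_bot_of_normalized_prim le_rfl Subgroup.le_normalizer hab.symm ?_
  have h1 := stabilizer_eq_of_le h
  rw [Subgroup.mem_normalizer_iff]
  intro x
  constructor
  · intro hx
    rw [h1, mem_stabilizer_iff, mul_smul, mul_smul, inv_smul_smul, hx]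
  · intro hx
    rw [h1, mem_stabilizer_iff, mul_smul, mul_smul, inv_smul_smul, smul_left_cancel_iff] at hx
    exact hx

/-- If `G_a ≠ 1`, two distinct point stabilisers of a primitive group generate it. -/
theorem stabilizer_sup_stabilizer [Finite G] [FaithfulSMul G α] [IsPreprimitive G α] {a b : α}
    (hab : a ≠ b) (h : stabilizer G b ≠ ⊥) : stabilizer G a ⊔ stabilizer G b = ⊤ := by
  have : Nontrivial α := ⟨⟨_, _, hab⟩⟩
  have hc := IsPreprimitive.isCoatom_stabilizer_of_isPreprimitive G a
  refine hc.2 _ (lt_of_le_of_ne le_sup_left fun e => h ?_)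
  exact stabilizer_eq_bot_of_le hab.symm (e ▸ le_sup_right)

theorem isCyclic_and_prime_of_isCoatom_bot [Finite G] (h : IsCoatom (⊥ : Subgroup G)) :
    IsCyclic G ∧ (Nat.card G).Prime := by
  have hnt : Nontrivial G := by
    rw [← Subgroup.nontrivial_iff]
    exact ⟨⟨_, _, h.1⟩⟩
  obtain ⟨p, hp, hdvd⟩ := Nat.exists_prime_and_dvd (n := Nat.card G) Finite.one_lt_card.ne'
  have : Fact p.Prime := ⟨hp⟩
  obtain ⟨x, hx⟩ := exists_prime_orderOf_dvd_card' p hdvd
  have h1 : Subgroup.zpowers x = ⊤ := h.2 _ (bot_lt_iff_ne_bot.mpr fun e => by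
    rw [Subgroup.zpowers_eq_bot] at e
    rw [e, orderOf_one] at hx
    exact hp.one_lt.ne hx)
  have h2 : Nat.card G = p := by rw [← hx, ← Nat.card_zpowers, h1, Subgroup.card_top]
  exact ⟨isCyclic_of_prime_card h2, h2 ▸ hp⟩

end CL.Perm
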