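import Cfsg.Agent.Spor.TCSound

/-! coset enumeration certificate generated by tools/tc -/

set_option maxRecDepth 100000
set_option autoImplicit false
set_option linter.all false

namespace CL.TC.PermSL25

noncomputable def rows0 : Tr ℕ := (.leaf (nat_lit 0xf1019c4c3392067230bfe2141fca85fc30afe213ccc2b9a062df2e15fc423ea85fe30ce8a1703d284fe30bfe20ddd01faa042df4811fc41bf18574309f6a0f03da83fb405fe209e8c23b184adf660df8c27f1847f104f280a6bd302ff103f460fe0c1bd18240f8a09f8c1ff8817b405fc60cb7e201fc302fc60bf0c0bf88087fa605f8c13ea01ff101fa8066bf100fe301fe403f8c0ff18100))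
noncomputable def recs0 : Tr ℕ := (.leaf (nat_lit 0x1a6034c06000ad))
noncomputable def rows : Tr ℕ := rows0
noncomputable def recs : Tr ℕ := recs0
noncomputable def ci0 : CI := ⟨[], (nat_lit 0), false, (.node (nat_lit 1) (.leaf Rule.defn) (.leaf Rule.copy)), (.leaf (XRule.rot (nat_lit 0) [] 10 0))⟩
noncomputable def ci7 : CI := ⟨[0], (nat_lit 26), false, (.node (nat_lit 4) (.node (nat_lit 2) (.node (nat_lit 1) (.leaf Rule.defn) (.leaf Rule.copy)) (.node (nat_lit 1) (.leaf (Rule.fwd [nat_lit 26] 10 0)) (.leaf (Rule.fwd [nat_lit 7, nat_lit 7] 0 0)))) (.leaf (Rule.fwd [nat_lit 45, nat_lit 83, nat_lit 7, nat_lit 45] 8 2))), (.node (nat_lit 1) (.leaf XRule.defn) (.leaf XRule.defn))⟩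
noncomputable def ci26 : CI := ⟨[1], (nat_lit 7), false, (.node (nat_lit 2) (.node (nat_lit 1) (.leaf Rule.defn) (.leaf Rule.copy)) (.node (nat_lit 1) (.leaf (Rule.fwd [nat_lit 7] 10 0)) (.leaf (Rule.fwd [nat_lit 64, nat_lit 26, nat_lit 83, nat_lit 64] 9 3)))), (.node (nat_lit 1) (.leaf XRule.defn) (.leaf XRule.defn))⟩
noncomputable def ci45 : CI := ⟨[2], (nat_lit 64), true, (.node (nat_lit 4) (.node (nat_lit 2) (.node (nat_lit 1) (.leaf Rule.defn) (.leaf Rule.copy)) (.node (nat_lit 1) (.leaf (Rule.fwd [nat_lit 64] 10 0)) (.leaf (Rule.fwd [nat_lit 7, nat_lit 45, nat_lit 83, nat_lit 7] 8 1)))) (.leaf (Rule.fwd [nat_lit 45, nat_lit 45, nat_lit 45, nat_lit 45] 2 0))), (.node (nat_lit 1) (.leaf XRule.defn) (.leaf XRule.ax))⟩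
noncomputable def ci64 : CI := ⟨[3], (nat_lit 45), false, (.node (nat_lit 2) (.node (nat_lit 1) (.leaf Rule.defn) (.leaf Rule.copy)) (.node (nat_lit 1) (.leaf (Rule.fwd [nat_lit 45] 10 0)) (.leaf (Rule.fwd [nat_lit 64, nat_lit 64, nat_lit 64, nat_lit 64] 3 0)))), (.node (nat_lit 1) (.leaf XRule.defn) (.leaf XRule.defn))⟩
noncomputable def ci83 : CI := ⟨[4], (nat_lit 83), true, (.node (nat_lit 4) (.node (nat_lit 2) (.node (nat_lit 1) (.leaf Rule.defn) (.leaf Rule.copy)) (.node (nat_lit 1) (.leaf (Rule.fwd [nat_lit 26, nat_lit 83, nat_lit 7] 4 2)) (.leaf (Rule.fwd [nat_lit 7, nat_lit 45, nat_lit 7, nat_lit 45] 8 4)))) (.node (nat_lit 2) (.node (nat_lit 1) (.leaf (Rule.fwd [nat_lit 45, nat_lit 83, nat_lit 64] 6 0)) (.leaf (Rule.fwd [nat_lit 64, nat_lit 26, nat_lit 64, nat_lit 26] 9 0))) (.node (nat_lit 1) (.leaf (Rule.fwd [nat_lit 64, nat_lit 83, nat_lit 45] 6 2)) (.leaf (Rule.fwd [nat_lit 7, nat_lit 83, nat_lit 26] 4 0))))), (.node (nat_lit 1) (.leaf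 XRule.defn) (.leaf XRule.ax))⟩
noncomputable def outer : Tr CI := (.node (nat_lit 1) (.node (nat_lit 2) (.node (nat_lit 64) (.leaf ci0) (.leaf ci64)) (.leaf ci26)) (.node (nat_lit 2) (.leaf ci45) (.node (nat_lit 4) (.leaf ci83) (.leaf ci7))))
def cols : List ℕ := [nat_lit 7, nat_lit 26, nat_lit 45, nat_lit 64, nat_lit 83]
def invL : List ℕ := [1, 0, 3, 2, 4]
def rels : List (List ℕ) := [[0, 0, 0], [2, 2, 2, 2, 2], [4, 0, 4, 1], [4, 2, 4, 3], [0, 2, 0, 2, 4]]
def subs : List (List ℕ) := [[2], [4]]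
noncomputable def row (n : ℕ) : ℕ := rowOf (fun h => rows.get h) (nat_lit 5) (nat_lit 31) (nat_lit 102) (nat_lit 0x3fffffffffffffffffffffffff) n
noncomputable def xleaf (h : ℕ) : ℕ := recs.get h
noncomputable def mF : ℕ → ℕ := mainRow row (rowChk row xleaf outer (nat_lit 8) (nat_lit 255) (nat_lit 15) (nat_lit 12) (nat_lit 4095) (nat_lit 524287) (nat_lit 128) (nat_lit 12) (nat_lit 256) (nat_lit 7) (nat_lit 127) (nat_lit 15) (nat_lit 32767) (nat_lit 8) (nat_lit 255) cols)
noncomputable def xF : ℕ → ℕ → ℕ := xLeaf row xleaf outer (nat_lit 255) (nat_lit 12) (nat_lit 524287) (nat_lit 128) (nat_lit 12) (nat_lit 7) (nat_lit 127) (nat_lit 15) (nat_lit 32767) (nat_lit 32640) (nat_lit 8) (nat_lit 255) (nat_lit 10) (nat_lit 1023) (nat_lit 2) (nat_lit 3) (nat_lit 83) (nat_lit 1536) (nat_lit 128)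
noncomputable def cert : Cert := ⟨row, xleaf, outer, cols, nat_lit 8, nat_lit 255, nat_lit 15, nat_lit 12, nat_lit 4095, nat_lit 524287, nat_lit 128, nat_lit 12, nat_lit 256, nat_lit 7, nat_lit 127, nat_lit 15, nat_lit 32767, nat_lit 32640, nat_lit 8, nat_lit 255, nat_lit 10, nat_lit 1023, nat_lit 2, nat_lit 3, nat_lit 83, nat_lit 1536, nat_lit 128, nat_lit 19, nat_lit 128, nat_lit 1⟩
theorem tabok : tabOK (fun i => invL.getD i i) rels subs outer cols (nat_lit 7) (nat_lit 83) = true := by decide +kernel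
theorem m0 : rng mF (nat_lit 1) (nat_lit 12) = 0 := by decide +kernel
noncomputable def s0 : List ℕ := [nat_lit 0x401000000000000000000000000000000000000000000000000000000000000000000000000000000000000000000000000000000000000000000000000000000000000000000000000000000000000000000000000000000000000000000000000000000000000000000000000000000000000000000000000000000000000000000000000000000000000000000000000000000000000000000000000000]
theorem x0 : xs xF s0 (nat_lit 1) = 0 := by decide +kernel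
theorem mz0 : AllZ mF 1 (nat_lit 13) := (AllZ.step (AllZ.nil mF 1) (nat_lit 12) (nat_lit 13) rfl m0)
theorem xz0 : XZ xF (nat_lit 1) := (XZ.step (XZ.nil xF) s0 (nat_lit 1) (nat_lit 1) (by decide +kernel) x0)
/-- the certificate (12 points) is valid -/
theorem valid : cert.Valid (fun i => invL.getD i i) rels subs 5 :=
  ⟨by decide +kernel, tabok, by decide +kernel, mz0, xz0⟩
theorem cert_N : cert.N = 12 := rfl

end CL.TC.PermSL25
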